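import Mathlib
import Cfsg.Prelude.Def_GeometricClasses

/-!
# IDX-L (helper8's OC-IDX sub-hive of helper44's Oc hive): a nondegenerate quadratic form in `2m`
variables with a totally singular `m`-space has the PLUS number of zeros
-/

set_option autoImplicit false
set_option linter.style.haveILetI false

namespace Cfsg.Agent.Lib.Helper44.Oc

open Module

/-- the number of solutions of `φ x = a` for a nonzero functional on a finite space -/
theorem l_card_affine {F : Type*} [Field F] [Fintype F] {V : Type*} [AddCommGroup V] [Module F V]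
    [Finite V] (X : Submodule F V) (φ : X →ₗ[F] F) (hφ : φ ≠ 0) (a : F) :
    Nat.card {x : X // φ x = a} = Fintype.card F ^ (finrank F X - 1) := by
  classical
  haveI : Module.Finite F V := Module.Finite.of_finite
  obtain ⟨x1, hx1⟩ : ∃ x1 : X, φ x1 ≠ 0 := by
    by_contra h
    simp only [not_exists, not_not] at h
    exact hφ (LinearMap.ext fun x => by rw [h x]; rfl)
  have hsurj : Function.Surjective φ := by
    intro b
    refine ⟨(b / φ x1) • x1, ?_⟩
    rw [map_smul, smul_eq_mul, div_mul_cancel₀ _ hx1]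
  obtain ⟨x0, hx0⟩ := hsurj a
  have e : {x : X // φ x = a} ≃ LinearMap.ker φ :=
    { toFun := fun x => ⟨x.1 - x0, by rw [LinearMap.mem_ker, map_sub, x.2, hx0, sub_self]⟩
      invFun := fun y => ⟨y.1 + x0, by
        have := LinearMap.mem_ker.mp y.2
        rw [map_add, this, hx0, zero_add]⟩
      left_inv := fun x => by simp
      right_inv := fun y => by simp }
  rw [Nat.card_congr e, Module.natCard_eq_pow_finrank (K := F), Nat.card_eq_fintype_card]
  congr 1
  have h1 := LinearMap.finrank_range_add_finrank_ker φ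
  rw [LinearMap.range_eq_top.mpr hsurj, finrank_top, Module.finrank_self] at h1
  omega

/-- IDX-L -/
theorem idx_card_zeros_of_lagrangian {F : Type*} [Field F] [Fintype F] (h2 : (2 : F) ≠ 0) {n m : ℕ}
    (hnm : n = 2 * m) (hm : 1 ≤ m) (Q : (Fin n → F) → F)
    (hQ : Cfsg.Geo.IsNondegenerateQuadraticForm Q) (X : Submodule F (Fin n → F))
    (hX : Module.finrank F X = m) (hXQ : ∀ x ∈ X, Q x = 0) :
    Nat.card {v : Fin n → F // Q v = 0}
      = (Fintype.card F ^ m - 1) * (Fintype.card F ^ (m - 1) + 1) + 1 := by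
  classical
  -- the polar form as a Mathlib bilinear form
  let B : LinearMap.BilinForm F (Fin n → F) :=
    LinearMap.mk₂ F (QuadraticMap.polar Q) hQ.polar_bilinear.add_left hQ.polar_bilinear.smul_left
      hQ.polar_bilinear.add_right hQ.polar_bilinear.smul_right
  have hBapp : ∀ u v, B u v = QuadraticMap.polar Q u v := fun u v => rfl
  have hBnd : B.Nondegenerate := by
    refine ⟨fun x hx => ?_, fun y hy => ?_⟩
    · by_contra hx0
      obtain ⟨z, hz⟩ := (hQ.nondegenerate x hx0).2
      exact hz (hx z)
    · by_contra hy0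
      obtain ⟨z, hz⟩ := (hQ.nondegenerate y hy0).1
      exact hz (hy z)
  have hBX : ∀ x ∈ X, ∀ y ∈ X, B x y = 0 := by
    intro x hx y hy
    rw [hBapp]
    unfold QuadraticMap.polar
    rw [hXQ _ (X.add_mem hx hy), hXQ x hx, hXQ y hy]
    ring
  have hperp : B.orthogonal X = X := by
    symm
    apply Submodule.eq_of_le_of_finrank_eq
    · intro x hx
      rw [LinearMap.BilinForm.mem_orthogonal_iff]
      intro y hy
      exact hBX y hy x hx
    · rw [LinearMap.BilinForm.finrank_orthogonal hBnd, hX, Module.finrank_fin_fun, hnm]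
      omega
  have hkey : ∀ v, v ∉ X → ∃ x ∈ X, B v x ≠ 0 := by
    intro v hv
    by_contra h
    simp only [not_exists, not_and, not_not] at h
    apply hv
    rw [← hperp, LinearMap.BilinForm.mem_orthogonal_iff]
    intro y hy
    rw [hBapp, QuadraticMap.polar_comm, ← hBapp]
    exact h y hy
  have hQadd : ∀ v, ∀ x ∈ X, Q (v + x) = Q v + B v x := by
    intro v x hx
    rw [hBapp]
    unfold QuadraticMap.polar
    rw [hXQ x hx]
    ring
  -- fibres of the quotient map
  have hfib : ∀ v0 : Fin n → F,
      Nat.card {z : {v : Fin n → F // Q v = 0} // X.mkQ z.1 = X.mkQ v0}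
        = Nat.card {x : X // Q (v0 + x) = 0} := by
    intro v0
    apply Nat.card_congr
    exact
      { toFun := fun z => ⟨⟨z.1.1 - v0, (Submodule.Quotient.eq X).mp z.2⟩, by
          show Q (v0 + (z.1.1 - v0)) = 0
          rw [add_sub_cancel]
          exact z.1.2⟩
        invFun := fun x => ⟨⟨v0 + x.1.1, x.2⟩, by
          show X.mkQ (v0 + x.1.1) = X.mkQ v0
          rw [Submodule.mkQ_apply, Submodule.mkQ_apply, Submodule.Quotient.eq, add_sub_cancel_left]
          exact x.1.2⟩
        left_inv := fun z => by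
          apply Subtype.ext
          apply Subtype.ext
          show v0 + (z.1.1 - v0) = z.1.1
          rw [add_sub_cancel]
        right_inv := fun x => by
          apply Subtype.ext
          apply Subtype.ext
          show v0 + x.1.1 - v0 = x.1.1
          rw [add_sub_cancel_left] }
  have hcardX : Nat.card X = Fintype.card F ^ m := by
    rw [Module.natCard_eq_pow_finrank (K := F), Nat.card_eq_fintype_card, hX]
  have hg0 : ∀ v0 ∈ X, Nat.card {z : {v : Fin n → F // Q v = 0} // X.mkQ z.1 = X.mkQ v0}
      = Fintype.card F ^ m := by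
    intro v0 hv0
    rw [hfib v0, ← hcardX]
    apply Nat.card_congr
    exact
      { toFun := fun x => x.1
        invFun := fun x => ⟨x, hXQ _ (X.add_mem hv0 x.2)⟩
        left_inv := fun x => rfl
        right_inv := fun x => rfl }
  have hg1 : ∀ v0 ∉ X, Nat.card {z : {v : Fin n → F // Q v = 0} // X.mkQ z.1 = X.mkQ v0}
      = Fintype.card F ^ (m - 1) := by
    intro v0 hv0
    rw [hfib v0]
    let φ : X →ₗ[F] F := (B v0).comp X.subtype
    have hφ : φ ≠ 0 := by
      obtain ⟨x, hx, hne⟩ := hkey v0 hv0
      intro h0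
      apply hne
      have := LinearMap.congr_fun h0 ⟨x, hx⟩
      exact this
    have := l_card_affine X φ hφ (- Q v0)
    rw [hX] at this
    rw [← this]
    apply Nat.card_congr
    exact
      { toFun := fun x => ⟨x.1, by
          have h1 := hQadd v0 x.1.1 x.1.2
          have h2 := x.2
          rw [h1] at h2
          show B v0 x.1.1 = - Q v0
          exact eq_neg_of_add_eq_zero_right h2⟩
        invFun := fun x => ⟨x.1, by
          rw [hQadd v0 x.1.1 x.1.2]
          have h2 : B v0 x.1.1 = - Q v0 := x.2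
          rw [h2, add_neg_cancel]⟩
        left_inv := fun x => rfl
        right_inv := fun x => rfl }
  -- sum over the cosets
  haveI : Fintype ((Fin n → F) ⧸ X) := Fintype.ofFinite _
  have hsum : Nat.card {v : Fin n → F // Q v = 0}
      = ∑ c : (Fin n → F) ⧸ X, Nat.card {z : {v : Fin n → F // Q v = 0} // X.mkQ z.1 = c} := by
    rw [← Nat.card_sigma]
    exact Nat.card_congr (Equiv.sigmaFiberEquiv
      (fun z : {v : Fin n → F // Q v = 0} => X.mkQ z.1)).symm
  have hcardQ : Fintype.card ((Fin n → F) ⧸ X) = Fintype.card F ^ m := by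
    have h1 := Submodule.card_eq_card_quotient_mul_card X
    have hpow : Fintype.card F ^ n = Fintype.card F ^ m * Fintype.card F ^ m := by
      rw [hnm, two_mul, pow_add]
    rw [hcardX, Nat.card_eq_fintype_card, Fintype.card_fun, Fintype.card_fin, hpow,
      Nat.card_eq_fintype_card] at h1
    exact (Nat.eq_of_mul_eq_mul_left (Nat.pow_pos Fintype.card_pos) h1).symm
  have hterm : ∀ c : (Fin n → F) ⧸ X,
      Nat.card {z : {v : Fin n → F // Q v = 0} // X.mkQ z.1 = c}
        = if c = 0 then Fintype.card F ^ m else Fintype.card F ^ (m - 1) := by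
    intro c
    obtain ⟨v0, rfl⟩ := X.mkQ_surjective c
    by_cases hv0 : v0 ∈ X
    · have : X.mkQ v0 = 0 := by rwa [Submodule.mkQ_apply, Submodule.Quotient.mk_eq_zero]
      rw [if_pos this]
      exact hg0 v0 hv0
    · have : X.mkQ v0 ≠ 0 := by rwa [Submodule.mkQ_apply, Ne, Submodule.Quotient.mk_eq_zero]
      rw [if_neg this]
      exact hg1 v0 hv0
  rw [hsum, Finset.sum_congr rfl (fun c _ => hterm c),
    ← Finset.add_sum_erase Finset.univ _ (Finset.mem_univ (0 : (Fin n → F) ⧸ X)), if_pos rfl,
    Finset.sum_congr rfl (fun c hc => if_neg (Finset.ne_of_mem_erase hc)), Finset.sum_const,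
    Finset.card_erase_of_mem (Finset.mem_univ _), Finset.card_univ, hcardQ]
  simp only [smul_eq_mul, one_mul]
  obtain ⟨j, rfl⟩ : ∃ j, m = j + 1 := ⟨m - 1, by omega⟩
  simp only [Nat.add_sub_cancel]
  have hb : 1 ≤ Fintype.card F ^ (j + 1) := Nat.one_le_pow _ _ Fintype.card_pos
  obtain ⟨t, ht⟩ : ∃ t, Fintype.card F ^ (j + 1) = t + 1 := ⟨_, (Nat.sub_add_cancel hb).symm⟩
  rw [ht]
  simp only [Nat.add_sub_cancel]
  ring

end Cfsg.Agent.Lib.Helper44.Oc
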