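import Mathlib
import Cfsg.Agent.Lib.Helper90.PsuDefs

/-! # PSU-TS (Psu hive of helper90, S2412): the `Tset` calculus. -/

set_option autoImplicit false

namespace Cfsg.Agent.Lib.Helper90.Psu

open Matrix Cfsg.Agent.Lib.Helper99 Cfsg.Agent.Lib.Helper13

variable {F : Type*} [Field F] [Fintype F] {q n : ℕ}

local notation "hh" => Cfsg.hermForm n F q

theorem ts_utv_zero (c : F) : utv q (0 : Fin n → F) c = 1 := by
  have h0 : hh (0 : Fin n → F) 0 = 0 := hermForm_zero_left 0
  apply Units.ext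
  rw [Matrix.ext_iff_mulVec]
  intro x
  rw [utv_mulVec 0 h0, smul_zero, add_zero, Units.val_one, one_mulVec]

theorem ts_pow_fix (hF : Fintype.card F = q ^ 2) (l : F) : (l ^ (q + 1)) ^ q = l ^ (q + 1) := by
  have h1 : l ^ (q ^ 2) = l := by rw [← hF]; exact FiniteField.pow_card l
  calc (l ^ (q + 1)) ^ q = l ^ (q ^ 2) * l ^ q := by rw [← pow_mul, ← pow_add]; congr 1; ring
    _ = l ^ (q + 1) := by rw [h1, pow_succ, mul_comm]

theorem zero_mem_Tset (H : Subgroup (GL (Fin n) F)) : (0 : Fin n → F) ∈ Tset q H := by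
  refine ⟨hermForm_zero_left 0, fun c _ => ?_⟩
  rw [ts_utv_zero]
  exact H.one_mem

theorem smul_mem_Tset (hF : Fintype.card F = q ^ 2) {H : Subgroup (GL (Fin n) F)} {v : Fin n → F}
    (hv : v ∈ Tset q H) (l : F) : l • v ∈ Tset q H := by
  obtain ⟨hv0, hvH⟩ := hv
  refine ⟨?_, fun c hc => ?_⟩
  · rw [hermForm_smul_left, hermForm_smul_right, hv0, mul_zero, mul_zero]
  · rw [utv_smul v hv0]
    apply hvH
    rw [mul_pow, ts_pow_fix hF, ← add_mul, hc, zero_mul]

theorem act_mem_Tset (hF : Fintype.card F = q ^ 2) {H : Subgroup (GL (Fin n) F)} {g : GL (Fin n) F}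
    (hgH : g ∈ H) (hgU : g ∈ Cfsg.GU n F q) {v : Fin n → F} (hv : v ∈ Tset q H) :
    (g : Matrix (Fin n) (Fin n) F) *ᵥ v ∈ Tset q H := by
  obtain ⟨hv0, hvH⟩ := hv
  refine ⟨?_, fun c hc => ?_⟩
  · rw [GU_preserves hgU, hv0]
  · rw [← conj_utv g hgU v hv0 c]
    exact H.mul_mem (H.mul_mem hgH (hvH c hc)) (H.inv_mem hgH)

theorem rule_mem_Tset (hF : Fintype.card F = q ^ 2) {H : Subgroup (GL (Fin n) F)} {u w : Fin n → F}
    (hu : u ∈ Tset q H) (hw : w ∈ Tset q H) {c : F} (hc : c + c ^ q = 0) :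
    u + (c * hh u w) • w ∈ Tset q H := by
  have h1 := act_mem_Tset hF (hw.2 c hc) (utv_mem_GU hF w hw.1 c hc) hu
  rwa [utv_mulVec w hw.1] at h1

theorem lemmaA (hF : Fintype.card F = q ^ 2) {H : Subgroup (GL (Fin n) F)} {u w v : Fin n → F}
    (hu : u ∈ Tset q H) (hw : w ∈ Tset q H) (huw : hh u w ≠ 0)
    (hv : v ∈ Submodule.span F ({u, w} : Set (Fin n → F))) (hvv : hh v v = 0) : v ∈ Tset q H := by
  obtain ⟨α, β, rfl⟩ := Submodule.mem_span_pair.1 hv
  by_cases hα : α = 0
  · subst hα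
    rw [zero_smul, zero_add]
    exact smul_mem_Tset hF hw β
  · have hwu : hh w u ≠ 0 := by
      rw [← hermForm_conj hF]
      exact pow_ne_zero _ huw
    have hαq : α ^ q ≠ 0 := pow_ne_zero _ hα
    -- the isotropy relation
    have hiso : α * β ^ q * hh u w + β * α ^ q * hh w u = 0 := by
      have h := hvv
      rw [hermForm_add_left, hermForm_add_right hF, hermForm_add_right hF, hermForm_smul_left,
        hermForm_smul_left, hermForm_smul_left, hermForm_smul_left, hermForm_smul_right,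
        hermForm_smul_right, hermForm_smul_right, hermForm_smul_right, hu.1, hw.1] at h
      linear_combination h
    set γ : F := β / α with hγ
    set c : F := γ / hh u w with hc
    have hcc : c + c ^ q = 0 := by
      rw [hc, hγ, div_pow, div_pow, hermForm_conj hF]
      field_simp
      linear_combination hiso
    have h1 := rule_mem_Tset hF hu hw hcc
    have h2 : (c * hh u w) = γ := by rw [hc]; field_simp
    rw [h2] at h1
    have h3 := smul_mem_Tset hF h1 α
    have h4 : α • (u + γ • w) = α • u + β • w := by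
      rw [smul_add, smul_smul, hγ]
      congr 2
      field_simp
    rwa [h4] at h3

theorem utvGroup_le_of_Tset {H : Subgroup (GL (Fin n) F)}
    (h : ∀ v : Fin n → F, hh v v = 0 → v ∈ Tset q H) : utvGroup n q F ≤ H := by
  unfold utvGroup
  rw [Subgroup.closure_le]
  rintro g ⟨u, c, hu, hc, rfl⟩
  exact (h u hu).2 c hc

end Cfsg.Agent.Lib.Helper90.Psu
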