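import Mathlib
import Cfsg.Prelude.Def_ClassicalGeometry
import Cfsg.Prelude.Def_GeometricClasses
import Cfsg.Prelude.Def_Classical
import Cfsg.Agent.Lib.Helper14.QmDefs
import Cfsg.Agent.Lib.Helper13.LagQ
import Cfsg.Agent.Lib.Helper43.ZeroCount

/-! # QM-COORD (Qm hive of helper14, S5990): `ellSub d F S` is an elliptic `(2|S|+2)`-space. -/

set_option autoImplicit false

namespace Cfsg.Agent.Lib.Helper14.Qm

open Module
open Cfsg.Agent.Lib.Helper2.BG Cfsg.Agent.Lib.Helper99 Cfsg.Agent.Lib.Helper48.Ti
open Cfsg.Agent.Lib.Helper5.Hy (Plus Fixes Fix Orth)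
open Cfsg.Agent.Lib.Helper65.Qe (pol PlusQ IsomQ FixesQ tp)
open Cfsg.Agent.Lib.Helper8 (minusForm IsInvIso nilPart)

section char2

variable {F : Type*} [Field F]

/-- the elliptic coordinate subspace is linearly equivalent to `(S ⊕ S) ⊕ Fin 2 → F` -/
noncomputable def coord_m_equiv (d : ℕ) (S : Finset (Fin (d - 1))) :
    ellSub d F (S : Set (Fin (d - 1))) ≃ₗ[F] (((S ⊕ S) ⊕ Fin 2) → F) where
  toFun w := fun x => (w : VM d F)
    (Sum.map (Sum.map (fun i : S => (i : Fin (d - 1))) (fun i : S => (i : Fin (d - 1)))) id x)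
  map_add' a b := by funext x; simp
  map_smul' c a := by funext x; simp
  invFun g := ⟨fun x => Sum.elim (Sum.elim
      (fun i => if h : i ∈ S then g (Sum.inl (Sum.inl ⟨i, h⟩)) else 0)
      (fun i => if h : i ∈ S then g (Sum.inl (Sum.inr ⟨i, h⟩)) else 0))
      (fun k => g (Sum.inr k)) x, by
    intro i hi
    have hi' : i ∉ S := by simpa using hi
    simp [hi']⟩
  left_inv w := by
    apply Subtype.ext
    funext x
    rcases x with (i | i) | k
    · by_cases h : i ∈ S
      · simp [h]
      · have := (w.2 i (by simpa using h)).1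
        simp [h, this]
    · by_cases h : i ∈ S
      · simp [h]
      · have := (w.2 i (by simpa using h)).2
        simp [h, this]
    · simp
  right_inv g := by
    funext x
    rcases x with (i | i) | k
    · simp
    · simp
    · simp

/-- the complementary totally singular coordinate subspace: supported on `inl (inl i)`, `i ∉ S` -/
def coord_m_E (d : ℕ) (S : Finset (Fin (d - 1))) : Submodule F (VM d F) where
  carrier := {v | (∀ i, i ∈ S → v (Sum.inl (Sum.inl i)) = 0) ∧ (∀ i, v (Sum.inl (Sum.inr i)) = 0) ∧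
    ∀ k, v (Sum.inr k) = 0}
  add_mem' := by
    intro a b ha hb
    refine ⟨fun i hi => ?_, fun i => ?_, fun k => ?_⟩
    · simp [ha.1 i hi, hb.1 i hi]
    · simp [ha.2.1 i, hb.2.1 i]
    · simp [ha.2.2 k, hb.2.2 k]
  zero_mem' := by
    refine ⟨fun i _ => ?_, fun i => ?_, fun k => ?_⟩ <;> simp
  smul_mem' := by
    intro c a ha
    refine ⟨fun i hi => ?_, fun i => ?_, fun k => ?_⟩
    · simp [ha.1 i hi]
    · simp [ha.2.1 i]
    · simp [ha.2.2 k]

noncomputable def coord_m_E_equiv (d : ℕ) (S : Finset (Fin (d - 1))) :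
    coord_m_E (F := F) d S ≃ₗ[F] ({i : Fin (d - 1) // i ∉ S} → F) where
  toFun w := fun x => (w : VM d F) (Sum.inl (Sum.inl (x : Fin (d - 1))))
  map_add' a b := by funext x; simp
  map_smul' c a := by funext x; simp
  invFun g := ⟨fun x => Sum.elim (Sum.elim
      (fun i => if h : i ∉ S then g ⟨i, h⟩ else 0) (fun _ => 0)) (fun _ => 0) x, by
    refine ⟨fun i hi => ?_, fun i => ?_, fun k => ?_⟩
    · simp [hi]
    · simp
    · simp⟩
  left_inv w := by
    apply Subtype.ext
    funext x
    rcases x with (i | i) | k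
    · by_cases h : i ∈ S
      · have := w.2.1 i h
        simp [h, this]
      · simp [h]
    · have := w.2.2.1 i
      simp [this]
    · have := w.2.2.2 k
      simp [this]
  right_inv g := by
    funext x
    simp [x.2]

theorem coord_m_finrank_E (d : ℕ) (S : Finset (Fin (d - 1))) :
    finrank F ↥(coord_m_E (F := F) d S) = (d - 1) - S.card := by
  classical
  rw [LinearEquiv.finrank_eq (coord_m_E_equiv (F := F) d S)]
  rw [Module.finrank_fintype_fun_eq_card, Fintype.card_subtype_compl]
  simp

theorem isEll_ellSub [Fintype F] (d : ℕ) (hd : 1 ≤ d) (a b : F)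
    (hab : ∀ x y : F, x ^ 2 + a * x * y + b * y ^ 2 = 0 → x = 0 ∧ y = 0)
    (S : Finset (Fin (d - 1))) :
    finrank F ↥(ellSub d F (S : Set (Fin (d - 1)))) = 2 * S.card + 2 ∧
      Nd (pol (QM d F a b)) (ellSub d F (S : Set (Fin (d - 1)))) ∧
      ¬ PlusQ (QM d F a b) (ellSub d F (S : Set (Fin (d - 1)))) := by
  classical
  have hfin : finrank F ↥(ellSub d F (S : Set (Fin (d - 1)))) = 2 * S.card + 2 := by
    rw [LinearEquiv.finrank_eq (coord_m_equiv (F := F) d S)]
    simp [two_mul]
  refine ⟨hfin, ?_, ?_⟩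
  · -- nondegenerate: from the nondegeneracy of the whole space
    intro u hu hu0
    have hnd := Cfsg.Agent.Lib.Helper43.ZeroCount.minusForm_nondeg F a b hab (d - 1)
    apply hnd.1 u
    intro v
    -- truncate `v` to the coordinates of `ellSub`
    let v' : VM d F := fun x => Sum.elim (Sum.elim
      (fun i => if i ∈ S then v (Sum.inl (Sum.inl i)) else 0)
      (fun i => if i ∈ S then v (Sum.inl (Sum.inr i)) else 0)) (fun k => v (Sum.inr k)) x
    have hv' : v' ∈ ellSub d F (S : Set (Fin (d - 1))) := by
      intro i hi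
      have hi' : i ∉ S := by simpa using hi
      simp [v', hi']
    have h0 := hu0 v' hv'
    have e1 : pol (QM d F a b) u v = QuadraticMap.polar (⇑(minusForm (d - 1) F a b)) u v := rfl
    have e2 : pol (QM d F a b) u v' = QuadraticMap.polar (⇑(minusForm (d - 1) F a b)) u v' := rfl
    rw [e2, Cfsg.Agent.Lib.Helper8.polar_minusForm] at h0
    show pol (QM d F a b) u v = 0
    rw [e1, Cfsg.Agent.Lib.Helper8.polar_minusForm, ← h0]
    congr 1
    apply Finset.sum_congr rfl
    intro i _
    by_cases h : i ∈ S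
    · simp [v', h]
    · have hh := hu i (by simpa using h)
      simp [v', h, hh.1, hh.2]
  · -- not of plus type
    rintro ⟨U, hUW, hUQ, hUdim⟩
    rw [hfin] at hUdim
    have hUd : finrank F U = S.card + 1 := by omega
    set E : Submodule F (VM d F) := coord_m_E (F := F) d S with hE
    have hEd : finrank F E = (d - 1) - S.card := coord_m_finrank_E d S
    have hSle : S.card ≤ d - 1 := by
      have := Finset.card_le_univ S
      simpa using this
    have hinf : U ⊓ E = ⊥ := by
      rw [eq_bot_iff]
      intro x hx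
      rw [Submodule.mem_bot]
      have hxU := hUW hx.1
      have hxE := hx.2
      funext j
      rcases j with (i | i) | k
      · by_cases h : i ∈ S
        · exact hxE.1 i h
        · exact (hxU i (by simpa using h)).1
      · exact hxE.2.1 i
      · exact hxE.2.2 k
    have hsum : finrank F ↥(U ⊔ E) = d := by
      have h := Submodule.finrank_sup_add_finrank_inf_eq U E
      rw [hinf, finrank_bot] at h
      omega
    have hk : d - 1 + 1 = d := by omega
    refine Cfsg.Agent.Lib.Helper13.LagQ.minusForm_no_lagrangian a b hab (d - 1) (U ⊔ E) ?_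
      (by rw [hsum, hk])
    intro x hx
    obtain ⟨u, hu, e, he, rfl⟩ := Submodule.mem_sup.1 hx
    have hQu : minusForm (d - 1) F a b u = 0 := hUQ u hu
    have hue := hUW hu
    have hpol : QuadraticMap.polar (⇑(minusForm (d - 1) F a b)) u e = 0 := by
      rw [Cfsg.Agent.Lib.Helper8.polar_minusForm]
      rw [he.2.2 0, he.2.2 1]
      have : ∀ i : Fin (d - 1), (u (Sum.inl (Sum.inl i)) * e (Sum.inl (Sum.inr i))
          + e (Sum.inl (Sum.inl i)) * u (Sum.inl (Sum.inr i))) = 0 := by
        intro i
        rw [he.2.1 i]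
        by_cases h : i ∈ S
        · rw [he.1 i h]; ring
        · rw [(hue i (by simpa using h)).2]; ring
      rw [Finset.sum_congr rfl (fun i _ => this i)]
      simp
    have hQe : minusForm (d - 1) F a b e = 0 := by
      rw [← Cfsg.Agent.Lib.Helper8.minusForm_coe]
      unfold Cfsg.quadFormMinus
      rw [he.2.2 0, he.2.2 1]
      have : ∀ i : Fin (d - 1), e (Sum.inl (Sum.inl i)) * e (Sum.inl (Sum.inr i)) = 0 := by
        intro i; rw [he.2.1 i, mul_zero]
      rw [Finset.sum_congr rfl (fun i _ => this i)]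
      simp
    have hadd : minusForm (d - 1) F a b (u + e) = minusForm (d - 1) F a b u
        + minusForm (d - 1) F a b e + QuadraticMap.polar (⇑(minusForm (d - 1) F a b)) u e := by
      unfold QuadraticMap.polar; ring
    rw [hadd, hQu, hQe, hpol]; ring

end char2

end Cfsg.Agent.Lib.Helper14.Qm
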