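import Mathlib
import Cfsg.Prelude.Def_ClassicalGeometry
import Cfsg.Prelude.Def_GeometricClasses
import Cfsg.Prelude.Def_Classical
import Cfsg.Agent.Lib.Helper15.HqDefs

/-! # HQ-COORD (Hq hive of helper15, S5974): `coordSub d S` is a hyperbolic `2|S|`-space. -/

set_option autoImplicit false

namespace Cfsg.Agent.Lib.Helper15.Hq

open Module

section char2

variable {F : Type*} [Field F]

/-- the coordinate subspace is linearly equivalent to `S ⊕ S → F` -/
noncomputable def coord_equiv (d : ℕ) (S : Finset (Fin d)) :
    coordSub (F := F) d (S : Set (Fin d)) ≃ₗ[F] ((S ⊕ S) → F) where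
  toFun w := fun x => (w : Fin d ⊕ Fin d → F) (Sum.map (fun i : S => (i : Fin d)) (fun i : S => (i : Fin d)) x)
  map_add' a b := by funext x; simp
  map_smul' c a := by funext x; simp
  invFun g := ⟨fun x => Sum.elim
      (fun i => if h : i ∈ S then g (Sum.inl ⟨i, h⟩) else 0)
      (fun i => if h : i ∈ S then g (Sum.inr ⟨i, h⟩) else 0) x, by
    intro i hi
    have hi' : i ∉ S := by simpa using hi
    simp [hi']⟩
  left_inv w := by
    apply Subtype.ext
    funext x
    rcases x with i | i
    · by_cases h : i ∈ S
      · simp [h]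
      · have := (w.2 i (by simpa using h)).1
        simp [h, this]
    · by_cases h : i ∈ S
      · simp [h]
      · have := (w.2 i (by simpa using h)).2
        simp [h, this]
  right_inv g := by
    funext x
    rcases x with i | i
    · simp
    · simp

/-- the totally singular half of the coordinate subspace -/
def coord_half (d : ℕ) (S : Finset (Fin d)) : Submodule F (Fin d ⊕ Fin d → F) where
  carrier := {v | (∀ i, i ∉ S → v (Sum.inl i) = 0) ∧ ∀ i, v (Sum.inr i) = 0}
  add_mem' := by
    intro a b ha hb
    refine ⟨fun i hi => ?_, fun i => ?_⟩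
    · simp [ha.1 i hi, hb.1 i hi]
    · simp [ha.2 i, hb.2 i]
  zero_mem' := by
    refine ⟨fun i _ => ?_, fun i => ?_⟩ <;> simp
  smul_mem' := by
    intro c a ha
    refine ⟨fun i hi => ?_, fun i => ?_⟩
    · simp [ha.1 i hi]
    · simp [ha.2 i]

noncomputable def coord_half_equiv (d : ℕ) (S : Finset (Fin d)) :
    coord_half (F := F) d S ≃ₗ[F] (S → F) where
  toFun w := fun x => (w : Fin d ⊕ Fin d → F) (Sum.inl (x : Fin d))
  map_add' a b := by funext x; simp
  map_smul' c a := by funext x; simp
  invFun g := ⟨fun x => Sum.elim
      (fun i => if h : i ∈ S then g ⟨i, h⟩ else 0) (fun _ => 0) x, by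
    refine ⟨fun i hi => ?_, fun i => ?_⟩
    · simp [hi]
    · simp⟩
  left_inv w := by
    apply Subtype.ext
    funext x
    rcases x with i | i
    · by_cases h : i ∈ S
      · simp [h]
      · have := w.2.1 i h
        simp [h, this]
    · have := w.2.2 i
      simp [this]
  right_inv g := by
    funext x
    simp

theorem isHyp_coordSub (d : ℕ) (S : Finset (Fin d)) :
    IsHyp (F := F) d (2 * S.card) (coordSub d (S : Set (Fin d))) := by
  classical
  refine ⟨?_, ?_, ?_⟩
  · rw [LinearEquiv.finrank_eq (coord_equiv (F := F) d S)]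
    simp [two_mul]
  · intro u hu hu0
    have hex : ∃ x, u x ≠ 0 := by
      by_contra hcon
      push_neg at hcon
      exact hu0 (funext hcon)
    obtain ⟨x, hx⟩ := hex
    rw [Cfsg.Agent.Lib.Helper8.plusForm_coe]
    rcases x with i | i
    · have hiS : i ∈ S := by
        by_contra h
        exact hx (hu i (by simpa using h)).1
      refine ⟨Pi.single (Sum.inr i) 1, ?_, ?_⟩
      · intro j hj
        have hji : j ≠ i := by
          rintro rfl
          exact hj (by simpa using hiS)
        simp [Pi.single_apply, hji]
      · rw [Cfsg.Agent.Lib.Helper8.polar_plusForm]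
        simpa [Pi.single_apply, Finset.sum_add_distrib] using hx
    · have hiS : i ∈ S := by
        by_contra h
        exact hx (hu i (by simpa using h)).2
      refine ⟨Pi.single (Sum.inl i) 1, ?_, ?_⟩
      · intro j hj
        have hji : j ≠ i := by
          rintro rfl
          exact hj (by simpa using hiS)
        simp [Pi.single_apply, hji]
      · rw [Cfsg.Agent.Lib.Helper8.polar_plusForm]
        simpa [Pi.single_apply, Finset.sum_add_distrib] using hx
  · refine ⟨coord_half d S, ?_, ?_, ?_⟩
    · intro v hv i hi
      exact ⟨hv.1 i (by simpa using hi), hv.2 i⟩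
    · rw [LinearEquiv.finrank_eq (coord_half_equiv (F := F) d S)]
      simp
    · intro u hu
      unfold Cfsg.quadFormPlus
      apply Finset.sum_eq_zero
      intro i _
      rw [hu.2 i, mul_zero]

end char2

end Cfsg.Agent.Lib.Helper15.Hq
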