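import Mathlib
import Cfsg.Prelude.Def_ClassicalGeometry
import Cfsg.Prelude.Def_GeometricClasses
import Cfsg.Prelude.Def_Classical
import Cfsg.Agent.Lib.Helper15.HqDefs
import Cfsg.Agent.Lib.Helper67.TsINVOL
import Cfsg.Agent.Lib.Helper83.HyT3

/-! # HQ-SQ1 (Hq hive of helper15, S5974): an involutive isometry fixes nondegenerate `m`-spaces of
both types when `2 m < dim V`. -/

set_option autoImplicit false

namespace Cfsg.Agent.Lib.Helper15.Hq

open Module
open Cfsg.Agent.Lib.Helper2.BG Cfsg.Agent.Lib.Helper99 Cfsg.Agent.Lib.Helper48.Ti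
open Cfsg.Agent.Lib.Helper5.Hy (Plus Fixes)

section oddq

variable {F V : Type*} [Field F] [AddCommGroup V] [Module F V] [FiniteDimensional F V]
variable {B : V →ₗ[F] V →ₗ[F] F}

theorem sq_one_fixes [Fintype F] (h2 : (2 : F) ≠ 0) (hs : ∀ u v, B u v = B v u) (hV : Nd B ⊤)
    {f : Module.End F V} (hf : Isom B f) (hff : f * f = 1) (m : ℕ) (hme : Even m) (h0 : 0 < m)
    (hlt : 2 * m < finrank F V) (b : Prop) : Fixes B f m b := by
  obtain ⟨hp, hn, -, hsum⟩ := Cfsg.Agent.Lib.Helper67.Ts.invol_split h2 hf hff hV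
  by_cases hcase : m < finrank F ↥(LinearMap.ker (f - 1))
  · obtain ⟨W, hWZ, hWnd, hWdim, hWb⟩ :=
      Cfsg.Agent.Lib.Helper5.Hy.exists_nd_of_type h2 hs hp m hme h0 hcase b
    refine ⟨W, ?_, hWnd, hWdim, hWb⟩
    intro w hw
    have h1 : f w = w := Cfsg.Agent.Lib.Helper67.Ts.invol_mem_ker_sub.1 (hWZ hw)
    rw [h1]; exact hw
  · have hcase' : m < finrank F ↥(LinearMap.ker (f + 1)) := by omega
    obtain ⟨W, hWZ, hWnd, hWdim, hWb⟩ :=
      Cfsg.Agent.Lib.Helper5.Hy.exists_nd_of_type h2 hs hn m hme h0 hcase' b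
    refine ⟨W, ?_, hWnd, hWdim, hWb⟩
    intro w hw
    have h1 : f w = -w := Cfsg.Agent.Lib.Helper67.Ts.invol_mem_ker_add.1 (hWZ hw)
    rw [h1]; exact W.neg_mem hw
  
end oddq

end Cfsg.Agent.Lib.Helper15.Hq
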