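import Cfsg.Agent.Lib.Helper15.HsBasic

set_option autoImplicit false

/-!
# Hs hive (helper15, S2536): leaf `HS-EX7` `exists_hall_seven`

`S₃ × S₄ ≤ S₇` has order `144 = 2^4 · 3^2` and index `35 = 5 · 7`.
-/

namespace Cfsg.Agent.Lib.Helper15.Hs

open Cfsg

/-- transport of the existence of Hall subgroups along a group isomorphism. -/
theorem ex7_transport {G : Type*} {G' : Type*} [Group G] [Group G'] (π : Set ℕ) (e : G ≃* G')
    (h : IsEPiGroup π G) : IsEPiGroup π G' := by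
  obtain ⟨H, h1, h2⟩ := h
  refine ⟨H.map (e : G →* G'), ?_, ?_⟩
  · intro p hp hd
    apply h1 p hp
    rwa [Subgroup.card_map_of_injective (f := (e : G →* G')) e.injective] at hd
  · intro p hp hpπ hd
    rw [Subgroup.index_map_equiv] at hd
    exact h2 p hp hpπ hd

/-- a subgroup of given order is a Hall subgroup once the arithmetic is right. -/
theorem ex7_hall_of_card {G : Type*} [Group G] [Finite G] (π : Set ℕ) (H : Subgroup G) (a b : ℕ)
    (hH : Nat.card H = a) (hG : Nat.card G = a * b) (ha0 : a ≠ 0)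
    (ha : ∀ p : ℕ, p.Prime → p ∣ a → p ∈ π) (hb : ∀ p : ℕ, p.Prime → p ∣ b → p ∉ π) :
    IsPiHall π H := by
  have h1 : Nat.card H * H.index = Nat.card G := Subgroup.card_mul_index H
  rw [hH, hG] at h1
  have h2 : H.index = b := Nat.eq_of_mul_eq_mul_left (Nat.pos_of_ne_zero ha0) h1
  refine ⟨fun p hp hd => ha p hp (hH ▸ hd), fun p hp hpπ hd => hb p hp (h2 ▸ hd) hpπ⟩

/-- the order of the range of `sumCongrHom`. -/
theorem ex7_card_range (m n : ℕ) :
    Nat.card (Equiv.Perm.sumCongrHom (Fin m) (Fin n)).range = m.factorial * n.factorial := by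
  rw [← Nat.card_congr (MonoidHom.ofInjective
    (Equiv.Perm.sumCongrHom_injective (α := Fin m) (β := Fin n))).toEquiv, Nat.card_prod, Nat.card_perm,
    Nat.card_perm, Nat.card_eq_fintype_card, Nat.card_eq_fintype_card, Fintype.card_fin, Fintype.card_fin]

/-- the primes dividing `144` are `2` and `3`. -/
theorem ex7_prime_dvd_two_three {p a b : ℕ} (hp : p.Prime) (hd : p ∣ 2 ^ a * 3 ^ b) : p = 2 ∨ p = 3 := by
  rcases (Nat.Prime.dvd_mul hp).mp hd with h | h
  · left
    exact (Nat.prime_dvd_prime_iff_eq hp Nat.prime_two).mp (hp.dvd_of_dvd_pow h)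
  · right
    exact (Nat.prime_dvd_prime_iff_eq hp Nat.prime_three).mp (hp.dvd_of_dvd_pow h)

/-- the primes dividing `35` are `5` and `7`. -/
theorem ex7_prime_dvd_35 {p : ℕ} (hp : p.Prime) (hd : p ∣ 35) : p = 5 ∨ p = 7 := by
  have h35 : (35 : ℕ) = 5 * 7 := by norm_num
  rw [h35] at hd
  rcases (Nat.Prime.dvd_mul hp).mp hd with h | h
  · left
    exact (Nat.prime_dvd_prime_iff_eq hp (by norm_num)).mp h
  · right
    exact (Nat.prime_dvd_prime_iff_eq hp (by norm_num)).mp h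

/-- the Hall property for a subgroup of order `2^a 3^b` and index `35` when `π ∩ {2,3,5,7} = {2,3}`. -/
theorem ex7_hall_35 {G : Type*} [Group G] [Finite G] (π : Set ℕ) (m : ℕ) (hm : 7 ≤ m)
    (hπ : ∀ r : ℕ, r.Prime → r ≤ m → (r ∈ π ↔ (r = 2 ∨ r = 3)))
    (H : Subgroup G) (a b : ℕ) (hH : Nat.card H = 2 ^ a * 3 ^ b)
    (hG : Nat.card G = 2 ^ a * 3 ^ b * 35) : IsPiHall π H := by
  refine ex7_hall_of_card π H _ 35 hH hG (by positivity) ?_ ?_
  · intro p hp hd
    rcases ex7_prime_dvd_two_three hp hd with rfl | rfl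
    · exact (hπ 2 hp (by omega)).mpr (Or.inl rfl)
    · exact (hπ 3 hp (by omega)).mpr (Or.inr rfl)
  · intro p hp hd hpπ
    rcases ex7_prime_dvd_35 hp hd with rfl | rfl
    · have := (hπ 5 hp (by omega)).mp hpπ
      omega
    · have := (hπ 7 hp (by omega)).mp hpπ
      omega

theorem exists_hall_seven (π : Set ℕ) (h : Exc π 7 7) : IsEPiGroup π (Equiv.Perm (Fin 7)) := by
  obtain ⟨-, hπ⟩ := h
  have e : Equiv.Perm (Fin 3 ⊕ Fin 4) ≃* Equiv.Perm (Fin 7) :=
    (finSumFinEquiv (m := 3) (n := 4)).permCongrHom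
  apply ex7_transport π e
  refine ⟨(Equiv.Perm.sumCongrHom (Fin 3) (Fin 4)).range, ?_⟩
  apply ex7_hall_35 π 7 le_rfl hπ _ 4 2
  · rw [ex7_card_range]
    decide
  · rw [Nat.card_perm, Nat.card_eq_fintype_card, Fintype.card_sum, Fintype.card_fin, Fintype.card_fin]
    decide

end Cfsg.Agent.Lib.Helper15.Hs
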