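import Cfsg.Agent.Lib.Helper42.HsEX7

set_option autoImplicit false

/-!
# Hs hive (helper15, S2536): leaf `HS-EX8` `exists_hall_eight`

`(S₄ × S₄).2 ≤ S₈` has order `1152 = 2^7 · 3^2` and index `35 = 5 · 7`.
-/

namespace Cfsg.Agent.Lib.Helper15.Hs

open Cfsg

/-- extension of a subgroup `K` by an element `τ ∉ K` with `τ² ∈ K` normalizing `K`: a subgroup containing `K`
with index `2`. -/
theorem ex8_ext {G : Type*} [Group G] (K : Subgroup G) (τ : G) (h1 : τ ∉ K) (h2 : τ * τ ∈ K)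
    (h3 : ∀ k ∈ K, τ * k * τ⁻¹ ∈ K) : ∃ H : Subgroup G, K ≤ H ∧ K.relIndex H = 2 := by
  have h2' : τ⁻¹ * τ⁻¹ ∈ K := by
    have := K.inv_mem h2
    rwa [mul_inv_rev] at this
  have h3' : ∀ k ∈ K, τ⁻¹ * k * τ ∈ K := by
    intro k hk
    have h4 := K.mul_mem (K.mul_mem h2' (h3 k hk)) h2
    have h5 : τ⁻¹ * τ⁻¹ * (τ * k * τ⁻¹) * (τ * τ) = τ⁻¹ * k * τ := by group
    rwa [h5] at h4
  let H : Subgroup G :=
    { carrier := {g | g ∈ K ∨ τ⁻¹ * g ∈ K}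
      one_mem' := Or.inl K.one_mem
      mul_mem' := by
        rintro a b (ha | ha) (hb | hb)
        · exact Or.inl (K.mul_mem ha hb)
        · right
          have h4 := K.mul_mem (h3' a ha) hb
          have h5 : τ⁻¹ * a * τ * (τ⁻¹ * b) = τ⁻¹ * (a * b) := by group
          rwa [h5] at h4
        · right
          have h4 := K.mul_mem ha hb
          have h5 : τ⁻¹ * a * b = τ⁻¹ * (a * b) := by group
          rwa [h5] at h4
        · left
          have h4 := K.mul_mem (K.mul_mem (h3 _ ha) h2) hb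
          have h5 : τ * (τ⁻¹ * a) * τ⁻¹ * (τ * τ) * (τ⁻¹ * b) = a * b := by group
          rwa [h5] at h4
      inv_mem' := by
        rintro a (ha | ha)
        · exact Or.inl (K.inv_mem ha)
        · right
          have h4 := K.mul_mem (h3' _ (K.inv_mem ha)) h2'
          have h5 : τ⁻¹ * (τ⁻¹ * a)⁻¹ * τ * (τ⁻¹ * τ⁻¹) = τ⁻¹ * a⁻¹ := by group
          rwa [h5] at h4 }
  have hmem : ∀ g, g ∈ H ↔ (g ∈ K ∨ τ⁻¹ * g ∈ K) := fun g => Iff.rfl
  refine ⟨H, fun k hk => Or.inl hk, ?_⟩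
  rw [Subgroup.relIndex_eq_two_iff]
  refine ⟨τ, Or.inr (by rw [inv_mul_cancel]; exact K.one_mem), ?_⟩
  intro b hb
  rcases hb with hb | hb
  · right
    refine ⟨hb, fun h => h1 ?_⟩
    have h4 := K.mul_mem (K.inv_mem hb) h
    rwa [inv_mul_cancel_left] at h4
  · left
    refine ⟨?_, fun h => h1 ?_⟩
    · have h4 := K.mul_mem (h3 _ hb) h2
      have h5 : τ * (τ⁻¹ * b) * τ⁻¹ * (τ * τ) = b * τ := by group
      rwa [h5] at h4
    · have h4 := K.mul_mem h (K.inv_mem hb)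
      have h5 : b * (τ⁻¹ * b)⁻¹ = τ := by group
      rwa [h5] at h4

/-- the swap of the two halves. -/
def ex8_tau : Equiv.Perm (Fin 4 ⊕ Fin 4) := Equiv.sumComm (Fin 4) (Fin 4)

theorem ex8_exists : ∃ H : Subgroup (Equiv.Perm (Fin 4 ⊕ Fin 4)), Nat.card H = 2 ^ 7 * 3 ^ 2 := by
  set K : Subgroup (Equiv.Perm (Fin 4 ⊕ Fin 4)) := (Equiv.Perm.sumCongrHom (Fin 4) (Fin 4)).range with hK
  have hKcard : Nat.card K = 576 := by
    rw [hK, ex7_card_range]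
    decide
  have h1 : ex8_tau ∉ K := by
    rintro ⟨⟨σ, ρ⟩, h⟩
    have h4 := congrArg (fun f : Equiv.Perm (Fin 4 ⊕ Fin 4) => f (Sum.inl 0)) h
    simp [ex8_tau] at h4
  have h2 : ex8_tau * ex8_tau ∈ K := by
    have : ex8_tau * ex8_tau = 1 := by
      ext x
      cases x <;> simp [ex8_tau]
    rw [this]
    exact K.one_mem
  have h3 : ∀ k ∈ K, ex8_tau * k * ex8_tau⁻¹ ∈ K := by
    rintro k ⟨⟨σ, ρ⟩, rfl⟩
    refine ⟨⟨ρ, σ⟩, ?_⟩
    ext x
    cases x <;> simp [ex8_tau, Equiv.Perm.inv_def]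
  obtain ⟨H, hKH, hidx⟩ := ex8_ext K ex8_tau h1 h2 h3
  refine ⟨H, ?_⟩
  have h4 := Subgroup.relIndex_mul_relIndex ⊥ K H bot_le hKH
  rw [Subgroup.relIndex_bot_left, Subgroup.relIndex_bot_left, hidx, hKcard] at h4
  rw [← h4]
  norm_num

theorem exists_hall_eight (π : Set ℕ) (h : Exc π 8 8) : IsEPiGroup π (Equiv.Perm (Fin 8)) := by
  obtain ⟨-, hπ⟩ := h
  have e : Equiv.Perm (Fin 4 ⊕ Fin 4) ≃* Equiv.Perm (Fin 8) :=
    (finSumFinEquiv (m := 4) (n := 4)).permCongrHom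
  apply ex7_transport π e
  obtain ⟨H, hH⟩ := ex8_exists
  refine ⟨H, ?_⟩
  apply ex7_hall_35 π 8 (by norm_num) hπ _ 7 2 hH
  rw [Nat.card_perm, Nat.card_eq_fintype_card, Fintype.card_sum, Fintype.card_fin]
  decide

end Cfsg.Agent.Lib.Helper15.Hs
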