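import Cfsg.Agent.Lib.Helper16.GagDefs

set_option autoImplicit false
universe u v

/-!
# Gag hive (helper16, S4561): leaf `GAG-I0` `exists_iota`
-/

namespace Cfsg.Agent.Lib.Helper16.Gag
open scoped IsMulCommutative

/-- I0 -/
theorem exists_iota {K : Type u} [Group K] [Finite K] {p : ℕ} [Fact p.Prime]
    (hp : p ∣ Nat.card K) : ∃ ι : Multiplicative (ZMod p) →* K, Function.Injective ι := by
  obtain ⟨x, hx⟩ := exists_prime_orderOf_dvd_card' p hp
  have hxp : x ^ p = 1 := by rw [← hx]; exact pow_orderOf_eq_one x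
  let f0 : ℤ →+ Additive K := zmultiplesHom (Additive K) (Additive.ofMul x)
  have hf0 : f0 (p : ℤ) = 0 := by
    show (p : ℤ) • Additive.ofMul x = 0
    rw [natCast_zsmul, ← ofMul_pow, hxp]
    rfl
  let g : ZMod p →+ Additive K := ZMod.lift p ⟨f0, hf0⟩
  have hg : Function.Injective g := by
    rw [ZMod.lift_injective]
    intro m hm
    have h1 : x ^ m = 1 := by
      have h2 : (m : ℤ) • Additive.ofMul x = 0 := hm
      rw [← ofMul_zpow] at h2
      exact h2
    have h3 : (orderOf x : ℤ) ∣ m := orderOf_dvd_iff_zpow_eq_one.mpr h1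
    rw [hx] at h3
    exact (ZMod.intCast_zmod_eq_zero_iff_dvd m p).mpr h3
  refine ⟨AddMonoidHom.toMultiplicativeLeft g, ?_⟩
  intro a b hab
  rw [AddMonoidHom.coe_toMultiplicativeLeft] at hab
  have h4 : g (Multiplicative.toAdd a) = g (Multiplicative.toAdd b) := Additive.toMul.injective hab
  exact Multiplicative.toAdd.injective (hg h4)

end Cfsg.Agent.Lib.Helper16.Gag
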