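import Mathlib
import Cfsg.Agent.Lib.Helper90.PsuDefs
import Cfsg.Agent.Lib.Helper42.PsuTS
import Cfsg.Agent.Lib.Helper27.PsuSPLIT
import Cfsg.Agent.Lib.Helper2.PsuLEMR
import Cfsg.Agent.Lib.Helper99.PsuHEIS

/-! # PSU-SQ1 core (Psu hive of helper90, S2412): the Heisenberg radical `Q1` lies in `H`
(case S, `n = 3, 4`).  `algsep` enters as the hypothesis `halg`. -/

set_option autoImplicit false

namespace Cfsg.Agent.Lib.Helper90.Psu

open Matrix Cfsg.Agent.Lib.Helper99 Cfsg.Agent.Lib.Helper13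

variable {F : Type*} [Field F] [Fintype F] {q n : ℕ}

local notation "hh" => Cfsg.hermForm n F q

/-- vectors supported on the coordinates `≥ 2` are orthogonal to `e` -/
theorem sq1_perp {e : Fin n → F} (hq0 : q ≠ 0) (hsupp : ∀ k : Fin n, 2 ≤ k.val → e k = 0)
    {r : Fin n → F} (hr : SuppGe 2 r) : hh r e = 0 := by
  unfold Cfsg.hermForm
  apply Finset.sum_eq_zero
  intro j _
  by_cases hj : j.val < 2
  · rw [hr j hj, zero_mul]
  · rw [hsupp j (by omega), zero_pow hq0, mul_zero]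

/-- every nonzero element is a power of a generator -/
theorem sq1_exists_pow (hF : Fintype.card F = q ^ 2) {ζ : F} (hζ : orderOf ζ = q ^ 2 - 1) (l : F)
    (hl : l ≠ 0) : ∃ k : ℕ, ζ ^ k = l := by
  classical
  have hq2 := q_ge_two hF
  have hpos : 0 < q ^ 2 - 1 := by
    have : 4 ≤ q ^ 2 := by nlinarith
    omega
  have hζ0 : ζ ≠ 0 := by
    rintro rfl
    have h1 : (0 : F) ^ (q ^ 2 - 1) = 1 := by rw [← hζ]; exact pow_orderOf_eq_one _
    rw [zero_pow hpos.ne'] at h1
    exact zero_ne_one h1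
  set ζu : Fˣ := Units.mk0 ζ hζ0 with hζu
  have ho : orderOf ζu = Nat.card Fˣ := by
    rw [← orderOf_units, hζu, Units.val_mk0, hζ, Nat.card_eq_fintype_card, Fintype.card_units, hF]
  have htop : Subgroup.zpowers ζu = ⊤ := by
    apply Subgroup.eq_top_of_card_eq
    rw [Nat.card_zpowers, ho]
  have hmem : Units.mk0 l hl ∈ Subgroup.zpowers ζu := by rw [htop]; trivial
  rw [← mem_powers_iff_mem_zpowers, Submonoid.mem_powers_iff] at hmem
  obtain ⟨k, hk⟩ := hmem
  refine ⟨k, ?_⟩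
  have := congrArg Units.val hk
  simpa [hζu] using this

/-- conjugation of `heis q e r β` (`r` supported on the coordinates `≥ 2`) by the torus element -/
theorem sq1_conj_a (hF : Fintype.card F = q ^ 2) {e : Fin n → F} (hee : hh e e = 0)
    (hsupp : ∀ k : Fin n, 2 ≤ k.val → e k = 0) {ζ : F} (hζ0 : ζ ≠ 0) {a : GL (Fin n) F}
    (haU : a ∈ Cfsg.GU n F q) (hae : (a : Matrix (Fin n) (Fin n) F) *ᵥ e = ζ • e)
    (har : ∀ r : Fin n → F, SuppGe 2 r → (a : Matrix (Fin n) (Fin n) F) *ᵥ r =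
        fun j => (if j.val + 1 = n then ζ ^ q * ζ⁻¹ else 1) * r j)
    (θ : Fin n → F) (hθ : ∀ j : Fin n, θ j = if j.val + 1 = n then ζ ^ (2 * q - 1) else ζ ^ q)
    {r : Fin n → F} {β : F} (hr : SuppGe 2 r) (hβ : β + β ^ q + hh r r = 0) :
    a * heis q e r β * a⁻¹ = heis q e (fun j => θ j * r j) (ζ ^ (q + 1) * β) := by
  have hq2 := q_ge_two hF
  have hq0 : q ≠ 0 := by omega
  have hre := sq1_perp hq0 hsupp hr
  rw [conj_heis hF hee hre hβ haU, hae]
  have har' := har r hr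
  have hsr : SuppGe 2 ((a : Matrix (Fin n) (Fin n) F) *ᵥ r) := by
    rw [har']
    intro j hj
    show _ * r j = 0
    rw [hr j hj, mul_zero]
  have hre' := sq1_perp hq0 hsupp hsr
  have hβ' : β + β ^ q + hh ((a : Matrix (Fin n) (Fin n) F) *ᵥ r)
      ((a : Matrix (Fin n) (Fin n) F) *ᵥ r) = 0 := by
    rw [GU_preserves haU]; exact hβ
  rw [heis_smul hF hee hre' hβ' hζ0]
  have hX : ζ ^ q • ((a : Matrix (Fin n) (Fin n) F) *ᵥ r) = fun j => θ j * r j := by
    rw [har']
    funext j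
    simp only [Pi.smul_apply, smul_eq_mul]
    rw [hθ j]
    split_ifs with h
    · have h2 : ζ ^ (2 * q - 1) * ζ = ζ ^ q * ζ ^ q := by
        rw [← pow_succ, ← pow_add]; congr 1; omega
      have h3 : ζ ^ (2 * q - 1) = ζ ^ q * ζ ^ q * ζ⁻¹ := by
        rw [← h2, mul_assoc, mul_inv_cancel₀ hζ0, mul_one]
      rw [h3]; ring
    · ring
  rw [hX]

/-- PSU-SQ1 with `algsep` as a hypothesis (`θ = thetaS q n ζ`). -/
theorem sq1_core (hF : Fintype.card F = q ^ 2) (hn3 : 3 ≤ n) (e : Fin n → F)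
    (hee : hh e e = 0)
    (hsupp : ∀ k : Fin n, 2 ≤ k.val → e k = 0) (ζ : F) (hζ : orderOf ζ = q ^ 2 - 1)
    (a n0 : GL (Fin n) F) (haU : a ∈ Cfsg.GU n F q)
    (hae : (a : Matrix (Fin n) (Fin n) F) *ᵥ e = ζ • e)
    (har : ∀ r : Fin n → F, SuppGe 2 r → (a : Matrix (Fin n) (Fin n) F) *ᵥ r =
        fun j => (if j.val + 1 = n then ζ ^ q * ζ⁻¹ else 1) * r j)
    (hrel : n0⁻¹ * a * n0 = a⁻¹ ^ q) (β0 : F)
    (hβ0 : β0 + β0 ^ q + hh (fun j : Fin n => if 2 ≤ j.val then (1 : F) else 0)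
      (fun j : Fin n => if 2 ≤ j.val then (1 : F) else 0) = 0)
    (H : Subgroup (GL (Fin n) F)) (haH : a ∈ H)
    (hbH : heis q e (fun j : Fin n => if 2 ≤ j.val then (1 : F) else 0) β0 * n0 ∈ H)
    (θ : Fin n → F) (hθ : ∀ j : Fin n, θ j = if j.val + 1 = n then ζ ^ (2 * q - 1) else ζ ^ q)
    (halg : ∀ M : AddSubgroup (Fin n → F), (∀ r ∈ M, (fun j : Fin n => θ j * r j) ∈ M) →
      (fun j : Fin n => if 2 ≤ j.val then θ j - 1 else 0) ∈ M →
      ∀ r : Fin n → F, SuppGe 2 r → r ∈ M) :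
    ∀ (r : Fin n → F) (β : F), SuppGe 2 r → β + β ^ q + hh r r = 0 → heis q e r β ∈ H := by
  classical
  have hq2 := q_ge_two hF
  have hq0 : q ≠ 0 := by omega
  have hpos : 0 < q ^ 2 - 1 := by
    have : 4 ≤ q ^ 2 := by nlinarith
    omega
  have hζ0 : ζ ≠ 0 := by
    rintro rfl
    have h1 : (0 : F) ^ (q ^ 2 - 1) = 1 := by rw [← hζ]; exact pow_orderOf_eq_one _
    rw [zero_pow hpos.ne'] at h1
    exact zero_ne_one h1
  have hperp : ∀ {r : Fin n → F}, SuppGe 2 r → hh r e = 0 := fun hr => sq1_perp hq0 hsupp hr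
  have hconj : ∀ {r : Fin n → F} {β : F}, SuppGe 2 r → β + β ^ q + hh r r = 0 →
      a * heis q e r β * a⁻¹ = heis q e (fun j => θ j * r j) (ζ ^ (q + 1) * β) :=
    fun hr hβ => sq1_conj_a hF hee hsupp hζ0 haU hae har θ hθ hr hβ
  have hz0 : (0 : F) + 0 ^ q + hh (0 : Fin n → F) 0 = 0 := by
    rw [hermForm_zero_left, zero_pow hq0, add_zero, add_zero]
  have hs0 : SuppGe 2 (0 : Fin n → F) := fun j _ => rfl
  -- the Heisenberg condition after the twist by `a`
  have hcondD : ∀ {r : Fin n → F} {β : F}, SuppGe 2 r → β + β ^ q + hh r r = 0 →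
      ζ ^ (q + 1) * β + (ζ ^ (q + 1) * β) ^ q + hh (fun j => θ j * r j) (fun j => θ j * r j) = 0 := by
    intro r β hr hβ
    have hr' := har r hr
    have hX : (fun j => θ j * r j) = ζ ^ q • ((a : Matrix (Fin n) (Fin n) F) *ᵥ r) := by
      rw [hr']
      funext j
      simp only [Pi.smul_apply, smul_eq_mul]
      rw [hθ j]
      split_ifs with h
      · have h2 : ζ ^ (2 * q - 1) * ζ = ζ ^ q * ζ ^ q := by
          rw [← pow_succ, ← pow_add]; congr 1; omega
        have h3 : ζ ^ (2 * q - 1) = ζ ^ q * ζ ^ q * ζ⁻¹ := by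
          rw [← h2, mul_assoc, mul_inv_cancel₀ hζ0, mul_one]
        rw [h3]; ring
      · ring
    rw [hX, hermForm_smul_left, hermForm_smul_right, GU_preserves haU, mul_pow,
      ts_pow_fix hF ζ, Cfsg.Agent.Lib.Helper13.pow_q_pow_q hF ζ, pow_succ]
    linear_combination (ζ ^ q * ζ) * hβ
  -- the additive group `M`
  let M : AddSubgroup (Fin n → F) :=
    { carrier := {r | SuppGe 2 r ∧ ∃ β : F, β + β ^ q + hh r r = 0 ∧ heis q e r β ∈ H}
      zero_mem' := by
        refine ⟨hs0, 0, hz0, ?_⟩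
        have h0 : (0 : F) + 0 ^ q = 0 := by rw [zero_pow hq0, add_zero]
        rw [heis_zero hF hee h0, utv_zero e hee]
        exact H.one_mem
      add_mem' := by
        rintro r r' ⟨hr, β, hβ, hH⟩ ⟨hr', β', hβ', hH'⟩
        refine ⟨?_, β + β' - hh r' r, heis_aux_cond_mul hF hβ hβ', ?_⟩
        · intro j hj
          show r j + r' j = 0
          rw [hr j hj, hr' j hj, add_zero]
        · rw [← heis_mul hF hee (hperp hr) hβ (hperp hr') hβ']
          exact H.mul_mem hH hH'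
      neg_mem' := by
        rintro r ⟨hr, β, hβ, hH⟩
        refine ⟨?_, β ^ q, heis_aux_cond_inv hF hβ, ?_⟩
        · intro j hj
          show - r j = 0
          rw [hr j hj, neg_zero]
        · rw [← heis_inv hF hee (hperp hr) hβ]
          exact H.inv_mem hH }
  have hMmem : ∀ r : Fin n → F, r ∈ M ↔
      (SuppGe 2 r ∧ ∃ β : F, β + β ^ q + hh r r = 0 ∧ heis q e r β ∈ H) := fun r => Iff.rfl
  -- `M` is stable under the twist
  have hMD : ∀ r ∈ M, (fun j : Fin n => θ j * r j) ∈ M := by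
    rintro r ⟨hr, β, hβ, hH⟩
    refine ⟨?_, ζ ^ (q + 1) * β, hcondD hr hβ, ?_⟩
    · intro j hj
      show θ j * r j = 0
      rw [hr j hj, mul_zero]
    · rw [← hconj hr hβ]
      exact H.mul_mem (H.mul_mem haH hH) (H.inv_mem haH)
  -- the generator
  set r0 : Fin n → F := fun j : Fin n => if 2 ≤ j.val then (1 : F) else 0 with hr0
  have hsr0 : SuppGe 2 r0 := by
    intro j hj
    show (if 2 ≤ j.val then (1 : F) else 0) = 0
    rw [if_neg (by omega)]
  have hsD0 : SuppGe 2 (fun j : Fin n => θ j * r0 j) := by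
    intro j hj
    show θ j * r0 j = 0
    rw [hsr0 j hj, mul_zero]
  have hgen : (fun j : Fin n => if 2 ≤ j.val then θ j - 1 else 0) ∈ M := by
    have h1 := lemmaR a n0 (heis q e r0 β0) q hrel H haH hbH 1
    rw [pow_one, hconj hsr0 hβ0, heis_inv hF hee (hperp hsr0) hβ0,
      heis_mul hF hee (hperp hsD0) (hcondD hsr0 hβ0)
        (by rw [hermForm_neg_left, hperp hsr0, neg_zero]) (heis_aux_cond_inv hF hβ0)] at h1
    have hX : (fun j : Fin n => θ j * r0 j) + -r0 = fun j : Fin n => if 2 ≤ j.val then θ j - 1 else 0 := by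
      funext j
      show θ j * r0 j + - r0 j = _
      rw [hr0]
      by_cases hj : 2 ≤ j.val
      · simp only [if_pos hj]; ring
      · simp only [if_neg hj]; ring
    rw [hX] at h1
    refine ⟨?_, _, ?_, h1⟩
    · intro j hj
      show (if 2 ≤ j.val then θ j - 1 else 0) = 0
      rw [if_neg (by omega)]
    · rw [← hX]
      exact heis_aux_cond_mul hF (hcondD hsr0 hβ0) (heis_aux_cond_inv hF hβ0)
  have hall := halg M hMD hgen
  -- a nontrivial transvection with centre `e`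
  set j2 : Fin n := ⟨2, by omega⟩ with hj2
  set ε : Fin n → F := Pi.single j2 1 with hε
  have hsε : SuppGe 2 ε := by
    intro j hj
    have : j ≠ j2 := by
      intro h; rw [h, hj2] at hj; simp at hj
    show (Pi.single j2 (1 : F) : Fin n → F) j = 0
    rw [Pi.single_apply, if_neg this]
  obtain ⟨κ, hκ⟩ := exists_pow_q_ne hF (F := F)
  have hsκ : SuppGe 2 (κ • ε) := by
    intro j hj
    show κ * ε j = 0
    rw [hsε j hj, mul_zero]
  obtain ⟨-, β1, hβ1, hH1⟩ := hall ε hsε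
  obtain ⟨-, β2, hβ2, hH2⟩ := hall (κ • ε) hsκ
  have hεε : hh ε ε = 1 := by
    rw [hε, hermForm_single_single n q hq0, if_pos rfl]
  set c1 : F := hh ε (κ • ε) - hh (κ • ε) ε with hc1
  have hc1v : c1 = κ ^ q - κ := by
    rw [hc1, hermForm_smul_right, hermForm_smul_left, hεε, mul_one, mul_one]
  have hc1ne : c1 ≠ 0 := by
    rw [hc1v]; exact sub_ne_zero.2 hκ
  have hc1t : c1 + c1 ^ q = 0 := by
    rw [hc1v, frob_sub hF, Cfsg.Agent.Lib.Helper13.pow_q_pow_q hF]; ring
  have hc1cond : c1 + c1 ^ q + hh (0 : Fin n → F) 0 = 0 := by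
    rw [hermForm_zero_left, add_zero]; exact hc1t
  have hutv1 : utv q e c1 ∈ H := by
    have h12 := heis_mul hF hee (hperp hsε) hβ1 (hperp hsκ) hβ2
    have h21 := heis_mul hF hee (hperp hsκ) hβ2 (hperp hsε) hβ1
    have hsum : SuppGe 2 (κ • ε + ε) := by
      intro j hj
      show (κ • ε) j + ε j = 0
      rw [hsκ j hj, hsε j hj, add_zero]
    have h3 := heis_mul hF hee (hperp hsum) (heis_aux_cond_mul hF hβ2 hβ1)
      (hermForm_zero_left e) hc1cond
    have h4 : heis q e (κ • ε + ε + 0) (β2 + β1 - hh ε (κ • ε) + c1 - hh 0 (κ • ε + ε))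
        = heis q e (ε + κ • ε) (β1 + β2 - hh (κ • ε) ε) := by
      rw [hermForm_zero_left, add_zero, add_comm (κ • ε) ε]
      congr 1
      rw [hc1]; ring
    rw [h4, ← h21, ← h12, heis_zero hF hee hc1t] at h3
    have h5 : utv q e c1 = (heis q e (κ • ε) β2 * heis q e ε β1)⁻¹ *
        (heis q e ε β1 * heis q e (κ • ε) β2) := by
      rw [← h3]; group
    rw [h5]
    exact H.mul_mem (H.inv_mem (H.mul_mem hH2 hH1)) (H.mul_mem hH1 hH2)
  -- all transvections with centre `e`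
  have hapow : ∀ k : ℕ, ((a ^ k : GL (Fin n) F) : Matrix (Fin n) (Fin n) F) *ᵥ e = ζ ^ k • e := by
    intro k
    induction k with
    | zero => rw [pow_zero, pow_zero, Units.val_one, one_mulVec, one_smul]
    | succ k ih =>
      rw [pow_succ, Units.val_mul, ← mulVec_mulVec, hae, mulVec_smul, ih, smul_smul, pow_succ,
        mul_comm]
  have heT : e ∈ Tset q H := by
    refine e0_mem_Tset hF e hee c1 hc1t hc1ne hutv1 ?_
    intro l hl
    obtain ⟨k, hk⟩ := sq1_exists_pow hF hζ l hl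
    exact ⟨a ^ k, H.pow_mem haH k, Subgroup.pow_mem _ haU k, by rw [hapow k, hk]⟩
  -- conclusion
  intro r β hr hβ
  obtain ⟨-, βr, hβr, hHr⟩ := hall r hr
  have hc : (β - βr) + (β - βr) ^ q = 0 := by
    rw [frob_sub hF]
    linear_combination hβ - hβr
  have hccond : (β - βr) + (β - βr) ^ q + hh (0 : Fin n → F) 0 = 0 := by
    rw [hermForm_zero_left, add_zero]; exact hc
  have h6 := heis_mul hF hee (hperp hr) hβr (hermForm_zero_left e) hccond
  rw [hermForm_zero_left, add_zero, sub_zero, heis_zero hF hee hc] at h6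
  have h7 : βr + (β - βr) = β := by ring
  rw [h7] at h6
  rw [← h6]
  exact H.mul_mem hHr (heT.2 _ hc)

end Cfsg.Agent.Lib.Helper90.Psu
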