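import Mathlib
import Cfsg.Agent.Lib.Helper90.PsuDefs
import Cfsg.Agent.Lib.Helper42.PsuSQ1core
import Cfsg.Agent.Lib.Helper38.PsuALG

/-! # PSU-SQ1 (Psu hive of helper90, S2412): `caseS_Q1`, from `sq1_core` and `algsep`. -/

set_option autoImplicit false

namespace Cfsg.Agent.Lib.Helper90.Psu

open Matrix Cfsg.Agent.Lib.Helper99 Cfsg.Agent.Lib.Helper13

variable {F : Type*} [Field F] [Fintype F] {q n : ℕ}

local notation "hh" => Cfsg.hermForm n F q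

theorem caseS_Q1 (hF : Fintype.card F = q ^ 2) (hq3 : 3 ≤ q) (hn : n = 3 ∨ n = 4) (e f : Fin n → F)
    (hee : hh e e = 0) (hff : hh f f = 0) (hef : hh e f = 1)
    (hsupp : ∀ k : Fin n, 2 ≤ k.val → e k = 0 ∧ f k = 0) (ζ : F) (hζ : orderOf ζ = q ^ 2 - 1)
    (a n0 : GL (Fin n) F) (haS : a ∈ suGL (F := F) n q) (hn0S : n0 ∈ suGL (F := F) n q)
    (hae : (a : Matrix (Fin n) (Fin n) F) *ᵥ e = ζ • e)
    (har : ∀ r : Fin n → F, SuppGe 2 r → (a : Matrix (Fin n) (Fin n) F) *ᵥ r =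
        fun j => (if j.val + 1 = n then ζ ^ q * ζ⁻¹ else 1) * r j)
    (hrel : n0⁻¹ * a * n0 = a⁻¹ ^ q) (β0 : F)
    (hβ0 : β0 + β0 ^ q + hh (fun j : Fin n => if 2 ≤ j.val then (1 : F) else 0)
      (fun j : Fin n => if 2 ≤ j.val then (1 : F) else 0) = 0)
    (H : Subgroup (GL (Fin n) F)) (haH : a ∈ H)
    (hbH : heis q e (fun j : Fin n => if 2 ≤ j.val then (1 : F) else 0) β0 * n0 ∈ H) :
    ∀ (r : Fin n → F) (β : F), SuppGe 2 r → β + β ^ q + hh r r = 0 → heis q e r β ∈ H := by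
  have hn3 : 3 ≤ n := by rcases hn with h | h <;> omega
  exact sq1_core hF hn3 e hee (fun k hk => (hsupp k hk).1) ζ hζ a n0 haS.1 hae har hrel β0 hβ0 H
    haH hbH (thetaS q n ζ) (fun j => rfl)
    (fun M hD hgen => algsep hF hq3 hn ζ hζ M hD hgen)

end Cfsg.Agent.Lib.Helper90.Psu
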