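import Mathlib
import Cfsg.Agent.Lib.Helper94.Iso8Defs

/-!
# ISO8-BLKMM (helper94's Iso8 hive, S3589): `A ⊥ A ≅ H ⊥ H` in characteristic 2
-/

set_option autoImplicit false
open Matrix

namespace Cfsg.Agent.Lib.Helper94.Iso8

/-- index type of the binary form `A` -/
abbrev blkmm_IA : Type := (Fin 0 ⊕ Fin 0) ⊕ Fin 2
/-- index type of `H ⊥ H` -/
abbrev blkmm_J : Type := Fin 2 ⊕ Fin 2

section
variable {F : Type*} [Field F]

/-- the vector of `A` with coordinates `p, q` -/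
def blkmm_vec (p q : F) : blkmm_IA → F := Sum.elim (fun _ => 0) ![p, q]

@[simp] lemma blkmm_vec_zero (p q : F) : blkmm_vec p q (.inr 0) = p := rfl
@[simp] lemma blkmm_vec_one (p q : F) : blkmm_vec p q (.inr 1) = q := rfl

omit [Field F] in
lemma blkmm_ext {u w : blkmm_IA → F} (h0 : u (.inr 0) = w (.inr 0)) (h1 : u (.inr 1) = w (.inr 1)) :
    u = w := by
  funext i
  rcases i with (i | i) | i
  · exact i.elim0
  · exact i.elim0
  · fin_cases i
    · exact h0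
    · exact h1

omit [Field F] in
lemma blkmm_extJ {u w : blkmm_J → F} (h0 : u (.inl 0) = w (.inl 0)) (h1 : u (.inl 1) = w (.inl 1))
    (h2 : u (.inr 0) = w (.inr 0)) (h3 : u (.inr 1) = w (.inr 1)) :
    u = w := by
  funext i
  rcases i with i | i
  · fin_cases i
    · exact h0
    · exact h1
  · fin_cases i
    · exact h2
    · exact h3

/-- the isometry `H ⊥ H → A ⊥ A` -/
def blkmm_P (b c : F) : (blkmm_J → F) →ₗ[F] (blkmm_IA → F) × (blkmm_IA → F) where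
  toFun x :=
    (blkmm_vec (x (.inl 0) + b * c ^ 2 * x (.inr 0)) (x (.inl 1) + c * x (.inr 0) + c ^ 2 * x (.inr 1)),
     blkmm_vec (x (.inl 0) + b * c ^ 2 * x (.inr 0) + c * x (.inr 1)) (x (.inl 1) + c ^ 2 * x (.inr 1)))
  map_add' x y := by
    refine Prod.ext (blkmm_ext ?_ ?_) (blkmm_ext ?_ ?_) <;> simp <;> ring
  map_smul' r x := by
    refine Prod.ext (blkmm_ext ?_ ?_) (blkmm_ext ?_ ?_) <;> simp <;> ring

/-- its inverse -/
def blkmm_P' (a b c : F) : (blkmm_IA → F) × (blkmm_IA → F) →ₗ[F] (blkmm_J → F) where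
  toFun y := Sum.elim
    ![y.1 (.inr 0) + b * c * y.1 (.inr 1) + b * c * y.2 (.inr 1),
      c * y.1 (.inr 0) + c * y.2 (.inr 0) + y.2 (.inr 1)]
    ![a * y.1 (.inr 1) + a * y.2 (.inr 1), a * y.1 (.inr 0) + a * y.2 (.inr 0)]
  map_add' x y := by
    refine blkmm_extJ ?_ ?_ ?_ ?_ <;> simp <;> ring
  map_smul' r x := by
    refine blkmm_extJ ?_ ?_ ?_ ?_ <;> simp <;> ring

lemma blkmm_P'P [CharP F 2] {a c : F} (b : F) (hac : a * c = 1) (x : blkmm_J → F) :
    blkmm_P' a b c (blkmm_P b c x) = x := by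
  have h2 : (2 : F) = 0 := CharTwo.two_eq_zero
  set x1 := x (.inl 0) with hx1
  set x2 := x (.inl 1) with hx2
  set y1 := x (.inr 0) with hy1
  set y2 := x (.inr 1) with hy2
  refine blkmm_extJ ?_ ?_ ?_ ?_ <;>
    simp only [blkmm_P, blkmm_P', LinearMap.coe_mk, AddHom.coe_mk, Sum.elim_inl, Sum.elim_inr,
      Matrix.cons_val_zero, Matrix.cons_val_one, blkmm_vec_zero, blkmm_vec_one, ← hx1, ← hx2, ← hy1, ← hy2]
  · linear_combination (b * c * x2 + b * c^2 * y1 + b * c^3 * y2) * h2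
  · linear_combination (b * c^3 * y1 + c * x1 + c^2 * y2) * h2
  · linear_combination (a * x2 + c * y2) * h2 + (2 * c * y2 + y1) * hac
  · linear_combination (a * x1 + b * c * y1) * h2 + (2 * b * c * y1 + y2) * hac

lemma blkmm_PP' [CharP F 2] {a c : F} (b : F) (hac : a * c = 1)
    (y : (blkmm_IA → F) × (blkmm_IA → F)) :
    blkmm_P b c (blkmm_P' a b c y) = y := by
  have h2 : (2 : F) = 0 := CharTwo.two_eq_zero
  obtain ⟨u, w⟩ := y
  set z1 := u (.inr 0) with hz1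
  set z2 := u (.inr 1) with hz2
  set w1 := w (.inr 0) with hw1
  set w2 := w (.inr 1) with hw2
  refine Prod.ext (blkmm_ext ?_ ?_) (blkmm_ext ?_ ?_) <;>
    simp only [blkmm_P, blkmm_P', LinearMap.coe_mk, AddHom.coe_mk, Sum.elim_inl, Sum.elim_inr,
      Matrix.cons_val_zero, Matrix.cons_val_one, blkmm_vec_zero, blkmm_vec_one, ← hz1, ← hz2, ← hw1, ← hw2]
  · linear_combination (b * c * w2 + b * c * z2) * h2 + (b * c * w2 + b * c * z2) * hac
  · linear_combination (c * w1 + c * z1 + w2) * h2 + (c * w1 + c * z1 + w2 + z2) * hac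
  · linear_combination (b * c * w2 + b * c * z2 + z1) * h2 + (b * c * w2 + b * c * z2 + w1 + z1) * hac
  · linear_combination (c * w1 + c * z1) * h2 + (c * w1 + c * z1) * hac

lemma blkmm_quadA (a b : F) (u : blkmm_IA → F) :
    Cfsg.quadFormMinus 0 F a b u = u (.inr 0) ^ 2 + a * u (.inr 0) * u (.inr 1) + b * u (.inr 1) ^ 2 := by
  simp [Cfsg.quadFormMinus]

lemma blkmm_quadP (x : blkmm_J → F) :
    Cfsg.quadFormPlus 2 F x = x (.inl 0) * x (.inr 0) + x (.inl 1) * x (.inr 1) := by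
  simp [Cfsg.quadFormPlus, Fin.sum_univ_two]

lemma blkmm_isoP [CharP F 2] {a c : F} (b : F) (hac : a * c = 1) (x : blkmm_J → F) :
    Cfsg.quadFormMinus 0 F a b (blkmm_P b c x).1 + Cfsg.quadFormMinus 0 F a b (blkmm_P b c x).2
      = Cfsg.quadFormPlus 2 F x := by
  have h2 : (2 : F) = 0 := CharTwo.two_eq_zero
  rw [blkmm_quadA, blkmm_quadA, blkmm_quadP]
  set x1 := x (.inl 0) with hx1
  set x2 := x (.inl 1) with hx2
  set y1 := x (.inr 0) with hy1
  set y2 := x (.inr 1) with hy2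
  simp only [blkmm_P, LinearMap.coe_mk, AddHom.coe_mk, blkmm_vec_zero, blkmm_vec_one,
    ← hx1, ← hx2, ← hy1, ← hy2]
  linear_combination (a * x1 * x2 + 2 * b * c * x2 * y1 + 2 * b * c^2 * x1 * y1 + 2 * b * c^2 * x2 * y2
    + b * c^2 * y1^2 + 3 * b * c^3 * y1 * y2 + b * c^4 * y2^2 + b * x2^2 + b^2 * c^4 * y1^2
    + 2 * c * x1 * y2 + c^2 * y2^2 + x1^2) * h2
    + (2 * b * c * x2 * y1 + b * c^2 * y1^2 + 2 * b * c^3 * y1 * y2 + 2 * c * x1 * y2 + c^2 * y2^2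
      + x1 * y1 + x2 * y2) * hac

lemma blkmm_isoP' [CharP F 2] {a c : F} (b : F) (hac : a * c = 1)
    (y : (blkmm_IA → F) × (blkmm_IA → F)) :
    Cfsg.quadFormPlus 2 F (blkmm_P' a b c y)
      = Cfsg.quadFormMinus 0 F a b y.1 + Cfsg.quadFormMinus 0 F a b y.2 := by
  rw [← blkmm_isoP b hac (blkmm_P' a b c y), blkmm_PP' b hac]

/-- the conjugated block-diagonal matrix -/
noncomputable def blkmm_T (a b c : F)
    (A : Matrix blkmm_IA blkmm_IA F × Matrix blkmm_IA blkmm_IA F) : Matrix blkmm_J blkmm_J F :=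
  LinearMap.toMatrix' ((blkmm_P' a b c) ∘ₗ ((Matrix.toLin' A.1).prodMap (Matrix.toLin' A.2))
    ∘ₗ (blkmm_P b c))

lemma blkmm_T_mulVec (a b c : F)
    (A : Matrix blkmm_IA blkmm_IA F × Matrix blkmm_IA blkmm_IA F) (x : blkmm_J → F) :
    blkmm_T a b c A *ᵥ x
      = blkmm_P' a b c (A.1 *ᵥ (blkmm_P b c x).1, A.2 *ᵥ (blkmm_P b c x).2) := by
  rw [blkmm_T, ← Matrix.toLin'_apply, Matrix.toLin'_toMatrix']
  simp [LinearMap.prodMap_apply, Matrix.toLin'_apply]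

lemma blkmm_mat_ext {A B : Matrix blkmm_J blkmm_J F} (h : ∀ x, A *ᵥ x = B *ᵥ x) : A = B := by
  apply Matrix.toLin'.injective
  apply LinearMap.ext
  intro x
  rw [Matrix.toLin'_apply, Matrix.toLin'_apply, h]

lemma blkmm_mat_extA {A B : Matrix blkmm_IA blkmm_IA F} (h : ∀ x, A *ᵥ x = B *ᵥ x) : A = B := by
  apply Matrix.toLin'.injective
  apply LinearMap.ext
  intro x
  rw [Matrix.toLin'_apply, Matrix.toLin'_apply, h]

/-- `blkmm_T` as a monoid hom -/
noncomputable def blkmm_Theta [CharP F 2] (a b c : F) (hac : a * c = 1) :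
    Matrix blkmm_IA blkmm_IA F × Matrix blkmm_IA blkmm_IA F →* Matrix blkmm_J blkmm_J F where
  toFun := blkmm_T a b c
  map_one' := by
    apply blkmm_mat_ext
    intro x
    rw [blkmm_T_mulVec]
    simp [blkmm_P'P b hac]
  map_mul' A B := by
    apply blkmm_mat_ext
    intro x
    rw [blkmm_T_mulVec, ← Matrix.mulVec_mulVec, blkmm_T_mulVec, blkmm_T_mulVec, blkmm_PP' b hac]
    simp [Matrix.mulVec_mulVec]

lemma blkmm_Theta_inj [CharP F 2] (a b c : F) (hac : a * c = 1) :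
    Function.Injective (blkmm_Theta a b c hac) := by
  intro A B h
  have key : ∀ u w : blkmm_IA → F, (A.1 *ᵥ u, A.2 *ᵥ w) = (B.1 *ᵥ u, B.2 *ᵥ w) := by
    intro u w
    have h1 := congrArg (fun M => M *ᵥ (blkmm_P' a b c (u, w))) h
    simp only [blkmm_Theta, MonoidHom.coe_mk, OneHom.coe_mk] at h1
    rw [blkmm_T_mulVec, blkmm_T_mulVec, blkmm_PP' b hac] at h1
    have h3 := congrArg (blkmm_P b c) h1
    rwa [blkmm_PP' b hac, blkmm_PP' b hac] at h3
  refine Prod.ext (blkmm_mat_extA fun u => ?_) (blkmm_mat_extA fun w => ?_)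
  · exact (Prod.ext_iff.mp (key u 0)).1
  · exact (Prod.ext_iff.mp (key 0 w)).2

/-- the hom on the level of `GL` -/
noncomputable def blkmm_Psi [CharP F 2] (a b c : F) (hac : a * c = 1) :
    GL blkmm_IA F × GL blkmm_IA F →* GL blkmm_J F :=
  (Units.map (blkmm_Theta a b c hac)).comp (MulEquiv.prodUnits.symm.toMonoidHom)

lemma blkmm_Psi_val [CharP F 2] (a b c : F) (hac : a * c = 1) (g : GL blkmm_IA F × GL blkmm_IA F) :
    ((blkmm_Psi a b c hac g : GL blkmm_J F) : Matrix blkmm_J blkmm_J F)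
      = blkmm_T a b c ((g.1 : Matrix blkmm_IA blkmm_IA F), (g.2 : Matrix blkmm_IA blkmm_IA F)) := rfl

lemma blkmm_Psi_inj [CharP F 2] (a b c : F) (hac : a * c = 1) :
    Function.Injective (blkmm_Psi a b c hac) := by
  intro g h e
  have e1 := congrArg (fun x : GL blkmm_J F => (x : Matrix blkmm_J blkmm_J F)) e
  simp only [blkmm_Psi_val] at e1
  have e2 := blkmm_Theta_inj a b c hac e1
  exact Prod.ext (Units.ext (Prod.ext_iff.mp e2).1) (Units.ext (Prod.ext_iff.mp e2).2)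

end

/-- ISO8-BLKMM: `A ⊥ A ≅ H ⊥ H` in characteristic 2, where `A` is the binary form
`z₁² + a z₁ z₂ + b z₂²` -/
theorem blk_mm {F : Type*} [Field F] [CharP F 2] (a b : F) (ha : a ≠ 0) (N₁ N₂ : ℕ)
    (h₁ : HasMinus F a b 0 N₁) (h₂ : HasMinus F a b 0 N₂) :
    HasPlus F 2 (Nat.lcm N₁ N₂) := by
  classical
  obtain ⟨g1, hg1⟩ := h₁
  obtain ⟨g2, hg2⟩ := h₂
  have hac : a * a⁻¹ = 1 := mul_inv_cancel₀ ha
  set h : GL blkmm_J F := blkmm_Psi a b a⁻¹ hac ((g1 : GL blkmm_IA F), (g2 : GL blkmm_IA F)) with hh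
  have hmem : h ∈ Cfsg.isometryGroup F (Cfsg.quadFormPlus 2 F) := by
    intro u v
    show Cfsg.quadFormPlus 2 F ((h : Matrix blkmm_J blkmm_J F) *ᵥ u) = Cfsg.quadFormPlus 2 F u
    rw [hh, blkmm_Psi_val, blkmm_T_mulVec, blkmm_isoP' b hac]
    have e1 := g1.2 (blkmm_P b a⁻¹ u).1 (blkmm_P b a⁻¹ u).1
    have e2 := g2.2 (blkmm_P b a⁻¹ u).2 (blkmm_P b a⁻¹ u).2
    simp only [Units.coeHom_apply] at e1 e2
    rw [e1, e2, blkmm_isoP b hac]
  refine ⟨⟨h, hmem⟩, ?_⟩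
  rw [Subgroup.orderOf_mk, hh, orderOf_injective _ (blkmm_Psi_inj a b a⁻¹ hac), Prod.orderOf,
    Subgroup.orderOf_coe, Subgroup.orderOf_coe, hg1, hg2]

end Cfsg.Agent.Lib.Helper94.Iso8
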