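import Mathlib
import Cfsg.Agent.Lib.Helper20.SuClosedDefs

/-! SU-G4 (leaf of helper20's S5172 hive): the full Heisenberg group at the first index. -/

set_option autoImplicit false

namespace Cfsg.Agent.Lib.Helper20.SuF

open Matrix Subgroup Cfsg.Agent.Lib.Helper20.PslF

variable {n : ℕ} {K : Type*} [Field K] [Fintype K] {F : Inv K} {T : Subgroup (SLn n K)}
  (hn : 4 ≤ n)

/-- SU-G4 -/
theorem Q0_mem (h : SC F T)
    (hW : ∀ w : Fin n → K, (∀ x, w x ≠ 0 → y0 hn < x ∧ x < Fin.rev (y0 hn)) → WT F hn T w)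
    (hZ : ∀ γ : K, γ + F.sg γ = 0 → SgT F (eb (y0 hn)) 0 γ ∈ T)
    (w : Fin n → K) (c : K) (hw : ∀ x, w x ≠ 0 → y0 hn < x ∧ x < Fin.rev (y0 hn))
    (hu : c + F.sg c + hf F w w = 0) : SgT F (eb (y0 hn)) w c ∈ T := by
  obtain ⟨h0, c1, hc1⟩ := hW w hw
  have h1 := hf_y0 F hn
  have h2 : hf F w (eb (y0 hn)) = 0 := hf_of_last hn h0
  have h2' : hf F (0 : Fin n → K) (eb (y0 hn)) = 0 := hf_zero_left F _
  have hu1 : c1 + F.sg c1 + hf F w w = 0 := SgT_unitary_eq F h1 h2 (h.leS hc1)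
  have hγ : (c - c1) + F.sg (c - c1) = 0 := by
    rw [map_sub]
    have : c - c1 + (F.sg c - F.sg c1) = (c + F.sg c + hf F w w) - (c1 + F.sg c1 + hf F w w) := by
      ring
    rw [this, hu, hu1, sub_zero]
  have hz := hZ (c - c1) hγ
  have hmul := SgT_mul F c1 (c - c1) h1 h2 h2'
  rw [add_zero, hf_zero_left, sub_zero] at hmul
  have e : c1 + (c - c1) = c := by ring
  rw [e] at hmul
  rw [← hmul]
  exact mul_mem hc1 hz

end Cfsg.Agent.Lib.Helper20.SuF
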