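import Cfsg.Agent.Lib.Helper5.SlK1Defs
import Cfsg.Agent.Lib.Helper5.SLGen

set_option autoImplicit false

/-! # Sl hive (S2332, helper76), sub-hive K1 (helper5), leaf K1-NCL. -/

namespace Cfsg.Agent.Lib.Helper76.Sl

open Matrix Cfsg

variable {F : Type*} [Field F] [Fintype F] [DecidableEq F]

open scoped commutatorElement in
theorem k1ncl_comm_right {G : Type*} [Group G] (N : Subgroup G) [hN : N.Normal] (g x : G)
    (hx : x ∈ N) : ⁅g, x⁆ ∈ N := by
  rw [commutatorElement_def]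
  exact N.mul_mem (hN.conj_mem x hx g) (N.inv_mem hx)

open scoped commutatorElement in
theorem k1ncl_comm_left {G : Type*} [Group G] (N : Subgroup G) [hN : N.Normal] (g x : G)
    (hx : x ∈ N) : ⁅x, g⁆ ∈ N := by
  rw [commutatorElement_def, mul_assoc, mul_assoc, ← mul_assoc g]
  exact N.mul_mem hx (hN.conj_mem _ (N.inv_mem hx) g)

/-- K1-NCL: the normal closure of the root element `tv` is `SL_{m+2}(F)` (`m + 2 ≥ 3`). -/
theorem k1_normal_closure (m : ℕ) (hm : 1 ≤ m) (N : Subgroup (Gm F m)) [N.Normal]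
    (h : tv F m ∈ N) : N = ⊤ := by
  have h0l : (0 : Fin (m + 2)) ≠ Fin.last (m + 1) := by rw [Ne, Fin.ext_iff]; simp
  have h1ne0 : (1 : Fin (m + 2)) ≠ 0 := by rw [Ne, Fin.ext_iff]; simp
  have h1nel : (1 : Fin (m + 2)) ≠ Fin.last (m + 1) := by
    rw [Ne, Fin.ext_iff]; simp; omega
  have htv : Matrix.SpecialLinearGroup.transvection h0l (1 : F) ∈ N := h
  -- Step 1
  have s1 : ∀ (i : Fin (m + 2)) (hi0 : i ≠ 0) (hil : i ≠ Fin.last (m + 1)) (c : F),
      Matrix.SpecialLinearGroup.transvection hil c ∈ N := by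
    intro i hi0 hil c
    rw [← Cfsg.Agent.Lib.Helper5.commutator_transvection hil hi0 h0l c]
    exact k1ncl_comm_right N _ _ htv
  -- Step 2
  have s2 : ∀ (i : Fin (m + 2)) (hil : i ≠ Fin.last (m + 1)) (c : F),
      Matrix.SpecialLinearGroup.transvection hil c ∈ N := by
    intro i hil c
    by_cases hi0 : i = 0
    · subst hi0
      rw [← Cfsg.Agent.Lib.Helper5.commutator_transvection hil h1ne0.symm h1nel c]
      exact k1ncl_comm_right N _ _ (s1 1 h1ne0 h1nel 1)
    · exact s1 i hi0 hil c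
  -- Step 3
  have s3 : ∀ (i j : Fin (m + 2)) (hij : i ≠ j) (hil : i ≠ Fin.last (m + 1))
      (hjl : j ≠ Fin.last (m + 1)) (c : F),
      Matrix.SpecialLinearGroup.transvection hij c ∈ N := by
    intro i j hij hil hjl c
    rw [← Cfsg.Agent.Lib.Helper5.commutator_transvection hij hil hjl.symm c]
    exact k1ncl_comm_left N _ _ (s2 i hil c)
  -- Step 4
  have s4 : ∀ (j : Fin (m + 2)) (hjl : Fin.last (m + 1) ≠ j) (c : F),
      Matrix.SpecialLinearGroup.transvection hjl c ∈ N := by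
    intro j hjl c
    -- pick k ∉ {last, j}
    obtain ⟨k, hkl, hkj⟩ : ∃ k : Fin (m + 2), k ≠ Fin.last (m + 1) ∧ k ≠ j := by
      by_cases hj0 : j = 0
      · exact ⟨1, h1nel, by rw [hj0]; exact h1ne0⟩
      · exact ⟨0, h0l, fun h => hj0 h.symm⟩
    rw [← Cfsg.Agent.Lib.Helper5.commutator_transvection hjl hkl.symm hkj c]
    exact k1ncl_comm_right N _ _ (s3 k j hkj hkl hjl.symm 1)
  apply Cfsg.Agent.Lib.Helper5.eq_top_of_transvection_mem
  intro i j hij c
  by_cases hjl : j = Fin.last (m + 1)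
  · subst hjl
    exact s2 i hij c
  · by_cases hil : i = Fin.last (m + 1)
    · subst hil
      exact s4 j hij c
    · exact s3 i j hij hil hjl c

end Cfsg.Agent.Lib.Helper76.Sl
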