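import Mathlib
import Cfsg.Prelude.Def_Classical
import Cfsg.Agent.Lib.Helper15.DegCoprime
import Cfsg.Agent.Lib.Helper79.Basic
import Cfsg.Agent.Lib.Helper74.Osima5
import Cfsg.Agent.Lib.Helper3.FTBRep

/-!
# Descent of a Steinberg-type character from `O(Q)` to `PΩ(Q)` (helper42, for the S2547 hive)

If the isometry group `O = O(Q)` is generated by involutions, `χ ∈ Irr(O)` has odd degree
`d = p^e = |O|_p` and is trivial on `Z(Ω)`, then `PΩ(Q)` has an irreducible character of degree `d`,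
equal to the order of its Sylow `p`-subgroups and vanishing on their non-identity elements.
-/

set_option autoImplicit false
set_option linter.style.haveILetI false

namespace Cfsg.Agent.Lib.Helper42.OmDesc

open Cfsg

/-- in a group generated by involutions the commutator subgroup has `2`-power index -/
theorem index_commutator_of_invol {G : Type*} [Group G] [Finite G]
    (h : Subgroup.closure {g : G | g * g = 1} = ⊤) : ∃ n : ℕ, (commutator G).index = 2 ^ n := by
  have hexp : ∀ x : Abelianization G, x * x = 1 := by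
    intro x
    obtain ⟨g, rfl⟩ := QuotientGroup.mk_surjective x
    have hg : g ∈ Subgroup.closure {g : G | g * g = 1} := by rw [h]; trivial
    show Abelianization.of g * Abelianization.of g = 1
    induction hg using Subgroup.closure_induction with
    | mem y hy =>
      rw [← map_mul, show y * y = 1 from hy, map_one]
    | one => rw [map_one, mul_one]
    | mul a b _ _ ha hb =>
      rw [map_mul, mul_mul_mul_comm, ha, hb, mul_one]
    | inv a _ ha =>
      rw [map_inv, ← mul_inv, ha, inv_one]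
  have hp : IsPGroup 2 (Abelianization G) := fun x => ⟨1, by rw [pow_one, pow_two]; exact hexp x⟩
  obtain ⟨n, hn⟩ := IsPGroup.iff_card.mp hp
  refine ⟨n, ?_⟩
  rw [Subgroup.index_eq_card]
  exact hn

/-- **Descent to `PΩ`.** -/
theorem pomega_steinberg_descent {ι : Type} [Fintype ι] [DecidableEq ι] {F : Type*} [Field F]
    [Fintype F] (p : ℕ) [Fact p.Prime] [CharP F p] (Q : (ι → F) → F)
    (hinv : Subgroup.closure {g : ↥(Cfsg.isometryGroup F Q) | g * g = 1} = ⊤)
    (χ : ↥(Cfsg.isometryGroup F Q) → ℂ) (hχ : Cfsg.IsIrrCharacter ↥(Cfsg.isometryGroup F Q) χ)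
    (d k e : ℕ) (hd : Odd d) (hde : d = p ^ e) (hχ1 : χ 1 = (d : ℂ))
    (hcard : Nat.card ↥(Cfsg.isometryGroup F Q) = d * k) (hpk : ¬ p ∣ k)
    (hZ : ∀ z : ↥(Cfsg.Omega F Q), z ∈ Subgroup.center ↥(Cfsg.Omega F Q) →
      χ (z : ↥(Cfsg.isometryGroup F Q)) = χ 1) :
    ∃ ψ : Cfsg.POmega F Q → ℂ, Cfsg.IsIrrCharacter (Cfsg.POmega F Q) ψ ∧
      ∀ P : Sylow p (Cfsg.POmega F Q), ψ 1 = Nat.card P ∧
        ∀ x : Cfsg.POmega F Q, x ∈ P → x ≠ 1 → ψ x = 0 := by
  classical
  have hp : p.Prime := Fact.out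
  haveI : Fintype ↥(Cfsg.isometryGroup F Q) := Fintype.ofFinite _
  haveI : Fintype ↥(Cfsg.Omega F Q) := Fintype.ofFinite _
  haveI : Fintype (Cfsg.POmega F Q) := Fintype.ofFinite _
  obtain ⟨n, hn⟩ := index_commutator_of_invol hinv
  have hdeg : charDegree χ = d := by
    unfold charDegree
    rw [hχ1]
    simp
  have hcop : (charDegree ((⟨χ, hχ⟩ : IrrCharacter ↥(Cfsg.isometryGroup F Q)) :
      ↥(Cfsg.isometryGroup F Q) → ℂ)).Coprime (Cfsg.Omega F Q).index := by
    show (charDegree χ).Coprime (commutator ↥(Cfsg.isometryGroup F Q)).index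
    rw [hdeg, hn]
    exact Nat.Coprime.pow_right n (Nat.coprime_two_right.mpr hd)
  have hθ : IsIrrCharacter ↥(Cfsg.Omega F Q)
      (fun x : ↥(Cfsg.Omega F Q) => χ (x : ↥(Cfsg.isometryGroup F Q))) :=
    Cfsg.Agent.Lib.Helper15.irr_restrict_of_coprime_degree (Cfsg.Omega F Q) ⟨χ, hχ⟩ hcop
  obtain ⟨ψ, hψ, hval⟩ := Cfsg.Agent.Lib.Helper79.isIrrCharacter_deflate hθ
    (Subgroup.center ↥(Cfsg.Omega F Q)) (fun z hz => by
      show χ (z : ↥(Cfsg.isometryGroup F Q)) = χ ((1 : ↥(Cfsg.Omega F Q)) : ↥(Cfsg.isometryGroup F Q))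
      rw [Subgroup.coe_one]
      exact hZ z hz)
  have hψ1 : ψ 1 = (d : ℂ) := by
    have := hval 1
    rw [QuotientGroup.mk_one] at this
    rw [this, Subgroup.coe_one, hχ1]
  obtain ⟨k', hk'⟩ := Cfsg.Agent.Lib.Helper3.irr_degree_dvd_card hψ d hψ1
  have hd0 : 0 < d := hd.pos
  have hdvd : Nat.card (Cfsg.POmega F Q) ∣ Nat.card ↥(Cfsg.isometryGroup F Q) :=
    (Subgroup.card_quotient_dvd_card _).trans (Subgroup.card_subgroup_dvd_card _)
  have hk'k : k' ∣ k := by
    rw [hk', hcard] at hdvd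
    exact (Nat.mul_dvd_mul_iff_left hd0).mp hdvd
  have hpk' : ¬ p ∣ k' := fun h => hpk (h.trans hk'k)
  have hcardP : ∀ P : Sylow p (Cfsg.POmega F Q), Nat.card P = d := by
    intro P
    rw [Sylow.card_eq_multiplicity, hk', hde]
    have hk0 : k' ≠ 0 := by
      rintro rfl
      rw [mul_zero] at hk'
      exact Nat.card_pos.ne' hk'
    have h1' : p ^ e ≠ 0 := pow_ne_zero _ hp.ne_zero
    rw [Nat.factorization_mul h1' hk0, Finsupp.add_apply,
      Nat.factorization_eq_zero_of_not_dvd hpk', add_zero,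
      hp.factorization_pow, Finsupp.single_eq_same]
  refine ⟨ψ, hψ, fun P => ⟨?_, ?_⟩⟩
  · rw [hψ1, hcardP P]
  · intro x hx hx1
    have hdiv : p ∣ orderOf x := by
      obtain ⟨j, hj⟩ := (IsPGroup.iff_orderOf.mp P.isPGroup') ⟨x, hx⟩
      rw [Subgroup.orderOf_mk] at hj
      rw [hj]
      have hj0 : j ≠ 0 := by
        rintro rfl
        rw [pow_zero, orderOf_eq_one_iff] at hj
        exact hx1 hj
      exact dvd_pow_self p hj0
    exact Cfsg.Agent.Lib.Helper74.irr_vanish_of_defect_zero hp ⟨ψ, hψ⟩ d k' hψ1 hk' hpk' x hdiv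

end Cfsg.Agent.Lib.Helper42.OmDesc
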