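import Cfsg.Agent.Lib.Helper4.RuDefs

/-!
# Ru hive (helper4, S1628): leaf `RU-CH` `ruShift_mem` (self-contained: own copy of `comb_mem` as `ch_comb_mem`)
-/

set_option autoImplicit false
set_option maxRecDepth 100000

namespace Cfsg.Agent.Lib.Helper4.Ru

open Cfsg.Spor

theorem ch_sm_eq_zsmul (c : ℤ) (v : RuVec) : sm c v = c • v := by
  funext p
  apply Zsqrtd.ext
  · simp [sm]
  · simp [sm]

theorem ch_sumTo_mem (S : AddSubgroup RuVec) (n : ℕ) (f : ℕ → RuVec) (h : ∀ k < n, f k ∈ S) :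
    sumTo n f ∈ S := by
  induction n with
  | zero => exact S.zero_mem
  | succ m ih =>
    have h1 : sumTo (m + 1) f = sumTo m f + f m := rfl
    rw [h1]
    exact S.add_mem (ih (fun k hk => h k (by omega))) (h m (by omega))

theorem ch_comb_mem (C : ℕ) : comb C ∈ Lspan := by
  unfold comb
  apply ch_sumTo_mem
  intro k hk
  rw [ch_sm_eq_zsmul]
  exact Lspan.zsmul_mem (AddSubgroup.subset_closure ⟨k, hk, rfl⟩) _

theorem ch_cert : ∀ k ∈ List.range 56, ruShift (Bv k) = comb (certH.getD k 0) := by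
  decide +kernel

/-- RU-CH -/
theorem ruShift_mem : ∀ k < 56, ruShift (Bv k) ∈ Lspan := by
  intro k hk
  rw [ch_cert k (List.mem_range.mpr hk)]
  exact ch_comb_mem _

end Cfsg.Agent.Lib.Helper4.Ru
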