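import Cfsg.Agent.Lib.Helper46.AhDefs

/-!
# Ah hive (helper46, S2538): leaf `AH-ODDP` `exists_odd_prime_dvd`

A primitive permutation group on at least three points is not a `2`-group: a central involution would generate a
normal subgroup of order `2`, transitive because the action is (quasi)primitive.
-/

set_option autoImplicit false
set_option linter.style.haveILetI false

namespace Cfsg.Agent.Lib.Helper46.Ah

open Cfsg Equiv
open Cfsg.Agent.Lib.Helper15.Hs (resSub mem_resSub)

section leaves

variable {α : Type*} [Fintype α] [DecidableEq α] {π : Set ℕ} (M : Subgroup (Perm α)) (B : Set α)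

theorem exists_odd_prime_dvd (hprim : MulAction.IsPreprimitive M α) (h3 : 3 ≤ Fintype.card α) :
    ∃ r : ℕ, r.Prime ∧ r ≠ 2 ∧ r ∣ Nat.card M := by
  by_contra hno
  push Not at hno
  -- `M` is a `2`-group
  have hP : IsPGroup 2 M := by
    have hk := Nat.eq_prime_pow_of_unique_prime_dvd (n := Nat.card M) (p := 2) Nat.card_pos.ne'
      (fun {d} hd hdvd => by
        by_contra h
        exact hno d hd h hdvd)
    exact IsPGroup.of_card hk
  -- two distinct points
  haveI : Nontrivial α := Fintype.one_lt_card_iff_nontrivial.mp (by omega)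
  obtain ⟨a, b, hab⟩ := exists_pair_ne α
  -- `M` is nontrivial
  haveI : MulAction.IsPretransitive M α := hprim.toIsPretransitive
  haveI : Nontrivial M := by
    obtain ⟨g, hg⟩ := MulAction.exists_smul_eq M a b
    refine ⟨⟨g, 1, ?_⟩⟩
    rintro rfl
    exact hab (by simpa using hg)
  -- a central element of order 2
  haveI : Nontrivial (Subgroup.center M) := hP.center_nontrivial
  have hPc : IsPGroup 2 (Subgroup.center M) := hP.to_subgroup _
  haveI : Fact (Nat.Prime 2) := ⟨Nat.prime_two⟩
  have h2 : 2 ∣ Nat.card (Subgroup.center M) := by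
    obtain ⟨n, hn⟩ := IsPGroup.iff_card.mp hPc
    have hn0 : n ≠ 0 := by
      rintro rfl
      rw [pow_zero] at hn
      have : Subsingleton (Subgroup.center M) := (Nat.card_eq_one_iff_unique.mp hn).1
      exact not_subsingleton _ this
    rw [hn]
    exact dvd_pow_self 2 hn0
  obtain ⟨w, hw⟩ := exists_prime_orderOf_dvd_card' 2 h2
  have hwM : orderOf (w : M) = 2 := by rw [Subgroup.orderOf_coe, hw]
  -- the normal subgroup generated by `w`
  let N : Subgroup M := Subgroup.zpowers (w : M)
  haveI hNn : N.Normal := by
    refine ⟨fun n hn g => ?_⟩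
    obtain ⟨k, rfl⟩ := Subgroup.mem_zpowers_iff.mp hn
    have hcm : Commute g (w : M) := Subgroup.mem_center_iff.mp w.2 g
    have hc : g * (w : M) ^ k = (w : M) ^ k * g := (hcm.zpow_right k).eq
    rw [hc, mul_inv_cancel_right]
    exact Subgroup.zpow_mem_zpowers _ k
  have hNcard : Nat.card N = 2 := by rw [Nat.card_zpowers, hwM]
  -- `N` does not fix every point
  have hfix : MulAction.fixedPoints N α ≠ Set.univ := by
    intro h
    have hw1 : (w : M) = 1 := by
      apply Subtype.ext
      apply Equiv.Perm.ext
      intro x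
      have hx : x ∈ MulAction.fixedPoints N α := h ▸ Set.mem_univ x
      exact hx ⟨(w : M), Subgroup.mem_zpowers _⟩
    rw [hw1, orderOf_one] at hwM
    omega
  haveI : MulAction.IsPretransitive N α :=
    MulAction.IsQuasiPreprimitive.isPretransitive_of_normal (G := M) (X := α) hfix
  have h5 : (MulAction.stabilizer N a).index = Nat.card α :=
    MulAction.index_stabilizer_of_transitive N a
  have h6 : Nat.card α ∣ 2 := by
    rw [← h5, ← hNcard]
    exact Subgroup.index_dvd_card _
  have h7 : Nat.card α ≤ 2 := Nat.le_of_dvd (by norm_num) h6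
  rw [Nat.card_eq_fintype_card] at h7
  omega

end leaves

end Cfsg.Agent.Lib.Helper46.Ah
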