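import Mathlib

/-!
# Primary cyclic decompositions of an endomorphism and conjugacy
-/

set_option autoImplicit false

namespace Cfsg.Agent.Lib.Helper42.Cls

open Polynomial Module DirectSum

universe u v

variable {F : Type u} [Field F]
variable {V : Type v} [AddCommGroup V] [Module F V]

/-- an `F[X]`-linear equivalence of the associated modules intertwines the endomorphisms. -/
theorem exists_intertwine (f f' : V →ₗ[F] V) (φ : AEval' f ≃ₗ[F[X]] AEval' f') :
    ∃ ψ : V ≃ₗ[F] V, ∀ v, ψ (f v) = f' (ψ v) := by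
  refine ⟨(AEval'.of f).trans ((φ.restrictScalars F).trans (AEval'.of f').symm), fun v => ?_⟩
  simp only [LinearEquiv.trans_apply, LinearEquiv.restrictScalars_apply]
  rw [← AEval'.X_smul_of, map_smul, AEval'.of_symm_X_smul]

/-- a decomposition of the `F[X]`-module of an endomorphism into primary cyclic modules. -/
structure Decomp (f : V →ₗ[F] V) where
  ι : Type u
  fin : Fintype ι
  p : ι → F[X]
  irr : ∀ i, Irreducible (p i)
  e : ι → ℕ
  equiv : AEval' f ≃ₗ[F[X]] ⨁ i, F[X] ⧸ Submodule.span F[X] {p i ^ e i}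

attribute [instance] Decomp.fin

theorem nonempty_decomp [FiniteDimensional F V] (f : V →ₗ[F] V) : Nonempty (Decomp f) := by
  have htors : Module.IsTorsion F[X] (AEval' f) :=
    Module.AEval.isTorsion_of_finiteDimensional F V f
  obtain ⟨ι, hfin, p, hp, e, ⟨φ⟩⟩ := Module.equiv_directSum_of_isTorsion htors
  exact ⟨⟨ι, hfin, p, hp, e, φ⟩⟩

namespace Decomp

variable {f : V →ₗ[F] V} (D : Decomp f)

/-- the dimension formula. -/
theorem sum_eq_finrank [FiniteDimensional F V] :
    ∑ i, D.e i * (D.p i).natDegree = finrank F V := by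
  have h1 : finrank F V = finrank F (AEval' f) := (AEval'.of f).finrank_eq
  have h2 : finrank F (AEval' f) =
      finrank F (⨁ i, F[X] ⧸ Submodule.span F[X] {D.p i ^ D.e i}) :=
    (D.equiv.restrictScalars F).finrank_eq
  have hne : ∀ i, D.p i ^ D.e i ≠ 0 := fun i => pow_ne_zero _ (D.irr i).ne_zero
  have hfin : ∀ i, Module.Finite F (F[X] ⧸ Submodule.span F[X] {D.p i ^ D.e i}) := by
    intro i
    exact (AdjoinRoot.powerBasis (hne i)).finite
  rw [h1, h2, Module.finrank_directSum]
  apply Finset.sum_congr rfl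
  intro i _
  have := finrank_quotient_span_eq_natDegree (f := D.p i ^ D.e i)
  rw [natDegree_pow] at this
  exact this.symm

end Decomp

end Cfsg.Agent.Lib.Helper42.Cls
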