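import Cfsg.Agent.Lib.Helper42.ClsA

/-!
# The polynomial tuple attached to a primary cyclic decomposition
-/

set_option autoImplicit false

namespace Cfsg.Agent.Lib.Helper42.Cls

open Polynomial Module DirectSum

universe u v

variable {F : Type u} [Field F]
variable {V : Type v} [AddCommGroup V] [Module F V]

namespace Decomp

variable {f : V →ₗ[F] V} (D : Decomp f)

/-- the summands. -/
abbrev Q (i : D.ι) : Type u := F[X] ⧸ Submodule.span F[X] {D.p i ^ D.e i}

theorem natDegree_pos (i : D.ι) : 0 < (D.p i).natDegree := (D.irr i).natDegree_pos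

theorem e_le [FiniteDimensional F V] (i : D.ι) : D.e i ≤ finrank F V := by
  rw [← D.sum_eq_finrank]
  calc D.e i ≤ D.e i * (D.p i).natDegree := Nat.le_mul_of_pos_right _ (D.natDegree_pos i)
    _ ≤ ∑ j, D.e j * (D.p j).natDegree :=
      Finset.single_le_sum (f := fun j => D.e j * (D.p j).natDegree) (fun _ _ => Nat.zero_le _)
        (Finset.mem_univ i)

/-- if `f` is injective, no component with `e i ≠ 0` has `p i` divisible by `X`. -/
theorem coeff_zero_ne (hf : Function.Injective f) (i : D.ι) (hi : D.e i ≠ 0) :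
    (D.p i).coeff 0 ≠ 0 := by
  classical
  intro h0
  obtain ⟨r, hr⟩ : X ∣ D.p i := X_dvd_iff.mpr h0
  obtain ⟨k, hk⟩ : ∃ k, D.e i = k + 1 := ⟨D.e i - 1, by omega⟩
  set y : D.Q i := Submodule.Quotient.mk (r * D.p i ^ k) with hy
  set m : AEval' f := D.equiv.symm (DirectSum.lof F[X] D.ι (fun i => D.Q i) i y) with hm
  have hXy : (X : F[X]) • y = 0 := by
    rw [hy, ← Submodule.Quotient.mk_smul, Submodule.Quotient.mk_eq_zero,
      Submodule.mem_span_singleton]
    refine ⟨1, ?_⟩
    rw [hk, pow_succ, smul_eq_mul, smul_eq_mul, one_mul]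
    have h : X * (r * D.p i ^ k) = (X * r) * D.p i ^ k := by ring
    rw [h, ← hr]
    ring
  have hXm : (X : F[X]) • m = 0 := by
    rw [hm, ← map_smul, ← map_smul, hXy, map_zero, map_zero]
  have h1 : f ((AEval'.of f).symm m) = 0 := by
    rw [← AEval'.of_symm_X_smul, hXm, map_zero]
  have h2 : (AEval'.of f).symm m = 0 := hf (h1.trans (map_zero f).symm)
  have hm0 : m = 0 := by
    have := congrArg (AEval'.of f) h2
    simpa using this
  have hy0 : y = 0 := by
    have h3 : DirectSum.lof F[X] D.ι (fun i => D.Q i) i y = 0 := by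
      have := congrArg D.equiv hm0
      rw [hm, LinearEquiv.apply_symm_apply, map_zero] at this
      exact this
    have h4 : DirectSum.lof F[X] D.ι (fun i => D.Q i) i y =
        DirectSum.lof F[X] D.ι (fun i => D.Q i) i 0 := by rw [h3, map_zero]
    exact DirectSum.of_injective (β := fun i => D.Q i) i h4
  rw [hy, Submodule.Quotient.mk_eq_zero, Submodule.mem_span_singleton] at hy0
  obtain ⟨a, ha⟩ := hy0
  rw [hk, pow_succ, smul_eq_mul] at ha
  have hpk : D.p i ^ k ≠ 0 := pow_ne_zero _ (D.irr i).ne_zero
  have h5 : a * D.p i = r := by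
    apply mul_right_cancel₀ hpk
    rw [← ha]; ring
  have h6 : D.p i * (X * a) = D.p i * 1 := by
    conv_rhs => rw [mul_one, hr, ← h5]
    ring
  have h7 : X * a = 1 := mul_left_cancel₀ (D.irr i).ne_zero h6
  exact Polynomial.not_isUnit_X (isUnit_iff_exists_inv.mpr ⟨a, h7⟩)

open Classical in
/-- the monic associate of `p i`. -/
noncomputable def P (i : D.ι) : F[X] := normalize (D.p i)

theorem P_monic (i : D.ι) : (D.P i).Monic := by
  classical
  exact monic_normalize (D.irr i).ne_zero

theorem P_natDegree (i : D.ι) : (D.P i).natDegree = (D.p i).natDegree := by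
  classical
  exact natDegree_eq_of_degree_eq degree_normalize

theorem P_associated (i : D.ι) : Associated (D.P i) (D.p i) := by
  classical
  exact normalize_associated (D.p i)

theorem P_irreducible (i : D.ι) : Irreducible (D.P i) :=
  (D.P_associated i).irreducible_iff.mpr (D.irr i)

theorem P_normalize (i : D.ι) : (open Classical in normalize (D.P i)) = D.P i := by
  classical
  exact normalize_idem _

theorem P_coeff_zero_ne (hf : Function.Injective f) (i : D.ι) (hi : D.e i ≠ 0) :
    (D.P i).coeff 0 ≠ 0 := by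
  intro h0
  have h1 : X ∣ D.P i := X_dvd_iff.mpr h0
  have h2 : X ∣ D.p i := (D.P_associated i).dvd_iff_dvd_right.mp h1
  exact D.coeff_zero_ne hf i hi (X_dvd_iff.mp h2)

open Classical in
/-- the polynomial tuple of a decomposition. -/
noncomputable def bOf (n : ℕ) : Fin n → F[X] :=
  fun j => ∏ i ∈ Finset.univ.filter (fun i => D.e i = j.val + 1), D.P i

theorem bOf_monic (n : ℕ) (j : Fin n) : (D.bOf n j).Monic := by
  classical
  exact monic_prod_of_monic _ _ (fun i _ => D.P_monic i)

theorem bOf_coeff_zero_ne (hf : Function.Injective f) (n : ℕ) (j : Fin n) :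
    (D.bOf n j).coeff 0 ≠ 0 := by
  classical
  rw [bOf, coeff_zero_prod]
  apply Finset.prod_ne_zero_iff.mpr
  intro i hi
  have : D.e i = j.val + 1 := (Finset.mem_filter.mp hi).2
  exact D.P_coeff_zero_ne hf i (by omega)

theorem bOf_sum [FiniteDimensional F V] :
    ∑ j : Fin (finrank F V), (j.val + 1) * (D.bOf (finrank F V) j).natDegree = finrank F V := by
  classical
  set n := finrank F V with hn
  have h1 : ∀ j : Fin n, (j.val + 1) * (D.bOf n j).natDegree =
      ∑ i ∈ Finset.univ.filter (fun i => D.e i = j.val + 1), D.e i * (D.p i).natDegree := by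
    intro j
    rw [bOf, natDegree_prod_of_monic _ _ (fun i _ => D.P_monic i), Finset.mul_sum]
    apply Finset.sum_congr rfl
    intro i hi
    rw [(Finset.mem_filter.mp hi).2, D.P_natDegree]
  rw [Finset.sum_congr rfl (fun j _ => h1 j)]
  have hs := D.sum_eq_finrank
  rw [← hn] at hs
  refine Eq.trans ?_ hs
  -- swap the sums
  have h2 : ∀ i : D.ι, D.e i * (D.p i).natDegree =
      ∑ j : Fin n, if D.e i = j.val + 1 then D.e i * (D.p i).natDegree else 0 := by
    intro i
    rcases Nat.eq_zero_or_pos (D.e i) with h0 | hpos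
    · rw [h0, zero_mul]
      symm
      apply Finset.sum_eq_zero
      intro j _
      simp
    · have hle : D.e i ≤ n := D.e_le i
      rw [Finset.sum_eq_single (⟨D.e i - 1, by omega⟩ : Fin n)]
      · rw [if_pos]
        simp only
        omega
      · intro j _ hj
        rw [if_neg]
        intro h
        apply hj
        apply Fin.ext
        simp only
        omega
      · intro h
        exact absurd (Finset.mem_univ _) h
  rw [Finset.sum_congr rfl (fun i _ => h2 i), Finset.sum_comm]
  apply Finset.sum_congr rfl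
  intro j _
  rw [Finset.sum_filter]

end Decomp

end Cfsg.Agent.Lib.Helper42.Cls
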