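import Cfsg.Agent.Lib.Helper42.ClsB

/-!
# Equal polynomial tuples give conjugate endomorphisms
-/

set_option autoImplicit false

namespace Cfsg.Agent.Lib.Helper42.Cls

open Polynomial Module DirectSum

universe u v

/-- fiberwise equal cardinalities give an equivalence over the base. -/
theorem exists_equiv_of_fiber_card {A B C : Type*} [Fintype A] [Fintype B] (u : A → C) (v : B → C)
    (h : ∀ c, Nat.card {a // u a = c} = Nat.card {b // v b = c}) :
    ∃ σ : A ≃ B, ∀ a, v (σ a) = u a := by
  classical
  have hc : ∀ c, Nonempty ({a // u a = c} ≃ {b // v b = c}) := by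
    intro c
    have := h c
    rw [Nat.card_eq_fintype_card, Nat.card_eq_fintype_card] at this
    exact Fintype.card_eq.mp this
  let τ : ∀ c, {a // u a = c} ≃ {b // v b = c} := fun c => Classical.choice (hc c)
  let σ : A ≃ B := (Equiv.sigmaFiberEquiv u).symm.trans
    ((Equiv.sigmaCongrRight τ).trans (Equiv.sigmaFiberEquiv v))
  refine ⟨σ, fun a => ?_⟩
  have : σ a = (τ (u a) ⟨a, rfl⟩).1 := rfl
  rw [this]
  exact (τ (u a) ⟨a, rfl⟩).2

/-- the same for subtypes, with cardinalities of filters. -/
theorem exists_equiv_of_filter_card {A B C : Type*} [Fintype A] [Fintype B] [DecidableEq C]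
    (s : A → Prop) (t : B → Prop) [DecidablePred s] [DecidablePred t] (u : A → C) (v : B → C)
    (h : ∀ c, (Finset.univ.filter (fun a => s a ∧ u a = c)).card =
      (Finset.univ.filter (fun b => t b ∧ v b = c)).card) :
    ∃ σ : {a // s a} ≃ {b // t b}, ∀ a, v (σ a).1 = u a.1 := by
  apply exists_equiv_of_fiber_card (fun a : {a // s a} => u a.1) (fun b : {b // t b} => v b.1)
  intro c
  rw [Nat.card_eq_fintype_card, Nat.card_eq_fintype_card,
    Fintype.card_congr (Equiv.subtypeSubtypeEquivSubtypeInter s (fun a => u a = c)),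
    Fintype.card_congr (Equiv.subtypeSubtypeEquivSubtypeInter t (fun b => v b = c)),
    Fintype.card_subtype, Fintype.card_subtype]
  exact h c

/-- dropping trivial factors of a product. -/
noncomputable def dropEquiv {R : Type*} [Semiring R] {ι : Type*} (M : ι → Type*)
    [∀ i, AddCommMonoid (M i)] [∀ i, Module R (M i)]
    (s : ι → Prop) (h : ∀ i, ¬ s i → Subsingleton (M i)) :
    (∀ i, M i) ≃ₗ[R] (∀ i : {i // s i}, M i.1) := by
  classical
  exact
  { toFun := fun v i => v i.1
    map_add' := fun _ _ => rfl
    map_smul' := fun _ _ => rfl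
    invFun := fun w i => if hi : s i then w ⟨i, hi⟩ else 0
    left_inv := by
      intro v
      funext i
      by_cases hi : s i
      · simp [hi]
      · have := h i hi
        exact Subsingleton.elim _ _
    right_inv := by
      intro w
      funext i
      simp [i.2] }

variable {F : Type u} [Field F]
variable {V : Type v} [AddCommGroup V] [Module F V]

namespace Decomp

variable {f : V →ₗ[F] V} (D : Decomp f)

theorem subsingleton_Q (i : D.ι) (hi : ¬ D.e i ≠ 0) : Subsingleton (D.Q i) := by
  have h0 : D.e i = 0 := not_not.mp hi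
  have : Submodule.span F[X] {D.p i ^ D.e i} = ⊤ := by
    rw [h0, pow_zero]
    exact Ideal.span_singleton_one
  exact Submodule.Quotient.subsingleton_iff.mpr this

open Classical in
/-- the multiset of monic irreducibles with a given exponent. -/
theorem filter_map_eq_normalizedFactors (k : ℕ) :
    (Finset.univ.filter (fun i => D.e i = k)).val.map D.P =
      UniqueFactorizationMonoid.normalizedFactors
        (∏ i ∈ Finset.univ.filter (fun i => D.e i = k), D.P i) := by
  rw [Finset.prod_eq_multiset_prod, UniqueFactorizationMonoid.normalizedFactors_prod_eq,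
    Multiset.map_map]
  · apply Multiset.map_congr rfl
    intro i _
    exact (D.P_normalize i).symm
  · intro a ha
    obtain ⟨i, _, rfl⟩ := Multiset.mem_map.mp ha
    exact D.P_irreducible i

end Decomp

open Classical in
theorem card_filter_eq [FiniteDimensional F V] {f f' : V →ₗ[F] V} (D : Decomp f) (D' : Decomp f')
    (h : D.bOf (finrank F V) = D'.bOf (finrank F V)) (c : ℕ × F[X]) :
    (Finset.univ.filter (fun i => D.e i ≠ 0 ∧ (D.e i, D.P i) = c)).card =
      (Finset.univ.filter (fun i => D'.e i ≠ 0 ∧ (D'.e i, D'.P i) = c)).card := by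
  obtain ⟨k, Q⟩ := c
  set n := finrank F V with hn
  by_cases hk : 1 ≤ k ∧ k ≤ n
  · -- use the equality of the products
    have hj := congrFun h ⟨k - 1, by omega⟩
    simp only [Decomp.bOf] at hj
    have hk1 : k - 1 + 1 = k := by omega
    rw [hk1] at hj
    have hM : (Finset.univ.filter (fun i => D.e i = k)).val.map D.P =
        (Finset.univ.filter (fun i => D'.e i = k)).val.map D'.P := by
      rw [D.filter_map_eq_normalizedFactors, D'.filter_map_eq_normalizedFactors, hj]
    have hcount := congrArg (Multiset.count Q) hM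
    rw [Multiset.count_map, Multiset.count_map] at hcount
    have e1 : ∀ (E : Decomp f), (Finset.univ.filter (fun i => E.e i ≠ 0 ∧ (E.e i, E.P i) = (k, Q))).card =
        (Multiset.filter (fun a => Q = E.P a) (Finset.univ.filter (fun i => E.e i = k)).val).card := by
      intro E
      rw [← Finset.filter_val, Finset.card_val, Finset.filter_filter]
      congr 1
      ext i
      simp only [Finset.mem_filter, Finset.mem_univ, true_and, Prod.mk.injEq]
      constructor
      · rintro ⟨_, h1, h2⟩; exact ⟨h1, h2.symm⟩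
      · rintro ⟨h1, h2⟩; exact ⟨by omega, h1, h2.symm⟩
    have e2 : ∀ (E : Decomp f'), (Finset.univ.filter (fun i => E.e i ≠ 0 ∧ (E.e i, E.P i) = (k, Q))).card =
        (Multiset.filter (fun a => Q = E.P a) (Finset.univ.filter (fun i => E.e i = k)).val).card := by
      intro E
      rw [← Finset.filter_val, Finset.card_val, Finset.filter_filter]
      congr 1
      ext i
      simp only [Finset.mem_filter, Finset.mem_univ, true_and, Prod.mk.injEq]
      constructor
      · rintro ⟨_, h1, h2⟩; exact ⟨h1, h2.symm⟩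
      · rintro ⟨h1, h2⟩; exact ⟨by omega, h1, h2.symm⟩
    rw [e1 D, e2 D', hcount]
  · -- both sides empty
    have h1 : (Finset.univ.filter (fun i => D.e i ≠ 0 ∧ (D.e i, D.P i) = (k, Q))) = ∅ := by
      apply Finset.filter_eq_empty_iff.mpr
      rintro i _ ⟨h1, h2⟩
      have := D.e_le i
      simp only [Prod.mk.injEq] at h2
      apply hk
      omega
    have h2 : (Finset.univ.filter (fun i => D'.e i ≠ 0 ∧ (D'.e i, D'.P i) = (k, Q))) = ∅ := by
      apply Finset.filter_eq_empty_iff.mpr
      rintro i _ ⟨h1, h2⟩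
      have := D'.e_le i
      simp only [Prod.mk.injEq] at h2
      apply hk
      omega
    exact (congrArg Finset.card h1).trans (congrArg Finset.card h2).symm

/-- equal polynomial tuples give intertwined endomorphisms. -/
theorem exists_intertwine_of_bOf_eq [FiniteDimensional F V] {f f' : V →ₗ[F] V}
    (D : Decomp f) (D' : Decomp f') (h : D.bOf (finrank F V) = D'.bOf (finrank F V)) :
    ∃ ψ : V ≃ₗ[F] V, ∀ v, ψ (f v) = f' (ψ v) := by
  classical
  obtain ⟨σ, hσ⟩ := exists_equiv_of_filter_card (fun i : D.ι => D.e i ≠ 0)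
    (fun i : D'.ι => D'.e i ≠ 0) (fun i => (D.e i, D.P i)) (fun i => (D'.e i, D'.P i))
    (card_filter_eq D D' h)
  have hspan : ∀ a : {i // D.e i ≠ 0}, Submodule.span F[X] {D.p a.1 ^ D.e a.1} =
      Submodule.span F[X] {D'.p (σ a).1 ^ D'.e (σ a).1} := by
    intro a
    have h1 := hσ a
    simp only [Prod.mk.injEq] at h1
    have hassoc : Associated (D.p a.1) (D'.p (σ a).1) :=
      ((D.P_associated a.1).symm.trans (h1.2 ▸ Associated.refl _)).trans (D'.P_associated (σ a).1)
    rw [h1.1]
    exact Ideal.span_singleton_eq_span_singleton.mpr (hassoc.pow_pow)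
  let e1 := D.equiv
  let e2 := DirectSum.linearEquivFunOnFintype F[X] D.ι (fun i => D.Q i)
  let e3 := dropEquiv (R := F[X]) (fun i => D.Q i) (fun i => D.e i ≠ 0) D.subsingleton_Q
  let e4 : (∀ a : {i // D.e i ≠ 0}, D.Q a.1) ≃ₗ[F[X]] (∀ a : {i // D.e i ≠ 0}, D'.Q (σ a).1) :=
    LinearEquiv.piCongrRight (fun a => Submodule.quotEquivOfEq _ _ (hspan a))
  let e5 := LinearEquiv.piCongrLeft F[X] (fun b : {i // D'.e i ≠ 0} => D'.Q b.1) σ
  let e3' := dropEquiv (R := F[X]) (fun i => D'.Q i) (fun i => D'.e i ≠ 0) D'.subsingleton_Q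
  let e2' := DirectSum.linearEquivFunOnFintype F[X] D'.ι (fun i => D'.Q i)
  let e1' := D'.equiv
  exact exists_intertwine f f'
    (e1.trans (e2.trans (e3.trans (e4.trans (e5.trans (e3'.symm.trans (e2'.symm.trans e1'.symm)))))))

end Cfsg.Agent.Lib.Helper42.Cls
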