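import Mathlib

/-!
# Counting tuples of monic polynomials with nonzero constant coefficient
-/

set_option autoImplicit false

namespace Cfsg.Agent.Lib.Helper42.Cls

open Polynomial

universe u

/-- the number of monic polynomials of degree `d` with nonzero constant coefficient. -/
def cc (q d : ℕ) : ℕ := if d = 0 then 1 else q ^ d - q ^ (d - 1)

/-- monic polynomials of given degree with nonzero constant coefficient. -/
abbrev Mon (F : Type u) [Field F] (d : ℕ) : Type u :=
  {P : F[X] // P.Monic ∧ P.natDegree = d ∧ P.coeff 0 ≠ 0}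

/-- tuples of monic polynomials with nonzero constant coefficients and weighted degree `m`. -/
abbrev T (F : Type u) [Field F] (k m : ℕ) : Type u :=
  {b : Fin k → F[X] // (∀ j, (b j).Monic ∧ (b j).coeff 0 ≠ 0) ∧
    ∑ j, (j.val + 1) * (b j).natDegree = m}

variable {F : Type u} [Field F]

theorem eq_of_coeff_eq {d : ℕ} {P Q : F[X]} (hP : P.Monic) (hQ : Q.Monic) (hPd : P.natDegree = d)
    (hQd : Q.natDegree = d) (h : ∀ i < d, P.coeff i = Q.coeff i) : P = Q := by
  ext i
  rcases lt_trichotomy i d with hi | hi | hi
  · exact h i hi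
  · have h1 : P.coeff i = 1 := by rw [hi, ← hPd]; exact hP.coeff_natDegree
    have h2 : Q.coeff i = 1 := by rw [hi, ← hQd]; exact hQ.coeff_natDegree
    rw [h1, h2]
  · rw [coeff_eq_zero_of_natDegree_lt (by omega), coeff_eq_zero_of_natDegree_lt (by omega)]

theorem finite_Mon [Finite F] (d : ℕ) : Finite (Mon F d) := by
  apply Finite.of_injective (fun P : Mon F d => fun i : Fin d => P.1.coeff i)
  intro P Q h
  apply Subtype.ext
  apply eq_of_coeff_eq P.2.1 Q.2.1 P.2.2.1 Q.2.2.1
  intro i hi
  exact congrFun h ⟨i, hi⟩

theorem card_Mon_le [Fintype F] (d : ℕ) : Nat.card (Mon F d) ≤ cc (Fintype.card F) d := by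
  rcases d with _ | d
  · -- only the polynomial 1
    have : Subsingleton (Mon F 0) := by
      constructor
      intro P Q
      apply Subtype.ext
      rw [eq_one_of_monic_natDegree_zero P.2.1 P.2.2.1,
        eq_one_of_monic_natDegree_zero Q.2.1 Q.2.2.1]
    simp only [cc, if_true]
    exact Finite.card_le_one_iff_subsingleton.mpr this
  · have hinj : Function.Injective
        (fun P : Mon F (d + 1) => ((⟨P.1.coeff 0, P.2.2.2⟩ : {x : F // x ≠ 0}),
          fun i : Fin d => P.1.coeff (i.val + 1))) := by
      intro P Q h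
      apply Subtype.ext
      apply eq_of_coeff_eq P.2.1 Q.2.1 P.2.2.1 Q.2.2.1
      intro i hi
      rcases i with _ | i
      · have := congrArg (fun z => (z.1 : F)) h
        exact this
      · have := congrFun (congrArg Prod.snd h) ⟨i, by omega⟩
        exact this
    have h1 := Nat.card_le_card_of_injective _ hinj
    have h2 : Nat.card ({x : F // x ≠ 0} × (Fin d → F)) =
        (Fintype.card F - 1) * Fintype.card F ^ d := by
      rw [Nat.card_prod, Nat.card_congr unitsEquivNeZero.symm, Nat.card_units F,
        Nat.card_eq_fintype_card, Nat.card_eq_fintype_card, Fintype.card_fun, Fintype.card_fin]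
    rw [h2] at h1
    have h3 : cc (Fintype.card F) (d + 1) = (Fintype.card F - 1) * Fintype.card F ^ d := by
      simp only [cc, Nat.add_one_ne_zero, if_false, Nat.add_sub_cancel]
      rw [pow_succ, Nat.sub_mul, one_mul, mul_comm]
    rw [h3]
    exact h1

/-- the forgetful map to the last entry and the initial segment. -/
noncomputable def splitT (k m : ℕ) (b : T F (k + 1) m) :
    Σ d : Fin (m / (k + 1) + 1), Mon F d.val × T F k (m - (k + 1) * d.val) := by
  have hsum := b.2.2
  rw [Fin.sum_univ_castSucc] at hsum
  simp only [Fin.val_castSucc, Fin.val_last] at hsum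
  have hle : (k + 1) * (b.1 (Fin.last k)).natDegree ≤ m := by omega
  refine ⟨⟨(b.1 (Fin.last k)).natDegree, ?_⟩, ⟨b.1 (Fin.last k), (b.2.1 _).1, rfl, (b.2.1 _).2⟩,
    ⟨fun j => b.1 j.castSucc, fun j => b.2.1 _, ?_⟩⟩
  · have : (b.1 (Fin.last k)).natDegree ≤ m / (k + 1) :=
      (Nat.le_div_iff_mul_le (Nat.succ_pos k)).mpr (by rw [mul_comm]; exact hle)
    omega
  · simp only
    omega

theorem splitT_fst (k m : ℕ) (b : T F (k + 1) m) :
    (splitT k m b).2.1.1 = b.1 (Fin.last k) := rfl

theorem splitT_snd (k m : ℕ) (b : T F (k + 1) m) (j : Fin k) :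
    (splitT k m b).2.2.1 j = b.1 j.castSucc := rfl

theorem splitT_injective (k m : ℕ) : Function.Injective (splitT (F := F) k m) := by
  intro b b' h
  apply Subtype.ext
  funext j
  refine Fin.lastCases ?_ (fun j => ?_) j
  · rw [← splitT_fst, ← splitT_fst, h]
  · rw [← splitT_snd, ← splitT_snd, h]

theorem finite_T [Finite F] : ∀ k m, Finite (T F k m) := by
  intro k
  induction k with
  | zero =>
    intro m
    exact Finite.of_injective (fun b : T F 0 m => b.1) Subtype.val_injective
  | succ k ih =>
    intro m
    have : ∀ d : Fin (m / (k + 1) + 1), Finite (Mon F d.val × T F k (m - (k + 1) * d.val)) := by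
      intro d
      have := finite_Mon (F := F) d.val
      have := ih (m - (k + 1) * d.val)
      infer_instance
    exact Finite.of_injective _ (splitT_injective k m)

theorem card_T_zero [Finite F] (m : ℕ) : Nat.card (T F 0 m) = if m = 0 then 1 else 0 := by
  split_ifs with h
  · subst h
    have : Unique (T F 0 0) :=
      { default := ⟨fun j => j.elim0, fun j => j.elim0, by simp⟩
        uniq := fun b => Subtype.ext (funext fun j => j.elim0) }
    exact Nat.card_unique
  · have : IsEmpty (T F 0 m) := by
      constructor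
      intro b
      have := b.2.2
      simp at this
      exact h this.symm
    exact Nat.card_of_isEmpty

theorem card_T_succ_le [Fintype F] (k m : ℕ) :
    Nat.card (T F (k + 1) m) ≤ ∑ d ∈ Finset.range (m / (k + 1) + 1),
      cc (Fintype.card F) d * Nat.card (T F k (m - (k + 1) * d)) := by
  have hfin : ∀ d : Fin (m / (k + 1) + 1), Finite (Mon F d.val × T F k (m - (k + 1) * d.val)) := by
    intro d
    have := finite_Mon (F := F) d.val
    have := finite_T (F := F) k (m - (k + 1) * d.val)
    infer_instance
  have h1 := Nat.card_le_card_of_injective _ (splitT_injective (F := F) k m)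
  rw [Nat.card_sigma] at h1
  refine h1.trans ?_
  rw [← Fin.sum_univ_eq_sum_range
    (fun d => cc (Fintype.card F) d * Nat.card (T F k (m - (k + 1) * d)))]
  apply Finset.sum_le_sum
  intro d _
  rw [Nat.card_prod]
  exact Nat.mul_le_mul_right _ (card_Mon_le d.val)

end Cfsg.Agent.Lib.Helper42.Cls
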