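import Cfsg.Agent.Lib.Helper42.ClsD

/-!
# The bound `q ^ n` for the number of tuples
-/

set_option autoImplicit false

namespace Cfsg.Agent.Lib.Helper42.Cls

open Polynomial

universe u

/-- the bounding function. -/
noncomputable def Bk (q k m : ℕ) : ℚ :=
  if m = 0 then 1 else (1 - ((q : ℚ)⁻¹) ^ k) * (q : ℚ) ^ m

theorem Bk_nonneg (q k m : ℕ) (hq : 2 ≤ q) : 0 ≤ Bk q k m := by
  unfold Bk
  split_ifs
  · norm_num
  · apply mul_nonneg
    · rw [sub_nonneg]
      apply pow_le_one₀ (by positivity)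
      apply inv_le_one_of_one_le₀
      exact_mod_cast (by omega : 1 ≤ q)
    · positivity

theorem cc_cast (q d : ℕ) (hq : 2 ≤ q) (hd : d ≠ 0) :
    (cc q d : ℚ) = (1 - (q : ℚ)⁻¹) * (q : ℚ) ^ d := by
  obtain ⟨d', rfl⟩ : ∃ d', d = d' + 1 := ⟨d - 1, by omega⟩
  have hq0 : (q : ℚ) ≠ 0 := by
    have : (0 : ℚ) < q := by exact_mod_cast (by omega : 0 < q)
    exact this.ne'
  simp only [cc, Nat.add_one_ne_zero, if_false, Nat.add_sub_cancel]
  rw [Nat.cast_sub (Nat.pow_le_pow_right (by omega) (Nat.le_succ d'))]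
  push_cast
  rw [pow_succ]
  field_simp

theorem pow_split (q y : ℚ) (hqy : q * y = 1) (r d k : ℕ) :
    q ^ (d + 1) = q ^ (r + (d + 1) + k * (d + 1)) * (y ^ k) ^ (d + 1) * y ^ r := by
  have h : ∀ a : ℕ, q ^ a * y ^ a = 1 := by
    intro a; rw [← mul_pow, hqy, one_pow]
  have e : q ^ (r + (d + 1) + k * (d + 1)) = q ^ r * q ^ (d + 1) * q ^ (k * (d + 1)) := by
    rw [pow_add, pow_add]
  have e2 : (y ^ k) ^ (d + 1) = y ^ (k * (d + 1)) := by rw [← pow_mul]
  rw [e, e2]
  calc q ^ (d + 1) = q ^ (d + 1) * (q ^ r * y ^ r) * (q ^ (k * (d + 1)) * y ^ (k * (d + 1))) := by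
        rw [h, h, mul_one, mul_one]
    _ = _ := by ring

theorem arith (q : ℕ) (hq : 2 ≤ q) (k m : ℕ) :
    ∑ d ∈ Finset.range (m / (k + 1) + 1), (cc q d : ℚ) * Bk q k (m - (k + 1) * d) ≤
      Bk q (k + 1) m := by
  rcases Nat.eq_zero_or_pos m with hm | hm
  · subst hm
    simp [cc, Bk]
  have hm0 : m ≠ 0 := by omega
  have hq0 : (q : ℚ) ≠ 0 := by
    have : (0 : ℚ) < q := by exact_mod_cast (by omega : 0 < q)
    exact this.ne'
  set K := k + 1 with hK
  set D := m / K with hD
  set y : ℚ := (q : ℚ)⁻¹ with hy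
  set x : ℚ := y ^ k with hx
  set Qm : ℚ := (q : ℚ) ^ m with hQm
  have hqy : (q : ℚ) * y = 1 := mul_inv_cancel₀ hq0
  have hy0 : 0 ≤ y := by rw [hy]; positivity
  have hy1 : y ≤ 1 := by
    rw [hy]
    apply inv_le_one_of_one_le₀
    exact_mod_cast (by omega : 1 ≤ q)
  have hx0 : 0 ≤ x := pow_nonneg hy0 _
  have hQm0 : 0 ≤ Qm := by rw [hQm]; positivity
  have hKD : K * D ≤ m := Nat.mul_div_le m K
  -- the closed form of the terms
  have hterm : ∀ d, d + 1 ≤ D → (cc q (d + 1) : ℚ) * Bk q k (m - K * (d + 1)) =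
      (1 - y) * (1 - x) * Qm * x ^ (d + 1) +
        (if K * (d + 1) = m then (1 - y) * Qm * x ^ (d + 2) else 0) := by
    intro d hd
    have hle : K * (d + 1) ≤ m := le_trans (Nat.mul_le_mul_left K hd) hKD
    have hqd : (q : ℚ) ^ (d + 1) = Qm * x ^ (d + 1) * (q : ℚ)⁻¹ ^ (m - K * (d + 1)) := by
      have e1 : (m - K * (d + 1)) + (d + 1) + k * (d + 1) = m := by
        rw [hK]; rw [hK] at hle; nlinarith [hle, Nat.sub_add_cancel hle]
      have h := pow_split (q : ℚ) y hqy (m - K * (d + 1)) d k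
      rw [e1] at h
      rw [hQm, hx, ← hy]
      exact h
    rw [cc_cast q (d + 1) hq (Nat.succ_ne_zero d)]
    by_cases heq : K * (d + 1) = m
    · rw [if_pos heq]
      have h0 : m - K * (d + 1) = 0 := by omega
      rw [h0] at hqd
      rw [h0]
      simp only [Bk, if_true, mul_one]
      rw [hqd, pow_zero, mul_one, ← hy]
      ring
    · rw [if_neg heq, add_zero]
      have h0 : m - K * (d + 1) ≠ 0 := by omega
      simp only [Bk, if_neg h0]
      rw [← hy, ← hx]
      have hqr : (q : ℚ) ^ (d + 1) * (q : ℚ) ^ (m - K * (d + 1)) = Qm * x ^ (d + 1) := by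
        rw [hqd, ← hy]
        have : y ^ (m - K * (d + 1)) * (q : ℚ) ^ (m - K * (d + 1)) = 1 := by
          rw [← mul_pow, mul_comm, hqy, one_pow]
        calc Qm * x ^ (d + 1) * y ^ (m - K * (d + 1)) * (q : ℚ) ^ (m - K * (d + 1))
            = Qm * x ^ (d + 1) * (y ^ (m - K * (d + 1)) * (q : ℚ) ^ (m - K * (d + 1))) := by ring
          _ = Qm * x ^ (d + 1) := by rw [this, mul_one]
      calc (1 - y) * (q : ℚ) ^ (d + 1) * ((1 - x) * (q : ℚ) ^ (m - K * (d + 1)))
          = (1 - y) * (1 - x) * ((q : ℚ) ^ (d + 1) * (q : ℚ) ^ (m - K * (d + 1))) := by ring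
        _ = _ := by rw [hqr]; ring
  -- split off the first term
  rw [Finset.sum_range_succ']
  have hfirst : (cc q 0 : ℚ) * Bk q k (m - K * 0) = (1 - x) * Qm := by
    simp only [cc, if_true, Nat.cast_one, one_mul, mul_zero, Nat.sub_zero, Bk, if_neg hm0]
    rw [hQm, hx, hy]
  rw [hfirst]
  rw [Finset.sum_congr rfl (fun d hd => hterm d (by have := Finset.mem_range.mp hd; omega))]
  rw [Finset.sum_add_distrib, ← Finset.mul_sum]
  -- geometric sum
  have hgeom : (1 - x) * ∑ d ∈ Finset.range D, x ^ (d + 1) = x - x ^ (D + 1) := by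
    have h1 : ∑ d ∈ Finset.range D, x ^ (d + 1) = x * ∑ d ∈ Finset.range D, x ^ d := by
      rw [Finset.mul_sum]
      apply Finset.sum_congr rfl
      intro d _
      rw [pow_succ]; ring
    rw [h1]
    have h2 := mul_neg_geom_sum x D
    calc (1 - x) * (x * ∑ d ∈ Finset.range D, x ^ d)
        = x * ((1 - x) * ∑ d ∈ Finset.range D, x ^ d) := by ring
      _ = x * (1 - x ^ D) := by rw [h2]
      _ = x - x ^ (D + 1) := by rw [pow_succ]; ring
  -- the indicator sum
  have hind : ∑ d ∈ Finset.range D, (if K * (d + 1) = m then (1 - y) * Qm * x ^ (d + 2) else 0) ≤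
      (1 - y) * Qm * x ^ (D + 1) := by
    have hnn : 0 ≤ (1 - y) * Qm * x ^ (D + 1) :=
      mul_nonneg (mul_nonneg (by linarith) hQm0) (pow_nonneg hx0 _)
    rcases Nat.eq_zero_or_pos D with hD0 | hDpos
    · rw [hD0]
      simp only [Finset.range_zero, Finset.sum_empty]
      rw [hD0] at hnn
      exact hnn
    · rw [Finset.sum_eq_single (D - 1)]
      · split_ifs
        · have : D - 1 + 2 = D + 1 := by omega
          rw [this]
        · exact hnn
      · intro d hd hne
        rw [if_neg]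
        intro heq
        apply hne
        have : D = d + 1 := by
          rw [hD, ← heq, Nat.mul_div_cancel_left _ (Nat.succ_pos k)]
        omega
      · intro h
        exfalso
        apply h
        exact Finset.mem_range.mpr (by omega)
  have hB : Bk q (k + 1) m = (1 - x * y) * Qm := by
    simp only [Bk, if_neg hm0]
    rw [← hy, pow_succ, ← hx]
  rw [hB]
  have h3 : (1 - y) * (1 - x) * Qm * ∑ d ∈ Finset.range D, x ^ (d + 1) =
      (1 - y) * Qm * (x - x ^ (D + 1)) := by
    rw [← hgeom]; ring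
  rw [h3]
  have h4 : (1 - y) * Qm * (x - x ^ (D + 1)) + (1 - y) * Qm * x ^ (D + 1) + (1 - x) * Qm =
      (1 - x * y) * Qm := by ring
  linarith [hind]

theorem card_T_le {F : Type u} [Field F] [Fintype F] (hq : 2 ≤ Fintype.card F) :
    ∀ k m, (Nat.card (T F k m) : ℚ) ≤ Bk (Fintype.card F) k m := by
  intro k
  induction k with
  | zero =>
    intro m
    rw [card_T_zero]
    unfold Bk
    split_ifs <;> simp
  | succ k ih =>
    intro m
    have h1 := card_T_succ_le (F := F) k m
    have h2 : (Nat.card (T F (k + 1) m) : ℚ) ≤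
        ∑ d ∈ Finset.range (m / (k + 1) + 1),
          (cc (Fintype.card F) d : ℚ) * (Nat.card (T F k (m - (k + 1) * d)) : ℚ) := by
      exact_mod_cast h1
    refine h2.trans (le_trans ?_ (arith (Fintype.card F) hq k m))
    apply Finset.sum_le_sum
    intro d _
    exact mul_le_mul_of_nonneg_left (ih _) (Nat.cast_nonneg _)

theorem card_T_le_pow {F : Type u} [Field F] [Fintype F] (n : ℕ) :
    Nat.card (T F n n) ≤ Fintype.card F ^ n := by
  have hq : 2 ≤ Fintype.card F := Fintype.one_lt_card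
  have h := card_T_le (F := F) hq n n
  have h2 : Bk (Fintype.card F) n n ≤ ((Fintype.card F ^ n : ℕ) : ℚ) := by
    unfold Bk
    split_ifs with h0
    · subst h0; simp
    · push_cast
      have hy0 : (0 : ℚ) ≤ ((Fintype.card F : ℚ)⁻¹) ^ n := by positivity
      have hQ : (0 : ℚ) ≤ (Fintype.card F : ℚ) ^ n := by positivity
      nlinarith
  exact_mod_cast h.trans h2

end Cfsg.Agent.Lib.Helper42.Cls
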