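import Mathlib

/-!
# Semisimple endomorphisms over a field: irreducible pieces, Schur counting

`IsSimp g`: the endomorphism `g` of `V` acts irreducibly.  Equivariant maps `EHom g h`.
-/

namespace Cfsg.Agent.Lib.Helper42.Fl

open Module Polynomial

universe u v w

variable {F : Type w} [Field F]

section Basic

variable {V : Type u} [AddCommGroup V] [Module F V]

/-- `g` acts irreducibly on `V`. -/
def IsSimp (g : V →ₗ[F] V) : Prop :=
  Nontrivial V ∧ ∀ U ∈ Module.End.invtSubmodule g, U = ⊥ ∨ U = ⊤

theorem aeval_comm (g : V →ₗ[F] V) (p : F[X]) (x : V) :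
    aeval g p (g x) = g (aeval g p x) := by
  have h1 : aeval g (p * X) = aeval g (X * p) := by rw [mul_comm]
  rw [map_mul, map_mul, aeval_X] at h1
  have := congrArg (fun φ : Module.End F V => φ x) h1
  simpa [Module.End.mul_apply] using this

theorem ker_aeval_mem_invt (g : V →ₗ[F] V) (p : F[X]) :
    LinearMap.ker (aeval g p) ∈ Module.End.invtSubmodule g := by
  intro x hx
  rw [LinearMap.mem_ker] at hx
  change g x ∈ LinearMap.ker (aeval g p)
  rw [LinearMap.mem_ker, aeval_comm, hx, map_zero]

/-- the orbit map `p ↦ p(g) v`. -/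
noncomputable def orb (g : V →ₗ[F] V) (v : V) : F[X] →ₗ[F] V :=
  (LinearMap.applyₗ v : (V →ₗ[F] V) →ₗ[F] V) ∘ₗ (aeval g : F[X] →ₐ[F] Module.End F V).toLinearMap

@[simp] theorem orb_apply (g : V →ₗ[F] V) (v : V) (p : F[X]) : orb g v p = aeval g p v := rfl

theorem orb_X_mul (g : V →ₗ[F] V) (v : V) (p : F[X]) : orb g v (X * p) = g (orb g v p) := by
  simp [orb_apply, map_mul, aeval_X, Module.End.mul_apply]

theorem range_orb_mem_invt (g : V →ₗ[F] V) (v : V) :
    LinearMap.range (orb g v) ∈ Module.End.invtSubmodule g := by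
  intro x hx
  obtain ⟨p, rfl⟩ := hx
  exact ⟨X * p, orb_X_mul g v p⟩

theorem mem_range_orb (g : V →ₗ[F] V) (v : V) : v ∈ LinearMap.range (orb g v) :=
  ⟨1, by simp⟩

theorem IsSimp.orb_surjective {g : V →ₗ[F] V} (hg : IsSimp g) {v : V} (hv : v ≠ 0) :
    Function.Surjective (orb g v) := by
  rw [← LinearMap.range_eq_top]
  rcases hg.2 _ (range_orb_mem_invt g v) with h | h
  · exfalso
    have := mem_range_orb g v
    rw [h, Submodule.mem_bot] at this
    exact hv this
  · exact h

theorem IsSimp.aeval_eq_zero_of_apply {g : V →ₗ[F] V} (hg : IsSimp g) {v : V} (hv : v ≠ 0)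
    {p : F[X]} (h : aeval g p v = 0) : aeval g p = 0 := by
  rcases hg.2 _ (ker_aeval_mem_invt g p) with h' | h'
  · exfalso
    have : v ∈ LinearMap.ker (aeval g p) := h
    rw [h', Submodule.mem_bot] at this
    exact hv this
  · exact LinearMap.ker_eq_top.mp h'

variable [FiniteDimensional F V]

theorem IsSimp.minpoly_irreducible {g : V →ₗ[F] V} (hg : IsSimp g) :
    Irreducible (minpoly F g) := by
  have := hg.1
  have hint : IsIntegral F g := Algebra.IsIntegral.isIntegral g
  have hne : minpoly F g ≠ 0 := minpoly.ne_zero hint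
  rw [irreducible_iff]
  refine ⟨minpoly.not_isUnit F g, ?_⟩
  intro a b hab
  have ha0 : a ≠ 0 := by rintro rfl; simp at hab; exact hne hab
  have hb0 : b ≠ 0 := by rintro rfl; simp at hab; exact hne hab
  have hprod : aeval g a * aeval g b = 0 := by
    rw [← map_mul, ← hab, minpoly.aeval]
  rcases hg.2 _ (ker_aeval_mem_invt g a) with h | h
  · -- `a(g)` injective, so `b(g) = 0`
    left
    have hinj : Function.Injective (aeval g a) := LinearMap.ker_eq_bot.mp h
    have hb : aeval g b = 0 := by
      ext x
      apply hinj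
      have := congrArg (fun φ : Module.End F V => φ x) hprod
      simpa [Module.End.mul_apply] using this
    have hdvd : minpoly F g ∣ b := minpoly.dvd F g hb
    rw [hab] at hdvd
    have : a * b ∣ 1 * b := by simpa using hdvd
    have h1 : a ∣ 1 := (mul_dvd_mul_iff_right hb0).mp this
    exact isUnit_of_dvd_one h1
  · right
    have ha : aeval g a = 0 := LinearMap.ker_eq_top.mp h
    have hdvd : minpoly F g ∣ a := minpoly.dvd F g ha
    rw [hab] at hdvd
    have : a * b ∣ a * 1 := by simpa using hdvd
    have h1 : b ∣ 1 := (mul_dvd_mul_iff_left ha0).mp this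
    exact isUnit_of_dvd_one h1

theorem IsSimp.finrank_le {g : V →ₗ[F] V} (hg : IsSimp g) :
    finrank F V ≤ (minpoly F g).natDegree := by
  have := hg.1
  obtain ⟨v, hv⟩ := exists_ne (0 : V)
  have hint : IsIntegral F g := Algebra.IsIntegral.isIntegral g
  have hmon : (minpoly F g).Monic := minpoly.monic hint
  set d := (minpoly F g).natDegree with hd
  let ψ : degreeLT F d →ₗ[F] V := (orb g v).domRestrict (degreeLT F d)
  have hsurj : Function.Surjective ψ := by
    intro w
    obtain ⟨p, hp⟩ := hg.orb_surjective hv w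
    have hmem : p %ₘ minpoly F g ∈ degreeLT F d := by
      rw [mem_degreeLT]
      calc (p %ₘ minpoly F g).degree < (minpoly F g).degree := degree_modByMonic_lt p hmon
        _ = (d : WithBot ℕ) := by rw [hd, degree_eq_natDegree hmon.ne_zero]
    refine ⟨⟨_, hmem⟩, ?_⟩
    change orb g v (p %ₘ minpoly F g) = w
    rw [← hp]
    conv_rhs => rw [← modByMonic_add_div p (minpoly F g)]
    simp [orb_apply, map_add, map_mul, minpoly.aeval]
  have h1 := LinearMap.finrank_le_finrank_of_surjective hsurj
  have h2 : finrank F (degreeLT F d) = d := by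
    rw [LinearEquiv.finrank_eq (degreeLTEquiv F d), Module.finrank_fin_fun]
  omega

theorem IsSimp.charpoly_eq_minpoly {g : V →ₗ[F] V} (hg : IsSimp g) :
    g.charpoly = minpoly F g := by
  have hint : IsIntegral F g := Algebra.IsIntegral.isIntegral g
  have hmon : (minpoly F g).Monic := minpoly.monic hint
  have hdvd : minpoly F g ∣ g.charpoly := LinearMap.minpoly_dvd_charpoly g
  have hdeg : g.charpoly.natDegree ≤ (minpoly F g).natDegree := by
    rw [LinearMap.charpoly_natDegree]; exact hg.finrank_le
  exact eq_of_monic_of_dvd_of_natDegree_le hmon (LinearMap.charpoly_monic g) hdvd hdeg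

theorem IsSimp.charpoly_irreducible {g : V →ₗ[F] V} (hg : IsSimp g) :
    Irreducible g.charpoly := by
  rw [hg.charpoly_eq_minpoly]; exact hg.minpoly_irreducible

end Basic

section Hom

variable {V : Type u} [AddCommGroup V] [Module F V]
variable {W : Type v} [AddCommGroup W] [Module F W]

/-- equivariant linear maps. -/
def EHom (g : V →ₗ[F] V) (h : W →ₗ[F] W) : Type (max u v) :=
  {φ : V →ₗ[F] W // ∀ x, φ (g x) = h (φ x)}

theorem EHom.ker_mem {g : V →ₗ[F] V} {h : W →ₗ[F] W} (φ : EHom g h) :
    LinearMap.ker φ.1 ∈ Module.End.invtSubmodule g := by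
  intro x hx
  rw [LinearMap.mem_ker] at hx
  change g x ∈ LinearMap.ker φ.1
  rw [LinearMap.mem_ker, φ.2, hx, map_zero]

theorem EHom.range_mem {g : V →ₗ[F] V} {h : W →ₗ[F] W} (φ : EHom g h) :
    LinearMap.range φ.1 ∈ Module.End.invtSubmodule h := by
  intro x hx
  obtain ⟨y, rfl⟩ := hx
  exact ⟨g y, φ.2 y⟩

variable [FiniteDimensional F V] [FiniteDimensional F W]

/-- Schur: a nonzero equivariant map between irreducibles forces equal characteristic
polynomials. -/
theorem schur_charpoly {g : V →ₗ[F] V} {h : W →ₗ[F] W} (hg : IsSimp g) (hh : IsSimp h)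
    (φ : EHom g h) (hφ : φ.1 ≠ 0) : g.charpoly = h.charpoly := by
  have hker : LinearMap.ker φ.1 = ⊥ := by
    rcases hg.2 _ φ.ker_mem with h' | h'
    · exact h'
    · exact absurd (LinearMap.ker_eq_top.mp h') hφ
  have hrange : LinearMap.range φ.1 = ⊤ := by
    rcases hh.2 _ φ.range_mem with h' | h'
    · exact absurd (LinearMap.range_eq_bot.mp h') hφ
    · exact h'
  let e : V ≃ₗ[F] W := LinearEquiv.ofBijective φ.1
    ⟨LinearMap.ker_eq_bot.mp hker, LinearMap.range_eq_top.mp hrange⟩
  have hconj : e.conj g = h := by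
    ext w
    obtain ⟨x, rfl⟩ := e.surjective w
    simp only [LinearEquiv.conj_apply, LinearMap.comp_apply, LinearEquiv.coe_coe,
      LinearEquiv.symm_apply_apply]
    exact φ.2 x
  rw [← hconj, LinearEquiv.charpoly_conj]

/-- Schur: if the characteristic polynomials differ there are no nonzero equivariant maps. -/
theorem card_EHom_of_ne [Finite F] {g : V →ₗ[F] V} {h : W →ₗ[F] W} (hg : IsSimp g) (hh : IsSimp h)
    (hne : g.charpoly ≠ h.charpoly) : Nat.card (EHom g h) = 1 := by
  have : Subsingleton (EHom g h) := by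
    constructor
    intro φ ψ
    have h1 : φ.1 = 0 := by
      by_contra hφ; exact hne (schur_charpoly hg hh φ hφ)
    have h2 : ψ.1 = 0 := by
      by_contra hψ; exact hne (schur_charpoly hg hh ψ hψ)
    exact Subtype.ext (h1.trans h2.symm)
  have : Nonempty (EHom g h) := ⟨⟨0, fun x => by simp⟩⟩
  exact Nat.card_unique

/-- Schur counting: for irreducibles with equal characteristic polynomials the equivariant maps are
in bijection with the target. -/
theorem card_EHom_of_eq {g : V →ₗ[F] V} {h : W →ₗ[F] W} (hg : IsSimp g)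
    (heq : g.charpoly = h.charpoly) : Nat.card (EHom g h) = Nat.card W := by
  have := hg.1
  obtain ⟨v, hv⟩ := exists_ne (0 : V)
  have hsurj : Function.Surjective (orb g v) := hg.orb_surjective hv
  apply Nat.card_congr
  refine Equiv.ofBijective (fun φ : EHom g h => φ.1 v) ⟨?_, ?_⟩
  · intro φ ψ hφψ
    apply Subtype.ext
    ext x
    obtain ⟨p, rfl⟩ := hsurj x
    -- φ (p(g) v) = p(h) (φ v)
    have key : ∀ (χ : EHom g h) (p : F[X]), χ.1 (orb g v p) = orb h (χ.1 v) p := by
      intro χ p
      induction p using Polynomial.induction_on' with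
      | add p q hp hq => simp only [map_add, hp, hq]
      | monomial n a =>
        simp only [orb_apply, aeval_monomial, Module.End.mul_apply, Module.algebraMap_end_apply,
          map_smul]
        congr 1
        induction n with
        | zero => simp
        | succ n ih => rw [pow_succ', Module.End.mul_apply, χ.2, ih, pow_succ',
            Module.End.mul_apply]
    rw [key φ p, key ψ p]
    simp only at hφψ
    rw [hφψ]
  · intro w
    have hle : LinearMap.ker (orb g v) ≤ LinearMap.ker (orb h w) := by
      intro p hp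
      rw [LinearMap.mem_ker, orb_apply] at hp ⊢
      have h0 : aeval g p = 0 := hg.aeval_eq_zero_of_apply hv hp
      have hdvd : minpoly F g ∣ p := minpoly.dvd F g h0
      rw [← hg.charpoly_eq_minpoly, heq] at hdvd
      obtain ⟨r, rfl⟩ := hdvd
      rw [map_mul, LinearMap.aeval_self_charpoly, zero_mul, LinearMap.zero_apply]
    let φ : V →ₗ[F] W :=
      (Submodule.liftQ (LinearMap.ker (orb g v)) (orb h w) hle) ∘ₗ
        ((orb g v).quotKerEquivOfSurjective hsurj).symm.toLinearMap
    have hφ : ∀ p : F[X], φ (orb g v p) = orb h w p := by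
      intro p
      have : ((orb g v).quotKerEquivOfSurjective hsurj).symm (orb g v p) =
          Submodule.Quotient.mk p := by
        rw [LinearEquiv.symm_apply_eq]
        rfl
      simp only [φ, LinearMap.comp_apply, LinearEquiv.coe_coe, this, Submodule.liftQ_apply]
    refine ⟨⟨φ, ?_⟩, ?_⟩
    · intro x
      obtain ⟨p, rfl⟩ := hsurj x
      rw [← orb_X_mul, hφ, hφ, orb_X_mul]
    · have := hφ 1
      simpa using this

end Hom

end Cfsg.Agent.Lib.Helper42.Fl
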