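import Cfsg.Agent.Lib.Helper42.FlB

/-!
# Counting equivariant maps and invariant complements for semisimple endomorphisms
-/

namespace Cfsg.Agent.Lib.Helper42.Fl

open Module Polynomial

universe u v w

variable {F : Type w} [Field F]

section Split

variable {V₁ : Type u} [AddCommGroup V₁] [Module F V₁]
variable {V₂ : Type u} [AddCommGroup V₂] [Module F V₂]
variable {W : Type v} [AddCommGroup W] [Module F W]

/-- equivariant maps out of a product. -/
def EHom.prodEquiv (g₁ : V₁ →ₗ[F] V₁) (g₂ : V₂ →ₗ[F] V₂) (h : W →ₗ[F] W) :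
    EHom (g₁.prodMap g₂) h ≃ EHom g₁ h × EHom g₂ h where
  toFun φ :=
    (⟨φ.1 ∘ₗ LinearMap.inl F V₁ V₂, fun x => by
        have := φ.2 (x, 0)
        simpa using this⟩,
     ⟨φ.1 ∘ₗ LinearMap.inr F V₁ V₂, fun x => by
        have := φ.2 (0, x)
        simpa using this⟩)
  invFun p := ⟨p.1.1.coprod p.2.1, fun x => by
    simp [LinearMap.coprod_apply, p.1.2, p.2.2]⟩
  left_inv φ := by
    apply Subtype.ext
    apply LinearMap.ext
    rintro ⟨x, y⟩
    simp only [LinearMap.coprod_apply, LinearMap.comp_apply, LinearMap.inl_apply,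
      LinearMap.inr_apply, ← map_add, Prod.mk_add_mk, add_zero, zero_add]
  right_inv p := by
    apply Prod.ext <;> apply Subtype.ext <;> apply LinearMap.ext <;> intro x <;>
      simp [LinearMap.coprod_apply]

/-- transport of equivariant maps along a conjugating equivalence. -/
def EHom.congrLeft {V V' : Type u} [AddCommGroup V] [Module F V] [AddCommGroup V'] [Module F V']
    (e : V ≃ₗ[F] V') {g : V →ₗ[F] V} {g' : V' →ₗ[F] V'} (he : ∀ x, e (g x) = g' (e x))
    (h : W →ₗ[F] W) : EHom g h ≃ EHom g' h where
  toFun φ := ⟨φ.1 ∘ₗ e.symm.toLinearMap, fun x => by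
    have h1 : e.symm (g' x) = g (e.symm x) := by
      rw [LinearEquiv.symm_apply_eq, he, LinearEquiv.apply_symm_apply]
    simp only [LinearMap.comp_apply, LinearEquiv.coe_coe, h1, φ.2]⟩
  invFun ψ := ⟨ψ.1 ∘ₗ e.toLinearMap, fun x => by
    simp only [LinearMap.comp_apply, LinearEquiv.coe_coe, he, ψ.2]⟩
  left_inv φ := by
    apply Subtype.ext; apply LinearMap.ext; intro x; simp
  right_inv ψ := by
    apply Subtype.ext; apply LinearMap.ext; intro x; simp

end Split

section Atoms

variable {V : Type u} [AddCommGroup V] [Module F V] [FiniteDimensional F V]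

theorem exists_atom [Nontrivial V] (g : V →ₗ[F] V) :
    ∃ a ∈ Module.End.invtSubmodule g, a ≠ ⊥ ∧
      ∀ U ∈ Module.End.invtSubmodule g, U ≤ a → U = ⊥ ∨ U = a := by
  classical
  have hex : ∃ k, ∃ U ∈ Module.End.invtSubmodule g, U ≠ ⊥ ∧ finrank F U = k :=
    ⟨_, ⊤, (fun x _ => Submodule.mem_top), top_ne_bot, rfl⟩
  obtain ⟨a, ha, hne, hk⟩ := Nat.find_spec hex
  refine ⟨a, ha, hne, ?_⟩
  intro U hU hUa
  by_cases hU0 : U = ⊥
  · exact Or.inl hU0
  · right
    have hmin : Nat.find hex ≤ finrank F U := Nat.find_min' hex ⟨U, hU, hU0, rfl⟩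
    exact Submodule.eq_of_le_of_finrank_le hUa (by omega)

theorem isSimp_restrict {g : V →ₗ[F] V} {a : Submodule F V}
    (ha : a ∈ Module.End.invtSubmodule g) (hne : a ≠ ⊥)
    (hmin : ∀ U ∈ Module.End.invtSubmodule g, U ≤ a → U = ⊥ ∨ U = a) :
    IsSimp (g.restrict ha) := by
  refine ⟨(Submodule.nontrivial_iff_ne_bot).mpr hne, ?_⟩
  intro U' hU'
  have hU : U'.map a.subtype ∈ Module.End.invtSubmodule g := by
    intro x hx
    obtain ⟨y, hy, rfl⟩ := hx
    exact ⟨(g.restrict ha) y, hU' hy, rfl⟩
  have hinj := Submodule.map_injective_of_injective a.injective_subtype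
  rcases hmin _ hU (Submodule.map_subtype_le a U') with h | h
  · left
    apply hinj
    rw [h, Submodule.map_bot]
  · right
    apply hinj
    rw [h, Submodule.map_subtype_top]

theorem conj_prodEquiv {g : V →ₗ[F] V} {b c : Submodule F V}
    (hb : b ∈ Module.End.invtSubmodule g) (hc : c ∈ Module.End.invtSubmodule g)
    (h : IsCompl b c) (x : b × c) :
    (Submodule.prodEquivOfIsCompl b c h) (((g.restrict hb).prodMap (g.restrict hc)) x) =
      g (Submodule.prodEquivOfIsCompl b c h x) := by
  obtain ⟨x, y⟩ := x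
  simp only [LinearMap.prodMap_apply, Submodule.coe_prodEquivOfIsCompl', map_add]
  rfl

theorem charpoly_of_isCompl {g : V →ₗ[F] V} {b c : Submodule F V}
    (hb : b ∈ Module.End.invtSubmodule g) (hc : c ∈ Module.End.invtSubmodule g)
    (h : IsCompl b c) :
    g.charpoly = (g.restrict hb).charpoly * (g.restrict hc).charpoly := by
  set e := Submodule.prodEquivOfIsCompl b c h with he
  have hconj : e.conj ((g.restrict hb).prodMap (g.restrict hc)) = g := by
    ext v
    obtain ⟨x, rfl⟩ := e.surjective v
    simp only [LinearEquiv.conj_apply, LinearMap.comp_apply, LinearEquiv.coe_coe,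
      LinearEquiv.symm_apply_apply]
    exact conj_prodEquiv hb hc h x
  rw [← LinearMap.charpoly_prodMap]
  conv_lhs => rw [← hconj]
  rw [LinearEquiv.charpoly_conj]

end Atoms

section Count

variable [Finite F] [DecidableEq F]

omit [Finite F] [DecidableEq F] in
theorem charpoly_eq_one_of_subsingleton {V : Type u} [AddCommGroup V] [Module F V]
    [FiniteDimensional F V] [Subsingleton V] (g : V →ₗ[F] V) : g.charpoly = 1 := by
  apply Polynomial.eq_one_of_monic_natDegree_zero (LinearMap.charpoly_monic g)
  rw [LinearMap.charpoly_natDegree, Module.finrank_zero_of_subsingleton]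

theorem normalizedFactors_charpoly_of_isCompl {V : Type u} [AddCommGroup V] [Module F V]
    [FiniteDimensional F V] {g : V →ₗ[F] V} {b c : Submodule F V}
    (hb : b ∈ Module.End.invtSubmodule g) (hc : c ∈ Module.End.invtSubmodule g)
    (h : IsCompl b c) (hs : IsSimp (g.restrict hb)) :
    UniqueFactorizationMonoid.normalizedFactors g.charpoly =
      (g.restrict hb).charpoly ::ₘ
        UniqueFactorizationMonoid.normalizedFactors (g.restrict hc).charpoly := by
  rw [charpoly_of_isCompl hb hc h,
    UniqueFactorizationMonoid.normalizedFactors_mul (LinearMap.charpoly_monic _).ne_zero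
      (LinearMap.charpoly_monic _).ne_zero,
    UniqueFactorizationMonoid.normalizedFactors_irreducible hs.charpoly_irreducible,
    (LinearMap.charpoly_monic _).normalize_eq_self, Multiset.singleton_add]

/-- the number of equivariant maps from a semisimple module to an irreducible one. -/
theorem card_EHom : ∀ (n : ℕ) (V : Type u) [AddCommGroup V] [Module F V]
    [FiniteDimensional F V] (g : V →ₗ[F] V), Module.End.IsSemisimple g → finrank F V = n →
    ∀ {W : Type v} [AddCommGroup W] [Module F W] [FiniteDimensional F W] (h : W →ₗ[F] W),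
      IsSimp h → Nat.card (EHom g h) = Nat.card W ^
        (UniqueFactorizationMonoid.normalizedFactors g.charpoly).count h.charpoly := by
  intro n
  induction n using Nat.strong_induction_on with
  | _ n ih =>
    intro V _ _ _ g hss hn W _ _ _ h hh
    rcases subsingleton_or_nontrivial V with hV | hV
    · rw [charpoly_eq_one_of_subsingleton g, UniqueFactorizationMonoid.normalizedFactors_one,
        Multiset.count_zero, pow_zero]
      have : Subsingleton (EHom g h) := by
        constructor
        intro φ ψ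
        apply Subtype.ext
        apply LinearMap.ext
        intro x
        rw [Subsingleton.elim x 0, map_zero, map_zero]
      have : Nonempty (EHom g h) := ⟨⟨0, fun x => by simp⟩⟩
      exact Nat.card_unique
    · obtain ⟨b, hb, hbne, hbmin⟩ := exists_atom g
      obtain ⟨c, hc, hbc⟩ := (Module.End.isSemisimple_iff.mp hss) b hb
      have hsb : IsSimp (g.restrict hb) := isSimp_restrict hb hbne hbmin
      have hfin : finrank F c < n := by
        have h1 := Submodule.finrank_add_eq_of_isCompl hbc
        have h2 : finrank F b ≠ 0 := fun h0 => hbne (Submodule.finrank_eq_zero.mp h0)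
        omega
      have e1 : EHom ((g.restrict hb).prodMap (g.restrict hc)) h ≃ EHom g h :=
        EHom.congrLeft (Submodule.prodEquivOfIsCompl b c hbc)
          (fun x => conj_prodEquiv hb hc hbc x) h
      have e2 := EHom.prodEquiv (g.restrict hb) (g.restrict hc) h
      rw [Nat.card_congr (e1.symm.trans e2), Nat.card_prod,
        ih _ hfin c (g.restrict hc) (hss.restrict hc) rfl h hh,
        normalizedFactors_charpoly_of_isCompl hb hc hbc hsb, Multiset.count_cons]
      by_cases heq : h.charpoly = (g.restrict hb).charpoly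
      · rw [if_pos heq, card_EHom_of_eq hsb heq.symm, pow_succ, mul_comm]
      · rw [if_neg heq, card_EHom_of_ne hsb hh (Ne.symm heq), one_mul, add_zero]

end Count

section Compl

variable {V : Type u} [AddCommGroup V] [Module F V]

/-- the graph-type subspace attached to an equivariant map `c → a`. -/
def graphSub {a c : Submodule F V} (ψ : c →ₗ[F] a) : Submodule F V :=
  LinearMap.range (c.subtype + a.subtype ∘ₗ ψ)

theorem mem_graphSub {a c : Submodule F V} (ψ : c →ₗ[F] a) (x : V) :
    x ∈ graphSub ψ ↔ ∃ u : c, (u : V) + (ψ u : V) = x := by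
  simp [graphSub, LinearMap.mem_range]

theorem card_compl {g : V →ₗ[F] V} {a c : Submodule F V}
    (ha : a ∈ Module.End.invtSubmodule g) (hc : c ∈ Module.End.invtSubmodule g)
    (hac : IsCompl a c) :
    Nat.card {U : Submodule F V // U ∈ Module.End.invtSubmodule g ∧ IsCompl a U} =
      Nat.card (EHom (g.restrict hc) (g.restrict ha)) := by
  symm
  apply Nat.card_congr
  have hdisj : ∀ x : V, x ∈ a → x ∈ c → x = 0 := by
    intro x hxa hxc
    have : x ∈ a ⊓ c := ⟨hxa, hxc⟩
    rw [hac.inf_eq_bot] at this
    exact (Submodule.mem_bot F).mp this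
  refine Equiv.ofBijective (fun ψ => ⟨graphSub ψ.1, ?_, ?_⟩) ⟨?_, ?_⟩
  · -- invariance
    intro x hx
    rw [mem_graphSub] at hx
    obtain ⟨u, rfl⟩ := hx
    change g _ ∈ graphSub ψ.1
    rw [mem_graphSub]
    refine ⟨(g.restrict hc) u, ?_⟩
    rw [ψ.2 u, map_add]
    rfl
  · -- complement
    constructor
    · rw [Submodule.disjoint_def]
      intro x hxa hx
      rw [mem_graphSub] at hx
      obtain ⟨u, rfl⟩ := hx
      have hu : (u : V) ∈ a := by
        have := a.sub_mem hxa (ψ.1 u).2
        simpa using this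
      have hu0 : (u : V) = 0 := hdisj _ hu u.2
      have : u = 0 := Subtype.ext hu0
      rw [this]; simp
    · rw [codisjoint_iff, eq_top_iff]
      intro v _
      have hv : v ∈ a ⊔ c := by rw [hac.sup_eq_top]; trivial
      obtain ⟨α, hα, γ, hγ, rfl⟩ := Submodule.mem_sup.mp hv
      refine Submodule.mem_sup.mpr ⟨α - (ψ.1 ⟨γ, hγ⟩ : V), a.sub_mem hα (ψ.1 ⟨γ, hγ⟩).2,
        γ + (ψ.1 ⟨γ, hγ⟩ : V), (mem_graphSub _ _).mpr ⟨⟨γ, hγ⟩, rfl⟩, by abel⟩
  · -- injective
    intro ψ ψ' hψ
    have hr : graphSub ψ.1 = graphSub ψ'.1 := congrArg Subtype.val hψ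
    apply Subtype.ext
    apply LinearMap.ext
    intro u
    have h1 : (u : V) + (ψ.1 u : V) ∈ graphSub ψ'.1 := by
      rw [← hr]; exact (mem_graphSub _ _).mpr ⟨u, rfl⟩
    obtain ⟨u', hu'⟩ := (mem_graphSub _ _).mp h1
    have hd : (u' : V) - (u : V) = (ψ.1 u : V) - (ψ'.1 u' : V) := by
      have := hu'
      rw [← sub_eq_zero] at this ⊢
      rw [← this]; abel
    have h0 : (u' : V) - (u : V) = 0 :=
      hdisj _ (by rw [hd]; exact a.sub_mem (ψ.1 u).2 (ψ'.1 u').2) (c.sub_mem u'.2 u.2)
    have huu : u' = u := Subtype.ext (sub_eq_zero.mp h0)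
    rw [h0] at hd
    apply Subtype.ext
    rw [huu] at hd
    exact sub_eq_zero.mp hd.symm
  · -- surjective
    rintro ⟨U, hU, haU⟩
    set π := Submodule.projectionOnto a U haU with hπ
    have hπU : ∀ w ∈ U, π w = 0 := by
      intro w hw
      exact (Submodule.projectionOnto_apply_eq_zero_iff haU).mpr hw
    have hker : ∀ v : V, v - (π v : V) ∈ U := by
      intro v
      rw [← Submodule.projectionOnto_apply_eq_zero_iff haU, map_sub,
        Submodule.projectionOnto_apply_left, sub_self]
    have hπg : ∀ v : V, π (g v) = (g.restrict ha) (π v) := by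
      intro v
      have h1 : g v = g (π v : V) + g (v - (π v : V)) := by rw [← map_add]; congr 1; abel
      have h2 : π (g (v - (π v : V))) = 0 := hπU _ (hU (hker v))
      have h3 : g (π v : V) = (((g.restrict ha) (π v) : a) : V) := rfl
      rw [h1, map_add, h2, add_zero, h3, Submodule.projectionOnto_apply_left]
    let ψ : c →ₗ[F] a := -(π ∘ₗ c.subtype)
    refine ⟨⟨ψ, ?_⟩, ?_⟩
    · intro u
      simp only [ψ, LinearMap.neg_apply, LinearMap.comp_apply, Submodule.subtype_apply, map_neg]
      congr 1
      exact hπg u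
    · apply Subtype.ext
      change graphSub ψ = U
      apply le_antisymm
      · intro x hx
        obtain ⟨u, rfl⟩ := (mem_graphSub _ _).mp hx
        have := hker (u : V)
        simpa [ψ, sub_eq_add_neg] using this
      · intro w hw
        have hv : w ∈ a ⊔ c := by rw [hac.sup_eq_top]; trivial
        obtain ⟨α, hα, γ, hγ, rfl⟩ := Submodule.mem_sup.mp hv
        rw [mem_graphSub]
        refine ⟨⟨γ, hγ⟩, ?_⟩
        have h1 : π (α + γ) = 0 := hπU _ hw
        have h2 : π α = ⟨α, hα⟩ := Submodule.projectionOnto_apply_left haU ⟨α, hα⟩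
        rw [map_add, h2] at h1
        have h3 : (π γ : V) = -α := by
          have := congrArg (fun z : a => (z : V)) h1
          simp only [Submodule.coe_add, Submodule.coe_zero] at this
          exact (neg_eq_of_add_eq_zero_right this).symm ▸ rfl
        simp only [ψ, LinearMap.neg_apply, LinearMap.comp_apply, Submodule.subtype_apply,
          Submodule.coe_neg, h3, neg_neg]
        abel

end Compl

end Cfsg.Agent.Lib.Helper42.Fl
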