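import Cfsg.Agent.Lib.Helper42.FlC

/-!
# The Möbius function of the lattice of invariant subspaces of a semisimple endomorphism
-/

namespace Cfsg.Agent.Lib.Helper42.Fl

open Module Polynomial

universe u w

variable {F : Type w} [Field F]

section Phi

variable [DecidableEq F]

/-- the predicted Möbius value attached to a multiset of irreducible factors. -/
def Phi (q : ℕ) (M : Multiset F[X]) : ℤ :=
  ∏ f ∈ M.toFinset,
    ((-1 : ℤ) ^ M.count f * ((q : ℤ) ^ f.natDegree) ^ (M.count f * (M.count f - 1) / 2))

theorem Phi_zero (q : ℕ) : Phi q (0 : Multiset F[X]) = 1 := by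
  simp [Phi]

theorem Phi_cons (q : ℕ) (f : F[X]) (M : Multiset F[X]) :
    Phi q (f ::ₘ M) = -(((q : ℤ) ^ f.natDegree) ^ M.count f) * Phi q M := by
  classical
  set S := insert f M.toFinset with hS
  have hfS : f ∈ S := Finset.mem_insert_self _ _
  have h1 : Phi q (f ::ₘ M) = ∏ h ∈ S, ((-1 : ℤ) ^ (f ::ₘ M).count h *
      ((q : ℤ) ^ h.natDegree) ^ ((f ::ₘ M).count h * ((f ::ₘ M).count h - 1) / 2)) := by
    unfold Phi
    rw [Multiset.toFinset_cons]
  have h2 : Phi q M = ∏ h ∈ S, ((-1 : ℤ) ^ M.count h *
      ((q : ℤ) ^ h.natDegree) ^ (M.count h * (M.count h - 1) / 2)) := by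
    unfold Phi
    apply Finset.prod_subset (Finset.subset_insert _ _)
    intro h _ hh
    have : M.count h = 0 := Multiset.count_eq_zero.mpr (by simpa using hh)
    simp [this]
  rw [h1, h2, ← Finset.mul_prod_erase _ _ hfS, ← Finset.mul_prod_erase _ _ hfS]
  have h3 : ∏ h ∈ S.erase f, ((-1 : ℤ) ^ (f ::ₘ M).count h *
      ((q : ℤ) ^ h.natDegree) ^ ((f ::ₘ M).count h * ((f ::ₘ M).count h - 1) / 2)) =
      ∏ h ∈ S.erase f, ((-1 : ℤ) ^ M.count h *
      ((q : ℤ) ^ h.natDegree) ^ (M.count h * (M.count h - 1) / 2)) := by
    apply Finset.prod_congr rfl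
    intro h hh
    have hne : h ≠ f := Finset.ne_of_mem_erase hh
    rw [Multiset.count_cons_of_ne hne]
  rw [h3, Multiset.count_cons_self, Nat.triangle_succ, pow_succ, pow_add]
  ring

end Phi

section Weisner

variable {V : Type u} [AddCommGroup V] [Module F V] [FiniteDimensional F V]

open Classical in
/-- the defining recursion of the Möbius function `μ(⊥, ·)` of the lattice of `g`-invariant
subspaces. -/
def IsMoeb [Fintype (Submodule F V)] (g : V →ₗ[F] V) (μ : Submodule F V → ℤ) : Prop :=
  μ ⊥ = 1 ∧ ∀ W ∈ Module.End.invtSubmodule g, W ≠ ⊥ →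
    ∑ U ∈ Finset.univ.filter (fun U => U ∈ Module.End.invtSubmodule g ∧ U ≤ W), μ U = 0

open Classical in
theorem weisner [Fintype (Submodule F V)] {g : V →ₗ[F] V} {μ : Submodule F V → ℤ}
    (hμ : IsMoeb g μ) {a : Submodule F V} (ha : a ∈ Module.End.invtSubmodule g) (hne : a ≠ ⊥) :
    ∀ Z ∈ Module.End.invtSubmodule g, a ≤ Z →
      ∑ U ∈ Finset.univ.filter (fun U => U ∈ Module.End.invtSubmodule g ∧ U ⊔ a = Z), μ U = 0 := by
  intro Z
  induction' hk : finrank F Z using Nat.strong_induction_on with k ih generalizing Z
  intro hZ haZ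
  have hZne : Z ≠ ⊥ := by
    rintro rfl
    exact hne (le_bot_iff.mp haZ)
  have h0 := hμ.2 Z hZ hZne
  set s := Finset.univ.filter (fun U : Submodule F V => U ∈ Module.End.invtSubmodule g ∧ U ≤ Z)
    with hs
  set t := Finset.univ.filter
    (fun Y : Submodule F V => Y ∈ Module.End.invtSubmodule g ∧ a ≤ Y ∧ Y ≤ Z) with ht
  have hmaps : ∀ U ∈ s, U ⊔ a ∈ t := by
    intro U hU
    rw [hs, Finset.mem_filter] at hU
    rw [ht, Finset.mem_filter]
    exact ⟨Finset.mem_univ _, (Module.End.invtSubmodule g).sup_mem hU.2.1 ha, le_sup_right,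
      sup_le hU.2.2 haZ⟩
  have hfib := Finset.sum_fiberwise_of_maps_to hmaps μ
  rw [h0] at hfib
  have hZt : Z ∈ t := by
    rw [ht, Finset.mem_filter]
    exact ⟨Finset.mem_univ _, hZ, haZ, le_rfl⟩
  have hinner : ∀ Y ∈ t, (s.filter (fun U => U ⊔ a = Y)) =
      Finset.univ.filter (fun U => U ∈ Module.End.invtSubmodule g ∧ U ⊔ a = Y) := by
    intro Y hY
    rw [ht, Finset.mem_filter] at hY
    ext U
    simp only [hs, Finset.mem_filter, Finset.mem_univ, true_and]
    constructor
    · rintro ⟨⟨h1, _⟩, h3⟩
      exact ⟨h1, h3⟩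
    · rintro ⟨h1, h3⟩
      exact ⟨⟨h1, le_trans (h3 ▸ le_sup_left) hY.2.2.2⟩, h3⟩
  rw [← Finset.add_sum_erase _ _ hZt, hinner Z hZt] at hfib
  have hrest : ∑ Y ∈ t.erase Z, ∑ U ∈ s with U ⊔ a = Y, μ U = 0 := by
    apply Finset.sum_eq_zero
    intro Y hY
    have hYt : Y ∈ t := Finset.mem_of_mem_erase hY
    have hYZ : Y ≠ Z := Finset.ne_of_mem_erase hY
    rw [hinner Y hYt]
    rw [ht, Finset.mem_filter] at hYt
    have hlt : Y < Z := lt_of_le_of_ne hYt.2.2.2 hYZ
    have hfr : finrank F Y < k := by
      rw [← hk]; exact Submodule.finrank_lt_finrank_of_lt hlt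
    exact ih _ hfr Y rfl hYt.2.1 hYt.2.2.1
  rw [hrest, add_zero] at hfib
  exact hfib

open Classical in
/-- restriction of a Möbius function to an invariant subspace. -/
theorem isMoeb_restrict [Fintype (Submodule F V)] {g : V →ₗ[F] V} {μ : Submodule F V → ℤ}
    (hμ : IsMoeb g μ) {U : Submodule F V} (hU : U ∈ Module.End.invtSubmodule g)
    [Fintype (Submodule F U)] :
    IsMoeb (g.restrict hU) (fun U' : Submodule F U => μ (U'.map U.subtype)) := by
  refine ⟨by simpa using hμ.1, ?_⟩
  intro W' hW' hW'ne
  have hinj := Submodule.map_injective_of_injective U.injective_subtype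
  have hmapinv : ∀ U' : Submodule F U, U' ∈ Module.End.invtSubmodule (g.restrict hU) →
      U'.map U.subtype ∈ Module.End.invtSubmodule g := by
    intro U' hU' x hx
    obtain ⟨y, hy, rfl⟩ := hx
    exact ⟨(g.restrict hU) y, hU' hy, rfl⟩
  have hW : W'.map U.subtype ∈ Module.End.invtSubmodule g := hmapinv W' hW'
  have hWne : W'.map U.subtype ≠ ⊥ := by
    intro h
    apply hW'ne
    apply hinj
    rw [h, Submodule.map_bot]
  rw [← hμ.2 _ hW hWne]
  refine Finset.sum_nbij' (fun U' => U'.map U.subtype) (fun U'' => U''.comap U.subtype)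
    ?_ ?_ ?_ ?_ ?_
  · intro U' hU'
    simp only [Finset.mem_filter, Finset.mem_univ, true_and] at hU' ⊢
    exact ⟨hmapinv U' hU'.1, Submodule.map_mono hU'.2⟩
  · intro U'' hU''
    simp only [Finset.mem_filter, Finset.mem_univ, true_and] at hU'' ⊢
    refine ⟨?_, ?_⟩
    · intro x hx
      exact hU''.1 hx
    · intro x hx
      have : (x : V) ∈ W'.map U.subtype := hU''.2 hx
      obtain ⟨y, hy, hyx⟩ := this
      have : y = x := Subtype.ext hyx
      rwa [← this]
  · intro U' _
    exact Submodule.comap_map_eq_of_injective U.injective_subtype U'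
  · intro U'' hU''
    simp only [Finset.mem_filter, Finset.mem_univ, true_and] at hU''
    rw [Submodule.map_comap_subtype, inf_eq_right]
    exact le_trans hU''.2 (Submodule.map_subtype_le U W')
  · intro U' _
    rfl

end Weisner

section Main

variable [Finite F] [DecidableEq F]

open Classical in
/-- the Möbius function of the lattice of invariant subspaces of a semisimple endomorphism. -/
theorem moebius_eval : ∀ (n : ℕ) (V : Type u) [AddCommGroup V] [Module F V]
    [FiniteDimensional F V] [Fintype (Submodule F V)] (g : V →ₗ[F] V),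
    Module.End.IsSemisimple g → finrank F V = n → ∀ μ : Submodule F V → ℤ, IsMoeb g μ →
      μ ⊤ = Phi (Nat.card F) (UniqueFactorizationMonoid.normalizedFactors g.charpoly) := by
  intro n
  induction n using Nat.strong_induction_on with
  | _ n ih =>
    intro V _ _ _ _ g hss hn μ hμ
    rcases subsingleton_or_nontrivial V with hV | hV
    · rw [charpoly_eq_one_of_subsingleton g, UniqueFactorizationMonoid.normalizedFactors_one,
        Phi_zero]
      have : (⊤ : Submodule F V) = ⊥ := Subsingleton.elim _ _
      rw [this, hμ.1]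
    · obtain ⟨a, ha, hane, hamin⟩ := exists_atom g
      have hsa : IsSimp (g.restrict ha) := isSimp_restrict ha hane hamin
      obtain ⟨c, hc, hac⟩ := (Module.End.isSemisimple_iff.mp hss) a ha
      have hfinV : Finite V := Module.finite_of_finite F
      set fa := (g.restrict ha).charpoly with hfa
      set M := UniqueFactorizationMonoid.normalizedFactors g.charpoly with hM
      -- the complements
      set C := Finset.univ.filter
        (fun U : Submodule F V => U ∈ Module.End.invtSubmodule g ∧ IsCompl a U) with hC
      have hw := weisner hμ ha hane ⊤ (fun x _ => Submodule.mem_top) le_top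
      have hsplit : Finset.univ.filter
          (fun U : Submodule F V => U ∈ Module.End.invtSubmodule g ∧ U ⊔ a = ⊤) =
          insert ⊤ C := by
        ext U
        simp only [hC, Finset.mem_filter, Finset.mem_univ, true_and, Finset.mem_insert]
        constructor
        · rintro ⟨hU, hUa⟩
          by_cases hUt : U = ⊤
          · exact Or.inl hUt
          · right
            refine ⟨hU, ?_⟩
            have hinf : U ⊓ a = ⊥ := by
              rcases hamin (U ⊓ a) ((Module.End.invtSubmodule g).inf_mem hU ha) inf_le_right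
                with h | h
              · exact h
              · exfalso
                apply hUt
                have : a ≤ U := by rw [← h]; exact inf_le_left
                rw [← hUa]; exact (sup_eq_left.mpr this).symm
            exact ⟨by rw [disjoint_iff, inf_comm]; exact hinf,
              by rw [codisjoint_iff, sup_comm]; exact hUa⟩
        · rintro (rfl | ⟨hU, hUa⟩)
          · exact ⟨fun x _ => Submodule.mem_top, by simp⟩
          · exact ⟨hU, by rw [sup_comm]; exact hUa.sup_eq_top⟩
      have htopC : (⊤ : Submodule F V) ∉ C := by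
        simp only [hC, Finset.mem_filter, Finset.mem_univ, true_and, not_and]
        intro _ h
        apply hane
        have := h.inf_eq_bot
        simpa using this
      rw [hsplit, Finset.sum_insert htopC] at hw
      -- each complement has the predicted value
      have hval : ∀ U ∈ C, μ U = Phi (Nat.card F) (M.erase fa) := by
        intro U hU
        simp only [hC, Finset.mem_filter, Finset.mem_univ, true_and] at hU
        obtain ⟨hUinv, haU⟩ := hU
        have hfin : finrank F U < n := by
          have h1 := Submodule.finrank_add_eq_of_isCompl haU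
          have h2 : finrank F a ≠ 0 := fun h0 => hane (Submodule.finrank_eq_zero.mp h0)
          omega
        letI : Fintype (Submodule F U) := Fintype.ofFinite _
        have := ih _ hfin U (g.restrict hUinv) (hss.restrict hUinv) rfl _
          (isMoeb_restrict hμ hUinv)
        simp only [Submodule.map_subtype_top] at this
        rw [this, hM, normalizedFactors_charpoly_of_isCompl ha hUinv haU hsa,
          Multiset.erase_cons_head]
      rw [Finset.sum_congr rfl hval, Finset.sum_const, nsmul_eq_mul] at hw
      -- count the complements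
      have hcard : C.card = (Nat.card F ^ fa.natDegree) ^ (M.erase fa).count fa := by
        have h1 : C.card =
            Nat.card {U : Submodule F V // U ∈ Module.End.invtSubmodule g ∧ IsCompl a U} := by
          rw [Nat.card_eq_fintype_card, Fintype.card_subtype]
        rw [h1, card_compl ha hc hac,
          card_EHom _ c (g.restrict hc) (hss.restrict hc) rfl (g.restrict ha) hsa,
          Module.natCard_eq_pow_finrank (K := F) (V := a), ← LinearMap.charpoly_natDegree
            (g.restrict ha)]
        congr 2
        rw [hM, normalizedFactors_charpoly_of_isCompl ha hc hac hsa, Multiset.erase_cons_head]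
      have hMcons : M = fa ::ₘ M.erase fa := by
        rw [hM, normalizedFactors_charpoly_of_isCompl ha hc hac hsa, Multiset.erase_cons_head]
      conv_rhs => rw [hMcons]
      rw [Phi_cons]
      rw [hcard] at hw
      push_cast at hw
      linarith

end Main

end Cfsg.Agent.Lib.Helper42.Fl
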