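import Cfsg.Agent.Lib.Helper42.FlD

/-!
# Invariant flags and the Möbius recursion
-/

namespace Cfsg.Agent.Lib.Helper42.Fl

open Module Polynomial

universe u w

variable {F : Type w} [Field F]
variable {V : Type u} [AddCommGroup V] [Module F V]

/-- abstract invariant flags with dimension set `D` inside `W`. -/
def IsFl (g : V →ₗ[F] V) (D : Finset ℕ) (W : Submodule F V) (f : ℕ → Submodule F V) : Prop :=
  (∀ d ∈ D, finrank F (f d) = d ∧ f d ∈ Module.End.invtSubmodule g ∧ f d ≤ W) ∧
    (∀ d, d ∉ D → f d = ⊥) ∧ (∀ d ∈ D, ∀ e ∈ D, d ≤ e → f d ≤ f e)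

/-- the number of invariant flags with dimension set `D` inside `W`. -/
noncomputable def NN (g : V →ₗ[F] V) (D : Finset ℕ) (W : Submodule F V) : ℕ :=
  Nat.card {f : ℕ → Submodule F V // IsFl g D W f}

instance finite_flags [Finite (Submodule F V)] (g : V →ₗ[F] V) (D : Finset ℕ)
    (W : Submodule F V) : Finite {f : ℕ → Submodule F V // IsFl g D W f} := by
  apply Finite.of_injective (fun f => fun d : D => f.1 d.1)
  intro f f' h
  apply Subtype.ext
  funext d
  by_cases hd : d ∈ D
  · exact congrFun h ⟨d, hd⟩
  · rw [f.2.2.1 d hd, f'.2.2.1 d hd]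

theorem NN_empty (g : V →ₗ[F] V) (W : Submodule F V) : NN g ∅ W = 1 := by
  unfold NN
  have hne : Nonempty {f : ℕ → Submodule F V // IsFl g ∅ W f} :=
    ⟨⟨fun _ => ⊥, by simp [IsFl]⟩⟩
  have hsub : Subsingleton {f : ℕ → Submodule F V // IsFl g ∅ W f} := by
    constructor
    intro f f'
    apply Subtype.ext
    funext d
    rw [f.2.2.1 d (by simp), f'.2.2.1 d (by simp)]
  exact Nat.card_unique

open Classical in
theorem NN_insert [Fintype (Submodule F V)] (g : V →ₗ[F] V) (D : Finset ℕ) (k : ℕ)
    (hk : ∀ d ∈ D, d < k) (W : Submodule F V) :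
    NN g (insert k D) W = ∑ U ∈ Finset.univ.filter (fun U : Submodule F V =>
      U ∈ Module.End.invtSubmodule g ∧ finrank F U = k ∧ U ≤ W), NN g D U := by
  have hkD : k ∉ D := fun h => lt_irrefl _ (hk k h)
  set P := fun U : Submodule F V =>
    U ∈ Module.End.invtSubmodule g ∧ finrank F U = k ∧ U ≤ W with hP
  have hPf : ∀ f : {f : ℕ → Submodule F V // IsFl g (insert k D) W f}, P (f.1 k) := by
    intro f
    obtain ⟨h1, h2, h3⟩ := f.2.1 k (Finset.mem_insert_self _ _)
    exact ⟨h2, h1, h3⟩
  let π : {f : ℕ → Submodule F V // IsFl g (insert k D) W f} → {U : Submodule F V // P U} :=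
    fun f => ⟨f.1 k, hPf f⟩
  have e2 : ∀ U : {U : Submodule F V // P U},
      {f : {f : ℕ → Submodule F V // IsFl g (insert k D) W f} // π f = U} ≃
        {f : ℕ → Submodule F V // IsFl g D U.1 f} := by
    rintro ⟨U, hU1, hU2, hU3⟩
    exact
    { toFun := fun f =>
          ⟨Function.update f.1.1 k ⊥, by
            have hfk : f.1.1 k = U := congrArg Subtype.val f.2
            refine ⟨?_, ?_, ?_⟩
            · intro d hd
              have hdk : d ≠ k := fun h => hkD (h ▸ hd)
              rw [Function.update_of_ne hdk]
              obtain ⟨h1, h2, _⟩ := f.1.2.1 d (Finset.mem_insert_of_mem hd)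
              refine ⟨h1, h2, ?_⟩
              have h3 := f.1.2.2.2 d (Finset.mem_insert_of_mem hd) k
                (Finset.mem_insert_self _ _) (hk d hd).le
              rw [hfk] at h3
              exact h3
            · intro d hd
              by_cases hdk : d = k
              · rw [hdk, Function.update_self]
              · rw [Function.update_of_ne hdk]
                exact f.1.2.2.1 d (by simp [hdk, hd])
            · intro d hd e' he' hde
              have hdk : d ≠ k := fun h => hkD (h ▸ hd)
              have hek : e' ≠ k := fun h => hkD (h ▸ he')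
              rw [Function.update_of_ne hdk, Function.update_of_ne hek]
              exact f.1.2.2.2 d (Finset.mem_insert_of_mem hd) e'
                (Finset.mem_insert_of_mem he') hde⟩
      invFun := fun f' =>
        ⟨⟨Function.update f'.1 k U, by
          obtain ⟨f', hf'⟩ := f'
          refine ⟨?_, ?_, ?_⟩
          · intro d hd
            rcases Finset.mem_insert.mp hd with hdk | hd
            · rw [hdk, Function.update_self]; exact ⟨hU2, hU1, hU3⟩
            · have hdk : d ≠ k := fun h => hkD (h ▸ hd)
              rw [Function.update_of_ne hdk]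
              obtain ⟨h1, h2, h3⟩ := hf'.1 d hd
              exact ⟨h1, h2, le_trans h3 hU3⟩
          · intro d hd
            have hdk : d ≠ k := fun h => hd (h ▸ Finset.mem_insert_self _ _)
            rw [Function.update_of_ne hdk]
            exact hf'.2.1 d (fun h => hd (Finset.mem_insert_of_mem h))
          · intro d hd e' he' hde
            rcases Finset.mem_insert.mp hd with hdk | hd
            · rcases Finset.mem_insert.mp he' with hek | he'
              · rw [hdk, hek]
              · exact absurd (hk e' he') (not_lt.mpr (hdk ▸ hde))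
            · have hdk : d ≠ k := fun h => hkD (h ▸ hd)
              rw [Function.update_of_ne hdk]
              rcases Finset.mem_insert.mp he' with hek | he'
              · rw [hek, Function.update_self]; exact (hf'.1 d hd).2.2
              · have hek : e' ≠ k := fun h => hkD (h ▸ he')
                rw [Function.update_of_ne hek]
                exact hf'.2.2 d hd e' he' hde⟩, by
          apply Subtype.ext
          simp [π]⟩
      left_inv := fun f => by
        have hfk : f.1.1 k = U := congrArg Subtype.val f.2
        apply Subtype.ext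
        apply Subtype.ext
        simp only [Function.update_idem]
        exact (congrArg (Function.update f.1.1 k) hfk.symm).trans
          (Function.update_eq_self k f.1.1)
      right_inv := fun f' => by
        have hk' : f'.1 k = ⊥ := f'.2.2.1 k hkD
        apply Subtype.ext
        simp only [Function.update_idem]
        rw [← hk', Function.update_eq_self] }
  unfold NN
  rw [Nat.card_congr (Equiv.sigmaFiberEquiv π).symm, Nat.card_sigma,
    Finset.sum_subtype (Finset.univ.filter P) (p := P) (by simp)]
  apply Finset.sum_congr rfl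
  intro U _
  exact Nat.card_congr (e2 U)

/-- the alternating sum over dimension sets below `k`. -/
noncomputable def TT (g : V →ₗ[F] V) (k : ℕ) (W : Submodule F V) : ℤ :=
  ∑ D ∈ (Finset.Ico 1 k).powerset, (-1 : ℤ) ^ D.card * (NN g D W : ℤ)

theorem TT_one (g : V →ₗ[F] V) (W : Submodule F V) : TT g 1 W = 1 := by
  simp [TT, NN_empty]

open Classical in
theorem TT_succ [Fintype (Submodule F V)] (g : V →ₗ[F] V) (k : ℕ) (hk : 1 ≤ k)
    (W : Submodule F V) :
    TT g (k + 1) W = TT g k W - ∑ U ∈ Finset.univ.filter (fun U : Submodule F V =>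
      U ∈ Module.End.invtSubmodule g ∧ finrank F U = k ∧ U ≤ W), TT g k U := by
  have hnot : k ∉ Finset.Ico 1 k := by simp
  unfold TT
  rw [Nat.Ico_succ_right_eq_insert_Ico hk, Finset.sum_powerset_insert hnot]
  have h2 : ∑ D ∈ (Finset.Ico 1 k).powerset,
      (-1 : ℤ) ^ (insert k D).card * (NN g (insert k D) W : ℤ) =
      - ∑ U ∈ Finset.univ.filter (fun U : Submodule F V =>
        U ∈ Module.End.invtSubmodule g ∧ finrank F U = k ∧ U ≤ W),
        ∑ D ∈ (Finset.Ico 1 k).powerset, (-1 : ℤ) ^ D.card * (NN g D U : ℤ) := by
    rw [Finset.sum_comm, ← Finset.sum_neg_distrib]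
    apply Finset.sum_congr rfl
    intro D hD
    have hDsub : D ⊆ Finset.Ico 1 k := Finset.mem_powerset.mp hD
    have hlt : ∀ d ∈ D, d < k := fun d hd => (Finset.mem_Ico.mp (hDsub hd)).2
    have hkD : k ∉ D := fun h => lt_irrefl _ (hlt k h)
    rw [Finset.card_insert_of_notMem hkD, NN_insert g D k hlt W, Nat.cast_sum, Finset.mul_sum,
      ← Finset.sum_neg_distrib]
    apply Finset.sum_congr rfl
    intro U _
    rw [pow_succ]
    ring
  rw [h2]
  ring

/-- the alternating flag count of a subspace. -/
noncomputable def MM (g : V →ₗ[F] V) (W : Submodule F V) : ℤ := TT g (finrank F W) W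

open Classical in
theorem TT_eq [Fintype (Submodule F V)] (g : V →ₗ[F] V) (W : Submodule F V) (j : ℕ)
    (hj : 1 ≤ j) :
    TT g j W = 1 - ∑ U ∈ Finset.univ.filter (fun U : Submodule F V =>
      U ∈ Module.End.invtSubmodule g ∧ U ≤ W ∧ 1 ≤ finrank F U ∧ finrank F U < j), MM g U := by
  induction j, hj using Nat.le_induction with
  | base =>
    rw [TT_one]
    have : Finset.univ.filter (fun U : Submodule F V =>
        U ∈ Module.End.invtSubmodule g ∧ U ≤ W ∧ 1 ≤ finrank F U ∧ finrank F U < 1) = ∅ := by
      apply Finset.filter_eq_empty_iff.mpr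
      intro U _ h
      omega
    rw [this, Finset.sum_empty, sub_zero]
  | succ j hj ih =>
    rw [TT_succ g j hj W, ih]
    have hsplit : Finset.univ.filter (fun U : Submodule F V =>
        U ∈ Module.End.invtSubmodule g ∧ U ≤ W ∧ 1 ≤ finrank F U ∧ finrank F U < j + 1) =
        Finset.univ.filter (fun U : Submodule F V =>
          U ∈ Module.End.invtSubmodule g ∧ U ≤ W ∧ 1 ≤ finrank F U ∧ finrank F U < j) ∪
        Finset.univ.filter (fun U : Submodule F V =>
          U ∈ Module.End.invtSubmodule g ∧ finrank F U = j ∧ U ≤ W) := by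
      ext U
      simp only [Finset.mem_filter, Finset.mem_univ, true_and, Finset.mem_union]
      constructor
      · rintro ⟨h1, h2, h3, h4⟩
        by_cases h5 : finrank F U < j
        · exact Or.inl ⟨h1, h2, h3, h5⟩
        · exact Or.inr ⟨h1, by omega, h2⟩
      · rintro (⟨h1, h2, h3, h4⟩ | ⟨h1, h2, h3⟩)
        · exact ⟨h1, h2, h3, by omega⟩
        · exact ⟨h1, h3, by omega, by omega⟩
    have hdisj : Disjoint (Finset.univ.filter (fun U : Submodule F V =>
          U ∈ Module.End.invtSubmodule g ∧ U ≤ W ∧ 1 ≤ finrank F U ∧ finrank F U < j))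
        (Finset.univ.filter (fun U : Submodule F V =>
          U ∈ Module.End.invtSubmodule g ∧ finrank F U = j ∧ U ≤ W)) := by
      rw [Finset.disjoint_left]
      intro U h1 h2
      simp only [Finset.mem_filter, Finset.mem_univ, true_and] at h1 h2
      omega
    rw [hsplit, Finset.sum_union hdisj]
    have hlast : ∑ U ∈ Finset.univ.filter (fun U : Submodule F V =>
          U ∈ Module.End.invtSubmodule g ∧ finrank F U = j ∧ U ≤ W), TT g j U =
        ∑ U ∈ Finset.univ.filter (fun U : Submodule F V =>
          U ∈ Module.End.invtSubmodule g ∧ finrank F U = j ∧ U ≤ W), MM g U := by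
      apply Finset.sum_congr rfl
      intro U hU
      simp only [Finset.mem_filter, Finset.mem_univ, true_and] at hU
      unfold MM
      rw [hU.2.1]
    rw [hlast]
    ring

/-- the Möbius function obtained from flag counts. -/
noncomputable def muFl (g : V →ₗ[F] V) (W : Submodule F V) : ℤ :=
  open Classical in if W = ⊥ then 1 else - MM g W

open Classical in
theorem isMoeb_muFl [FiniteDimensional F V] [Fintype (Submodule F V)] (g : V →ₗ[F] V) :
    IsMoeb g (muFl g) := by
  refine ⟨by simp [muFl], ?_⟩
  intro W hW hWne
  have hpos : 1 ≤ finrank F W := by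
    rcases Nat.eq_zero_or_pos (finrank F W) with h | h
    · exact absurd (Submodule.finrank_eq_zero.mp h) hWne
    · exact h
  have hMM : MM g W = 1 - ∑ U ∈ Finset.univ.filter (fun U : Submodule F V =>
      U ∈ Module.End.invtSubmodule g ∧ U ≤ W ∧ 1 ≤ finrank F U ∧ finrank F U < finrank F W),
      MM g U := TT_eq g W _ hpos
  set mid := Finset.univ.filter (fun U : Submodule F V =>
      U ∈ Module.End.invtSubmodule g ∧ U ≤ W ∧ 1 ≤ finrank F U ∧ finrank F U < finrank F W)
    with hmid
  have hbot : (⊥ : Submodule F V) ∉ insert W mid := by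
    simp only [Finset.mem_insert, hmid, Finset.mem_filter, Finset.mem_univ, true_and, not_or]
    refine ⟨fun h => hWne h.symm, ?_⟩
    rintro ⟨_, _, h, _⟩
    simp at h
  have hWmid : W ∉ mid := by
    simp only [hmid, Finset.mem_filter, Finset.mem_univ, true_and]
    rintro ⟨_, _, _, h⟩
    exact lt_irrefl _ h
  have hsplit : Finset.univ.filter (fun U : Submodule F V =>
      U ∈ Module.End.invtSubmodule g ∧ U ≤ W) = insert ⊥ (insert W mid) := by
    ext U
    simp only [Finset.mem_filter, Finset.mem_univ, true_and, Finset.mem_insert, hmid]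
    constructor
    · rintro ⟨h1, h2⟩
      by_cases hU0 : U = ⊥
      · exact Or.inl hU0
      · by_cases hUW : U = W
        · exact Or.inr (Or.inl hUW)
        · right; right
          refine ⟨h1, h2, ?_, Submodule.finrank_lt_finrank_of_lt (lt_of_le_of_ne h2 hUW)⟩
          rcases Nat.eq_zero_or_pos (finrank F U) with h | h
          · exact absurd (Submodule.finrank_eq_zero.mp h) hU0
          · exact h
    · rintro (rfl | rfl | ⟨h1, h2, _, _⟩)
      · exact ⟨fun x hx => by
          rw [Submodule.mem_bot] at hx; subst hx
          change g 0 ∈ (⊥ : Submodule F V); simp, bot_le⟩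
      · exact ⟨hW, le_rfl⟩
      · exact ⟨h1, h2⟩
  rw [hsplit, Finset.sum_insert hbot, Finset.sum_insert hWmid]
  have hmidsum : ∑ U ∈ mid, muFl g U = - ∑ U ∈ mid, MM g U := by
    rw [← Finset.sum_neg_distrib]
    apply Finset.sum_congr rfl
    intro U hU
    simp only [hmid, Finset.mem_filter, Finset.mem_univ, true_and] at hU
    have : U ≠ ⊥ := by
      rintro rfl
      simp at hU
    simp [muFl, this]
  rw [hmidsum]
  simp only [muFl, hWne, if_true, if_false]
  rw [hMM]
  ring

end Cfsg.Agent.Lib.Helper42.Fl
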