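import Cfsg.Agent.Lib.Helper42.FlE
import Cfsg.Agent.Lib.Helper38.FlagH
import Cfsg.Prelude.Def_LinearParabolics

/-!
# Cosets of standard parabolic subgroups of `GL_n` and flags
-/

set_option autoImplicit false

namespace Cfsg.Agent.Lib.Helper42.Fl

open Module Polynomial
open scoped MatrixGroups
open Cfsg.Agent.Lib.Helper38.Flag (psum psum_mono psum_n lt_compLabel_iff compLabel_lt)

universe w

variable {F : Type w} [Field F] {n : ℕ}

/-- the span of the first `d` coordinate vectors. -/
def Std (n : ℕ) (F : Type w) [Field F] (d : ℕ) : Submodule F (Fin n → F) :=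
  Submodule.span F (Set.range fun i : {i : Fin n // i.val < d} => (Pi.single i.1 1 : Fin n → F))

theorem mem_Std (d : ℕ) (v : Fin n → F) :
    v ∈ Std n F d ↔ ∀ i : Fin n, d ≤ i.val → v i = 0 := by
  constructor
  · intro hv
    unfold Std at hv
    induction hv using Submodule.span_induction with
    | mem x hx =>
      obtain ⟨j, rfl⟩ := hx
      intro i hi
      have : j.1 ≠ i := by
        intro h
        have := j.2
        rw [h] at this
        omega
      simp [Pi.single_apply, this.symm]
    | zero => intro i _; rfl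
    | add x y _ _ hx hy => intro i hi; simp [hx i hi, hy i hi]
    | smul a x _ hx => intro i hi; simp [hx i hi]
  · intro hv
    have hsum : v = ∑ i, v i • (Pi.single i 1 : Fin n → F) := by
      funext j
      simp [Finset.sum_apply, Pi.single_apply]
    rw [hsum]
    apply Submodule.sum_mem
    intro i _
    by_cases hi : i.val < d
    · apply Submodule.smul_mem
      exact Submodule.subset_span ⟨⟨i, hi⟩, rfl⟩
    · rw [hv i (not_lt.mp hi), zero_smul]
      exact Submodule.zero_mem _

theorem Std_mono {d e : ℕ} (h : d ≤ e) : Std n F d ≤ Std n F e := by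
  intro v hv
  rw [mem_Std] at hv ⊢
  intro i hi
  exact hv i (le_trans h hi)

theorem finrank_Std {d : ℕ} (hd : d ≤ n) : finrank F (Std n F d) = d := by
  unfold Std
  have hli : LinearIndependent F
      (fun i : {i : Fin n // i.val < d} => (Pi.single i.1 1 : Fin n → F)) := by
    have := (Pi.basisFun F (Fin n)).linearIndependent.comp
      (fun i : {i : Fin n // i.val < d} => i.1) Subtype.val_injective
    convert this using 1
    funext i
    simp
  rw [finrank_span_eq_card hli]
  have e : {i : Fin n // i.val < d} ≃ Fin d :=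
    { toFun := fun i => ⟨i.1.val, i.2⟩
      invFun := fun j => ⟨⟨j.val, lt_of_lt_of_le j.2 hd⟩, j.2⟩
      left_inv := fun i => rfl
      right_inv := fun j => rfl }
  rw [Fintype.card_congr e, Fintype.card_fin]

theorem single_mem_Std {d : ℕ} {j : Fin n} (hj : j.val < d) :
    (Pi.single j 1 : Fin n → F) ∈ Std n F d :=
  Submodule.subset_span ⟨⟨j, hj⟩, rfl⟩

theorem toLin'_single (A : Matrix (Fin n) (Fin n) F) (j : Fin n) (i : Fin n) :
    Matrix.toLin' A (Pi.single j 1) i = A i j := by
  rw [Matrix.toLin'_apply, Matrix.mulVec_single_one]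
  rfl

/-- the stabiliser condition in terms of matrix entries. -/
theorem map_Std_le_iff (A : Matrix (Fin n) (Fin n) F) (d : ℕ) :
    (Std n F d).map (Matrix.toLin' A) ≤ Std n F d ↔
      ∀ i j : Fin n, j.val < d → d ≤ i.val → A i j = 0 := by
  constructor
  · intro h i j hj hi
    have h1 : Matrix.toLin' A (Pi.single j 1) ∈ Std n F d :=
      h (Submodule.mem_map_of_mem (single_mem_Std hj))
    rw [mem_Std] at h1
    rw [← toLin'_single A j i]
    exact h1 i hi
  · intro h v hv
    obtain ⟨u, hu, rfl⟩ := hv
    rw [SetLike.mem_coe, mem_Std] at hu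
    rw [mem_Std]
    intro i hi
    rw [Matrix.toLin'_apply, Matrix.mulVec, dotProduct]
    apply Finset.sum_eq_zero
    intro j _
    by_cases hj : j.val < d
    · rw [h i j hj hi, zero_mul]
    · rw [hu j (not_lt.mp hj), mul_zero]

/-- the dimension set of a composition. -/
def Dset (c : Fin n → ℕ) : Finset ℕ :=
  (Finset.univ.image fun s : Fin n => psum c (s.val + 1)).filter (fun d => 0 < d ∧ d < n)

theorem Dset_subset (c : Fin n → ℕ) : Dset c ⊆ Finset.Ico 1 n := by
  intro d hd
  simp only [Dset, Finset.mem_filter] at hd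
  rw [Finset.mem_Ico]
  omega

theorem mem_parabolic_iff (c : Fin n → ℕ) (hc : ∑ i, c i = n) (p : GL (Fin n) F) :
    p ∈ Cfsg.parabolicGL n F c ↔
      ∀ d ∈ Dset c, (Std n F d).map
        (Matrix.toLin' (p : Matrix (Fin n) (Fin n) F)) ≤ Std n F d := by
  change (p : Matrix (Fin n) (Fin n) F).BlockTriangular (Cfsg.compLabel c) ↔ _
  constructor
  · intro h d hd
    rw [map_Std_le_iff]
    intro i j hj hi
    apply h
    simp only [Dset, Finset.mem_filter, Finset.mem_image, Finset.mem_univ, true_and] at hd
    obtain ⟨⟨s, rfl⟩, _, _⟩ := hd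
    have h1 : (s : ℕ) < Cfsg.compLabel c i := (lt_compLabel_iff c i s).mpr hi
    by_contra hcon
    have h2 : (s : ℕ) < Cfsg.compLabel c j := lt_of_lt_of_le h1 (not_lt.mp hcon)
    have := (lt_compLabel_iff c j s).mp h2
    omega
  · intro h i j hij
    have hjn := compLabel_lt c hc j
    set s : Fin n := ⟨Cfsg.compLabel c j, hjn⟩ with hs
    have h1 : psum c (s.val + 1) ≤ i := (lt_compLabel_iff c i s).mp hij
    have h2 : ¬ psum c (s.val + 1) ≤ j := by
      intro h2
      have := (lt_compLabel_iff c j s).mpr h2
      simp [hs] at this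
    have hd : psum c (s.val + 1) ∈ Dset c := by
      simp only [Dset, Finset.mem_filter, Finset.mem_image, Finset.mem_univ, true_and]
      refine ⟨⟨s, rfl⟩, ?_, ?_⟩
      · omega
      · have := i.isLt; omega
    have := (map_Std_le_iff _ _).mp (h _ hd) i j (not_le.mp h2) h1
    exact this

theorem toLin'_injective (g : GL (Fin n) F) :
    Function.Injective (Matrix.toLin' (g : Matrix (Fin n) (Fin n) F)) := by
  intro u v huv
  have := congrArg (Matrix.toLin' ((g⁻¹ : GL (Fin n) F) : Matrix (Fin n) (Fin n) F)) huv
  simpa [← LinearMap.comp_apply, ← Matrix.toLin'_mul] using this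

theorem map_mul (g h : GL (Fin n) F) (U : Submodule F (Fin n → F)) :
    U.map (Matrix.toLin' ((g * h : GL (Fin n) F) : Matrix (Fin n) (Fin n) F)) =
      (U.map (Matrix.toLin' (h : Matrix (Fin n) (Fin n) F))).map
        (Matrix.toLin' (g : Matrix (Fin n) (Fin n) F)) := by
  rw [Units.val_mul, Matrix.toLin'_mul, Submodule.map_comp]

theorem map_one (U : Submodule F (Fin n → F)) :
    U.map (Matrix.toLin' ((1 : GL (Fin n) F) : Matrix (Fin n) (Fin n) F)) = U := by
  rw [Units.val_one, Matrix.toLin'_one, Submodule.map_id]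

theorem map_eq_of_mem_parabolic (c : Fin n → ℕ) (hc : ∑ i, c i = n) {p : GL (Fin n) F}
    (hp : p ∈ Cfsg.parabolicGL n F c) {d : ℕ} (hd : d ∈ Dset c) :
    (Std n F d).map (Matrix.toLin' (p : Matrix (Fin n) (Fin n) F)) = Std n F d := by
  apply le_antisymm ((mem_parabolic_iff c hc p).mp hp d hd)
  have hp' : p⁻¹ ∈ Cfsg.parabolicGL n F c := inv_mem hp
  have h1 := (mem_parabolic_iff c hc p⁻¹).mp hp' d hd
  have h2 := Submodule.map_mono (f := Matrix.toLin' (p : Matrix (Fin n) (Fin n) F)) h1
  rw [← map_mul, mul_inv_cancel, map_one] at h2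
  exact h2

theorem finrank_map (g : GL (Fin n) F) (U : Submodule F (Fin n → F)) :
    finrank F (U.map (Matrix.toLin' (g : Matrix (Fin n) (Fin n) F))) = finrank F U :=
  (Submodule.equivMapOfInjective _ (toLin'_injective g) U).finrank_eq.symm

/-- adapted bases: a flag is the image of the standard flag. -/
theorem exists_adapted (D : Finset ℕ) (hD : D ⊆ Finset.Ico 1 n) (f : ℕ → Submodule F (Fin n → F))
    (hdim : ∀ d ∈ D, finrank F (f d) = d) (hmono : ∀ d ∈ D, ∀ e ∈ D, d ≤ e → f d ≤ f e) :
    ∃ g : GL (Fin n) F, ∀ d ∈ D,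
      (Std n F d).map (Matrix.toLin' (g : Matrix (Fin n) (Fin n) F)) = f d := by
  classical
  have step : ∀ k, k ≤ n → ∃ b : Fin k → (Fin n → F), LinearIndependent F b ∧
      ∀ (j : Fin k) (d : ℕ), d ∈ D → j.val < d → b j ∈ f d := by
    intro k
    induction k with
    | zero =>
      intro _
      exact ⟨Fin.elim0, linearIndependent_empty_type, fun j => j.elim0⟩
    | succ k ih =>
      intro hk
      obtain ⟨b, hb, hbf⟩ := ih (by omega)
      set S := Submodule.span F (Set.range b) with hS
      have hSfr : finrank F S = k := by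
        rw [hS, finrank_span_eq_card hb, Fintype.card_fin]
      have hw : ∃ w, w ∉ S ∧ ∀ d ∈ D, k < d → w ∈ f d := by
        by_cases hne : (D.filter (fun d => k < d)).Nonempty
        · set d₀ := (D.filter (fun d => k < d)).min' hne with hd₀
          have hd₀mem := Finset.min'_mem _ hne
          rw [← hd₀, Finset.mem_filter] at hd₀mem
          have hnle : ¬ f d₀ ≤ S := by
            intro hle
            have := Submodule.finrank_mono hle
            rw [hSfr, hdim d₀ hd₀mem.1] at this
            omega
          obtain ⟨w, hwf, hwS⟩ := SetLike.not_le_iff_exists.mp hnle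
          refine ⟨w, hwS, ?_⟩
          intro d hd hkd
          have : d₀ ≤ d := Finset.min'_le _ _ (Finset.mem_filter.mpr ⟨hd, hkd⟩)
          exact hmono d₀ hd₀mem.1 d hd this hwf
        · have hlt : S < ⊤ := by
            rw [lt_top_iff_ne_top]
            intro h
            have : finrank F S = n := by rw [h, finrank_top, Module.finrank_fin_fun]
            omega
          obtain ⟨w, _, hw⟩ := SetLike.exists_of_lt hlt
          refine ⟨w, hw, ?_⟩
          intro d hd hkd
          exact absurd ⟨d, Finset.mem_filter.mpr ⟨hd, hkd⟩⟩ hne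
      obtain ⟨w, hwS, hwf⟩ := hw
      refine ⟨Fin.snoc b w, ?_, ?_⟩
      · rw [linearIndependent_finSnoc]
        exact ⟨hb, hwS⟩
      · intro j d hd hjd
        induction j using Fin.lastCases with
        | last =>
          rw [Fin.snoc_last]
          exact hwf d hd (by simpa using hjd)
        | cast j =>
          rw [Fin.snoc_castSucc]
          exact hbf j d hd (by simpa using hjd)
  obtain ⟨b, hb, hbf⟩ := step n le_rfl
  set A : Matrix (Fin n) (Fin n) F := Matrix.of fun i j => b j i with hA
  have hcol : A.col = b := by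
    funext j i
    rfl
  have hunit : IsUnit A := by
    rw [← Matrix.linearIndependent_cols_iff_isUnit, hcol]
    exact hb
  refine ⟨hunit.unit, ?_⟩
  intro d hd
  have hdn : d ≤ n := by
    have := Finset.mem_Ico.mp (hD hd); omega
  apply Submodule.eq_of_le_of_finrank_eq
  · rw [Submodule.map_le_iff_le_comap]
    unfold Std
    rw [Submodule.span_le]
    rintro _ ⟨j, rfl⟩
    change Matrix.toLin' (hunit.unit : Matrix (Fin n) (Fin n) F) (Pi.single j.1 1) ∈ f d
    have : Matrix.toLin' (hunit.unit : Matrix (Fin n) (Fin n) F) (Pi.single j.1 1) = b j.1 := by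
      funext i
      rw [toLin'_single, IsUnit.unit_spec]
      rfl
    rw [this]
    exact hbf j.1 d hd j.2
  · rw [finrank_map, finrank_Std hdn, hdim d hd]

end Cfsg.Agent.Lib.Helper42.Fl
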