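import Cfsg.Agent.Lib.Helper42.FlF
import Cfsg.Prelude.Def_ParabolicCharacters

/-!
# Fixed cosets of a parabolic subgroup are invariant flags
-/

set_option autoImplicit false

namespace Cfsg.Agent.Lib.Helper42.Fl

open Module Polynomial
open scoped MatrixGroups

universe w

variable {F : Type w} [Field F] {n : ℕ}

/-- the flag attached to a group element. -/
noncomputable def flagOf (D : Finset ℕ) (g : GL (Fin n) F) : ℕ → Submodule F (Fin n → F) :=
  fun d => open Classical in
    if d ∈ D then (Std n F d).map (Matrix.toLin' (g : Matrix (Fin n) (Fin n) F)) else ⊥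

theorem flagOf_of_mem {D : Finset ℕ} (g : GL (Fin n) F) {d : ℕ} (hd : d ∈ D) :
    flagOf D g d = (Std n F d).map (Matrix.toLin' (g : Matrix (Fin n) (Fin n) F)) := by
  simp [flagOf, hd]

theorem flagOf_of_not_mem {D : Finset ℕ} (g : GL (Fin n) F) {d : ℕ} (hd : d ∉ D) :
    flagOf D g d = ⊥ := by
  simp [flagOf, hd]

theorem flagOf_eq_iff (c : Fin n → ℕ) (hc : ∑ i, c i = n) (g g' : GL (Fin n) F) :
    flagOf (Dset c) g = flagOf (Dset c) g' ↔ g⁻¹ * g' ∈ Cfsg.parabolicGL n F c := by
  constructor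
  · intro h
    rw [mem_parabolic_iff c hc]
    intro d hd
    have h1 := congrFun h d
    rw [flagOf_of_mem g hd, flagOf_of_mem g' hd] at h1
    rw [map_mul, ← h1, ← map_mul, inv_mul_cancel, map_one]
  · intro h
    funext d
    by_cases hd : d ∈ Dset c
    · rw [flagOf_of_mem g hd, flagOf_of_mem g' hd]
      have h1 := map_eq_of_mem_parabolic c hc h hd
      have h2 : g' = g * (g⁻¹ * g') := by group
      conv_rhs => rw [h2, map_mul, h1]
    · rw [flagOf_of_not_mem g hd, flagOf_of_not_mem g' hd]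

theorem isFl_flagOf_iff (c : Fin n → ℕ) (hc : ∑ i, c i = n) (x g : GL (Fin n) F) :
    IsFl (Matrix.toLin' (x : Matrix (Fin n) (Fin n) F)) (Dset c) ⊤ (flagOf (Dset c) g) ↔
      g⁻¹ * x * g ∈ Cfsg.parabolicGL n F c := by
  constructor
  · intro h
    rw [mem_parabolic_iff c hc]
    intro d hd
    have h1 := (h.1 d hd).2.1
    rw [flagOf_of_mem g hd, Module.End.mem_invtSubmodule_iff_map_le, ← map_mul] at h1
    have h2 := Submodule.map_mono
      (f := Matrix.toLin' ((g⁻¹ : GL (Fin n) F) : Matrix (Fin n) (Fin n) F)) h1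
    rw [← map_mul, ← map_mul, inv_mul_cancel, map_one, ← mul_assoc] at h2
    exact h2
  · intro h
    refine ⟨?_, ?_, ?_⟩
    · intro d hd
      have hdn : d ≤ n := by
        have := Finset.mem_Ico.mp (Dset_subset c hd); omega
      rw [flagOf_of_mem g hd]
      refine ⟨by rw [finrank_map, finrank_Std hdn], ?_, le_top⟩
      rw [Module.End.mem_invtSubmodule_iff_map_le, ← map_mul]
      have h1 := (mem_parabolic_iff c hc _).mp h d hd
      have h2 := Submodule.map_mono
        (f := Matrix.toLin' (g : Matrix (Fin n) (Fin n) F)) h1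
      rw [← map_mul] at h2
      have h3 : g * (g⁻¹ * x * g) = x * g := by group
      rw [h3] at h2
      exact h2
    · intro d hd
      exact flagOf_of_not_mem g hd
    · intro d hd e he hde
      rw [flagOf_of_mem g hd, flagOf_of_mem g he]
      exact Submodule.map_mono (Std_mono hde)

/-- the number of fixed cosets of a standard parabolic subgroup equals the number of invariant
flags. -/
theorem fixedPointCharacter_eq (c : Fin n → ℕ) (hc : ∑ i, c i = n) (x : GL (Fin n) F) :
    Cfsg.fixedPointCharacter (Cfsg.parabolicGL n F c) x =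
      (NN (Matrix.toLin' (x : Matrix (Fin n) (Fin n) F)) (Dset c) ⊤ : ℂ) := by
  unfold Cfsg.fixedPointCharacter NN
  congr 1
  set P := Cfsg.parabolicGL n F c with hP
  -- the map on cosets
  let Θ₀ : GL (Fin n) F ⧸ P → (ℕ → Submodule F (Fin n → F)) :=
    Quotient.lift (fun g => flagOf (Dset c) g) (by
      intro a b hab
      have : a⁻¹ * b ∈ P := QuotientGroup.leftRel_apply.mp hab
      exact (flagOf_eq_iff c hc a b).mpr this)
  have hΘ₀ : ∀ g : GL (Fin n) F, Θ₀ (g : GL (Fin n) F ⧸ P) = flagOf (Dset c) g := fun g => rfl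
  have hfix : ∀ g : GL (Fin n) F, ((g : GL (Fin n) F ⧸ P) ∈ MulAction.fixedBy (GL (Fin n) F ⧸ P) x) ↔
      g⁻¹ * x * g ∈ P := by
    intro g
    rw [MulAction.mem_fixedBy]
    change ((x * g : GL (Fin n) F) : GL (Fin n) F ⧸ P) = (g : GL (Fin n) F ⧸ P) ↔ _
    rw [eq_comm, QuotientGroup.eq, ← mul_assoc]
  apply Nat.card_congr
  refine Equiv.ofBijective
    (fun y : MulAction.fixedBy (GL (Fin n) F ⧸ P) x => (⟨Θ₀ y.1, ?_⟩ :
      {f : ℕ → Submodule F (Fin n → F) //
        IsFl (Matrix.toLin' (x : Matrix (Fin n) (Fin n) F)) (Dset c) ⊤ f})) ⟨?_, ?_⟩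
  · obtain ⟨y, hy⟩ := y
    induction y using QuotientGroup.induction_on with
    | H g =>
      rw [hΘ₀]
      exact (isFl_flagOf_iff c hc x g).mpr ((hfix g).mp hy)
  · rintro ⟨y, hy⟩ ⟨y', hy'⟩ h
    have h' : Θ₀ y = Θ₀ y' := congrArg Subtype.val h
    apply Subtype.ext
    induction y using QuotientGroup.induction_on with
    | H g =>
      induction y' using QuotientGroup.induction_on with
      | H g' =>
        rw [hΘ₀, hΘ₀] at h'
        exact QuotientGroup.eq.mpr ((flagOf_eq_iff c hc g g').mp h')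
  · rintro ⟨f, hf⟩
    obtain ⟨g, hg⟩ := exists_adapted (Dset c) (Dset_subset c) f
      (fun d hd => (hf.1 d hd).1) hf.2.2
    have hfg : flagOf (Dset c) g = f := by
      funext d
      by_cases hd : d ∈ Dset c
      · rw [flagOf_of_mem g hd, hg d hd]
      · rw [flagOf_of_not_mem g hd, hf.2.1 d hd]
    have hmem : g⁻¹ * x * g ∈ P := (isFl_flagOf_iff c hc x g).mp (hfg ▸ hf)
    refine ⟨⟨(g : GL (Fin n) F ⧸ P), (hfix g).mpr hmem⟩, ?_⟩
    apply Subtype.ext
    exact hfg

end Cfsg.Agent.Lib.Helper42.Fl
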