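import Cfsg.Agent.Lib.Helper42.FlF

/-!
# The permutations occurring in the Steinberg alternating sum
-/

set_option autoImplicit false

namespace Cfsg.Agent.Lib.Helper42.Fl

open Cfsg.Agent.Lib.Helper38.Flag (psum psum_succ psum_mono psum_n inner_sum_eq ext0)

variable {n : ℕ}

/-- the validity condition on permutations in the Steinberg alternating sum. -/
def Valid (κ : Equiv.Perm (Fin n)) : Prop := ∀ i : Fin n, (κ i).val ≤ 1 + i.val

/-- the composition attached to a permutation. -/
def comp (κ : Equiv.Perm (Fin n)) : Fin n → ℕ := fun i => 1 + i.val - (κ i).val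

theorem sum_comp {κ : Equiv.Perm (Fin n)} (h : Valid κ) : ∑ i, comp κ i = n := by
  have h1 : ∑ i : Fin n, (comp κ i + (κ i).val) = ∑ i : Fin n, (1 + i.val) := by
    apply Finset.sum_congr rfl
    intro i _
    have := h i
    unfold comp
    omega
  have h2 : ∑ i : Fin n, (κ i).val = ∑ i : Fin n, i.val :=
    Equiv.sum_comp κ (fun i : Fin n => i.val)
  rw [Finset.sum_add_distrib, Finset.sum_add_distrib, h2] at h1
  simp at h1
  omega

theorem image_Iic {κ : Equiv.Perm (Fin n)} (h : Valid κ) {b : Fin n} (hb : (κ b).val ≤ b.val) :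
    (Finset.Iic b).image κ = Finset.Iic b := by
  apply Finset.eq_of_subset_of_card_le
  · intro y hy
    obtain ⟨j, hj, rfl⟩ := Finset.mem_image.mp hy
    rw [Finset.mem_Iic] at hj ⊢
    rcases eq_or_lt_of_le hj with rfl | hlt
    · exact Fin.le_def.mpr hb
    · have := h j
      have : j.val < b.val := hlt
      exact Fin.le_def.mpr (by omega)
  · rw [Finset.card_image_of_injective _ κ.injective]

theorem psum_of_nonascent {κ : Equiv.Perm (Fin n)} (h : Valid κ) {b : Fin n}
    (hb : (κ b).val ≤ b.val) : psum (comp κ) (b.val + 1) = b.val + 1 := by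
  rw [← inner_sum_eq (comp κ) b, Finset.filter_ge_eq_Iic]
  have h1 : ∑ j ∈ Finset.Iic b, (comp κ j + (κ j).val) = ∑ j ∈ Finset.Iic b, (1 + j.val) := by
    apply Finset.sum_congr rfl
    intro i _
    have := h i
    unfold comp
    omega
  have h2 : ∑ j ∈ Finset.Iic b, (κ j).val = ∑ j ∈ Finset.Iic b, j.val := by
    conv_rhs => rw [← image_Iic h hb]
    rw [Finset.sum_image (fun x _ y _ hxy => κ.injective hxy)]
  rw [Finset.sum_add_distrib, Finset.sum_add_distrib, h2] at h1
  simp only [Finset.sum_const, Fin.card_Iic, smul_eq_mul, mul_one] at h1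
  omega

theorem ext0_comp (κ : Equiv.Perm (Fin n)) (j : Fin n) : ext0 (comp κ) j.val = comp κ j := by
  simp [ext0]

theorem mem_Dset_comp {κ : Equiv.Perm (Fin n)} (h : Valid κ) (d : ℕ) :
    d ∈ Dset (comp κ) ↔ ∃ b : Fin n, (κ b).val ≤ b.val ∧ b.val + 1 < n ∧ d = b.val + 1 := by
  constructor
  · intro hd
    simp only [Dset, Finset.mem_filter, Finset.mem_image, Finset.mem_univ, true_and] at hd
    obtain ⟨⟨s, rfl⟩, hpos, hlt⟩ := hd
    have claim : ∀ s : ℕ, s < n → psum (comp κ) (s + 1) = 0 ∨
        ∃ b : Fin n, (κ b).val ≤ b.val ∧ b.val ≤ s ∧ psum (comp κ) (s + 1) = b.val + 1 := by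
      intro s
      induction s with
      | zero =>
        intro h0
        by_cases hb : (κ ⟨0, h0⟩).val ≤ 0
        · right
          have hb' : (κ ⟨0, h0⟩).val ≤ (⟨0, h0⟩ : Fin n).val := hb
          exact ⟨⟨0, h0⟩, hb', le_rfl, psum_of_nonascent h hb'⟩
        · left
          rw [psum_succ]
          have := ext0_comp κ ⟨0, h0⟩
          simp only at this
          rw [this]
          have hv := h ⟨0, h0⟩
          simp only [psum, Finset.range_zero, Finset.sum_empty, comp]
          simp only at hv hb
          omega
      | succ s ih =>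
        intro hs
        by_cases hb : (κ ⟨s + 1, hs⟩).val ≤ s + 1
        · right
          exact ⟨⟨s + 1, hs⟩, hb, le_rfl, psum_of_nonascent h hb⟩
        · have hzero : ext0 (comp κ) (s + 1) = 0 := by
            have := ext0_comp κ ⟨s + 1, hs⟩
            simp only at this
            rw [this]
            have hv := h ⟨s + 1, hs⟩
            simp only [comp]
            simp only at hv
            omega
          rw [psum_succ, hzero, add_zero]
          rcases ih (by omega) with h0 | ⟨b, hb1, hb2, hb3⟩
          · exact Or.inl h0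
          · exact Or.inr ⟨b, hb1, by omega, hb3⟩
    rcases claim s.val s.isLt with h0 | ⟨b, hb1, _, hb3⟩
    · omega
    · exact ⟨b, hb1, by omega, hb3⟩
  · rintro ⟨b, hb, hbn, rfl⟩
    simp only [Dset, Finset.mem_filter, Finset.mem_image, Finset.mem_univ, true_and]
    exact ⟨⟨b, psum_of_nonascent h hb⟩, by omega, hbn⟩

theorem valid_unique {κ κ' : Equiv.Perm (Fin n)} (h : Valid κ) (h' : Valid κ')
    (hasc : ∀ i : Fin n, (κ i).val = i.val + 1 ↔ (κ' i).val = i.val + 1) : κ = κ' := by
  apply Equiv.ext
  intro i
  induction' hk : i.val using Nat.strong_induction_on with k ih generalizing i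
  by_cases hi : (κ i).val = i.val + 1
  · exact Fin.ext (by rw [hi, (hasc i).mp hi])
  · have hi' : ¬ (κ' i).val = i.val + 1 := fun h0 => hi ((hasc i).mpr h0)
    have h1 : (κ i).val ≤ i.val := by have := h i; omega
    have h1' : (κ' i).val ≤ i.val := by have := h' i; omega
    set T := (Finset.Iio i).image κ with hT
    have hT' : T = (Finset.Iio i).image κ' := by
      apply Finset.image_congr
      intro j hj
      have hji : j < i := Finset.mem_Iio.mp hj
      exact ih j.val (by rw [← hk]; exact hji) j rfl
    have hsub : T ⊆ Finset.Iic i := by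
      intro y hy
      obtain ⟨j, hj, rfl⟩ := Finset.mem_image.mp hy
      have hji' : j < i := Finset.mem_Iio.mp hj
      have hji : j.val < i.val := Fin.lt_def.mp hji'
      have := h j
      exact Finset.mem_Iic.mpr (Fin.le_def.mpr (by omega))
    have hcard : T.card = i.val := by
      rw [hT, Finset.card_image_of_injective _ κ.injective, Fin.card_Iio]
    have hmem : κ i ∈ Finset.Iic i \ T := by
      rw [Finset.mem_sdiff]
      refine ⟨Finset.mem_Iic.mpr (Fin.le_def.mpr h1), ?_⟩
      intro hin
      obtain ⟨j, hj, hje⟩ := Finset.mem_image.mp hin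
      have : j = i := κ.injective hje
      rw [this] at hj
      exact lt_irrefl _ (Finset.mem_Iio.mp hj)
    have hmem' : κ' i ∈ Finset.Iic i \ T := by
      rw [Finset.mem_sdiff]
      refine ⟨Finset.mem_Iic.mpr (Fin.le_def.mpr h1'), ?_⟩
      intro hin
      rw [hT'] at hin
      obtain ⟨j, hj, hje⟩ := Finset.mem_image.mp hin
      have : j = i := κ'.injective hje
      rw [this] at hj
      exact lt_irrefl _ (Finset.mem_Iio.mp hj)
    have hc1 : (Finset.Iic i \ T).card = 1 := by
      rw [Finset.card_sdiff_of_subset hsub, Fin.card_Iic, hcard]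
      omega
    exact Finset.card_le_one.mp (le_of_eq hc1) _ hmem _ hmem'

theorem exists_valid_aux (m : ℕ) (A : Finset ℕ) : ∀ k, k ≤ m →
    ∃ κ : Equiv.Perm (Fin (m + 1)), Valid κ ∧
      (∀ i : Fin (m + 1), (κ i).val = i.val + 1 ↔ (i.val ∈ A ∧ i.val < k)) ∧
      (∀ i : Fin (m + 1), k < i.val → κ i = i) ∧
      Equiv.Perm.sign κ = (-1 : ℤˣ) ^ (A.filter (· < k)).card := by
  intro k
  induction k with
  | zero =>
    intro _
    refine ⟨1, ?_, ?_, ?_, ?_⟩
    · intro i; simp
    · intro i; simp
    · intro i _; rfl
    · simp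
  | succ k ih =>
    intro hk
    obtain ⟨κ, hv, hasc, hfix, hsign⟩ := ih (by omega)
    by_cases hkA : k ∈ A
    · set a : Fin (m + 1) := ⟨k, by omega⟩ with ha
      set b : Fin (m + 1) := ⟨k + 1, by omega⟩ with hb
      have hab : a ≠ b := by
        intro h0
        have := congrArg Fin.val h0
        simp [ha, hb] at this
      have hκb : κ b = b := hfix b (by simp [hb])
      have hκa : (κ a).val ≤ k := by
        have hak : a.val = k := rfl
        have h1 := hv a
        have h2 : ¬ (κ a).val = a.val + 1 := by
          rw [hasc a]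
          rintro ⟨_, h0⟩
          rw [hak] at h0
          exact lt_irrefl _ h0
        rw [hak] at h1 h2
        omega
      refine ⟨κ * Equiv.swap a b, ?_, ?_, ?_, ?_⟩
      · intro i
        rw [Equiv.Perm.mul_apply]
        by_cases hia : i = a
        · rw [hia, Equiv.swap_apply_left, hκb]
          show k + 1 ≤ 1 + k
          omega
        · by_cases hib : i = b
          · rw [hib, Equiv.swap_apply_right]
            show (κ a).val ≤ 1 + (k + 1)
            omega
          · rw [Equiv.swap_apply_of_ne_of_ne hia hib]
            exact hv i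
      · intro i
        rw [Equiv.Perm.mul_apply]
        by_cases hia : i = a
        · rw [hia, Equiv.swap_apply_left, hκb]
          show k + 1 = k + 1 ↔ (k ∈ A ∧ k < k + 1)
          exact ⟨fun _ => ⟨hkA, Nat.lt_succ_self k⟩, fun _ => rfl⟩
        · by_cases hib : i = b
          · rw [hib, Equiv.swap_apply_right]
            show (κ a).val = (k + 1) + 1 ↔ (k + 1 ∈ A ∧ k + 1 < k + 1)
            constructor
            · intro h0; omega
            · rintro ⟨_, h0⟩; omega
          · rw [Equiv.swap_apply_of_ne_of_ne hia hib, hasc i]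
            have hik : i.val ≠ k := by
              intro h0
              apply hia
              exact Fin.ext (by simp [ha, h0])
            constructor
            · rintro ⟨h1, h2⟩; exact ⟨h1, by omega⟩
            · rintro ⟨h1, h2⟩; exact ⟨h1, by omega⟩
      · intro i hi
        rw [Equiv.Perm.mul_apply]
        have hia : i ≠ a := by
          intro h0; rw [h0] at hi; simp [ha] at hi
        have hib : i ≠ b := by
          intro h0; rw [h0] at hi; simp [hb] at hi
        rw [Equiv.swap_apply_of_ne_of_ne hia hib]
        exact hfix i (by omega)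
      · rw [Equiv.Perm.sign_mul, Equiv.Perm.sign_swap hab, hsign]
        have : A.filter (· < k + 1) = insert k (A.filter (· < k)) := by
          ext x
          simp only [Finset.mem_filter, Finset.mem_insert]
          constructor
          · rintro ⟨h1, h2⟩
            by_cases hx : x = k
            · exact Or.inl hx
            · exact Or.inr ⟨h1, by omega⟩
          · rintro (rfl | ⟨h1, h2⟩)
            · exact ⟨hkA, by omega⟩
            · exact ⟨h1, by omega⟩
        rw [this, Finset.card_insert_of_notMem (by simp), pow_succ]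
    · refine ⟨κ, hv, ?_, ?_, ?_⟩
      · intro i
        rw [hasc i]
        constructor
        · rintro ⟨h1, h2⟩; exact ⟨h1, by omega⟩
        · rintro ⟨h1, h2⟩
          refine ⟨h1, ?_⟩
          have : i.val ≠ k := fun h0 => hkA (h0 ▸ h1)
          omega
      · intro i hi
        exact hfix i (by omega)
      · rw [hsign]
        congr 1
        congr 1
        ext x
        simp only [Finset.mem_filter]
        constructor
        · rintro ⟨h1, h2⟩; exact ⟨h1, by omega⟩
        · rintro ⟨h1, h2⟩
          refine ⟨h1, ?_⟩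
          have : x ≠ k := fun h0 => hkA (h0 ▸ h1)
          omega

/-- existence of the valid permutation with a given dimension set. -/
theorem exists_valid (m : ℕ) (D : Finset ℕ) (hD : D ⊆ Finset.Ico 1 (m + 1)) :
    ∃ κ : Equiv.Perm (Fin (m + 1)), Valid κ ∧ Dset (comp κ) = D ∧
      Equiv.Perm.sign κ = (-1 : ℤˣ) ^ (m - D.card) := by
  set A := (Finset.range m).filter (fun i => i + 1 ∉ D) with hA
  obtain ⟨κ, hv, hasc, _, hsign⟩ := exists_valid_aux m A m le_rfl
  have hascent : ∀ i : Fin (m + 1), (κ i).val = i.val + 1 ↔ (i.val < m ∧ i.val + 1 ∉ D) := by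
    intro i
    rw [hasc i, hA, Finset.mem_filter, Finset.mem_range]
    tauto
  refine ⟨κ, hv, ?_, ?_⟩
  · ext d
    rw [mem_Dset_comp hv]
    constructor
    · rintro ⟨b, hb1, hb2, rfl⟩
      by_contra hcon
      have := (hascent b).mpr ⟨by omega, hcon⟩
      omega
    · intro hd
      have hdI := Finset.mem_Ico.mp (hD hd)
      refine ⟨⟨d - 1, by omega⟩, ?_, ?_, ?_⟩
      · have h1 := hv ⟨d - 1, by omega⟩
        have h2 : ¬ (κ ⟨d - 1, by omega⟩).val = (⟨d - 1, by omega⟩ : Fin (m + 1)).val + 1 := by
          rw [hascent]
          simp only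
          have : d - 1 + 1 = d := by omega
          rw [this]
          tauto
        simp only at h1 h2 ⊢
        omega
      · simp only; omega
      · simp only; omega
  · rw [hsign]
    congr 1
    have hAf : A.filter (· < m) = A := by
      apply Finset.filter_true_of_mem
      intro x hx
      rw [hA, Finset.mem_filter, Finset.mem_range] at hx
      exact hx.1
    rw [hAf]
    have hcompl : A.card + D.card = m := by
      have h1 : D.card = ((Finset.range m).filter (fun i => i + 1 ∈ D)).card := by
        refine Finset.card_bij' (fun d _ => d - 1) (fun i _ => i + 1) ?hi ?hj ?li ?ri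
        case hi =>
          intro d hd
          have := Finset.mem_Ico.mp (hD hd)
          rw [Finset.mem_filter, Finset.mem_range]
          refine ⟨by omega, ?_⟩
          have : d - 1 + 1 = d := by omega
          rw [this]; exact hd
        case hj =>
          intro i hi
          exact (Finset.mem_filter.mp hi).2
        case li =>
          intro d hd
          have := Finset.mem_Ico.mp (hD hd)
          show d - 1 + 1 = d
          omega
        case ri =>
          intro i _
          show i + 1 - 1 = i
          omega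
      rw [h1, hA, add_comm, Finset.card_filter_add_card_filter_not, Finset.card_range]
    omega

/-- uniqueness of the valid permutation with a given dimension set. -/
theorem valid_unique_of_Dset {κ κ' : Equiv.Perm (Fin n)} (h : Valid κ) (h' : Valid κ')
    (hD : Dset (comp κ) = Dset (comp κ')) : κ = κ' := by
  apply valid_unique h h'
  have key : ∀ {κ : Equiv.Perm (Fin n)}, Valid κ → ∀ i : Fin n,
      (κ i).val = i.val + 1 ↔ (i.val + 1 < n ∧ i.val + 1 ∉ Dset (comp κ)) := by
    intro κ h i
    constructor
    · intro hi
      refine ⟨by have := (κ i).isLt; omega, ?_⟩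
      rw [mem_Dset_comp h]
      rintro ⟨b, hb1, _, hb3⟩
      have : b = i := Fin.ext (by omega)
      rw [this] at hb1
      omega
    · rintro ⟨hi1, hi2⟩
      by_contra hcon
      apply hi2
      rw [mem_Dset_comp h]
      have := h i
      exact ⟨i, by omega, hi1, rfl⟩
  intro i
  rw [key h i, key h' i, hD]

open Classical in
/-- reindexing the Steinberg alternating sum by dimension sets. -/
theorem sum_valid (m : ℕ) (Φ : Finset ℕ → ℂ) :
    ∑ κ ∈ Finset.univ.filter (fun κ : Equiv.Perm (Fin (m + 1)) => Valid κ),
        ((Equiv.Perm.sign κ : ℤ) : ℂ) * Φ (Dset (comp κ)) =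
      ∑ D ∈ (Finset.Ico 1 (m + 1)).powerset, (-1 : ℂ) ^ (m - D.card) * Φ D := by
  symm
  have hex : ∀ D ∈ (Finset.Ico 1 (m + 1)).powerset, ∃ κ : Equiv.Perm (Fin (m + 1)),
      Valid κ ∧ Dset (comp κ) = D ∧ Equiv.Perm.sign κ = (-1 : ℤˣ) ^ (m - D.card) :=
    fun D hD => exists_valid m D (Finset.mem_powerset.mp hD)
  refine Finset.sum_bij (fun D hD => Classical.choose (hex D hD)) ?_ ?_ ?_ ?_
  · intro D hD
    exact Finset.mem_filter.mpr ⟨Finset.mem_univ _, (Classical.choose_spec (hex D hD)).1⟩
  · intro D hD D' hD' h
    rw [← (Classical.choose_spec (hex D hD)).2.1, ← (Classical.choose_spec (hex D' hD')).2.1, h]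
  · intro κ hκ
    have hv : Valid κ := (Finset.mem_filter.mp hκ).2
    have hD : Dset (comp κ) ∈ (Finset.Ico 1 (m + 1)).powerset :=
      Finset.mem_powerset.mpr (Dset_subset _)
    refine ⟨Dset (comp κ), hD, ?_⟩
    exact valid_unique_of_Dset (Classical.choose_spec (hex _ hD)).1 hv
      (Classical.choose_spec (hex _ hD)).2.1
  · intro D hD
    obtain ⟨_, h2, h3⟩ := Classical.choose_spec (hex D hD)
    rw [h2, h3]
    congr 1
    simp

end Cfsg.Agent.Lib.Helper42.Fl
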