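import Mathlib
import Cfsg.Agent.Lib.Helper94.Iso8Defs

/-!
# ISO8-J6M (helper94's Iso8 hive, S3589): a unipotent isometry of order 8 on `H ⊥ H ⊥ A`, char 2
-/

set_option autoImplicit false
open Matrix

namespace Cfsg.Agent.Lib.Helper94.Iso8

/-- index type of the 6-dimensional space -/
abbrev j6m_I : Type := (Fin 2 ⊕ Fin 2) ⊕ Fin 2

section
variable {F : Type*} [Field F]

/-- the unipotent map `u` in coordinates -/
def j6m_f (a b : F) (v : j6m_I → F) : j6m_I → F :=
  Sum.elim
    (Sum.elim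
      ![v (.inl (.inl 0)) + v (.inl (.inl 1)) + b * v (.inl (.inr 1)) + a * v (.inr 0)
          + a ^ 2 * v (.inr 1),
        v (.inl (.inl 1)) + b * v (.inl (.inr 1)) + a * v (.inr 0) + a ^ 2 * v (.inr 1)]
      ![v (.inl (.inr 0)), v (.inl (.inr 0)) + v (.inl (.inr 1))])
    ![v (.inr 0) + a * v (.inr 1), v (.inl (.inr 1)) + v (.inr 1)]

/-- `u²` in coordinates (characteristic 2) -/
def j6m_f2 (a b : F) (v : j6m_I → F) : j6m_I → F :=
  Sum.elim
    (Sum.elim
      ![v (.inl (.inl 0)) + a * v (.inr 0) + a ^ 2 * v (.inl (.inr 1)) + b * v (.inl (.inr 0))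
          + b * v (.inl (.inr 1)),
        v (.inl (.inl 1)) + a ^ 2 * v (.inr 1) + a ^ 2 * v (.inl (.inr 1)) + b * v (.inl (.inr 0))]
      ![v (.inl (.inr 0)), v (.inl (.inr 1))])
    ![v (.inr 0) + a * v (.inl (.inr 1)), v (.inr 1) + v (.inl (.inr 0))]

/-- `u⁴` in coordinates (characteristic 2) -/
def j6m_f4 (a : F) (v : j6m_I → F) : j6m_I → F :=
  Sum.elim
    (Sum.elim
      ![v (.inl (.inl 0)) + a ^ 2 * v (.inl (.inr 1)), v (.inl (.inl 1)) + a ^ 2 * v (.inl (.inr 0))]
      ![v (.inl (.inr 0)), v (.inl (.inr 1))])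
    ![v (.inr 0), v (.inr 1)]

/-- `u` as a linear map -/
def j6m_L (a b : F) : (j6m_I → F) →ₗ[F] (j6m_I → F) where
  toFun := j6m_f a b
  map_add' v w := by
    funext i
    rcases i with (i | i) | i <;> fin_cases i <;> simp [j6m_f] <;> ring
  map_smul' c v := by
    funext i
    rcases i with (i | i) | i <;> fin_cases i <;> simp [j6m_f] <;> ring

lemma j6m_L_apply (a b : F) (v : j6m_I → F) : j6m_L a b v = j6m_f a b v := rfl

lemma j6m_isom [CharP F 2] (a b : F) (v : j6m_I → F) :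
    Cfsg.quadFormMinus 2 F a b (j6m_f a b v) = Cfsg.quadFormMinus 2 F a b v := by
  have h2 : (2 : F) = 0 := CharTwo.two_eq_zero
  simp only [Cfsg.quadFormMinus, Fin.sum_univ_two, j6m_f, Sum.elim_inl, Sum.elim_inr,
    Matrix.cons_val_zero, Matrix.cons_val_one]
  set x1 := v (.inl (.inl 0))
  set x2 := v (.inl (.inl 1))
  set y1 := v (.inl (.inr 0))
  set y2 := v (.inl (.inr 1))
  set s := v (.inr 0)
  set t := v (.inr 1)
  linear_combination (a * s * t + a * s * y1 + a * s * y2 + a^2 * t * y1 + a^2 * t * y2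
    + a^2 * t^2 + b * t * y2 + b * y1 * y2 + b * y2^2 + x2 * y1) * h2

lemma j6m_sq [CharP F 2] (a b : F) (v : j6m_I → F) :
    j6m_f a b (j6m_f a b v) = j6m_f2 a b v := by
  have h2 : (2 : F) = 0 := CharTwo.two_eq_zero
  funext i
  set x1 := v (.inl (.inl 0)) with hx1
  set x2 := v (.inl (.inl 1)) with hx2
  set y1 := v (.inl (.inr 0)) with hy1
  set y2 := v (.inl (.inr 1)) with hy2
  set s := v (.inr 0) with hs
  set t := v (.inr 1) with ht
  rcases i with (i | i) | i <;> fin_cases i <;>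
    simp only [j6m_f, j6m_f2, Sum.elim_inl, Sum.elim_inr, Matrix.cons_val_zero,
      Matrix.cons_val_one, Fin.zero_eta, Fin.mk_one, ← hx1, ← hx2, ← hy1, ← hy2, ← hs, ← ht]
  · linear_combination (a * s + 2 * a^2 * t + b * y2 + x2) * h2
  · linear_combination (a * s + a^2 * t + b * y2) * h2
  · linear_combination (y1) * h2
  · linear_combination (a * t) * h2
  · linear_combination (y2) * h2

lemma j6m_four [CharP F 2] (a b : F) (v : j6m_I → F) :
    j6m_f2 a b (j6m_f2 a b v) = j6m_f4 a v := by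
  have h2 : (2 : F) = 0 := CharTwo.two_eq_zero
  funext i
  set x1 := v (.inl (.inl 0)) with hx1
  set x2 := v (.inl (.inl 1)) with hx2
  set y1 := v (.inl (.inr 0)) with hy1
  set y2 := v (.inl (.inr 1)) with hy2
  set s := v (.inr 0) with hs
  set t := v (.inr 1) with ht
  rcases i with (i | i) | i <;> fin_cases i <;>
    simp only [j6m_f2, j6m_f4, Sum.elim_inl, Sum.elim_inr, Matrix.cons_val_zero,
      Matrix.cons_val_one, Fin.zero_eta, Fin.mk_one, ← hx1, ← hx2, ← hy1, ← hy2, ← hs, ← ht]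
  · linear_combination (a * s + a^2 * y2 + b * y1 + b * y2) * h2
  · linear_combination (a^2 * t + a^2 * y2 + b * y1) * h2
  · linear_combination (a * y2) * h2
  · linear_combination (y1) * h2

lemma j6m_eight [CharP F 2] (a : F) (v : j6m_I → F) :
    j6m_f4 a (j6m_f4 a v) = v := by
  have h2 : (2 : F) = 0 := CharTwo.two_eq_zero
  funext i
  set x1 := v (.inl (.inl 0)) with hx1
  set x2 := v (.inl (.inl 1)) with hx2
  set y1 := v (.inl (.inr 0)) with hy1
  set y2 := v (.inl (.inr 1)) with hy2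
  set s := v (.inr 0) with hs
  set t := v (.inr 1) with ht
  rcases i with (i | i) | i <;> fin_cases i <;>
    simp only [j6m_f4, Sum.elim_inl, Sum.elim_inr, Matrix.cons_val_zero,
      Matrix.cons_val_one, Fin.zero_eta, Fin.mk_one, ← hx1, ← hx2, ← hy1, ← hy2, ← hs, ← ht]
  · linear_combination (a^2 * y2) * h2
  · linear_combination (a^2 * y1) * h2

lemma j6m_toMatrix_pow (L : (j6m_I → F) →ₗ[F] (j6m_I → F)) (k : ℕ) :
    LinearMap.toMatrix' (L ^ k) = (LinearMap.toMatrix' L) ^ k := by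
  induction k with
  | zero => simp
  | succ k ih => rw [pow_succ, pow_succ, LinearMap.toMatrix'_mul, ih]

end

/-- ISO8-J6M: a unipotent isometry with a single Jordan block on `H ⊥ H ⊥ A` (order 8) -/
theorem has_J6m {F : Type*} [Field F] [CharP F 2] (a b : F) (ha : a ≠ 0) :
    HasMinus F a b 2 8 := by
  classical
  set L := j6m_L a b with hL
  have hL2 : ∀ v, L (L v) = j6m_f2 a b v := fun v => j6m_sq a b v
  have hL4 : ∀ v, (L ^ 4) v = j6m_f4 a v := by
    intro v
    have : L ^ 4 = L * L * L * L := by simp [pow_succ]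
    rw [this]
    simp only [Module.End.mul_apply, hL2, j6m_four]
  have hL8 : L ^ 8 = 1 := by
    apply LinearMap.ext
    intro v
    have : L ^ 8 = L ^ 4 * L ^ 4 := by rw [← pow_add]
    rw [this, Module.End.mul_apply, hL4, hL4, j6m_eight]
    rfl
  set M := LinearMap.toMatrix' L with hM
  have hM8 : M ^ 8 = 1 := by
    rw [hM, ← j6m_toMatrix_pow, hL8, LinearMap.toMatrix'_one]
  have hMv : ∀ v, M *ᵥ v = L v := by
    intro v
    rw [hM, ← Matrix.toLin'_apply, Matrix.toLin'_toMatrix']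
  let g : GL j6m_I F :=
    ⟨M, M ^ 7, by rw [← pow_succ']; exact hM8, by rw [← pow_succ]; exact hM8⟩
  have hg : g ∈ Cfsg.isometryGroup F (Cfsg.quadFormMinus 2 F a b) := by
    intro u v
    show Cfsg.quadFormMinus 2 F a b (M *ᵥ u) = Cfsg.quadFormMinus 2 F a b u
    rw [hMv]
    exact j6m_isom a b u
  refine ⟨⟨g, hg⟩, ?_⟩
  have h8 : (⟨g, hg⟩ : ↥(Cfsg.isometryGroup F (Cfsg.quadFormMinus 2 F a b))) ^ 2 ^ (2 + 1) = 1 := by
    apply Subtype.ext
    apply Units.ext
    simpa using hM8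
  have h4 : ¬ (⟨g, hg⟩ : ↥(Cfsg.isometryGroup F (Cfsg.quadFormMinus 2 F a b))) ^ 2 ^ 2 = 1 := by
    intro h
    have h' : M ^ 4 = 1 := by
      have := congrArg (fun x : ↥(Cfsg.isometryGroup F (Cfsg.quadFormMinus 2 F a b)) =>
        ((x : GL j6m_I F) : Matrix j6m_I j6m_I F)) h
      simpa using this
    have hL41 : L ^ 4 = 1 := by
      apply LinearMap.toMatrix'.injective
      rw [j6m_toMatrix_pow, ← hM, h', LinearMap.toMatrix'_one]
    have := hL4 (Pi.single (Sum.inl (Sum.inr 0)) 1)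
    rw [hL41] at this
    have h3 := congrFun this (Sum.inl (Sum.inl 1))
    simp [j6m_f4] at h3
    exact ha ((pow_eq_zero_iff (two_ne_zero)).mp h3.symm)
  have := orderOf_eq_prime_pow (p := 2) (n := 2) h4 h8
  simpa using this

end Cfsg.Agent.Lib.Helper94.Iso8
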