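import Cfsg.Agent.Lib.Helper30.L34.Defs

/-!
# L34 hive (helper30, S2088): leaf `L34-BASE` — the action of `SL₃(4)` on the 64 vectors `pt x`

UNUSED verified twin: the owner's `Cfsg.Agent.Lib.Helper30.L34.Base` declares the same three statements and is what
`S2088` imports; to leave no duplicate constant on main these copies live in their own namespace.
-/

set_option autoImplicit false

namespace Cfsg.Agent.Lib.Helper42.L34B

open Cfsg.Agent.Lib.Helper28.Sp44F4 Cfsg.Agent.Lib.Helper30.L34

universe u

theorem base_pt_zero (x : ℕ) : pt x 0 = code (x / 16) := rfl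
theorem base_pt_one (x : ℕ) : pt x 1 = code (x / 4) := rfl
theorem base_pt_two (x : ℕ) : pt x 2 = code x := rfl

theorem smul_pt (A : S3) (x : ℕ) (r : Fin 3) :
    (A • pt x) r = A.1 r 0 * code (x / 16) + A.1 r 1 * code (x / 4) + A.1 r 2 * code x := by
  have h : (A • pt x) r = (Matrix.mulVec A.1 (pt x)) r := rfl
  rw [h, Matrix.mulVec, dotProduct, Fin.sum_univ_three, base_pt_zero, base_pt_one, base_pt_two]

theorem base_code_inj (a b : ℕ) (h : code a = code b) : a % 4 = b % 4 := by
  unfold code at h
  have ha : a % 4 < 4 := Nat.mod_lt _ (by norm_num)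
  have hb : b % 4 < 4 := Nat.mod_lt _ (by norm_num)
  generalize a % 4 = u at *
  generalize b % 4 = v at *
  interval_cases u <;> interval_cases v <;> first | rfl | exact absurd h (by decide)

theorem pt_inj : ∀ x < 64, ∀ y < 64, pt x = pt y → x = y := by
  intro x hx y hy h
  have h0 := base_code_inj (x / 16) (y / 16) (by rw [← base_pt_zero x, ← base_pt_zero y, h])
  have h1 := base_code_inj (x / 4) (y / 4) (by rw [← base_pt_one x, ← base_pt_one y, h])
  have h2 := base_code_inj x y (by rw [← base_pt_two x, ← base_pt_two y, h])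
  omega

theorem base_code_vals : code 0 = 0 ∧ code 1 = 1 ∧ code 4 = 0 ∧ code 16 = 0 := by
  refine ⟨rfl, rfl, rfl, rfl⟩

theorem faithful : ∀ A B : S3, (∀ x ∈ List.range 64, A • pt x = B • pt x) → A = B := by
  intro A B h
  obtain ⟨c0, c1, c4, c16⟩ := base_code_vals
  have h16 := h 16 (by simp)
  have h4 := h 4 (by simp)
  have h1 := h 1 (by simp)
  apply Subtype.ext
  ext r c
  fin_cases c
  · have := congrFun h16 r
    rw [smul_pt, smul_pt] at this
    norm_num at this
    simpa [c0, c1, c4, c16] using this
  · have := congrFun h4 r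
    rw [smul_pt, smul_pt] at this
    norm_num at this
    simpa [c0, c1, c4, c16] using this
  · have := congrFun h1 r
    rw [smul_pt, smul_pt] at this
    norm_num at this
    simpa [c0, c1, c4, c16] using this

end Cfsg.Agent.Lib.Helper42.L34B
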