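import Cfsg.Agent.Lib.Helper6.Ls.Defs
import Cfsg.Agent.Lib.Helper13.UnitaryTorus
import Cfsg.Prelude.Def_Classical

set_option autoImplicit false

/-!
# Ls hive (helper6, S2334/S2335): leaf `LS-C-TOR2` `exists_torus2`

`t_a = diag(a, a^{-q}; a⁻¹, a^q)` on the two hyperbolic pairs `(e,f)`, `(u,u')`, identity on the orthogonal
complement; `a = ζ^k`, `k < q - 1`, for a generator `ζ` of `Fˣ`.
-/

namespace Cfsg.Agent.Lib.Helper6.Ls

open Module Matrix Cfsg.Agent.Lib.Helper99 Cfsg.Agent.Lib.Helper13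

section ctor2

variable {F : Type*} [Field F] [Fintype F] {q n : ℕ}

local notation "hh" => Cfsg.hermForm n F q

/-- scaling a hyperbolic pair: `v ↦ l v`, `w ↦ l^{-q} w`, identity on `⟨v,w⟩^⊥`. -/
theorem ctor2_pair (hF : Fintype.card F = q ^ 2) (v w : Fin n → F) (hvv : hh v v = 0)
    (hww : hh w w = 0) (hvw : hh v w = 1) (l : F) (hl : l ≠ 0) :
    ∃ D : GL (Fin n) F, D ∈ Cfsg.GU n F q ∧ (D : Matrix (Fin n) (Fin n) F).det = (l ^ q)⁻¹ * l ∧
      ∀ x, (D : Matrix (Fin n) (Fin n) F) *ᵥ x =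
        x + ((l - 1) * hh x w) • v + (((l ^ q)⁻¹ - 1) * hh x v) • w := by
  have hwv : hh w v = 1 := by
    rw [← hermForm_conj hF n v w, hvw, one_pow]
  have hlq : l ^ q ≠ 0 := pow_ne_zero _ hl
  set a' : F := (l ^ q)⁻¹ with ha'
  have ha'0 : a' ≠ 0 := inv_ne_zero hlq
  have ha'q : a' ^ q = l⁻¹ := by rw [ha', inv_pow, pow_q_pow_q hF]
  have hne₁ : 1 + (fun j => (a' - 1) * (v j) ^ q) ⬝ᵥ w ≠ 0 := by
    rw [utv_dot, hwv, mul_one, add_sub_cancel]
    exact ha'0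
  have hne₂ : 1 + (fun j => (l - 1) * (w j) ^ q) ⬝ᵥ v ≠ 0 := by
    rw [utv_dot, hvw, mul_one, add_sub_cancel]
    exact hl
  set d₁ : GL (Fin n) F := rk1GL w (fun j => (a' - 1) * (v j) ^ q) with hd₁
  set d₂ : GL (Fin n) F := rk1GL v (fun j => (l - 1) * (w j) ^ q) with hd₂
  have hd₁x : ∀ x, (d₁ : Matrix (Fin n) (Fin n) F) *ᵥ x = x + ((a' - 1) * hh x v) • w := by
    intro x
    rw [hd₁, coe_rk1GL _ _ hne₁, rk1_mulVec, utv_dot]
  have hd₂x : ∀ x, (d₂ : Matrix (Fin n) (Fin n) F) *ᵥ x = x + ((l - 1) * hh x w) • v := by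
    intro x
    rw [hd₂, coe_rk1GL _ _ hne₂, rk1_mulVec, utv_dot]
  have hBx : ∀ x, ((d₁ * d₂ : GL (Fin n) F) : Matrix (Fin n) (Fin n) F) *ᵥ x =
      x + ((l - 1) * hh x w) • v + ((a' - 1) * hh x v) • w := by
    intro x
    rw [Units.val_mul, ← mulVec_mulVec, hd₂x, hd₁x]
    simp only [hermForm_add_left, hermForm_smul_left, hvv, mul_zero, add_zero]
  have hGU : d₁ * d₂ ∈ Cfsg.GU n F q := by
    rw [mem_GU_iff]
    intro x y
    rw [hBx, hBx]
    simp only [hermForm_add_left, hermForm_add_right hF, hermForm_smul_left, hermForm_smul_right,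
      hvv, hww, hvw, hwv, mul_pow]
    have e2 : (hh y w) ^ q = hh w y := hermForm_conj hF n y w
    have e3 : (hh y v) ^ q = hh v y := hermForm_conj hF n y v
    rw [e2, e3, frob_sub hF, frob_sub hF, one_pow, ha'q]
    have k1 : l * l⁻¹ = 1 := mul_inv_cancel₀ hl
    have k2 : l ^ q * (l ^ q)⁻¹ = 1 := mul_inv_cancel₀ hlq
    rw [ha']
    field_simp
    ring
  have hdet : ((d₁ * d₂ : GL (Fin n) F) : Matrix (Fin n) (Fin n) F).det = (l ^ q)⁻¹ * l := by
    rw [Units.val_mul, Matrix.det_mul, hd₁, hd₂, coe_rk1GL _ _ hne₁, coe_rk1GL _ _ hne₂, det_rk1,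
      det_rk1, utv_dot, utv_dot, hwv, hvw, mul_one, mul_one, add_sub_cancel, add_sub_cancel]
  exact ⟨d₁ * d₂, hGU, hdet, hBx⟩

/-- the torus element on two orthogonal hyperbolic pairs. -/
theorem ctor2_elt (hF : Fintype.card F = q ^ 2) (e f u u' : Fin n → F)
    (hee : hh e e = 0) (hff : hh f f = 0) (hef : hh e f = 1)
    (huu : hh u u = 0) (hu'u' : hh u' u' = 0) (huu' : hh u u' = 1)
    (heu : hh e u = 0) (heu' : hh e u' = 0) (hfu : hh f u = 0) (hfu' : hh f u' = 0)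
    (a : F) (ha : a ≠ 0) :
    ∃ B : GL (Fin n) F, B ∈ suGL (F := F) n q ∧ (B : Matrix (Fin n) (Fin n) F) *ᵥ e = a • e ∧
      (B : Matrix (Fin n) (Fin n) F) *ᵥ u = a⁻¹ • u := by
  have hue : hh u e = 0 := hermForm_eq_zero_comm hF heu
  have huf : hh u f = 0 := hermForm_eq_zero_comm hF hfu
  obtain ⟨D₁, hD₁, hdet₁, hD₁x⟩ := ctor2_pair hF e f hee hff hef a ha
  obtain ⟨D₂, hD₂, hdet₂, hD₂x⟩ := ctor2_pair hF u u' huu hu'u' huu' a⁻¹ (inv_ne_zero ha)
  have h1e : (D₁ : Matrix (Fin n) (Fin n) F) *ᵥ e = a • e := by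
    rw [hD₁x, hef, hee, mul_one, mul_zero, zero_smul, add_zero, sub_smul, one_smul]
    abel
  have h1u : (D₁ : Matrix (Fin n) (Fin n) F) *ᵥ u = u := by
    rw [hD₁x, huf, hue, mul_zero, mul_zero, zero_smul, zero_smul, add_zero, add_zero]
  have h2e : (D₂ : Matrix (Fin n) (Fin n) F) *ᵥ e = e := by
    rw [hD₂x, heu', heu, mul_zero, mul_zero, zero_smul, zero_smul, add_zero, add_zero]
  have h2u : (D₂ : Matrix (Fin n) (Fin n) F) *ᵥ u = a⁻¹ • u := by
    rw [hD₂x, huu', huu, mul_one, mul_zero, zero_smul, add_zero, sub_smul, one_smul]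
    abel
  refine ⟨D₁ * D₂, Subgroup.mem_inf.mpr ⟨mul_mem hD₁ hD₂, ?_⟩, ?_, ?_⟩
  · rw [mem_specialLinear_iff, Units.val_mul, Matrix.det_mul, hdet₁, hdet₂, inv_pow, inv_inv]
    have hlq : a ^ q ≠ 0 := pow_ne_zero _ ha
    field_simp
  · rw [Units.val_mul, ← mulVec_mulVec, h2e, h1e]
  · rw [Units.val_mul, ← mulVec_mulVec, h2u, mulVec_smul, h1u]

/-- conjugating a root element by an isometry which scales its centre. -/
theorem ctor2_conj (B : GL (Fin n) F) (hB : B ∈ Cfsg.GU n F q) (u : Fin n → F) (huu : hh u u = 0)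
    (b : F) (hb : b ≠ 0) (hBu : (B : Matrix (Fin n) (Fin n) F) *ᵥ u = b⁻¹ • u) (c : F) :
    B⁻¹ * utv q u c * B = utv q u (c * b ^ (q + 1)) := by
  have h1 : ((B⁻¹ : GL (Fin n) F) : Matrix (Fin n) (Fin n) F) *ᵥ u = b • u := by
    have h2 := gl_inv_mulVec_mulVec B u
    rw [hBu, mulVec_smul] at h2
    calc ((B⁻¹ : GL (Fin n) F) : Matrix (Fin n) (Fin n) F) *ᵥ u
        = b • (b⁻¹ • (((B⁻¹ : GL (Fin n) F) : Matrix (Fin n) (Fin n) F) *ᵥ u)) := by
          rw [smul_smul, mul_inv_cancel₀ hb, one_smul]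
      _ = b • u := by rw [h2]
  have h3 := conj_utv B⁻¹ (inv_mem hB) u huu c
  rw [inv_inv, h1, utv_smul u huu] at h3
  exact h3

/-- norms are fixed by the Frobenius. -/
theorem ctor2_norm_fixed (hF : Fintype.card F = q ^ 2) (b : F) : (b ^ (q + 1)) ^ q = b ^ (q + 1) := by
  rw [← pow_mul, mul_comm, pow_mul, pow_succ, pow_q_pow_q hF, pow_succ, mul_comm]

theorem ctor2_trace_mul (hF : Fintype.card F = q ^ 2) {c ν : F} (hc : c + c ^ q = 0) (hν : ν ^ q = ν) :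
    c * ν + (c * ν) ^ q = 0 := by
  rw [mul_pow, hν]
  linear_combination ν * hc

/-- the elements of the root subgroup. -/
theorem ctor2_mem_Zgrp (hF : Fintype.card F = q ^ 2) (u : Fin n → F) (huu : hh u u = 0)
    (g : SUg F n q) :
    g ∈ (Zgrp u : Subgroup (SUg F n q)) ↔ ∃ c : F, c + c ^ q = 0 ∧ (g : GL (Fin n) F) = utv q u c := by
  constructor
  · intro hg
    unfold Zgrp at hg
    induction hg using Subgroup.closure_induction with
    | mem x hx => exact hx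
    | one => exact ⟨0, by rw [zero_pow (by have := q_ge_two hF; omega), add_zero], by
        rw [utv_zero u huu]; rfl⟩
    | mul x y _ _ hx hy =>
      obtain ⟨c, hc, hxc⟩ := hx
      obtain ⟨d, hd, hyd⟩ := hy
      refine ⟨c + d, ?_, ?_⟩
      · rw [frob_add hF]
        linear_combination hc + hd
      · rw [Subgroup.coe_mul, hxc, hyd, utv_add u huu]
    | inv x _ hx =>
      obtain ⟨c, hc, hxc⟩ := hx
      refine ⟨-c, trace_zero_neg hF hc, ?_⟩
      rw [Subgroup.coe_inv, hxc, utv_inv u huu]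
  · intro hg
    exact Subgroup.subset_closure hg

end ctor2

section concrete

variable {F : Type*} [Field F] [Fintype F] {q : ℕ}

/-- C-TOR2 -/
theorem exists_torus2 (hF : Fintype.card F = q ^ 2) (n : ℕ) (hn : 4 ≤ n) (e f u u' : Fin n → F)
    (hee : Cfsg.hermForm n F q e e = 0) (hff : Cfsg.hermForm n F q f f = 0)
    (hef : Cfsg.hermForm n F q e f = 1)
    (huu : Cfsg.hermForm n F q u u = 0) (hu'u' : Cfsg.hermForm n F q u' u' = 0)
    (huu' : Cfsg.hermForm n F q u u' = 1)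
    (heu : Cfsg.hermForm n F q e u = 0) (heu' : Cfsg.hermForm n F q e u' = 0)
    (hfu : Cfsg.hermForm n F q f u = 0) (hfu' : Cfsg.hermForm n F q f u' = 0) :
    ∃ (κ : Type) (_ : Fintype κ) (t : κ → SUg F n q), Fintype.card κ = q - 1 ∧
      (∀ k, ∀ z ∈ (Zgrp u : Subgroup (SUg F n q)), (t k)⁻¹ * z * t k ∈ (Zgrp u : Subgroup (SUg F n q))) ∧
      (∀ k k', k ≠ k' → ∀ z' ∈ (Zgrp u : Subgroup (SUg F n q)), ∃ z ∈ (Zgrp u : Subgroup (SUg F n q)),
        (t k)⁻¹ * z * t k * ((t k')⁻¹ * z * t k')⁻¹ = z') ∧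
      (∀ k, ∀ z ∈ (Zgrp e : Subgroup (SUg F n q)), (t k)⁻¹ * z * t k ∈ (Zgrp e : Subgroup (SUg F n q))) := by
  classical
  have hq2 : 2 ≤ q := q_ge_two hF
  -- a generator of `Fˣ`
  obtain ⟨g, hg⟩ := IsCyclic.exists_generator (α := Fˣ)
  have hord : orderOf g = q ^ 2 - 1 := by
    rw [orderOf_eq_card_of_forall_mem_zpowers hg, Nat.card_eq_fintype_card, Fintype.card_units, hF]
  -- the parameters
  let a : Fin (q - 1) → F := fun k => ((g ^ (k : ℕ) : Fˣ) : F)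
  have ha0 : ∀ k, a k ≠ 0 := fun k => Units.ne_zero _
  -- the norms are pairwise distinct
  have hnorm : ∀ k k' : Fin (q - 1), a k ^ (q + 1) = a k' ^ (q + 1) → k = k' := by
    intro k k' h
    have h1 : (g ^ (k : ℕ)) ^ (q + 1) = (g ^ (k' : ℕ)) ^ (q + 1) := by
      apply Units.ext
      rw [Units.val_pow_eq_pow_val, Units.val_pow_eq_pow_val]
      exact h
    rw [← pow_mul, ← pow_mul] at h1
    have hlt : ∀ j : Fin (q - 1), (j : ℕ) * (q + 1) < orderOf g := by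
      intro j
      rw [hord]
      have hj := j.2
      have : ((j : ℕ) + 1) * (q + 1) ≤ (q - 1) * (q + 1) := Nat.mul_le_mul_right _ (by omega)
      have h2 : (q - 1) * (q + 1) = q ^ 2 - 1 := by
        obtain ⟨r, rfl⟩ : ∃ r, q = r + 1 := ⟨q - 1, by omega⟩
        simp only [Nat.add_sub_cancel]
        ring_nf
        omega
      rw [h2] at this
      nlinarith
    have h3 := pow_injOn_Iio_orderOf (Set.mem_Iio.mpr (hlt k)) (Set.mem_Iio.mpr (hlt k')) h1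
    have h4 : (k : ℕ) = (k' : ℕ) := Nat.eq_of_mul_eq_mul_right (by omega) h3
    exact Fin.ext h4
  -- the torus elements
  have hex : ∀ k : Fin (q - 1), ∃ B : GL (Fin n) F, B ∈ suGL (F := F) n q ∧
      (B : Matrix (Fin n) (Fin n) F) *ᵥ e = (a k) • e ∧
      (B : Matrix (Fin n) (Fin n) F) *ᵥ u = (a k)⁻¹ • u := fun k =>
    ctor2_elt hF e f u u' hee hff hef huu hu'u' huu' heu heu' hfu hfu' (a k) (ha0 k)
  choose B hB hBe hBu using hex
  let t : Fin (q - 1) → SUg F n q := fun k => ⟨B k, hB k⟩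
  -- conjugation formulas
  have hconj_u : ∀ (k : Fin (q - 1)) (z : SUg F n q) (c : F), (z : GL (Fin n) F) = utv q u c →
      (((t k)⁻¹ * z * t k : SUg F n q) : GL (Fin n) F) = utv q u (c * (a k) ^ (q + 1)) := by
    intro k z c hz
    rw [Subgroup.coe_mul, Subgroup.coe_mul, Subgroup.coe_inv, hz]
    exact ctor2_conj (B k) (hB k).1 u huu (a k) (ha0 k) (hBu k) c
  have hconj_e : ∀ (k : Fin (q - 1)) (z : SUg F n q) (c : F), (z : GL (Fin n) F) = utv q e c →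
      (((t k)⁻¹ * z * t k : SUg F n q) : GL (Fin n) F) = utv q e (c * ((a k)⁻¹) ^ (q + 1)) := by
    intro k z c hz
    rw [Subgroup.coe_mul, Subgroup.coe_mul, Subgroup.coe_inv, hz]
    refine ctor2_conj (B k) (hB k).1 e hee (a k)⁻¹ (inv_ne_zero (ha0 k)) ?_ c
    rw [inv_inv]
    exact hBe k
  refine ⟨Fin (q - 1), inferInstance, t, Fintype.card_fin _, ?_, ?_, ?_⟩
  · intro k z hz
    rw [ctor2_mem_Zgrp hF u huu] at hz ⊢
    obtain ⟨c, hc, hzc⟩ := hz
    exact ⟨c * (a k) ^ (q + 1), ctor2_trace_mul hF hc (ctor2_norm_fixed hF _), hconj_u k z c hzc⟩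
  · intro k k' hkk' z' hz'
    rw [ctor2_mem_Zgrp hF u huu] at hz'
    obtain ⟨c', hc', hz'c⟩ := hz'
    obtain ⟨ν, hν⟩ : ∃ ν : F, ν = (a k) ^ (q + 1) - (a k') ^ (q + 1) := ⟨_, rfl⟩
    have hν0 : ν ≠ 0 := by
      intro h
      rw [hν] at h
      exact hkk' (hnorm k k' (sub_eq_zero.mp h))
    have hνq : ν ^ q = ν := by
      rw [hν, frob_sub hF, ctor2_norm_fixed hF, ctor2_norm_fixed hF]
    have hνiq : (ν⁻¹) ^ q = ν⁻¹ := by rw [inv_pow, hνq]
    have hc : c' * ν⁻¹ + (c' * ν⁻¹) ^ q = 0 := ctor2_trace_mul hF hc' hνiq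
    have hmem : utv q u (c' * ν⁻¹) ∈ suGL (F := F) n q := utv_mem_suGL hF u huu _ hc
    refine ⟨⟨utv q u (c' * ν⁻¹), hmem⟩, ?_, ?_⟩
    · rw [ctor2_mem_Zgrp hF u huu]
      exact ⟨c' * ν⁻¹, hc, rfl⟩
    · apply Subtype.ext
      rw [Subgroup.coe_mul, Subgroup.coe_inv, hconj_u k _ (c' * ν⁻¹) rfl,
        hconj_u k' _ (c' * ν⁻¹) rfl, utv_inv u huu, utv_add u huu, hz'c]
      congr 1
      have hνν : ν⁻¹ * ν = 1 := inv_mul_cancel₀ hν0
      linear_combination (-(c' * ν⁻¹)) * hν + c' * hνν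
  · intro k z hz
    rw [ctor2_mem_Zgrp hF e hee] at hz ⊢
    obtain ⟨c, hc, hzc⟩ := hz
    exact ⟨c * ((a k)⁻¹) ^ (q + 1), ctor2_trace_mul hF hc (ctor2_norm_fixed hF _), hconj_e k z c hzc⟩

end concrete

end Cfsg.Agent.Lib.Helper6.Ls
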