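import Mathlib
import Cfsg.Prelude.Def_GeometricClasses
import Cfsg.Agent.Lib.Helper99.SpSim1

set_option autoImplicit false

/-!
Subfield subgroups of the special linear group: basic vocabulary.
-/

namespace Cfsg.Agent.Lib.Helper42.Subf

open Matrix Cfsg.Agent.Lib.Helper99
open scoped MatrixGroups

variable {ι : Type} [Fintype ι] [DecidableEq ι] {F : Type*} [Field F]

/-- membership in the subfield group with trivial change of basis -/
theorem mem_subfield_one_iff (F₀ : Subfield F) (g : GL ι F) :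
    g ∈ Cfsg.Geo.subfieldSubgroup F₀ (1 : GL ι F) ↔
      ∃ μ : F, μ ≠ 0 ∧ ∀ i j, μ * (g : Matrix ι ι F) i j ∈ F₀ := by
  have hid : (MulAut.conj (1 : GL ι F)).toMonoidHom = MonoidHom.id (GL ι F) := by
    ext x; simp
  unfold Cfsg.Geo.subfieldSubgroup
  rw [hid, Subgroup.map_id]
  constructor
  · intro hg
    have hg' : g ∈ ((↑((Matrix.GeneralLinearGroup.map (F₀.subtype : F₀ →+* F)).range ⊔
        Cfsg.Geo.scalars ι F) : Set (GL ι F))) := hg
    rw [Subgroup.mul_normal, Set.mem_mul] at hg'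
    obtain ⟨a, ha, b, hb, rfl⟩ := hg'
    obtain ⟨g₀, rfl⟩ := ha
    rw [SetLike.mem_coe, Cfsg.Geo.mem_scalars_iff] at hb
    obtain ⟨c, hc⟩ := hb
    refine ⟨(c : F)⁻¹, inv_ne_zero c.ne_zero, fun i j => ?_⟩
    rw [Units.val_mul, hc, Matrix.mul_smul, Matrix.mul_one, Matrix.smul_apply,
      Matrix.GeneralLinearGroup.map_apply, smul_eq_mul, ← mul_assoc, inv_mul_cancel₀ c.ne_zero,
      one_mul]
    exact (g₀.1 i j).2
  · rintro ⟨μ, hμ, h⟩
    let A₀ : Matrix ι ι F₀ := fun i j => ⟨μ * (g : Matrix ι ι F) i j, h i j⟩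
    have hA : (F₀.subtype : F₀ →+* F).mapMatrix A₀ = μ • (g : Matrix ι ι F) := by
      ext i j
      rfl
    have hdet : A₀.det ≠ 0 := by
      intro h0
      have h1 : (F₀.subtype : F₀ →+* F) A₀.det = 0 := by rw [h0, map_zero]
      rw [RingHom.map_det, hA, Matrix.det_smul] at h1
      have h2 : (g : Matrix ι ι F).det ≠ 0 := by
        have := g.isUnit
        exact ((Matrix.isUnit_iff_isUnit_det _).mp this).ne_zero
      exact (mul_ne_zero (pow_ne_zero _ hμ) h2) h1
    let g₀ : GL ι F₀ := Matrix.GeneralLinearGroup.mkOfDetNeZero A₀ hdet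
    let s : GL ι F := Units.map (Matrix.scalar ι : F →+* Matrix ι ι F).toMonoidHom
      (Units.mk0 μ⁻¹ (inv_ne_zero hμ))
    have hs : s ∈ Cfsg.Geo.scalars ι F := ⟨_, rfl⟩
    have hg : g = Matrix.GeneralLinearGroup.map (F₀.subtype : F₀ →+* F) g₀ * s := by
      apply Units.ext
      ext i j
      rw [Units.val_mul]
      have hsval : (s : Matrix ι ι F) = μ⁻¹ • (1 : Matrix ι ι F) := by
        simp [s, Matrix.smul_one_eq_diagonal]
      rw [hsval, Matrix.mul_smul, Matrix.mul_one, Matrix.smul_apply,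
        Matrix.GeneralLinearGroup.map_apply]
      show _ = μ⁻¹ • (F₀.subtype (A₀ i j))
      simp only [A₀, Subfield.coe_subtype, smul_eq_mul]
      rw [← mul_assoc, inv_mul_cancel₀ hμ, one_mul]
    rw [hg]
    exact Subgroup.mul_mem_sup ⟨g₀, rfl⟩ hs

/-- the subfield group with trivial change of basis, cut with the special linear group -/
def KK (ι : Type) [Fintype ι] [DecidableEq ι] {F : Type*} [Field F] (F₀ : Subfield F) :
    Subgroup (GL ι F) :=
  Cfsg.Geo.subfieldSubgroup F₀ (1 : GL ι F) ⊓ Cfsg.Geo.specialLinear ι F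

theorem mem_KK_iff (F₀ : Subfield F) (g : GL ι F) :
    g ∈ KK ι F₀ ↔ (∃ μ : F, μ ≠ 0 ∧ ∀ i j, μ * (g : Matrix ι ι F) i j ∈ F₀) ∧
      (g : Matrix ι ι F).det = 1 := by
  unfold KK
  rw [Subgroup.mem_inf, mem_subfield_one_iff, mem_specialLinear_iff]

theorem KK_le (F₀ : Subfield F) : KK ι F₀ ≤ Cfsg.Geo.specialLinear ι F := inf_le_right

/-! ### transvections -/

theorem tv_mulVec (u φ x : ι → F) (h : φ ⬝ᵥ u = 0) :
    ((rk1GL u φ : GL ι F) : Matrix ι ι F) *ᵥ x = x + (φ ⬝ᵥ x) • u := by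
  rw [coe_tv _ _ h, rk1_mulVec]

theorem tv_vecMul (u φ x : ι → F) (h : φ ⬝ᵥ u = 0) :
    x ᵥ* ((rk1GL u φ : GL ι F) : Matrix ι ι F) = x + (x ⬝ᵥ u) • φ := by
  rw [coe_tv _ _ h]
  unfold rk1
  rw [Matrix.vecMul_add, Matrix.vecMul_one, Matrix.vecMul_vecMulVec]

theorem tv_apply (u φ : ι → F) (h : φ ⬝ᵥ u = 0) (i j : ι) :
    ((rk1GL u φ : GL ι F) : Matrix ι ι F) i j = (if i = j then 1 else 0) + u i * φ j := by
  rw [coe_tv _ _ h]
  unfold rk1
  rw [Matrix.add_apply, Matrix.one_apply, Matrix.vecMulVec_apply]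

theorem tv_zero_right (u : ι → F) : rk1GL u (0 : ι → F) = 1 := by
  have h : (0 : ι → F) ⬝ᵥ u = 0 := zero_dotProduct u
  apply Units.ext
  rw [coe_tv _ _ h, Matrix.ext_iff_mulVec]
  intro x
  rw [rk1_mulVec, zero_dotProduct, zero_smul, add_zero, Units.val_one, one_mulVec]

theorem tv_inv (u φ : ι → F) (h : φ ⬝ᵥ u = 0) : (rk1GL u φ)⁻¹ = rk1GL u (-φ) := by
  have h' : (-φ) ⬝ᵥ u = 0 := by rw [neg_dotProduct, h, neg_zero]
  rw [inv_eq_iff_mul_eq_one, tv_mul u φ (-φ) h h', add_neg_cancel, tv_zero_right]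

theorem tv_mul_axis (u u' φ : ι → F) (h : φ ⬝ᵥ u = 0) (h' : φ ⬝ᵥ u' = 0) :
    rk1GL u φ * rk1GL u' φ = rk1GL (u + u') φ := by
  have h'' : φ ⬝ᵥ (u + u') = 0 := by rw [dotProduct_add, h, h', add_zero]
  apply Units.ext
  rw [Units.val_mul, coe_tv _ _ h, coe_tv _ _ h', coe_tv _ _ h'', Matrix.ext_iff_mulVec]
  intro x
  rw [← mulVec_mulVec, rk1_mulVec, rk1_mulVec, rk1_mulVec, dotProduct_add, dotProduct_smul, h',
    smul_zero, add_zero, smul_add]
  abel

theorem tv_smul_comm (c : F) (u φ : ι → F) (h : φ ⬝ᵥ u = 0) :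
    rk1GL (c • u) φ = rk1GL u (c • φ) := by
  have h1 : φ ⬝ᵥ (c • u) = 0 := by rw [dotProduct_smul, h, smul_zero]
  have h2 : (c • φ) ⬝ᵥ u = 0 := by rw [smul_dotProduct, h, smul_zero]
  apply Units.ext
  rw [coe_tv _ _ h1, coe_tv _ _ h2, Matrix.ext_iff_mulVec]
  intro x
  rw [rk1_mulVec, rk1_mulVec, smul_dotProduct, smul_smul, smul_eq_mul, mul_comm]

/-- the commutator of two transvections in special position -/
theorem tv_comm (u φ v ψ : ι → F) (h1 : φ ⬝ᵥ u = 0) (h2 : ψ ⬝ᵥ v = 0) (h3 : ψ ⬝ᵥ u = 0) :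
    rk1GL u φ * rk1GL v ψ * (rk1GL u φ)⁻¹ * (rk1GL v ψ)⁻¹ = rk1GL ((φ ⬝ᵥ v) • u) ψ := by
  have h4 : ψ ⬝ᵥ ((φ ⬝ᵥ v) • u) = 0 := by rw [dotProduct_smul, h3, smul_zero]
  have h5 : (-φ) ⬝ᵥ u = 0 := by rw [neg_dotProduct, h1, neg_zero]
  have e1 : rk1GL u φ * rk1GL v ψ * (rk1GL u φ)⁻¹ = rk1GL (v + (φ ⬝ᵥ v) • u) ψ := by
    rw [conj_tv _ _ _ h2, tv_mulVec _ _ _ h1, tv_inv _ _ h1, tv_vecMul _ _ _ h5, h3, zero_smul,
      add_zero]
  rw [e1, add_comm, ← tv_mul_axis _ _ _ h4 h2, mul_assoc, mul_inv_cancel, mul_one]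


/-! ### elementary transvections -/

/-- elementary transvection -/
noncomputable def EE (i j : ι) (c : F) : GL ι F := rk1GL (Pi.single i c) (Pi.single j 1)

theorem single_dot_single {i j : ι} (hij : i ≠ j) (a b : F) :
    (Pi.single j a : ι → F) ⬝ᵥ (Pi.single i b : ι → F) = 0 := by
  rw [single_dotProduct, Pi.single_eq_of_ne hij.symm, mul_zero]

theorem EE_zero (i j : ι) : EE i j (0 : F) = 1 := by
  unfold EE
  rw [Pi.single_zero, tv_zero_left]

theorem EE_add {i j : ι} (hij : i ≠ j) (a b : F) : EE i j a * EE i j b = EE i j (a + b) := by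
  unfold EE
  rw [tv_mul_axis _ _ _ (single_dot_single hij 1 a) (single_dot_single hij 1 b), ← Pi.single_add]

theorem EE_inv {i j : ι} (hij : i ≠ j) (a : F) : (EE i j a)⁻¹ = EE i j (-a) := by
  rw [inv_eq_iff_mul_eq_one, EE_add hij, add_neg_cancel, EE_zero]

theorem EE_comm {i j k : ι} (hij : i ≠ j) (hjk : j ≠ k) (hik : i ≠ k) (a b : F) :
    EE i j a * EE j k b * (EE i j a)⁻¹ * (EE j k b)⁻¹ = EE i k (a * b) := by
  unfold EE
  rw [tv_comm _ _ _ _ (single_dot_single hij 1 a) (single_dot_single hjk 1 b)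
    (single_dot_single hik 1 a), single_dotProduct, one_mul, Pi.single_eq_same, ← Pi.single_smul,
    smul_eq_mul, mul_comm]

theorem tv_mem_KK (F₀ : Subfield F) (u φ : ι → F) (h : φ ⬝ᵥ u = 0) (hu : ∀ i, u i ∈ F₀)
    (hφ : ∀ i, φ i ∈ F₀) : rk1GL u φ ∈ KK ι F₀ := by
  rw [mem_KK_iff]
  refine ⟨⟨1, one_ne_zero, fun i j => ?_⟩, ?_⟩
  · rw [one_mul, tv_apply _ _ h]
    refine F₀.add_mem ?_ (F₀.mul_mem (hu i) (hφ j))
    split_ifs
    · exact F₀.one_mem
    · exact F₀.zero_mem
  · exact (mem_specialLinear_iff _).mp (tv_mem_specialLinear _ _ h)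

theorem single_mem (F₀ : Subfield F) (i : ι) {c : F} (hc : c ∈ F₀) (k : ι) :
    (Pi.single i c : ι → F) k ∈ F₀ := by
  by_cases h : k = i
  · rw [h, Pi.single_eq_same]; exact hc
  · rw [Pi.single_eq_of_ne h]; exact F₀.zero_mem

theorem EE_mem_KK (F₀ : Subfield F) {i j : ι} (hij : i ≠ j) {c : F} (hc : c ∈ F₀) :
    EE i j c ∈ KK ι F₀ :=
  tv_mem_KK F₀ _ _ (single_dot_single hij 1 c) (single_mem F₀ i hc) (single_mem F₀ j F₀.one_mem)

theorem exists_third (h3 : 3 ≤ Fintype.card ι) (i j : ι) : ∃ m : ι, m ≠ i ∧ m ≠ j := by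
  by_contra hcon
  push Not at hcon
  have : (Finset.univ : Finset ι) ⊆ {i, j} := by
    intro m _
    by_cases hm : m = i
    · simp [hm]
    · simp [hcon m hm]
  have h2 := Finset.card_le_card this
  rw [Finset.card_univ] at h2
  have h4 : ({i, j} : Finset ι).card ≤ 2 := Finset.card_le_two
  omega

section root

variable (M : Subgroup (GL ι F)) (F₀ : Subfield F)

/-- all elementary transvections with parameter `c` lie in `M` -/
def Root (c : F) : Prop := ∀ i j : ι, i ≠ j → EE i j c ∈ M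

variable {M F₀}

theorem root_of_mem (hK : KK ι F₀ ≤ M) (h3 : 3 ≤ Fintype.card ι) {i j : ι} (hij : i ≠ j) {c : F}
    (h : EE i j c ∈ M) : Root M c := by
  have one_mem : ∀ k l : ι, k ≠ l → EE k l (1 : F) ∈ M := fun k l hkl =>
    hK (EE_mem_KK F₀ hkl F₀.one_mem)
  -- column move
  have colmove : ∀ i j : ι, i ≠ j → EE i j c ∈ M → ∀ l, l ≠ i → l ≠ j → EE i l c ∈ M := by
    intro i j hij h l hli hlj
    have := EE_comm hij hlj.symm hli.symm c (1 : F)
    rw [mul_one] at this
    rw [← this]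
    exact M.mul_mem (M.mul_mem (M.mul_mem h (one_mem _ _ hlj.symm)) (M.inv_mem h))
      (M.inv_mem (one_mem _ _ hlj.symm))
  have rowmove : ∀ i j : ι, i ≠ j → EE i j c ∈ M → ∀ k, k ≠ i → k ≠ j → EE k j c ∈ M := by
    intro i j hij h k hki hkj
    have := EE_comm hki hij hkj (1 : F) c
    rw [one_mul] at this
    rw [← this]
    exact M.mul_mem (M.mul_mem (M.mul_mem (one_mem _ _ hki) h) (M.inv_mem (one_mem _ _ hki)))
      (M.inv_mem h)
  intro k l hkl
  by_cases hki : k = i
  · subst hki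
    by_cases hlj : l = j
    · subst hlj; exact h
    · exact colmove k j hij h l hkl.symm hlj
  · by_cases hkj : k = j
    · subst hkj
      obtain ⟨m, hmi, hmk⟩ := exists_third h3 i k
      have h1 : EE i m c ∈ M := colmove i k hij h m hmi hmk
      have h2 : EE k m c ∈ M := rowmove i m hmi.symm h1 k hki hmk.symm
      by_cases hlm : l = m
      · subst hlm; exact h2
      · exact colmove k m hmk.symm h2 l hkl.symm hlm
    · have h1 : EE k j c ∈ M := rowmove i j hij h k hki hkj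
      by_cases hlj : l = j
      · subst hlj; exact h1
      · exact colmove k j hkj h1 l hkl.symm hlj

theorem root_zero : Root M (0 : F) := fun i j _ => by rw [EE_zero]; exact M.one_mem

theorem root_add {a b : F} (ha : Root M a) (hb : Root M b) : Root M (a + b) := fun i j hij => by
  rw [← EE_add hij]; exact M.mul_mem (ha i j hij) (hb i j hij)

theorem root_neg {a : F} (ha : Root M a) : Root M (-a) := fun i j hij => by
  rw [← EE_inv hij]; exact M.inv_mem (ha i j hij)

theorem root_mul (h3 : 3 ≤ Fintype.card ι) {a b : F} (ha : Root M a) (hb : Root M b) :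
    Root M (a * b) := fun i k hik => by
  obtain ⟨j, hji, hjk⟩ := exists_third h3 i k
  rw [← EE_comm hji.symm hjk hik a b]
  exact M.mul_mem (M.mul_mem (M.mul_mem (ha _ _ hji.symm) (hb _ _ hjk))
    (M.inv_mem (ha _ _ hji.symm))) (M.inv_mem (hb _ _ hjk))

theorem root_of_mem_F₀ (hK : KK ι F₀ ≤ M) {c : F} (hc : c ∈ F₀) : Root M c := fun _ _ hij =>
  hK (EE_mem_KK F₀ hij hc)

theorem root_pow (hK : KK ι F₀ ≤ M) (h3 : 3 ≤ Fintype.card ι) {a : F} (ha : Root M a) (k : ℕ) :
    Root M (a ^ k) := by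
  induction k with
  | zero => rw [pow_zero]; exact root_of_mem_F₀ hK F₀.one_mem
  | succ k ih => rw [pow_succ]; exact root_mul h3 ih ha

/-- the root parameters form a subfield -/
def rootField [Fintype F] (hK : KK ι F₀ ≤ M) (h3 : 3 ≤ Fintype.card ι) : Subfield F where
  carrier := {c | Root M c}
  mul_mem' := fun ha hb => root_mul h3 ha hb
  one_mem' := root_of_mem_F₀ hK F₀.one_mem
  add_mem' := fun ha hb => root_add ha hb
  zero_mem' := root_zero
  neg_mem' := fun ha => root_neg ha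
  inv_mem' := by
    intro c hc
    by_cases h0 : c = 0
    · rw [h0, _root_.inv_zero]; exact root_zero
    · have h1 := FiniteField.pow_card_sub_one_eq_one c h0
      have h2 : 2 ≤ Fintype.card F := Fintype.one_lt_card
      have h4 : c⁻¹ = c ^ (Fintype.card F - 2) := by
        apply inv_eq_of_mul_eq_one_right
        rw [← pow_succ', show Fintype.card F - 2 + 1 = Fintype.card F - 1 by omega]
        exact h1
      show Root M c⁻¹
      rw [h4]
      exact root_pow hK h3 hc _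

end root

theorem subfield_dichotomy [Fintype F] (F₀ : Subfield F) (r : ℕ) (hr : r.Prime)
    (hcard : Fintype.card F = Nat.card F₀ ^ r) (B : Subfield F) (h : F₀ ≤ B) :
    B = F₀ ∨ B = ⊤ := by
  haveI : Fintype F₀ := Fintype.ofFinite F₀
  have hfr : Module.finrank F₀ F = r := by
    have h1 := Module.card_eq_pow_finrank (K := F₀) (V := F)
    rw [hcard, Nat.card_eq_fintype_card] at h1
    exact (Nat.pow_right_injective (Fintype.one_lt_card (α := F₀)) h1).symm
  let B' : IntermediateField F₀ F := Subfield.toIntermediateField B (fun x => h x.2)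
  haveI := IntermediateField.isSimpleOrder_of_finrank_prime (F := F₀) (E := F)
    (by rw [hfr]; exact hr)
  rcases eq_bot_or_eq_top B' with hb | ht
  · left
    apply le_antisymm _ h
    intro x hx
    have hx' : x ∈ B' := hx
    rw [hb, IntermediateField.mem_bot] at hx'
    obtain ⟨y, rfl⟩ := hx'
    exact y.2
  · right
    rw [eq_top_iff]
    intro x _
    have hx' : x ∈ B' := by rw [ht]; exact IntermediateField.mem_top
    exact hx'

/-- a subgroup of the special linear group containing all elementary transvections is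
everything -/
theorem eq_specialLinear_of_EE_mem (M : Subgroup (GL ι F))
    (hMS : M ≤ Cfsg.Geo.specialLinear ι F)
    (hall : ∀ (i j : ι), i ≠ j → ∀ c : F, EE i j c ∈ M) :
    M = Cfsg.Geo.specialLinear ι F := by
  apply le_antisymm hMS
  have H : M.comap (Matrix.SpecialLinearGroup.toGL :
      Matrix.SpecialLinearGroup ι F →* GL ι F) = ⊤ := by
    apply SLGen.eq_top_of_transvection_mem
    intro i j hij c
    rw [Subgroup.mem_comap]
    have h0 : (Pi.single j (1 : F) : ι → F) ⬝ᵥ (Pi.single i c : ι → F) = 0 :=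
      single_dot_single hij 1 c
    have : (Matrix.SpecialLinearGroup.toGL (Matrix.SpecialLinearGroup.transvection hij c) :
        GL ι F) = rk1GL (Pi.single i c) (Pi.single j 1) := by
      apply Units.ext
      rw [coe_tv _ _ h0, Matrix.SpecialLinearGroup.coe_GL_coe_matrix,
        Matrix.SpecialLinearGroup.transvection_coe]
      unfold rk1
      congr 1
      ext a b
      simp only [vecMulVec_apply, Matrix.single_apply, Pi.single_apply]
      by_cases h1 : i = a <;> by_cases h2 : j = b <;>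
        simp [h1, h2, eq_comm (a := a), eq_comm (a := b)]
    rw [this]
    exact hall i j hij c
  intro x hx
  rw [mem_specialLinear_iff] at hx
  let y : Matrix.SpecialLinearGroup ι F := ⟨(x : Matrix ι ι F), hx⟩
  have hx' : x = Matrix.SpecialLinearGroup.toGL y := by
    apply Units.ext
    rfl
  rw [hx']
  have hmem : y ∈ M.comap (Matrix.SpecialLinearGroup.toGL :
        Matrix.SpecialLinearGroup ι F →* GL ι F) := by
    rw [H]; exact Subgroup.mem_top _
  exact hmem

end Cfsg.Agent.Lib.Helper42.Subf
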