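import Mathlib
import Cfsg.Agent.Lib.Helper42.SubfA

set_option autoImplicit false
set_option linter.unusedSectionVars false
set_option linter.style.haveILetI false

/-!
Subfield subgroups: if the root parameters of an overgroup are only the rational ones,
point stabilizers are rational.
-/

namespace Cfsg.Agent.Lib.Helper42.Subf

open Matrix Cfsg.Agent.Lib.Helper99
open scoped MatrixGroups

variable {ι : Type} [Fintype ι] [DecidableEq ι] {F : Type*} [Field F]

theorem mulVec_single_apply (A : Matrix ι ι F) (m j : ι) : (A *ᵥ Pi.single m 1) j = A j m := by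
  simp

theorem single_vecMul_apply (A : Matrix ι ι F) (m j : ι) : (Pi.single m 1 ᵥ* A) j = A m j := by
  simp

theorem eig_ne_zero (g : GL ι F) (m : ι) (κ : F)
    (h : (g : Matrix ι ι F) *ᵥ Pi.single m 1 = κ • Pi.single m 1) : κ ≠ 0 := by
  rintro rfl
  rw [zero_smul] at h
  have h0 : (g : Matrix ι ι F) *ᵥ Pi.single m 1 = (g : Matrix ι ι F) *ᵥ 0 := by
    rw [h, mulVec_zero]
  have := mulVec_injective_of_GL g h0
  have h1 := congrFun this m
  rw [Pi.single_eq_same, Pi.zero_apply] at h1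
  exact one_ne_zero h1

theorem inv_eig (g : GL ι F) (m : ι) (κ : F)
    (h : (g : Matrix ι ι F) *ᵥ Pi.single m 1 = κ • Pi.single m 1) :
    ((g⁻¹ : GL ι F) : Matrix ι ι F) *ᵥ Pi.single m 1 = κ⁻¹ • Pi.single m 1 := by
  have hκ := eig_ne_zero g m κ h
  have h1 := congrArg (fun v => ((g⁻¹ : GL ι F) : Matrix ι ι F) *ᵥ v) h
  simp only [mulVec_mulVec, mulVec_smul] at h1
  rw [← Units.val_mul, inv_mul_cancel, Units.val_one, one_mulVec] at h1
  rw [eq_comm, inv_smul_eq_iff₀ hκ]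
  exact h1

section main

variable {M : Subgroup (GL ι F)} {F₀ : Subfield F}

/-- the standing hypotheses: `M` lies between the subfield group and the special linear group,
and its root parameters are rational -/
structure Hyp (M : Subgroup (GL ι F)) (F₀ : Subfield F) : Prop where
  hK : KK ι F₀ ≤ M
  hMS : M ≤ Cfsg.Geo.specialLinear ι F
  h3 : 3 ≤ Fintype.card ι
  hB : ∀ c : F, Root M c → c ∈ F₀

theorem Hyp.mem_of_EE (H : Hyp M F₀) {i j : ι} (hij : i ≠ j) {c : F} (h : EE i j c ∈ M) :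
    c ∈ F₀ :=
  H.hB c (root_of_mem H.hK H.h3 hij h)

/-- a transvection of `M` centred at a coordinate vector is rational -/
theorem Hyp.Q_lemma (H : Hyp M F₀) (m : ι) (ψ : ι → F) (hψ : ψ m = 0)
    (h : rk1GL (Pi.single m 1) ψ ∈ M) : ∀ j, ψ j ∈ F₀ := by
  intro j
  by_cases hjm : j = m
  · rw [hjm, hψ]; exact F₀.zero_mem
  obtain ⟨k, hkm, hkj⟩ := exists_third H.h3 m j
  have h1 : ψ ⬝ᵥ (Pi.single m 1 : ι → F) = 0 := by rw [dotProduct_single, hψ, zero_mul]
  have h2 : (Pi.single k (1 : F) : ι → F) ⬝ᵥ (Pi.single j 1 : ι → F) = 0 :=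
    single_dot_single hkj.symm 1 1
  have h3 : (Pi.single k (1 : F) : ι → F) ⬝ᵥ (Pi.single m 1 : ι → F) = 0 :=
    single_dot_single hkm.symm 1 1
  have hc := tv_comm _ _ _ _ h1 h2 h3
  have hjk : EE j k (1 : F) ∈ M := H.hK (EE_mem_KK F₀ hkj.symm F₀.one_mem)
  have hmem : rk1GL ((ψ ⬝ᵥ (Pi.single j 1 : ι → F)) • (Pi.single m 1 : ι → F))
      (Pi.single k 1) ∈ M := by
    rw [← hc]
    exact M.mul_mem (M.mul_mem (M.mul_mem h hjk) (M.inv_mem h)) (M.inv_mem hjk)
  rw [dotProduct_single, mul_one, ← Pi.single_smul, smul_eq_mul, mul_one] at hmem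
  exact H.mem_of_EE hkm.symm hmem

/-- rows of the inverse away from the fixed coordinate are rational up to the eigenvalue -/
theorem Hyp.rows (H : Hyp M F₀) (m : ι) (g : GL ι F) (hg : g ∈ M) (κ : F)
    (hκ : (g : Matrix ι ι F) *ᵥ Pi.single m 1 = κ • Pi.single m 1) (j : ι) (hjm : j ≠ m)
    (k : ι) : κ * ((g⁻¹ : GL ι F) : Matrix ι ι F) j k ∈ F₀ := by
  have hinv := inv_eig g m κ hκ
  have hjm0 : ((g⁻¹ : GL ι F) : Matrix ι ι F) j m = 0 := by
    rw [← mulVec_single_apply ((g⁻¹ : GL ι F) : Matrix ι ι F) m j, hinv, Pi.smul_apply,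
      Pi.single_eq_of_ne hjm, smul_zero]
  have h0 : (Pi.single j (1 : F) : ι → F) ⬝ᵥ (Pi.single m 1 : ι → F) = 0 :=
    single_dot_single hjm.symm 1 1
  have hx : EE m j (1 : F) ∈ M := H.hK (EE_mem_KK F₀ hjm.symm F₀.one_mem)
  have hc : g * EE m j (1 : F) * g⁻¹ ∈ M := M.mul_mem (M.mul_mem hg hx) (M.inv_mem hg)
  unfold EE at hc
  rw [conj_tv _ _ _ h0, hκ] at hc
  have h1 : ((Pi.single j (1 : F) : ι → F) ᵥ* ((g⁻¹ : GL ι F) : Matrix ι ι F)) ⬝ᵥ
      (Pi.single m 1 : ι → F) = 0 := by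
    rw [dotProduct_single, mul_one, single_vecMul_apply, hjm0]
  rw [tv_smul_comm _ _ _ h1] at hc
  have := H.Q_lemma m _ (by
    rw [Pi.smul_apply, single_vecMul_apply, hjm0, smul_zero]) hc k
  rwa [Pi.smul_apply, single_vecMul_apply, smul_eq_mul] at this

theorem row_ne_zero (g : GL ι F) (j : ι) : ∃ k, (g : Matrix ι ι F) j k ≠ 0 := by
  by_contra hcon
  push Not at hcon
  have h1 : ((g : Matrix ι ι F) * ((g⁻¹ : GL ι F) : Matrix ι ι F)) j j = 1 := by
    rw [← Units.val_mul, mul_inv_cancel, Units.val_one, Matrix.one_apply_eq]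
  rw [Matrix.mul_apply] at h1
  simp only [hcon, zero_mul, Finset.sum_const_zero] at h1
  exact zero_ne_one h1

/-- the stabilizer in `M` of a coordinate point is rational -/
theorem Hyp.P_lemma (H : Hyp M F₀) (m : ι) (g : GL ι F) (hg : g ∈ M) (κ : F)
    (hκ : (g : Matrix ι ι F) *ᵥ Pi.single m 1 = κ • Pi.single m 1) : g ∈ KK ι F₀ := by
  have hκ0 := eig_ne_zero g m κ hκ
  have hinv := inv_eig g m κ hκ
  have hginv : g⁻¹ ∈ M := M.inv_mem hg
  -- rows of `κ • g⁻¹` and of `κ⁻¹ • g`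
  have hr1 := H.rows m g hg κ hκ
  have hr2 : ∀ j, j ≠ m → ∀ k, κ⁻¹ * (g : Matrix ι ι F) j k ∈ F₀ := by
    intro j hj k
    have := H.rows m g⁻¹ hginv κ⁻¹ hinv j hj k
    rwa [inv_inv] at this
  have hgjm : ∀ j, j ≠ m → (g : Matrix ι ι F) j m = 0 := by
    intro j hj
    rw [← mulVec_single_apply (g : Matrix ι ι F) m j, hκ, Pi.smul_apply, Pi.single_eq_of_ne hj,
      smul_zero]
  have hmm : κ * ((g⁻¹ : GL ι F) : Matrix ι ι F) m m = 1 := by
    rw [← mulVec_single_apply ((g⁻¹ : GL ι F) : Matrix ι ι F) m m, hinv, Pi.smul_apply,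
      Pi.single_eq_same, smul_eq_mul, mul_one, mul_inv_cancel₀ hκ0]
  -- the remaining row
  have hrow : ∀ i, i ≠ m → κ * ((g⁻¹ : GL ι F) : Matrix ι ι F) m i ∈ F₀ := by
    intro i him
    obtain ⟨j, hjm, hji⟩ := exists_third H.h3 m i
    have ht : EE i j (1 : F) ∈ M := H.hK (EE_mem_KK F₀ hji.symm F₀.one_mem)
    have hc : g⁻¹ * EE i j (1 : F) * g⁻¹⁻¹ ∈ M :=
      M.mul_mem (M.mul_mem hginv ht) (M.inv_mem hginv)
    have h0 : (Pi.single j (1 : F) : ι → F) ⬝ᵥ (Pi.single i 1 : ι → F) = 0 :=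
      single_dot_single hji.symm 1 1
    unfold EE at hc
    rw [conj_tv _ _ _ h0, inv_inv] at hc
    obtain ⟨u, hu⟩ : ∃ u : ι → F, u = ((g⁻¹ : GL ι F) : Matrix ι ι F) *ᵥ Pi.single i 1 :=
      ⟨_, rfl⟩
    obtain ⟨φ, hφ⟩ : ∃ φ : ι → F, φ = (Pi.single j (1 : F) : ι → F) ᵥ* (g : Matrix ι ι F) :=
      ⟨_, rfl⟩
    rw [← hu, ← hφ] at hc
    have hu_apply : ∀ k, u k = ((g⁻¹ : GL ι F) : Matrix ι ι F) k i := fun k => by
      rw [hu, mulVec_single_apply]
    have hφ_apply : ∀ k, φ k = (g : Matrix ι ι F) j k := fun k => by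
      rw [hφ, single_vecMul_apply]
    have hφu : φ ⬝ᵥ u = 0 := by
      rw [hu, hφ, ← dotProduct_mulVec, mulVec_mulVec, ← Units.val_mul, mul_inv_cancel,
        Units.val_one, one_mulVec]
      exact h0
    -- rescale
    obtain ⟨a, ha⟩ : ∃ a : ι → F, a = κ • u := ⟨_, rfl⟩
    obtain ⟨ρ, hρ⟩ : ∃ ρ : ι → F, ρ = κ⁻¹ • φ := ⟨_, rfl⟩
    have hφa : φ ⬝ᵥ a = 0 := by rw [ha, dotProduct_smul, hφu, smul_zero]
    have hresc : rk1GL u φ = rk1GL a ρ := by
      rw [hρ, ← tv_smul_comm _ _ _ hφa, ha, smul_smul, inv_mul_cancel₀ hκ0, one_smul]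
    rw [hresc] at hc
    have hρrat : ∀ k, ρ k ∈ F₀ := fun k => by
      rw [hρ, Pi.smul_apply, hφ_apply, smul_eq_mul]
      exact hr2 j hjm k
    have hρm : ρ m = 0 := by
      rw [hρ, Pi.smul_apply, hφ_apply, hgjm j hjm, smul_zero]
    have hρa : ρ ⬝ᵥ a = 0 := by rw [hρ, smul_dotProduct, hφa, smul_zero]
    -- split `a`
    obtain ⟨w, hw⟩ : ∃ w : ι → F, w = Function.update a m 0 := ⟨_, rfl⟩
    have hasplit : a = w + (a m) • (Pi.single m 1 : ι → F) := by
      ext k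
      rw [Pi.add_apply, Pi.smul_apply, hw]
      by_cases hk : k = m
      · rw [hk, Function.update_self, Pi.single_eq_same, smul_eq_mul, mul_one, zero_add]
      · rw [Function.update_of_ne hk, Pi.single_eq_of_ne hk, smul_zero, add_zero]
    have hwrat : ∀ k, w k ∈ F₀ := fun k => by
      rw [hw]
      by_cases hk : k = m
      · rw [hk, Function.update_self]; exact F₀.zero_mem
      · rw [Function.update_of_ne hk, ha, Pi.smul_apply, hu_apply, smul_eq_mul]
        exact hr1 k hk i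
    have hρe : ρ ⬝ᵥ ((a m) • (Pi.single m 1 : ι → F)) = 0 := by
      rw [dotProduct_smul, dotProduct_single, hρm, zero_mul, smul_zero]
    have hρw : ρ ⬝ᵥ w = 0 := by
      have := hρa
      rw [hasplit, dotProduct_add, hρe, add_zero] at this
      exact this
    have hwK : rk1GL w ρ ∈ M := H.hK (tv_mem_KK F₀ w ρ hρw hwrat hρrat)
    have hsplit : rk1GL a ρ = rk1GL w ρ * rk1GL ((a m) • (Pi.single m 1 : ι → F)) ρ := by
      rw [tv_mul_axis _ _ _ hρw hρe, ← hasplit]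
    have hmem : rk1GL ((a m) • (Pi.single m 1 : ι → F)) ρ ∈ M := by
      have : rk1GL ((a m) • (Pi.single m 1 : ι → F)) ρ = (rk1GL w ρ)⁻¹ * rk1GL a ρ := by
        rw [hsplit, inv_mul_cancel_left]
      rw [this]
      exact M.mul_mem (M.inv_mem hwK) hc
    have hρe' : ρ ⬝ᵥ (Pi.single m 1 : ι → F) = 0 := by
      rw [dotProduct_single, hρm, zero_mul]
    rw [tv_smul_comm _ _ _ hρe'] at hmem
    have hq := H.Q_lemma m _ (by rw [Pi.smul_apply, hρm, smul_zero]) hmem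
    obtain ⟨k, hk⟩ := row_ne_zero g j
    have hρk : ρ k ≠ 0 := by
      rw [hρ, Pi.smul_apply, hφ_apply, smul_eq_mul]
      exact mul_ne_zero (inv_ne_zero hκ0) hk
    have h5 := hq k
    rw [Pi.smul_apply, smul_eq_mul] at h5
    have h6 : a m = (a m * ρ k) * (ρ k)⁻¹ := by
      rw [mul_assoc, mul_inv_cancel₀ hρk, mul_one]
    have h7 : a m ∈ F₀ := by
      rw [h6]
      exact F₀.mul_mem h5 (F₀.inv_mem (hρrat k))
    rwa [ha, Pi.smul_apply, hu_apply, smul_eq_mul] at h7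
  -- conclusion
  have hginvK : g⁻¹ ∈ KK ι F₀ := by
    rw [mem_KK_iff]
    refine ⟨⟨κ, hκ0, fun i j => ?_⟩, (mem_specialLinear_iff _).mp (H.hMS hginv)⟩
    by_cases him : i = m
    · subst him
      by_cases hjm : j = i
      · subst hjm
        rw [hmm]; exact F₀.one_mem
      · exact hrow j hjm
    · exact hr1 i him j
  have := (KK ι F₀).inv_mem hginvK
  rwa [inv_inv] at this

/-- the rational group is transitive on rational points -/
theorem exists_KK_map (F₀ : Subfield F) (r : ι → F) (hr : ∀ i, r i ∈ F₀) (hr0 : r ≠ 0) (m : ι) :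
    ∃ g ∈ KK ι F₀, ∃ c : F, c ≠ 0 ∧ (g : Matrix ι ι F) *ᵥ r = c • Pi.single m 1 := by
  by_cases hex : ∃ i, i ≠ m ∧ r i ≠ 0
  · obtain ⟨i, him, hri⟩ := hex
    obtain ⟨c₁, hc₁⟩ : ∃ c₁ : F, c₁ = (1 - r m) / r i := ⟨_, rfl⟩
    have hc₁F : c₁ ∈ F₀ := by
      rw [hc₁]
      exact F₀.div_mem (F₀.sub_mem F₀.one_mem (hr m)) (hr i)
    have h0 : (Pi.single i (1 : F) : ι → F) ⬝ᵥ (Pi.single m c₁ : ι → F) = 0 :=
      single_dot_single him.symm 1 c₁
    obtain ⟨r', hr'⟩ : ∃ r' : ι → F, r' = r + (r i) • (Pi.single m c₁ : ι → F) := ⟨_, rfl⟩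
    have hg₁ : ((EE m i c₁ : GL ι F) : Matrix ι ι F) *ᵥ r = r' := by
      unfold EE
      rw [tv_mulVec _ _ _ h0, single_dotProduct, one_mul, hr']
    have hr'm : r' m = 1 := by
      rw [hr', Pi.add_apply, Pi.smul_apply, Pi.single_eq_same, smul_eq_mul, hc₁]
      field_simp
      ring
    have hr'rat : ∀ k, r' k ∈ F₀ := fun k => by
      rw [hr', Pi.add_apply, Pi.smul_apply, smul_eq_mul]
      exact F₀.add_mem (hr k) (F₀.mul_mem (hr i) (single_mem F₀ m hc₁F k))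
    have h1 : (Pi.single m (1 : F) : ι → F) ⬝ᵥ ((Pi.single m 1 : ι → F) - r') = 0 := by
      rw [single_dotProduct, one_mul, Pi.sub_apply, Pi.single_eq_same, hr'm, sub_self]
    have hg₂ : ((rk1GL ((Pi.single m 1 : ι → F) - r') (Pi.single m 1) : GL ι F) :
        Matrix ι ι F) *ᵥ r' = Pi.single m 1 := by
      rw [tv_mulVec _ _ _ h1, single_dotProduct, one_mul, hr'm, one_smul]
      abel
    refine ⟨rk1GL ((Pi.single m 1 : ι → F) - r') (Pi.single m 1) * EE m i c₁, ?_, 1,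
      one_ne_zero, ?_⟩
    · refine (KK ι F₀).mul_mem (tv_mem_KK F₀ _ _ h1 (fun k => ?_) (single_mem F₀ m F₀.one_mem))
        (EE_mem_KK F₀ him.symm hc₁F)
      rw [Pi.sub_apply]
      exact F₀.sub_mem (single_mem F₀ m F₀.one_mem k) (hr'rat k)
    · rw [Units.val_mul, ← mulVec_mulVec, hg₁, hg₂, one_smul]
  · push Not at hex
    have hrm : r m ≠ 0 := by
      intro h0
      apply hr0
      ext k
      by_cases hk : k = m
      · rw [hk, h0]; rfl
      · rw [hex k hk]; rfl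
    refine ⟨1, (KK ι F₀).one_mem, r m, hrm, ?_⟩
    rw [Units.val_one, one_mulVec]
    ext k
    rw [Pi.smul_apply]
    by_cases hk : k = m
    · rw [hk, Pi.single_eq_same, smul_eq_mul, mul_one]
    · rw [hex k hk, Pi.single_eq_of_ne hk, smul_zero]

/-- an element of `M` outside the subfield group maps no coordinate vector to a multiple of a
rational vector -/
theorem Hyp.col_not_prop (H : Hyp M F₀) (h : GL ι F) (hh : h ∈ M) (hnot : h ∉ KK ι F₀) (m : ι)
    (lam : F) (r : ι → F) (hr : ∀ i, r i ∈ F₀)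
    (heq : (h : Matrix ι ι F) *ᵥ Pi.single m 1 = lam • r) : False := by
  have hne : (h : Matrix ι ι F) *ᵥ Pi.single m 1 ≠ 0 := by
    intro h0
    have h1 : (h : Matrix ι ι F) *ᵥ Pi.single m 1 = (h : Matrix ι ι F) *ᵥ 0 := by
      rw [h0, mulVec_zero]
    have := congrFun (mulVec_injective_of_GL h h1) m
    rw [Pi.single_eq_same, Pi.zero_apply] at this
    exact one_ne_zero this
  have hr0 : r ≠ 0 := by
    rintro rfl
    rw [smul_zero] at heq
    exact hne heq
  obtain ⟨g, hgK, c, hc, hgr⟩ := exists_KK_map F₀ r hr hr0 m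
  have h1 : ((g * h : GL ι F) : Matrix ι ι F) *ᵥ Pi.single m 1 = (lam * c) • Pi.single m 1 := by
    rw [Units.val_mul, ← mulVec_mulVec, heq, mulVec_smul, hgr, smul_smul]
  have h2 := H.P_lemma m (g * h) (M.mul_mem (H.hK hgK) hh) _ h1
  apply hnot
  have : h = g⁻¹ * (g * h) := by rw [inv_mul_cancel_left]
  rw [this]
  exact (KK ι F₀).mul_mem ((KK ι F₀).inv_mem hgK) h2

/-- independence of two field elements over the subfield -/
def Indep (F₀ : Subfield F) (x y : F) : Prop := x ≠ 0 ∧ ∀ c ∈ F₀, y ≠ c * x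

theorem Indep.symm {x y : F} (h : Indep F₀ x y) : Indep F₀ y x := by
  have hy : y ≠ 0 := by
    intro h0
    exact h.2 0 F₀.zero_mem (by rw [h0, zero_mul])
  refine ⟨hy, fun c hc hxy => ?_⟩
  have hc0 : c ≠ 0 := by
    rintro rfl
    rw [zero_mul] at hxy
    exact h.1 hxy
  apply h.2 c⁻¹ (F₀.inv_mem hc)
  rw [hxy, ← mul_assoc, inv_mul_cancel₀ hc0, one_mul]

theorem Indep.eq_zero {x y : F} (h : Indep F₀ x y) {c d : F} (hc : c ∈ F₀) (hd : d ∈ F₀)
    (hcd : c * x + d * y = 0) : c = 0 ∧ d = 0 := by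
  have hd0 : d = 0 := by
    by_contra hd0
    apply h.2 (-(c / d)) (F₀.neg_mem (F₀.div_mem hc hd))
    field_simp
    linear_combination hcd
  refine ⟨?_, hd0⟩
  rw [hd0, zero_mul, add_zero] at hcd
  rcases mul_eq_zero.mp hcd with h1 | h1
  · exact h1
  · exact absurd h1 h.1

theorem exists_indep_pair (F₀ : Subfield F) (a : ι → F)
    (ha : ¬ ∃ (lam : F) (r : ι → F), (∀ i, r i ∈ F₀) ∧ a = lam • r) :
    ∃ i k, i ≠ k ∧ Indep F₀ (a i) (a k) := by
  by_contra hcon
  push Not at hcon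
  by_cases ha0 : a = 0
  · exact ha ⟨0, 0, fun _ => F₀.zero_mem, by rw [ha0, smul_zero]⟩
  obtain ⟨i0, hi0⟩ : ∃ i0, a i0 ≠ 0 := by
    by_contra h
    push Not at h
    exact ha0 (funext h)
  refine ha ⟨a i0, fun k => a k / a i0, fun k => ?_, ?_⟩
  · show a k / a i0 ∈ F₀
    by_cases hk : k = i0
    · rw [hk, div_self hi0]; exact F₀.one_mem
    · have := hcon i0 k (Ne.symm hk)
      unfold Indep at this
      push Not at this
      obtain ⟨c, hc, hck⟩ := this hi0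
      rw [hck, mul_div_assoc, div_self hi0, mul_one]
      exact hc
  · ext k
    rw [Pi.smul_apply, smul_eq_mul, mul_div_cancel₀ _ hi0]

/-- the configuration: an element of `M` whose `m`-th column has two independent entries away
from the `m`-th row -/
theorem Hyp.exists_config (H : Hyp M F₀) (h : GL ι F) (hh : h ∈ M) (hnot : h ∉ KK ι F₀) (m : ι) :
    ∃ h' ∈ M, ∃ i k : ι, i ≠ m ∧ k ≠ m ∧ i ≠ k ∧
      Indep F₀ (((h' : Matrix ι ι F) *ᵥ Pi.single m 1) i)
        (((h' : Matrix ι ι F) *ᵥ Pi.single m 1) k) := by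
  obtain ⟨a, ha⟩ : ∃ a : ι → F, a = (h : Matrix ι ι F) *ᵥ Pi.single m 1 := ⟨_, rfl⟩
  have hnp : ¬ ∃ (lam : F) (r : ι → F), (∀ i, r i ∈ F₀) ∧ a = lam • r := by
    rintro ⟨lam, r, hr, har⟩
    exact H.col_not_prop h hh hnot m lam r hr (by rw [← ha, har])
  obtain ⟨i, k, hik, hind⟩ := exists_indep_pair F₀ a hnp
  -- the case where one index is `m`
  have key : ∀ k : ι, k ≠ m → Indep F₀ (a m) (a k) →
      ∃ h' ∈ M, ∃ i k : ι, i ≠ m ∧ k ≠ m ∧ i ≠ k ∧
      Indep F₀ (((h' : Matrix ι ι F) *ᵥ Pi.single m 1) i)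
        (((h' : Matrix ι ι F) *ᵥ Pi.single m 1) k) := by
    intro k hkm hind
    obtain ⟨k', hk'm, hk'k⟩ := exists_third H.h3 m k
    by_cases h1 : Indep F₀ (a k) (a k')
    · exact ⟨h, hh, k, k', hkm, hk'm, hk'k.symm, by rw [← ha]; exact h1⟩
    · have hs := hind.symm
      unfold Indep at h1
      push Not at h1
      obtain ⟨c, hc, hck⟩ := h1 hs.1
      have h0 : (Pi.single m (1 : F) : ι → F) ⬝ᵥ (Pi.single k' 1 : ι → F) = 0 :=
        single_dot_single hk'm 1 1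
      refine ⟨EE k' m 1 * h, M.mul_mem (H.hK (EE_mem_KK F₀ hk'm F₀.one_mem)) hh, k, k', hkm,
        hk'm, hk'k.symm, ?_⟩
      rw [Units.val_mul, ← mulVec_mulVec, ← ha]
      unfold EE
      rw [tv_mulVec _ _ _ h0, single_dotProduct, one_mul, Pi.add_apply, Pi.add_apply,
        Pi.smul_apply, Pi.smul_apply, Pi.single_eq_of_ne hk'k.symm, Pi.single_eq_same,
        smul_zero, add_zero, smul_eq_mul, mul_one]
      refine ⟨hs.1, fun d hd hcon => ?_⟩
      apply hs.2 (d - c) (F₀.sub_mem hd hc)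
      rw [hck] at hcon
      linear_combination hcon
  by_cases him : i = m
  · subst him
    exact key k (Ne.symm hik) hind
  · by_cases hkm : k = m
    · subst hkm
      exact key i him hind.symm
    · exact ⟨h, hh, i, k, him, hkm, hik, by rw [← ha]; exact hind⟩

end main

end Cfsg.Agent.Lib.Helper42.Subf
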