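import Mathlib
import Cfsg.Agent.Lib.Helper42.SubfB
import Cfsg.Agent.Lib.Helper14.DkMain2
import Cfsg.Agent.Lib.Helper14.DkRep

set_option autoImplicit false
set_option linter.unusedSectionVars false
set_option linter.style.haveILetI false

/-!
A subgroup of `SL₂(F)` containing a two-dimensional rational family of upper unipotents and a
lower unipotent has a Borel subgroup with a large torus.
-/

namespace Cfsg.Agent.Lib.Helper42.Subf

open Matrix Cfsg.Agent.Lib.Helper2.SL2 Cfsg.Agent.Lib.Helper14.Dk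

variable {F : Type*} [Field F]

local notation "SL2" => Matrix.SpecialLinearGroup (Fin 2) F

/-- upper unipotent -/
def uu (t : F) : SL2 := mk2 1 t 0 1 (by ring)

/-- lower unipotent -/
def ll (b : F) : SL2 := mk2 1 0 b 1 (by ring)

@[simp] theorem uu_00 (t : F) : uu t 0 0 = 1 := rfl
@[simp] theorem uu_01 (t : F) : uu t 0 1 = t := rfl
@[simp] theorem uu_10 (t : F) : uu t 1 0 = 0 := rfl
@[simp] theorem uu_11 (t : F) : uu t 1 1 = 1 := rfl
@[simp] theorem ll_00 (t : F) : ll t 0 0 = 1 := rfl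
@[simp] theorem ll_01 (t : F) : ll t 0 1 = 0 := rfl
@[simp] theorem ll_10 (t : F) : ll t 1 0 = t := rfl
@[simp] theorem ll_11 (t : F) : ll t 1 1 = 1 := rfl

theorem uu_mul (s t : F) : uu s * uu t = uu (s + t) := by
  apply ext2 <;> simp only [mul00, mul01, mul10, mul11, uu_00, uu_01, uu_10, uu_11] <;> ring

theorem uu_ne_one {t : F} (ht : t ≠ 0) : uu t ≠ 1 := by
  intro h
  have := (entries_of_eq h).2.1
  rw [uu_01, one01] at this
  exact ht this

theorem uu_ne_neg_one {t : F} (ht : t ≠ 0) : uu t ≠ -1 := by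
  intro h
  have := (entries_of_eq h).2.1
  rw [uu_01, neg01, one01, neg_zero] at this
  exact ht this

theorem dickson_line [Fintype F] (p : ℕ) [Fact p.Prime] [CharP F p] (F₀ : Subfield F)
    (L : Subgroup SL2) (c₁ c₂ b : F) (hind : Indep F₀ c₁ c₂)
    (hu : ∀ c ∈ F₀, ∀ d ∈ F₀, uu (c * c₁ + d * c₂) ∈ L) (hb : b ≠ 0) (hl : ll b ∈ L) :
    ∃ g ∈ L, g 1 0 = 0 ∧ (g 0 0) ^ 2 ∉ F₀ := by
  by_contra hcon
  push Not at hcon
  haveI : Finite SL2 := inferInstance
  haveI : Finite ↥L := inferInstance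
  let τ : ↥L →* SL2 := L.subtype
  have hτ : Function.Injective τ := Subtype.coe_injective
  have hD := data_of_rep p τ hτ
  have hq₀ : 2 ≤ Nat.card F₀ := by
    haveI : Fintype F₀ := Fintype.ofFinite F₀
    rw [Nat.card_eq_fintype_card]
    exact Fintype.one_lt_card
  -- unipotent elements
  have hmemu : ∀ t : F, (∃ c ∈ F₀, ∃ d ∈ F₀, t = c * c₁ + d * c₂) → uu t ∈ L := by
    rintro t ⟨c, hc, d, hd, rfl⟩
    exact hu c hc d hd
  have hc₁ : uu c₁ ∈ L := hmemu c₁ ⟨1, F₀.one_mem, 0, F₀.zero_mem, by ring⟩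
  have hc₂ : uu c₂ ∈ L := hmemu c₂ ⟨0, F₀.zero_mem, 1, F₀.one_mem, by ring⟩
  have hc₃ : uu (c₁ + c₂) ∈ L := hmemu _ ⟨1, F₀.one_mem, 1, F₀.one_mem, by ring⟩
  have hne₁ : c₁ ≠ 0 := hind.1
  have hne₂ : c₂ ≠ 0 := hind.symm.1
  have hne₃ : c₁ + c₂ ≠ 0 := by
    intro h0
    have := hind.eq_zero F₀.one_mem F₀.one_mem (by rw [one_mul, one_mul]; exact h0)
    exact one_ne_zero this.1
  have notZ : ∀ (t : F) (ht : uu t ∈ L), t ≠ 0 → (⟨uu t, ht⟩ : ↥L) ∉ ZZ τ := by
    intro t ht ht0 hmem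
    rw [mem_ZZ] at hmem
    rcases hmem with h | h
    · exact uu_ne_one ht0 h
    · exact uu_ne_neg_one ht0 h
  have isU : ∀ (t : F) (ht : uu t ∈ L), UU τ (⟨uu t, ht⟩ : ↥L) := by
    intro t ht
    show tr2 (uu t) ^ 2 = 4
    unfold tr2
    rw [uu_00, uu_11]
    norm_num
  let x : ↥L := ⟨uu c₁, hc₁⟩
  have hxZ : x ∉ ZZ τ := notZ c₁ hc₁ hne₁
  have hxU : UU τ x := isU c₁ hc₁
  have hstd : Std τ x := ⟨hτ, rfl, rfl, hxZ⟩
  -- the size of the unipotent radical
  have hVV : Nat.card F₀ ^ 2 ≤ hstd.VV.ncard := by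
    let f : F₀ × F₀ → F := fun cd => (cd.1 : F) * c₁ + (cd.2 : F) * c₂
    have hf : Function.Injective f := by
      rintro ⟨c, d⟩ ⟨c', d'⟩ h
      have h1 : ((c : F) - c') * c₁ + ((d : F) - d') * c₂ = 0 := by
        have : (c : F) * c₁ + (d : F) * c₂ = (c' : F) * c₁ + (d' : F) * c₂ := h
        linear_combination this
      have := hind.eq_zero (F₀.sub_mem c.2 c'.2) (F₀.sub_mem d.2 d'.2) h1
      ext
      · exact sub_eq_zero.mp this.1
      · exact sub_eq_zero.mp this.2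
    have hsub : Set.range f ⊆ hstd.VV := by
      rintro _ ⟨⟨c, d⟩, rfl⟩
      rw [hstd.mem_VV]
      have hmem : uu ((c : F) * c₁ + (d : F) * c₂) ∈ L := hu c c.2 d d.2
      have hM : (⟨_, hmem⟩ : ↥L) ∈ M x := by
        rw [hstd.mem_M_iff]
        exact ⟨rfl, rfl⟩
      refine ⟨⟨⟨_, hmem⟩, hM⟩, ?_⟩
      show uu ((c : F) * c₁ + (d : F) * c₂) 0 1 * uu ((c : F) * c₁ + (d : F) * c₂) 0 0 = _
      rw [uu_01, uu_00, mul_one]
    have h1 : (Set.range f).ncard = Nat.card F₀ ^ 2 := by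
      rw [← Set.image_univ, Set.ncard_image_of_injective _ hf, Set.ncard_univ, Nat.card_prod, sq]
    rw [← h1]
    exact Set.ncard_le_ncard hsub (Set.toFinite _)
  have haa := hstd.card_mul_ncard_VV
  have hZpos : 0 < Nat.card (ZZ τ) := Nat.card_pos
  -- the size of the torus
  have hee : ee x ≤ Nat.card F₀ - 1 := by
    rw [hstd.ee_eq]
    have hinj : Function.Injective (Units.map (F₀.subtype : F₀ →+* F).toMonoidHom) :=
      Units.map_injective (fun a b h => Subtype.ext h)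
    have hle : (sqHom τ).range ≤ (Units.map (F₀.subtype : F₀ →+* F).toMonoidHom).range := by
      rintro _ ⟨y, rfl⟩
      have hy : ((sqHom τ y : Fˣ) : F) ∈ F₀ := by
        rw [sqHom_val]
        exact hcon (y.1 : SL2) y.1.2 (mem_BG.mp y.2)
      have hne : (⟨_, hy⟩ : F₀) ≠ 0 := by
        intro h0
        have := congrArg Subtype.val h0
        exact (sqHom τ y).ne_zero this
      refine ⟨Units.mk0 ⟨_, hy⟩ hne, ?_⟩
      apply Units.ext
      rfl
    have h1 := Subgroup.card_le_of_le hle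
    have h2 : Nat.card (Units.map (F₀.subtype : F₀ →+* F).toMonoidHom).range =
        Nat.card F₀ˣ :=
      (Nat.card_congr (MonoidHom.ofInjective hinj).toEquiv).symm
    rw [h2, Nat.card_units] at h1
    exact h1
  -- the classification
  rcases hD.main with h | h | h | h | h | h | h | h
  · -- centre
    exact hxZ (by rw [h]; exact Subgroup.mem_top _)
  · -- cyclic
    obtain ⟨y, hyZ, hyU, hy⟩ := h
    have hxy : x ∈ M y := by rw [hy]; exact Subgroup.mem_top _
    rw [mem_M] at hxy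
    exact hyU (hD.U_comm x y hxZ hyZ hxy.symm hxU)
  · -- Borel
    obtain ⟨y, hyZ, hyU, hy⟩ := h
    obtain ⟨c, hcstd⟩ := exists_std τ hτ hyZ hyU
    have hn := hcstd.normalizer_eq
    rw [hy] at hn
    have h1 : x ∈ BG ((MulAut.conj c).toMonoidHom.comp τ) := by rw [← hn]; exact Subgroup.mem_top _
    have h2 : (⟨ll b, hl⟩ : ↥L) ∈ BG ((MulAut.conj c).toMonoidHom.comp τ) := by
      rw [← hn]; exact Subgroup.mem_top _
    rw [mem_BG] at h1 h2
    have e1 : ((MulAut.conj c).toMonoidHom.comp τ) x = c * uu c₁ * c⁻¹ := rfl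
    have e2 : ((MulAut.conj c).toMonoidHom.comp τ) (⟨ll b, hl⟩ : ↥L) = c * ll b * c⁻¹ := rfl
    rw [e1] at h1
    rw [e2] at h2
    simp only [mul00, mul01, mul10, mul11, inv00, inv01, inv10, inv11, uu_00, uu_01, uu_10, uu_11,
      ll_00, ll_01, ll_10, ll_11] at h1 h2
    have hdc := det2 c
    have h3 : c 1 0 = 0 := by
      have : c₁ * (c 1 0 * c 1 0) = 0 := by linear_combination -h1
      rcases mul_eq_zero.mp this with h | h
      · exact absurd h hne₁
      · exact mul_self_eq_zero.mp h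
    have h4 : c 1 1 = 0 := by
      have : b * (c 1 1 * c 1 1) = 0 := by linear_combination h2
      rcases mul_eq_zero.mp this with h | h
      · exact absurd h hb
      · exact mul_self_eq_zero.mp h
    rw [h3, h4] at hdc
    simp at hdc
  · -- dihedral
    obtain ⟨y, hyZ, hyU, hnn, hee2⟩ := h
    have hnorm : Subgroup.normalizer (M y : Set ↥L) = ⊤ := by
      unfold nn at hnn
      exact Subgroup.index_eq_one.mp hnn
    have hidx : (M y).index = 2 := by
      unfold ee at hee2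
      rw [hnorm, Subgroup.relIndex_top_right] at hee2
      exact hee2
    have key : ∀ (t : F) (ht : uu t ∈ L), t ≠ 0 → (⟨uu t, ht⟩ : ↥L) ∉ M y := by
      intro t ht ht0 hmem
      rw [mem_M] at hmem
      exact hyU (hD.U_comm _ y (notZ t ht ht0) hyZ hmem.symm (isU t ht))
    have h1 := key c₁ hc₁ hne₁
    have h2 := key c₂ hc₂ hne₂
    have h3 := key _ hc₃ hne₃
    have h4 : (⟨uu c₁, hc₁⟩ : ↥L) * ⟨uu c₂, hc₂⟩ = ⟨uu (c₁ + c₂), hc₃⟩ := by
      apply Subtype.ext
      exact uu_mul c₁ c₂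
    apply h3
    rw [← h4, Subgroup.mul_mem_iff_of_index_two hidx]
    exact ⟨fun h => absurd h h1, fun h => absurd h h2⟩
  · -- A4
    obtain ⟨_, h | h⟩ := h
    · exact h.1 x hxZ hxU
    · have := (h.1.2 x hxZ hxU).2
      rw [← haa] at this
      have h5 := Nat.eq_of_mul_eq_mul_left hZpos this
      nlinarith
  · -- S4
    exact h.2.1 x hxZ hxU
  · -- A5
    exact h.2.1 x hxZ hxU
  · -- PSL
    obtain ⟨k, q, g₂, g, _, hk2, hUni, hP, _⟩ := h
    obtain ⟨hk, hq⟩ := hUni.2 x hxZ hxU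
    rw [← haa] at hq
    have hq' := Nat.eq_of_mul_eq_mul_left hZpos hq
    rw [hk] at hee
    rw [hq'] at hVV
    have hk1 : k + 1 ≤ Nat.card F₀ := by omega
    have hsq : 2 * Nat.card F₀ ≤ Nat.card F₀ ^ 2 := by nlinarith
    have hsq2 : 4 ≤ Nat.card F₀ ^ 2 := by nlinarith
    rcases hP with ⟨h1, _, _⟩ | ⟨h1, _, _⟩ | ⟨h1, _, _, _⟩
    · omega
    · omega
    · omega

end Cfsg.Agent.Lib.Helper42.Subf
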