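import Mathlib
import Cfsg.Agent.Lib.Helper42.SubfC

set_option autoImplicit false
set_option linter.unusedSectionVars false
set_option linter.style.haveILetI false
set_option linter.unusedSimpArgs false

/-!
Subfield subgroups are maximal in the special linear group.
-/

namespace Cfsg.Agent.Lib.Helper42.Subf

open Matrix Cfsg.Agent.Lib.Helper99 Cfsg.Agent.Lib.Helper2.SL2 Cfsg.Agent.Lib.Helper14.Dk
open scoped MatrixGroups

variable {ι : Type} [Fintype ι] [DecidableEq ι] {F : Type*} [Field F]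

local notation "SL2" => Matrix.SpecialLinearGroup (Fin 2) F

theorem uu_inv (t : F) : (uu t)⁻¹ = uu (-t) := by
  apply ext2 <;> simp only [inv00, inv01, inv10, inv11, uu_00, uu_01, uu_10, uu_11, neg_zero]

theorem ll_inv (t : F) : (ll t)⁻¹ = ll (-t) := by
  apply ext2 <;> simp only [inv00, inv01, inv10, inv11, ll_00, ll_01, ll_10, ll_11, neg_zero]

/-- the lifting relation between elements acting on a line and elements of `SL₂` -/
def Lift (e a : ι → F) (g : GL ι F) (gb : SL2) : Prop :=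
  ∃ α β : ι → F, (g : Matrix ι ι F) = 1 + vecMulVec e α + vecMulVec a β ∧
    gb 0 0 = 1 + α ⬝ᵥ e ∧ gb 0 1 = α ⬝ᵥ a ∧ gb 1 0 = β ⬝ᵥ e ∧ gb 1 1 = 1 + β ⬝ᵥ a

theorem Lift.one (e a : ι → F) : Lift e a (1 : GL ι F) (1 : SL2) := by
  refine ⟨0, 0, ?_, ?_, ?_, ?_, ?_⟩
  · rw [Units.val_one, vecMulVec_zero, vecMulVec_zero, add_zero, add_zero]
  · rw [one00, zero_dotProduct, add_zero]
  · rw [one01, zero_dotProduct]
  · rw [one10, zero_dotProduct]
  · rw [one11, zero_dotProduct, add_zero]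

theorem Lift.mul {e a : ι → F} {g g' : GL ι F} {gb gb' : SL2} (h : Lift e a g gb)
    (h' : Lift e a g' gb') : Lift e a (g * g') (gb * gb') := by
  obtain ⟨α, β, hg, h00, h01, h10, h11⟩ := h
  obtain ⟨α', β', hg', h00', h01', h10', h11'⟩ := h'
  refine ⟨α + α' + (α ⬝ᵥ e) • α' + (α ⬝ᵥ a) • β', β + β' + (β ⬝ᵥ e) • α' + (β ⬝ᵥ a) • β',
    ?_, ?_, ?_, ?_, ?_⟩
  · rw [Units.val_mul, hg, hg']
    simp only [mul_add, add_mul, mul_one, one_mul, vecMulVec_mul_vecMulVec, vecMulVec_add]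
    abel
  · rw [mul00, h00, h00', h01, h10']
    simp only [add_dotProduct, smul_dotProduct, smul_eq_mul]
    ring
  · rw [mul01, h00, h01', h01, h11']
    simp only [add_dotProduct, smul_dotProduct, smul_eq_mul]
    ring
  · rw [mul10, h10, h00', h11, h10']
    simp only [add_dotProduct, smul_dotProduct, smul_eq_mul]
    ring
  · rw [mul11, h10, h01', h11, h11']
    simp only [add_dotProduct, smul_dotProduct, smul_eq_mul]
    ring

theorem Lift.tv_e (e a ψ : ι → F) (hψ : ψ ⬝ᵥ e = 0) : Lift e a (rk1GL e ψ) (uu (ψ ⬝ᵥ a)) := by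
  refine ⟨ψ, 0, ?_, ?_, ?_, ?_, ?_⟩
  · rw [coe_tv _ _ hψ, vecMulVec_zero, add_zero]; rfl
  · rw [uu_00, hψ, add_zero]
  · rw [uu_01]
  · rw [uu_10, zero_dotProduct]
  · rw [uu_11, zero_dotProduct, add_zero]

theorem Lift.tv_a (e a φ : ι → F) (hφ : φ ⬝ᵥ a = 0) : Lift e a (rk1GL a φ) (ll (φ ⬝ᵥ e)) := by
  refine ⟨0, φ, ?_, ?_, ?_, ?_, ?_⟩
  · rw [coe_tv _ _ hφ, vecMulVec_zero, add_zero]; rfl
  · rw [ll_00, zero_dotProduct, add_zero]
  · rw [ll_01, zero_dotProduct]
  · rw [ll_10]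
  · rw [ll_11, hφ, add_zero]

/-- a scalar `μ` for which `μ (1 + x yᵀ)` is rational on a large principal submatrix is
rational -/
theorem mu_rational (F₀ : Subfield F) (m j l t : ι) (hjm : j ≠ m) (hlm : l ≠ m) (htm : t ≠ m)
    (hjl : j ≠ l) (htj : t ≠ j) (htl : t ≠ l) (μ : F) (x y : ι → F)
    (hN : ∀ r s, r ≠ m → s ≠ m → μ * ((if r = s then 1 else 0) + x r * y s) ∈ F₀) : μ ∈ F₀ := by
  by_cases hμ : μ = 0
  · rw [hμ]; exact F₀.zero_mem
  have hjj := hN j j hjm hjm
  have hll := hN l l hlm hlm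
  have htt := hN t t htm htm
  have hjl' := hN j l hjm hlm
  have htl' := hN t l htm hlm
  have hjt' := hN j t hjm htm
  rw [if_pos rfl] at hjj hll htt
  rw [if_neg hjl, zero_add] at hjl'
  rw [if_neg htl, zero_add] at htl'
  rw [if_neg htj.symm, zero_add] at hjt'
  by_cases h1 : x j * y l = 0
  · by_cases h2 : x j * y j = 0
    · rw [h2, add_zero, mul_one] at hjj
      exact hjj
    · have hxj : x j ≠ 0 := left_ne_zero_of_mul h2
      have hyl : y l = 0 := by
        rcases mul_eq_zero.mp h1 with h | h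
        · exact absurd h hxj
        · exact h
      rw [hyl, mul_zero, add_zero, mul_one] at hll
      exact hll
  · have hD : μ * (x j * y l) ≠ 0 := mul_ne_zero hμ h1
    have hxj : x j ≠ 0 := left_ne_zero_of_mul h1
    have hyl : y l ≠ 0 := right_ne_zero_of_mul h1
    have : μ = μ * (1 + x t * y t) - μ * (x t * y l) * (μ * (x j * y t)) / (μ * (x j * y l)) := by
      field_simp
      ring
    rw [this]
    exact F₀.sub_mem htt (F₀.div_mem (F₀.mul_mem htl' hjt') hjl')

theorem exists_three (h4 : 4 ≤ Fintype.card ι) (m : ι) :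
    ∃ j l t : ι, j ≠ m ∧ l ≠ m ∧ t ≠ m ∧ j ≠ l ∧ t ≠ j ∧ t ≠ l := by
  obtain ⟨j, hjm, -⟩ := exists_third (by omega) m m
  obtain ⟨l, hlm, hlj⟩ := exists_third (by omega) m j
  have : ∃ t : ι, t ∉ ({m, j, l} : Finset ι) := by
    by_contra hcon
    push Not at hcon
    have hsub : (Finset.univ : Finset ι) ⊆ {m, j, l} := fun t _ => hcon t
    have h2 := Finset.card_le_card hsub
    rw [Finset.card_univ] at h2
    have h3 : ({m, j, l} : Finset ι).card ≤ 3 := Finset.card_le_three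
    omega
  obtain ⟨t, ht⟩ := this
  simp only [Finset.mem_insert, Finset.mem_singleton, not_or] at ht
  exact ⟨j, l, t, hjm, hlm, ht.1, hlj.symm, ht.2.1, ht.2.2⟩


section final

variable {M : Subgroup (GL ι F)} {F₀ : Subfield F}

/-- the configuration is contradictory -/
theorem Hyp.false_of_config [Fintype F] (p : ℕ) [Fact p.Prime] [CharP F p] (H : Hyp M F₀)
    (h4 : 4 ≤ Fintype.card ι) (m : ι) (h' : GL ι F) (hh' : h' ∈ M) (i k : ι) (him : i ≠ m)
    (hkm : k ≠ m)
    (hind : Indep F₀ (((h' : Matrix ι ι F) *ᵥ Pi.single m 1) i)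
      (((h' : Matrix ι ι F) *ᵥ Pi.single m 1) k)) : False := by
  obtain ⟨e, he⟩ : ∃ e : ι → F, e = Pi.single m 1 := ⟨_, rfl⟩
  obtain ⟨a, ha⟩ : ∃ a : ι → F, a = (h' : Matrix ι ι F) *ᵥ e := ⟨_, rfl⟩
  rw [← he, ← ha] at hind
  have herat : ∀ j, e j ∈ F₀ := fun j => by rw [he]; exact single_mem F₀ m F₀.one_mem j
  have hai : a i ≠ 0 := hind.1
  -- a row of the inverse not vanishing at `e`
  have hex : ∃ k', k' ≠ m ∧ ((h'⁻¹ : GL ι F) : Matrix ι ι F) k' m ≠ 0 := by
    by_contra hcon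
    push Not at hcon
    have h1 : ((h'⁻¹ : GL ι F) : Matrix ι ι F) *ᵥ e =
        (((h'⁻¹ : GL ι F) : Matrix ι ι F) m m) • e := by
      ext j
      rw [he, mulVec_single_apply, Pi.smul_apply]
      by_cases hj : j = m
      · rw [hj, Pi.single_eq_same, smul_eq_mul, mul_one]
      · rw [hcon j hj, Pi.single_eq_of_ne hj, smul_zero]
    have h2 : e = (((h'⁻¹ : GL ι F) : Matrix ι ι F) m m) • a := by
      have := congrArg (fun v => (h' : Matrix ι ι F) *ᵥ v) h1
      simp only [mulVec_mulVec, mulVec_smul] at this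
      rw [← Units.val_mul, mul_inv_cancel, Units.val_one, one_mulVec, ← ha] at this
      exact this
    have h3 := congrFun h2 i
    rw [he, Pi.single_eq_of_ne him, Pi.smul_apply, smul_eq_mul] at h3
    have h5 : ((h'⁻¹ : GL ι F) : Matrix ι ι F) m m = 0 := by
      rcases mul_eq_zero.mp h3.symm with h | h
      · exact h
      · exact absurd h hai
    rw [h5, zero_smul] at h2
    have h6 := congrFun h2 m
    rw [he, Pi.single_eq_same, Pi.zero_apply] at h6
    exact one_ne_zero h6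
  obtain ⟨k', hk'm, hk'⟩ := hex
  obtain ⟨φ, hφ⟩ : ∃ φ : ι → F,
      φ = (Pi.single k' (1 : F) : ι → F) ᵥ* ((h'⁻¹ : GL ι F) : Matrix ι ι F) := ⟨_, rfl⟩
  have h0 : (Pi.single k' (1 : F) : ι → F) ⬝ᵥ (Pi.single m 1 : ι → F) = 0 :=
    single_dot_single hk'm.symm 1 1
  have hy : rk1GL a φ ∈ M := by
    have hc : h' * EE m k' (1 : F) * h'⁻¹ ∈ M :=
      M.mul_mem (M.mul_mem hh' (H.hK (EE_mem_KK F₀ hk'm.symm F₀.one_mem))) (M.inv_mem hh')
    unfold EE at hc
    rw [conj_tv _ _ _ h0, ← he, ← ha, ← hφ] at hc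
    exact hc
  have hφa : φ ⬝ᵥ a = 0 := by
    rw [hφ, ha, ← dotProduct_mulVec, mulVec_mulVec, ← Units.val_mul, inv_mul_cancel,
      Units.val_one, one_mulVec, he]
    exact h0
  have hφe : φ ⬝ᵥ e ≠ 0 := by
    rw [hφ, he, dotProduct_single, mul_one, single_vecMul_apply]
    exact hk'
  -- the group on the line
  obtain ⟨S, hS⟩ : ∃ S : Set SL2, S = {gb | ∃ c ∈ F₀, ∃ d ∈ F₀, gb = uu (c * a i + d * a k)} ∪
      {ll (φ ⬝ᵥ e), ll (-(φ ⬝ᵥ e))} := ⟨_, rfl⟩
  have hSlift : ∀ gb ∈ S, ∃ g ∈ M, Lift e a g gb := by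
    intro gb hgb
    rw [hS] at hgb
    rcases hgb with ⟨c, hc, d, hd, rfl⟩ | hgb
    · obtain ⟨ψ, hψ⟩ : ∃ ψ : ι → F, ψ = Pi.single i c + Pi.single k d := ⟨_, rfl⟩
      have hψe : ψ ⬝ᵥ e = 0 := by
        rw [hψ, he, dotProduct_single, mul_one, Pi.add_apply, Pi.single_eq_of_ne him.symm,
          Pi.single_eq_of_ne hkm.symm, add_zero]
      have hψa : ψ ⬝ᵥ a = c * a i + d * a k := by
        rw [hψ, add_dotProduct, single_dotProduct, single_dotProduct]
      have hψrat : ∀ j, ψ j ∈ F₀ := fun j => by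
        rw [hψ, Pi.add_apply]
        exact F₀.add_mem (single_mem F₀ i hc j) (single_mem F₀ k hd j)
      refine ⟨rk1GL e ψ, H.hK (tv_mem_KK F₀ e ψ hψe herat hψrat), ?_⟩
      rw [← hψa]
      exact Lift.tv_e e a ψ hψe
    · rcases hgb with rfl | hgb
      · exact ⟨rk1GL a φ, hy, Lift.tv_a e a φ hφa⟩
      · rw [Set.mem_singleton_iff] at hgb
        subst hgb
        have hφa' : (-φ) ⬝ᵥ a = 0 := by rw [neg_dotProduct, hφa, neg_zero]
        refine ⟨rk1GL a (-φ), ?_, ?_⟩
        · rw [← tv_inv _ _ hφa]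
          exact M.inv_mem hy
        · have := Lift.tv_a e a (-φ) hφa'
          rwa [neg_dotProduct] at this
  have hSinv : ∀ gb ∈ S, gb⁻¹ ∈ S := by
    intro gb hgb
    rw [hS] at hgb ⊢
    rcases hgb with ⟨c, hc, d, hd, rfl⟩ | hgb
    · left
      refine ⟨-c, F₀.neg_mem hc, -d, F₀.neg_mem hd, ?_⟩
      rw [uu_inv]
      congr 1
      ring
    · right
      rcases hgb with rfl | hgb
      · rw [ll_inv]
        exact Set.mem_insert_of_mem _ rfl
      · rw [Set.mem_singleton_iff] at hgb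
        subst hgb
        rw [ll_inv, neg_neg]
        exact Set.mem_insert _ _
  have hlift : ∀ gb ∈ Subgroup.closure S, ∃ g ∈ M, Lift e a g gb := by
    intro gb hgb
    induction hgb using Subgroup.closure_induction'' with
    | mem x hx => exact hSlift x hx
    | inv_mem x hx => exact hSlift _ (hSinv x hx)
    | one => exact ⟨1, M.one_mem, Lift.one e a⟩
    | mul x y _ _ hx hy =>
      obtain ⟨g, hg, hl⟩ := hx
      obtain ⟨g', hg', hl'⟩ := hy
      exact ⟨g * g', M.mul_mem hg hg', hl.mul hl'⟩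
  -- Dickson
  obtain ⟨gb, hgbL, hgb10, hgb00⟩ := dickson_line p F₀ (Subgroup.closure S) (a i) (a k) (φ ⬝ᵥ e)
    hind (fun c hc d hd => Subgroup.subset_closure (by
      rw [hS]; left; exact ⟨c, hc, d, hd, rfl⟩)) hφe
    (Subgroup.subset_closure (by rw [hS]; right; exact Set.mem_insert _ _))
  obtain ⟨g, hgM, α, β, hg, h00, h01, h10, h11⟩ := hlift gb hgbL
  rw [hgb10] at h10
  -- `g` fixes the point `e`
  have hge : (g : Matrix ι ι F) *ᵥ Pi.single m 1 = (gb 0 0) • Pi.single m 1 := by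
    rw [← he, hg, add_mulVec, add_mulVec, one_mulVec, vecMulVec_mulVec, vecMulVec_mulVec,
      op_smul_eq_smul, op_smul_eq_smul, ← h10, zero_smul, add_zero, h00, add_smul, one_smul]
  have hgK := H.P_lemma m g hgM _ hge
  rw [mem_KK_iff] at hgK
  obtain ⟨⟨μ, hμ0, hμ⟩, -⟩ := hgK
  obtain ⟨j, l, t, hjm, hlm, htm, hjl, htj, htl⟩ := exists_three h4 m
  have hentry : ∀ r s, (g : Matrix ι ι F) r s = (if r = s then 1 else 0) + e r * α s + a r * β s := by
    intro r s
    rw [hg, Matrix.add_apply, Matrix.add_apply, Matrix.one_apply, vecMulVec_apply,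
      vecMulVec_apply]
  have hμF : μ ∈ F₀ := by
    apply mu_rational F₀ m j l t hjm hlm htm hjl htj htl μ a β
    intro r s hr _
    have := hμ r s
    rw [hentry, he, Pi.single_eq_of_ne hr, zero_mul, add_zero] at this
    exact this
  have hmm : (g : Matrix ι ι F) m m = gb 0 0 := by
    rw [← mulVec_single_apply (g : Matrix ι ι F) m m, hge, Pi.smul_apply, Pi.single_eq_same,
      smul_eq_mul, mul_one]
  have h5 := hμ m m
  rw [hmm] at h5
  have h6 : gb 0 0 = μ⁻¹ * (μ * gb 0 0) := by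
    rw [← mul_assoc, inv_mul_cancel₀ hμ0, one_mul]
  apply hgb00
  rw [h6, sq]
  exact F₀.mul_mem (F₀.mul_mem (F₀.inv_mem hμF) h5) (F₀.mul_mem (F₀.inv_mem hμF) h5)

end final

/-- the subfield group (with trivial change of basis) is maximal in the special linear group -/
theorem KK_isMaximalIn [Fintype F] (h4 : 4 ≤ Fintype.card ι) (F₀ : Subfield F) (r : ℕ)
    (hr : r.Prime) (hcard : Fintype.card F = Nat.card F₀ ^ r) :
    Cfsg.Geo.IsMaximalIn (Cfsg.Geo.specialLinear ι F) (KK ι F₀) := by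
  haveI : Fintype F₀ := Fintype.ofFinite F₀
  have hq₀ : 2 ≤ Nat.card F₀ := by
    rw [Nat.card_eq_fintype_card]
    exact Fintype.one_lt_card
  obtain ⟨m, j, -, -, hjm, -⟩ : ∃ m j l t : ι, j ≠ m ∧ l ≠ m ∧ t ≠ m ∧ j ≠ l ∧ t ≠ j ∧ t ≠ l := by
    have : Nonempty ι := by
      rw [← Fintype.card_pos_iff]; omega
    obtain ⟨m⟩ := this
    obtain ⟨j, l, t, h⟩ := exists_three h4 m
    exact ⟨m, j, l, t, h⟩
  refine ⟨lt_of_le_of_ne (KK_le F₀) ?_, ?_⟩
  · -- proper
    intro heq
    have hex : ∃ c : F, c ∉ F₀ := by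
      by_contra hcon
      push Not at hcon
      have htop : F₀ = ⊤ := by
        rw [eq_top_iff]; exact fun x _ => hcon x
      have h1 : Nat.card F₀ = Fintype.card F := by
        rw [htop, ← Nat.card_eq_fintype_card]
        exact Nat.card_congr Subfield.topEquiv.toEquiv
      rw [hcard] at h1
      have h2 : Nat.card F₀ ^ 1 < Nat.card F₀ ^ r := Nat.pow_lt_pow_right hq₀ hr.one_lt
      rw [pow_one] at h2
      omega
    obtain ⟨c, hc⟩ := hex
    have h0 : (Pi.single j (1 : F) : ι → F) ⬝ᵥ (Pi.single m c : ι → F) = 0 :=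
      single_dot_single hjm.symm 1 c
    have hmem : EE m j c ∈ KK ι F₀ := by
      rw [heq]
      exact tv_mem_specialLinear _ _ h0
    rw [mem_KK_iff] at hmem
    obtain ⟨⟨μ, hμ0, hμ⟩, -⟩ := hmem
    have h1 := hμ m m
    have h2 := hμ m j
    unfold EE at h1 h2
    rw [tv_apply _ _ h0] at h1 h2
    rw [if_pos rfl, Pi.single_eq_same, Pi.single_eq_of_ne hjm.symm, mul_zero, add_zero,
      mul_one] at h1
    rw [if_neg hjm.symm, Pi.single_eq_same, Pi.single_eq_same, zero_add, mul_one] at h2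
    apply hc
    have : c = μ⁻¹ * (μ * c) := by rw [← mul_assoc, inv_mul_cancel₀ hμ0, one_mul]
    rw [this]
    exact F₀.mul_mem (F₀.inv_mem h1) h2
  · intro M hKM hMS
    have h3 : 3 ≤ Fintype.card ι := by omega
    have hle : F₀ ≤ rootField hKM h3 := fun c hc => root_of_mem_F₀ hKM hc
    rcases subfield_dichotomy F₀ r hr hcard (rootField hKM h3) hle with hB | hB
    · left
      have H : Hyp M F₀ := ⟨hKM, hMS, h3, fun c hc => by
        have : c ∈ rootField hKM h3 := hc
        rwa [hB] at this⟩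
      apply le_antisymm _ hKM
      intro h hh
      by_contra hnot
      obtain ⟨p, hp⟩ := CharP.exists F
      haveI : Fact p.Prime := ⟨CharP.char_is_prime F p⟩
      obtain ⟨h', hh', i, k, him, hkm, hik, hind⟩ := H.exists_config h hh hnot m
      exact H.false_of_config p h4 m h' hh' i k him hkm hind
    · right
      apply eq_specialLinear_of_EE_mem M hMS
      intro i j hij c
      have : c ∈ rootField hKM h3 := by rw [hB]; exact Subfield.mem_top c
      exact this i j hij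


theorem isMaximalIn_map_equiv {G : Type*} [Group G] (φ : G ≃* G) (S K : Subgroup G)
    (hS : S.map φ.toMonoidHom = S) (h : Cfsg.Geo.IsMaximalIn S K) :
    Cfsg.Geo.IsMaximalIn S (K.map φ.toMonoidHom) := by
  obtain ⟨hlt, hmax⟩ := h
  have hinj : Function.Injective φ.toMonoidHom := φ.injective
  have hsurj : Function.Surjective φ.toMonoidHom := φ.surjective
  refine ⟨lt_of_le_of_ne ?_ ?_, ?_⟩
  · calc K.map φ.toMonoidHom ≤ S.map φ.toMonoidHom := Subgroup.map_mono hlt.le
      _ = S := hS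
  · intro heq
    rw [← hS] at heq
    exact hlt.ne (Subgroup.map_injective hinj heq)
  · intro M hKM hMS
    have h1 : K ≤ M.comap φ.toMonoidHom := Subgroup.map_le_iff_le_comap.mp hKM
    have h2 : M.comap φ.toMonoidHom ≤ S := by
      have := Subgroup.comap_mono (f := φ.toMonoidHom) hMS
      rw [← hS, Subgroup.comap_map_eq_self_of_injective hinj] at this
      rw [← hS]
      convert this using 1
    have hM : M = (M.comap φ.toMonoidHom).map φ.toMonoidHom :=
      (Subgroup.map_comap_eq_self_of_surjective hsurj M).symm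
    rcases hmax _ h1 h2 with h | h
    · left; rw [hM, h]
    · right; rw [hM, h, hS]

theorem map_conj_specialLinear (P : GL ι F) :
    (Cfsg.Geo.specialLinear ι F).map (MulAut.conj P).toMonoidHom = Cfsg.Geo.specialLinear ι F := by
  have key : ∀ (Q x : GL ι F), x ∈ Cfsg.Geo.specialLinear ι F →
      Q * x * Q⁻¹ ∈ Cfsg.Geo.specialLinear ι F := by
    intro Q x hx
    unfold Cfsg.Geo.specialLinear at hx ⊢
    rw [MonoidHom.mem_ker] at hx ⊢
    rw [map_mul, map_mul, map_inv, hx, mul_one, mul_inv_cancel]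
  ext x
  constructor
  · rintro ⟨y, hy, rfl⟩
    exact key P y hy
  · intro hx
    refine ⟨P⁻¹ * x * P, ?_, ?_⟩
    · have := key P⁻¹ x hx
      rwa [inv_inv] at this
    · show P * (P⁻¹ * x * P) * P⁻¹ = x
      group

/-- the subfield group is maximal in the special linear group -/
theorem subfield_isMaximalIn [Fintype F] (h4 : 4 ≤ Fintype.card ι) (F₀ : Subfield F) (r : ℕ)
    (hr : r.Prime) (hcard : Fintype.card F = Nat.card F₀ ^ r) (P : GL ι F) :
    Cfsg.Geo.IsMaximalIn (Cfsg.Geo.specialLinear ι F)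
      (Cfsg.Geo.subfieldSubgroup F₀ P ⊓ Cfsg.Geo.specialLinear ι F) := by
  have e1 : Cfsg.Geo.subfieldSubgroup F₀ P =
      (Cfsg.Geo.subfieldSubgroup F₀ (1 : GL ι F)).map (MulAut.conj P).toMonoidHom := by
    have hid : (MulAut.conj (1 : GL ι F)).toMonoidHom = MonoidHom.id (GL ι F) := by
      ext x; simp
    unfold Cfsg.Geo.subfieldSubgroup
    rw [hid, Subgroup.map_id]
  have e2 : Cfsg.Geo.subfieldSubgroup F₀ P ⊓ Cfsg.Geo.specialLinear ι F =
      (KK ι F₀).map (MulAut.conj P).toMonoidHom := by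
    unfold KK
    rw [Subgroup.map_inf _ _ _ (MulAut.conj P).injective, map_conj_specialLinear, ← e1]
  rw [e2]
  exact isMaximalIn_map_equiv (MulAut.conj P) _ _ (map_conj_specialLinear P)
    (KK_isMaximalIn h4 F₀ r hr hcard)

end Cfsg.Agent.Lib.Helper42.Subf
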