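import Mathlib
import Cfsg.Agent.Lib.Helper8.Eichler2
import Cfsg.Agent.Lib.Helper42.SubfD

set_option autoImplicit false
set_option linter.unusedSectionVars false
set_option linter.unusedVariables false
set_option linter.style.haveILetI false
set_option linter.unusedSimpArgs false

/-!
Subfield subgroups of orthogonal groups: Eichler (Siegel) transformations as elements of `GL`,
and vectors with coordinates in a subfield.
-/

namespace Cfsg.Agent.Lib.Helper42.OSub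

open Matrix QuadraticMap Cfsg.Agent.Lib.Helper8 Cfsg.Agent.Lib.Helper13
  Cfsg.Agent.Lib.Helper42.Subf

variable {ι : Type} [Fintype ι] [DecidableEq ι] {F : Type*} [Field F]
variable (Q : QuadraticForm F (ι → F)) (hQ : (QuadraticMap.polarBilin Q).Nondegenerate)

theorem gl_ext {g h : GL ι F}
    (H : ∀ x, (g : Matrix ι ι F) *ᵥ x = (h : Matrix ι ι F) *ᵥ x) : g = h := by
  apply Units.ext
  rw [Matrix.ext_iff_mulVec]
  exact H

theorem gl_mul_act (g h : GL ι F) (x : ι → F) :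
    ((g * h : GL ι F) : Matrix ι ι F) *ᵥ x =
      (g : Matrix ι ι F) *ᵥ ((h : Matrix ι ι F) *ᵥ x) := by
  rw [Units.val_mul, mulVec_mulVec]

theorem gl_inv_act (g : GL ι F) (x : ι → F) :
    ((g⁻¹ : GL ι F) : Matrix ι ι F) *ᵥ ((g : Matrix ι ι F) *ᵥ x) = x := by
  rw [← gl_mul_act, inv_mul_cancel, Units.val_one, one_mulVec]

theorem gl_act_inv (g : GL ι F) (x : ι → F) :
    (g : Matrix ι ι F) *ᵥ (((g⁻¹ : GL ι F) : Matrix ι ι F) *ᵥ x) = x := by
  rw [← gl_mul_act, mul_inv_cancel, Units.val_one, one_mulVec]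

theorem gl_act_ne_zero (g : GL ι F) {x : ι → F} (hx : x ≠ 0) :
    (g : Matrix ι ι F) *ᵥ x ≠ 0 := by
  intro h0
  apply hx
  have := congrArg (fun v => ((g⁻¹ : GL ι F) : Matrix ι ι F) *ᵥ v) h0
  simp only [gl_inv_act, mulVec_zero] at this
  exact this

/-- isometries preserve the form -/
theorem iso_Q {g : GL ι F} (hg : g ∈ Cfsg.isometryGroup F (⇑Q)) (x : ι → F) :
    Q ((g : Matrix ι ι F) *ᵥ x) = Q x :=
  (mem_isometryGroup_iff (⇑Q) g).mp hg x

theorem iso_B {g : GL ι F} (hg : g ∈ Cfsg.isometryGroup F (⇑Q)) (x y : ι → F) :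
    polar (⇑Q) ((g : Matrix ι ι F) *ᵥ x) ((g : Matrix ι ι F) *ᵥ y) = polar (⇑Q) x y :=
  polar_mulVec_of_preserves Q _ (iso_Q Q hg) x y

theorem iso_B_inv {g : GL ι F} (hg : g ∈ Cfsg.isometryGroup F (⇑Q)) (x y : ι → F) :
    polar (⇑Q) ((g : Matrix ι ι F) *ᵥ x) y =
      polar (⇑Q) x (((g⁻¹ : GL ι F) : Matrix ι ι F) *ᵥ y) := by
  rw [← iso_B Q hg x (((g⁻¹ : GL ι F) : Matrix ι ι F) *ᵥ y), gl_act_inv]

open Classical in
/-- the Eichler transformation as an element of `GL`, trivial if the hypotheses fail -/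
noncomputable def ee (u v : ι → F) : GL ι F :=
  if h : Q u = 0 ∧ polar (⇑Q) u v = 0 then
    ((eichlerElt Q hQ u v h.1 h.2 : ↥(Cfsg.isometryGroup F (⇑Q))) : GL ι F)
  else 1

theorem ee_eq {u v : ι → F} (hu : Q u = 0) (huv : polar (⇑Q) u v = 0) :
    ee Q hQ u v = ((eichlerElt Q hQ u v hu huv : ↥(Cfsg.isometryGroup F (⇑Q))) : GL ι F) := by
  unfold ee
  rw [dif_pos ⟨hu, huv⟩]

theorem ee_mulVec {u v : ι → F} (hu : Q u = 0) (huv : polar (⇑Q) u v = 0) (x : ι → F) :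
    ((ee Q hQ u v : GL ι F) : Matrix ι ι F) *ᵥ x =
      x + polar (⇑Q) u x • v - polar (⇑Q) v x • u - (Q v * polar (⇑Q) u x) • u := by
  rw [ee_eq Q hQ hu huv]
  exact eichlerElt_mulVec Q hQ u v hu huv x

theorem ee_mem_iso (u v : ι → F) : ee Q hQ u v ∈ Cfsg.isometryGroup F (⇑Q) := by
  unfold ee
  split_ifs with h
  · exact (eichlerElt Q hQ u v h.1 h.2).2
  · exact Subgroup.one_mem _

theorem ee_mul {u v w : ι → F} (hu : Q u = 0) (huv : polar (⇑Q) u v = 0)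
    (huw : polar (⇑Q) u w = 0) :
    ee Q hQ u v * ee Q hQ u w = ee Q hQ u (v + w) := by
  have huvw : polar (⇑Q) u (v + w) = 0 := by rw [polar_add_right, huv, huw, add_zero]
  rw [ee_eq Q hQ hu huv, ee_eq Q hQ hu huw, ee_eq Q hQ hu huvw, ← Subgroup.coe_mul,
    eichlerElt_mul]

theorem ee_zero (u : ι → F) : ee Q hQ u 0 = 1 := by
  unfold ee
  split_ifs with h
  · rw [eichlerElt_zero]; rfl
  · rfl

theorem ee_inv {u v : ι → F} (hu : Q u = 0) (huv : polar (⇑Q) u v = 0) :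
    (ee Q hQ u v)⁻¹ = ee Q hQ u (-v) := by
  have huv' : polar (⇑Q) u (-v) = 0 := by rw [polar_neg_right, huv, neg_zero]
  rw [ee_eq Q hQ hu huv, ee_eq Q hQ hu huv', ← Subgroup.coe_inv, eichlerElt_inv]

theorem ee_add_smul {u v : ι → F} (hu : Q u = 0) (huv : polar (⇑Q) u v = 0) (t : F) :
    ee Q hQ u (v + t • u) = ee Q hQ u v := by
  have h' : polar (⇑Q) u (v + t • u) = 0 := by
    rw [polar_add_right, polar_smul_right, huv, polar_self, hu]; simp
  rw [ee_eq Q hQ hu huv, ee_eq Q hQ hu h', eichlerElt_add_smul]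

theorem ee_smul_left {u v : ι → F} (hu : Q u = 0) (huv : polar (⇑Q) u v = 0) (l : F) :
    ee Q hQ (l • u) v = ee Q hQ u (l • v) := by
  have h1 : Q (l • u) = 0 := by rw [QuadraticMap.map_smul, hu, smul_zero]
  have h2 : polar (⇑Q) (l • u) v = 0 := by rw [polar_smul_left, huv, smul_zero]
  have h3 : polar (⇑Q) u (l • v) = 0 := by rw [polar_smul_right, huv, smul_zero]
  rw [ee_eq Q hQ h1 h2, ee_eq Q hQ hu h3, eichlerElt_smul_left Q hQ u v hu huv l]

theorem conj_ee {g : GL ι F} (hg : g ∈ Cfsg.isometryGroup F (⇑Q)) {u v : ι → F}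
    (hu : Q u = 0) (huv : polar (⇑Q) u v = 0) :
    g * ee Q hQ u v * g⁻¹ =
      ee Q hQ ((g : Matrix ι ι F) *ᵥ u) ((g : Matrix ι ι F) *ᵥ v) := by
  have h1 : Q ((g : Matrix ι ι F) *ᵥ u) = 0 := by rw [iso_Q Q hg, hu]
  have h2 : polar (⇑Q) ((g : Matrix ι ι F) *ᵥ u) ((g : Matrix ι ι F) *ᵥ v) = 0 := by
    rw [iso_B Q hg, huv]
  rw [ee_eq Q hQ hu huv, ee_eq Q hQ h1 h2]
  have := conj_eichlerElt Q hQ ⟨g, hg⟩ u v hu huv
  have h3 := congrArg (fun x : ↥(Cfsg.isometryGroup F (⇑Q)) => (x : GL ι F)) this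
  simp only [Subgroup.coe_mul, Subgroup.coe_inv] at h3
  exact h3

/-- the two arguments may be exchanged when both are singular -/
theorem ee_swap {u v : ι → F} (hu : Q u = 0) (hv : Q v = 0) (huv : polar (⇑Q) u v = 0) :
    ee Q hQ u v = ee Q hQ v (-u) := by
  have hvu : polar (⇑Q) v (-u) = 0 := by
    rw [polar_neg_right, polar_comm, huv, neg_zero]
  apply gl_ext
  intro x
  rw [ee_mulVec Q hQ hu huv, ee_mulVec Q hQ hv hvu, hv, zero_mul, zero_smul, sub_zero,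
    QuadraticMap.map_neg, hu, zero_mul, zero_smul, sub_zero, polar_neg_left]
  module

/-- the commutator formula -/
theorem ee_comm {e₁ e₂ w w' : ι → F} (h1 : Q e₁ = 0) (h2 : Q e₂ = 0)
    (h12 : polar (⇑Q) e₁ e₂ = 0) (h1w : polar (⇑Q) e₁ w = 0) (h2w : polar (⇑Q) e₂ w = 0)
    (h1w' : polar (⇑Q) e₁ w' = 0) (h2w' : polar (⇑Q) e₂ w' = 0) :
    ee Q hQ e₂ w' * ee Q hQ e₁ w * (ee Q hQ e₂ w')⁻¹ * (ee Q hQ e₁ w)⁻¹ =
      ee Q hQ e₁ (-polar (⇑Q) w' w • e₂) := by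
  have h3 : polar (⇑Q) e₁ (-polar (⇑Q) w' w • e₂) = 0 := by
    rw [polar_smul_right, h12, smul_zero]
  have := eichler_commutator Q hQ e₁ e₂ w w' h1 h2 h12 h1w h2w h1w' h2w'
  rw [commutatorElement_def] at this
  have h4 := congrArg (fun x : ↥(Cfsg.isometryGroup F (⇑Q)) => (x : GL ι F)) this
  simp only [Subgroup.coe_mul, Subgroup.coe_inv] at h4
  rw [ee_eq Q hQ h2 h2w', ee_eq Q hQ h1 h1w, ee_eq Q hQ h1 h3]
  exact h4

/-- Eichler transformations lie in `Ω` -/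
theorem ee_mem_omega [Fintype F] (hn : 7 ≤ Fintype.card ι) (u v : ι → F) :
    ee Q hQ u v ∈ Cfsg.Geo.omegaGL (⇑Q) := by
  unfold ee
  split_ifs with h
  · have hfr : Module.finrank F (ι → F) = Fintype.card ι := Module.finrank_fintype_fun_eq_card F
    have h1 := eichlerElt_mem_closure_longRoot Q hQ (by rw [hfr]; omega)
      (fun _ => by rw [hfr]; exact hn) u v h.1 h.2
    rw [← omega_eq_closure_longRoot Q hQ (by rw [hfr]; omega) (fun _ => by rw [hfr]; exact hn)]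
      at h1
    exact Subgroup.mem_map.mpr ⟨_, h1, rfl⟩
  · exact Subgroup.one_mem _

/-! ### rational vectors -/

/-- vectors with coordinates in the subfield -/
def Rt (F₀ : Subfield F) (u : ι → F) : Prop := ∀ i, u i ∈ F₀

variable {F₀ : Subfield F}

theorem Rt.add {u v : ι → F} (hu : Rt F₀ u) (hv : Rt F₀ v) : Rt F₀ (u + v) :=
  fun i => F₀.add_mem (hu i) (hv i)

theorem Rt.sub {u v : ι → F} (hu : Rt F₀ u) (hv : Rt F₀ v) : Rt F₀ (u - v) :=
  fun i => F₀.sub_mem (hu i) (hv i)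

theorem Rt.neg {u : ι → F} (hu : Rt F₀ u) : Rt F₀ (-u) :=
  fun i => F₀.neg_mem (hu i)

theorem Rt.smul {u : ι → F} (hu : Rt F₀ u) {c : F} (hc : c ∈ F₀) : Rt F₀ (c • u) :=
  fun i => F₀.mul_mem hc (hu i)

theorem Rt.zero : Rt F₀ (0 : ι → F) := fun _ => F₀.zero_mem

theorem Rt.single (j : ι) : Rt F₀ (Pi.single j (1 : F)) := fun i => by
  by_cases h : i = j
  · subst h; rw [Pi.single_eq_same]; exact F₀.one_mem
  · rw [Pi.single_eq_of_ne h]; exact F₀.zero_mem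

theorem Rt.of_smul {u : ι → F} {c : F} (hc : c ∈ F₀) (hc0 : c ≠ 0) (h : Rt F₀ (c • u)) :
    Rt F₀ u := fun i => by
  have h1 := F₀.mul_mem (F₀.inv_mem hc) (h i)
  rwa [Pi.smul_apply, smul_eq_mul, ← mul_assoc, inv_mul_cancel₀ hc0, one_mul] at h1

/-- the standing rationality hypothesis on the form -/
def RatForm (F₀ : Subfield F) : Prop := ∀ u : ι → F, Rt F₀ u → Q u ∈ F₀

variable {Q}

theorem RatForm.polar (hr : RatForm Q F₀) {x y : ι → F} (hx : Rt F₀ x) (hy : Rt F₀ y) :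
    polar (⇑Q) x y ∈ F₀ := by
  unfold QuadraticMap.polar
  exact F₀.sub_mem (F₀.sub_mem (hr _ (hx.add hy)) (hr _ hx)) (hr _ hy)

/-- rational Eichler transformations map rational vectors to rational vectors -/
theorem ee_rt (hr : RatForm Q F₀) {u v x : ι → F} (hu : Q u = 0) (huv : polar (⇑Q) u v = 0)
    (ru : Rt F₀ u) (rv : Rt F₀ v) (rx : Rt F₀ x) :
    Rt F₀ (((ee Q hQ u v : GL ι F) : Matrix ι ι F) *ᵥ x) := by
  rw [ee_mulVec Q hQ hu huv]
  exact ((rx.add (rv.smul (hr.polar ru rx))).sub (ru.smul (hr.polar rv rx))).sub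
    (ru.smul (F₀.mul_mem (hr _ rv) (hr.polar ru rx)))

/-- membership in the subfield group from the action on rational vectors -/
theorem mem_sub_of_act (g : GL ι F) (μ : F) (hμ : μ ≠ 0)
    (h : ∀ x, Rt F₀ x → Rt F₀ (μ • ((g : Matrix ι ι F) *ᵥ x))) :
    g ∈ Cfsg.Geo.subfieldSubgroup F₀ (1 : GL ι F) := by
  rw [mem_subfield_one_iff]
  refine ⟨μ, hμ, fun i j => ?_⟩
  have := h _ (Rt.single j) i
  rwa [Pi.smul_apply, mulVec_single_apply, smul_eq_mul] at this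

/-- elements of the subfield group map rational vectors to rational vectors, up to a scalar -/
theorem act_of_mem_sub (g : GL ι F)
    (hg : g ∈ Cfsg.Geo.subfieldSubgroup F₀ (1 : GL ι F)) :
    ∃ μ : F, μ ≠ 0 ∧ ∀ x, Rt F₀ x → Rt F₀ (μ • ((g : Matrix ι ι F) *ᵥ x)) := by
  rw [mem_subfield_one_iff] at hg
  obtain ⟨μ, hμ, h⟩ := hg
  refine ⟨μ, hμ, fun x hx i => ?_⟩
  rw [Pi.smul_apply, smul_eq_mul, mulVec, dotProduct, Finset.mul_sum]
  refine F₀.sum_mem fun j _ => ?_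
  rw [← mul_assoc]
  exact F₀.mul_mem (h i j) (hx j)

theorem ee_mem_sub (hr : RatForm Q F₀) {u v : ι → F} (hu : Q u = 0)
    (huv : polar (⇑Q) u v = 0) (ru : Rt F₀ u) (rv : Rt F₀ v) :
    ee Q hQ u v ∈ Cfsg.Geo.subfieldSubgroup F₀ (1 : GL ι F) := by
  refine mem_sub_of_act _ 1 one_ne_zero fun x hx => ?_
  rw [one_smul]
  exact ee_rt hQ hr hu huv ru rv hx

end Cfsg.Agent.Lib.Helper42.OSub
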