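import Mathlib
import Cfsg.Agent.Lib.Helper42.OSubA

set_option autoImplicit false
set_option linter.unusedSectionVars false
set_option linter.unusedVariables false
set_option linter.style.haveILetI false
set_option linter.unusedSimpArgs false

/-!
Subfield subgroups of orthogonal groups: nondegeneracy over the subfield, hyperbolic pairs and
frames.
-/

namespace Cfsg.Agent.Lib.Helper42.OSub

open Matrix QuadraticMap Cfsg.Agent.Lib.Helper8 Cfsg.Agent.Lib.Helper13
  Cfsg.Agent.Lib.Helper42.Subf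

variable {ι : Type} [Fintype ι] [DecidableEq ι] {F : Type*} [Field F]
variable {Q : QuadraticForm F (ι → F)} (hQ : (QuadraticMap.polarBilin Q).Nondegenerate)
variable {F₀ : Subfield F}

theorem polar_self_zero {u : ι → F} (hu : Q u = 0) : polar (⇑Q) u u = 0 := by
  rw [polar_self, hu, smul_zero]

theorem sum_smul_single (y : ι → F) : (∑ j, y j • (Pi.single j (1 : F) : ι → F)) = y := by
  funext i
  rw [Finset.sum_apply]
  simp [Pi.single_apply]

theorem polar_sum_left (y x : ι → F) :
    polar (⇑Q) y x = ∑ j, y j * polar (⇑Q) (Pi.single j 1) x := by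
  conv_lhs => rw [← sum_smul_single y]
  rw [← polarBilin_apply_apply, map_sum, LinearMap.sum_apply]
  refine Finset.sum_congr rfl fun j _ => ?_
  rw [map_smul, LinearMap.smul_apply, polarBilin_apply_apply, smul_eq_mul]

theorem polar_sum_right (x y : ι → F) :
    polar (⇑Q) x y = ∑ j, y j * polar (⇑Q) x (Pi.single j 1) := by
  rw [polar_comm, polar_sum_left]
  refine Finset.sum_congr rfl fun j _ => ?_
  rw [polar_comm]

include hQ in
/-- a vector orthogonal to all coordinate vectors vanishes -/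
theorem eq_zero_of_polar_single {x : ι → F} (h : ∀ j, polar (⇑Q) (Pi.single j 1) x = 0) :
    x = 0 := by
  have h1 : ∀ y, polar (⇑Q) y x = 0 := by
    intro y
    rw [polar_sum_left]
    exact Finset.sum_eq_zero fun j _ => by rw [h j, mul_zero]
  have h2 := hQ.2 x (fun y => by rw [polarBilin_apply_apply]; exact h1 y)
  exact h2

include hQ in
/-- a vector orthogonal to all rational vectors vanishes -/
theorem eq_zero_of_polar_rt {x : ι → F} (h : ∀ p, Rt F₀ p → polar (⇑Q) p x = 0) : x = 0 :=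
  eq_zero_of_polar_single hQ fun j => h _ (Rt.single j)

include hQ in
theorem exists_rt_polar_ne {x : ι → F} (hx : x ≠ 0) : ∃ p, Rt F₀ p ∧ polar (⇑Q) p x ≠ 0 := by
  by_contra hcon
  push Not at hcon
  exact hx (eq_zero_of_polar_rt hQ hcon)

/-- lifting a vector over the subfield -/
def up (v : ι → F₀) : ι → F := fun i => (v i : F)

theorem up_rt (v : ι → F₀) : Rt F₀ (up v) := fun i => (v i).2

theorem up_injective : Function.Injective (up : (ι → F₀) → (ι → F)) := by
  intro u v h
  funext i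
  exact Subtype.ext (congrFun h i)

/-- the Gram matrix over the subfield -/
def gram₀ (hr : RatForm Q F₀) : Matrix ι ι F₀ :=
  fun i j => ⟨polar (⇑Q) (Pi.single i 1) (Pi.single j 1), hr.polar (Rt.single i) (Rt.single j)⟩

theorem gram₀_mulVec (hr : RatForm Q F₀) (v : ι → F₀) (i : ι) :
    ((gram₀ hr *ᵥ v) i : F) = polar (⇑Q) (Pi.single i 1) (up v) := by
  rw [polar_sum_right, mulVec, dotProduct]
  rw [show ((∑ j, gram₀ hr i j * v j : F₀) : F) = ∑ j, ((gram₀ hr i j * v j : F₀) : F) from
    map_sum F₀.subtype _ _]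
  refine Finset.sum_congr rfl fun j _ => ?_
  rw [Subfield.coe_mul, mul_comm]
  rfl

include hQ in
theorem gram₀_isUnit (hr : RatForm Q F₀) : IsUnit (gram₀ hr) := by
  rw [← Matrix.mulVec_injective_iff_isUnit]
  intro v w hvw
  have h0 : gram₀ hr *ᵥ (v - w) = 0 := by rw [mulVec_sub, hvw, sub_self]
  have h1 : up (v - w) = 0 := by
    apply eq_zero_of_polar_single hQ
    intro j
    rw [← gram₀_mulVec hr, h0]
    rfl
  have h2 : v - w = 0 := by
    apply up_injective
    rw [h1]
    rfl
  exact sub_eq_zero.mp h2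

include hQ in
/-- a vector pairing rationally with all coordinate vectors is rational -/
theorem rt_of_polar_single (hr : RatForm Q F₀) {v : ι → F}
    (h : ∀ j, polar (⇑Q) (Pi.single j 1) v ∈ F₀) : Rt F₀ v := by
  have hsurj := Matrix.mulVec_surjective_iff_isUnit.mpr (gram₀_isUnit hQ hr)
  obtain ⟨v₀, hv₀⟩ := hsurj (fun j => ⟨polar (⇑Q) (Pi.single j 1) v, h j⟩)
  have h1 : up v₀ - v = 0 := by
    apply eq_zero_of_polar_single hQ
    intro j
    rw [polar_sub_right, ← gram₀_mulVec hr, hv₀, sub_self]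
  have h2 : v = up v₀ := (sub_eq_zero.mp h1).symm
  rw [h2]
  exact up_rt v₀

include hQ in
/-- a vector pairing rationally with all rational vectors is rational -/
theorem rt_of_polar_rt (hr : RatForm Q F₀) {v : ι → F}
    (h : ∀ p, Rt F₀ p → polar (⇑Q) p v ∈ F₀) : Rt F₀ v :=
  rt_of_polar_single hQ hr fun j => h _ (Rt.single j)

/-! ### hyperbolic pairs -/

/-- the projection away from a hyperbolic pair -/
def hp (Q : QuadraticForm F (ι → F)) (a b x : ι → F) : ι → F :=
  x - polar (⇑Q) x b • a - polar (⇑Q) x a • b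

theorem hp_perp_left {a b : ι → F} (ha : Q a = 0) (hab : polar (⇑Q) a b = 1) (x : ι → F) :
    polar (⇑Q) (hp Q a b x) a = 0 := by
  unfold hp
  rw [polar_sub_left, polar_sub_left, polar_smul_left, polar_smul_left, polar_self_zero ha,
    polar_comm (⇑Q) b a, hab]
  simp

theorem hp_perp_right {a b : ι → F} (hb : Q b = 0) (hab : polar (⇑Q) a b = 1) (x : ι → F) :
    polar (⇑Q) (hp Q a b x) b = 0 := by
  unfold hp
  rw [polar_sub_left, polar_sub_left, polar_smul_left, polar_smul_left, polar_self_zero hb, hab]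
  simp

theorem hp_polar {a b y : ι → F} (hya : polar (⇑Q) a y = 0) (hyb : polar (⇑Q) b y = 0)
    (x : ι → F) : polar (⇑Q) (hp Q a b x) y = polar (⇑Q) x y := by
  unfold hp
  rw [polar_sub_left, polar_sub_left, polar_smul_left, polar_smul_left, hya, hyb]
  simp

theorem hp_rt (hr : RatForm Q F₀) {a b x : ι → F} (ra : Rt F₀ a) (rb : Rt F₀ b)
    (rx : Rt F₀ x) : Rt F₀ (hp Q a b x) :=
  (rx.sub (ra.smul (hr.polar rx rb))).sub (rb.smul (hr.polar rx ra))

theorem hp_decomp (a b x : ι → F) :
    x = hp Q a b x + polar (⇑Q) x b • a + polar (⇑Q) x a • b := by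
  unfold hp; abel

theorem hp_of_perp {a b x : ι → F} (hxa : polar (⇑Q) x a = 0) (hxb : polar (⇑Q) x b = 0) :
    hp Q a b x = x := by
  unfold hp
  rw [hxa, hxb]
  simp

/-- the standard singular vector `a + q - Q(q) b` -/
theorem sing_add {a b q : ι → F} (ha : Q a = 0) (hb : Q b = 0) (hab : polar (⇑Q) a b = 1)
    (hqa : polar (⇑Q) q a = 0) (hqb : polar (⇑Q) q b = 0) :
    Q (a + q - Q q • b) = 0 := by
  have h1 : a + q - Q q • b = (a + q) + (-Q q) • b := by rw [neg_smul]; abel
  rw [h1, QuadraticMap.map_add (⇑Q) (a + q), QuadraticMap.map_add (⇑Q) a q,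
    QuadraticMap.map_smul, ha, hb,
    polar_smul_right, polar_add_left, hab, hqb, polar_comm (⇑Q) a q, hqa]
  simp

/-- a frame of four mutually orthogonal rational hyperbolic pairs -/
structure Frame (Q : QuadraticForm F (ι → F)) (F₀ : Subfield F) (e f : Fin 4 → ι → F) :
    Prop where
  re : ∀ i, Rt F₀ (e i)
  rf : ∀ i, Rt F₀ (f i)
  qe : ∀ i, Q (e i) = 0
  qf : ∀ i, Q (f i) = 0
  bee : ∀ i j, polar (⇑Q) (e i) (e j) = 0
  bff : ∀ i j, polar (⇑Q) (f i) (f j) = 0
  bef : ∀ i j, polar (⇑Q) (e i) (f j) = if i = j then 1 else 0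

variable {e f : Fin 4 → ι → F}

theorem Frame.bfe (fr : Frame Q F₀ e f) (i j : Fin 4) :
    polar (⇑Q) (f i) (e j) = if i = j then 1 else 0 := by
  rw [polar_comm, fr.bef]
  by_cases h : i = j
  · rw [if_pos h, if_pos h.symm]
  · rw [if_neg h, if_neg (Ne.symm h)]

theorem Frame.bef_same (fr : Frame Q F₀ e f) (i : Fin 4) : polar (⇑Q) (e i) (f i) = 1 := by
  rw [fr.bef, if_pos rfl]

theorem Frame.bfe_same (fr : Frame Q F₀ e f) (i : Fin 4) : polar (⇑Q) (f i) (e i) = 1 := by
  rw [fr.bfe, if_pos rfl]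

theorem Frame.bef_ne (fr : Frame Q F₀ e f) {i j : Fin 4} (h : i ≠ j) :
    polar (⇑Q) (e i) (f j) = 0 := by
  rw [fr.bef, if_neg h]

theorem Frame.bfe_ne (fr : Frame Q F₀ e f) {i j : Fin 4} (h : i ≠ j) :
    polar (⇑Q) (f i) (e j) = 0 := by
  rw [fr.bfe, if_neg h]

theorem Frame.e_ne_zero (fr : Frame Q F₀ e f) (i : Fin 4) : e i ≠ 0 := by
  intro h
  have := fr.bef_same i
  rw [h, polar_zero_left] at this
  exact zero_ne_one this

theorem Frame.f_ne_zero (fr : Frame Q F₀ e f) (i : Fin 4) : f i ≠ 0 := by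
  intro h
  have := fr.bef_same i
  rw [h, polar_zero_right] at this
  exact zero_ne_one this

end Cfsg.Agent.Lib.Helper42.OSub
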