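import Mathlib
import Cfsg.Agent.Lib.Helper42.OSubB

set_option autoImplicit false
set_option linter.unusedSectionVars false
set_option linter.unusedVariables false
set_option linter.style.haveILetI false
set_option linter.unusedSimpArgs false

/-!
Subfield subgroups of orthogonal groups: transitivity of the rational Eichler transformations on
rational singular vectors.
-/

namespace Cfsg.Agent.Lib.Helper42.OSub

open Matrix QuadraticMap Cfsg.Agent.Lib.Helper8 Cfsg.Agent.Lib.Helper13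
  Cfsg.Agent.Lib.Helper42.Subf

variable {ι : Type} [Fintype ι] [DecidableEq ι] {F : Type*} [Field F]
variable {Q : QuadraticForm F (ι → F)} (hQ : (QuadraticMap.polarBilin Q).Nondegenerate)
variable {F₀ : Subfield F} {e f : Fin 4 → ι → F}

/-- the subfield group inside `Ω` -/
def HS (Q : QuadraticForm F (ι → F)) (F₀ : Subfield F) : Subgroup (GL ι F) :=
  Cfsg.Geo.subfieldSubgroup F₀ (1 : GL ι F) ⊓ Cfsg.Geo.omegaGL (⇑Q)

theorem ee_mem_HS [Fintype F] (hn : 7 ≤ Fintype.card ι) (hr : RatForm Q F₀) {u v : ι → F}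
    (hu : Q u = 0) (huv : polar (⇑Q) u v = 0) (ru : Rt F₀ u) (rv : Rt F₀ v) :
    ee Q hQ u v ∈ HS Q F₀ :=
  ⟨ee_mem_sub hQ hr hu huv ru rv, ee_mem_omega Q hQ hn u v⟩

/-- the basic move -/
theorem move {u x y : ι → F} (hu : Q u = 0) (qx : Q x = 0) (qy : Q y = 0)
    (hux : polar (⇑Q) u x = 1) (huy : polar (⇑Q) u y = 1) :
    ((ee Q hQ u (y - x) : GL ι F) : Matrix ι ι F) *ᵥ x = y := by
  have huv : polar (⇑Q) u (y - x) = 0 := by rw [polar_sub_right, hux, huy, sub_self]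
  rw [ee_mulVec Q hQ hu huv, hux]
  have h1 : Q (y - x) = - polar (⇑Q) y x := by
    rw [sub_eq_add_neg, QuadraticMap.map_add (⇑Q) y (-x), QuadraticMap.map_neg, qx, qy,
      polar_neg_right]
    ring
  have h2 : polar (⇑Q) (y - x) x = polar (⇑Q) y x := by
    rw [polar_sub_left, polar_self_zero qx, sub_zero]
  rw [h1, h2]
  module

/-- rational Eichler transformations whose vectors satisfy a linear condition -/
def Gen (F₀ : Subfield F) (C : (ι → F) → Prop) : Set (GL ι F) :=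
  {g | ∃ u v, Rt F₀ u ∧ Rt F₀ v ∧ C u ∧ C v ∧ Q u = 0 ∧ polar (⇑Q) u v = 0 ∧ g = ee Q hQ u v}

theorem gen_inv {C : (ι → F) → Prop} (hCsmul : ∀ (c : F) u, C u → C (c • u)) {g : GL ι F}
    (hg : g ∈ Gen hQ F₀ C) : g⁻¹ ∈ Gen hQ F₀ C := by
  obtain ⟨u, v, ru, rv, cu, cv, hu, huv, rfl⟩ := hg
  refine ⟨u, -v, ru, rv.neg, cu, ?_, hu, ?_, ee_inv Q hQ hu huv⟩
  · have := hCsmul (-1) v cv
    rwa [neg_one_smul] at this
  · rw [polar_neg_right, huv, neg_zero]

theorem closure_gen_le_HS [Fintype F] (hn : 7 ≤ Fintype.card ι) (hr : RatForm Q F₀)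
    (C : (ι → F) → Prop) : Subgroup.closure (Gen hQ F₀ C) ≤ HS Q F₀ := by
  rw [Subgroup.closure_le]
  rintro g ⟨u, v, ru, rv, cu, cv, hu, huv, rfl⟩
  exact ee_mem_HS hQ hn hr hu huv ru rv

theorem closure_gen_rt (hr : RatForm Q F₀) {C : (ι → F) → Prop}
    (hCsmul : ∀ (c : F) u, C u → C (c • u)) {g : GL ι F}
    (hg : g ∈ Subgroup.closure (Gen hQ F₀ C)) :
    ∀ x, Rt F₀ x → Rt F₀ ((g : Matrix ι ι F) *ᵥ x) := by
  induction hg using Subgroup.closure_induction'' with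
  | mem g hg =>
    obtain ⟨u, v, ru, rv, cu, cv, hu, huv, rfl⟩ := hg
    exact fun x rx => ee_rt hQ hr hu huv ru rv rx
  | inv_mem g hg =>
    obtain ⟨u, v, ru, rv, cu, cv, hu, huv, hg'⟩ := gen_inv hQ hCsmul hg
    rw [hg']
    exact fun x rx => ee_rt hQ hr hu huv ru rv rx
  | one => intro x rx; rwa [Units.val_one, one_mulVec]
  | mul g h _ _ ihg ihh =>
    intro x rx
    rw [gl_mul_act]
    exact ihg _ (ihh _ rx)

theorem closure_gen_fix {C : (ι → F) → Prop} (hCsmul : ∀ (c : F) u, C u → C (c • u))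
    {z : ι → F} (hz : ∀ u, C u → polar (⇑Q) u z = 0) {g : GL ι F}
    (hg : g ∈ Subgroup.closure (Gen hQ F₀ C)) : (g : Matrix ι ι F) *ᵥ z = z := by
  have key : ∀ g ∈ Gen hQ F₀ C, (g : Matrix ι ι F) *ᵥ z = z := by
    rintro g ⟨u, v, ru, rv, cu, cv, hu, huv, rfl⟩
    rw [ee_mulVec Q hQ hu huv, hz u cu, hz v cv]
    simp
  induction hg using Subgroup.closure_induction'' with
  | mem g hg => exact key g hg
  | inv_mem g hg => exact key _ (gen_inv hQ hCsmul hg)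
  | one => rw [Units.val_one, one_mulVec]
  | mul g h _ _ ihg ihh => rw [gl_mul_act, ihh, ihg]

/-- transitivity on rational singular vectors, in a form relative to a linear condition -/
theorem trans_gen (hr : RatForm Q F₀) (fr : Frame Q F₀ e f) (C : (ι → F) → Prop)
    (hCadd : ∀ u v, C u → C v → C (u + v)) (hCsmul : ∀ (c : F) u, C u → C (c • u))
    (j l : Fin 4) (hjl : j ≠ l) (hCej : C (e j)) (hCfj : C (f j)) (hCel : C (e l))
    (hCfl : C (f l)) {x : ι → F} (rx : Rt F₀ x) (cx : C x) (qx : Q x = 0)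
    (hex : polar (⇑Q) x (e j) = 0 → polar (⇑Q) x (f j) = 0 → polar (⇑Q) x (e l) = 0 →
      polar (⇑Q) x (f l) = 0 →
      ∃ w, Rt F₀ w ∧ C w ∧ polar (⇑Q) w (e l) = 0 ∧ polar (⇑Q) w x ≠ 0) :
    ∃ h ∈ Subgroup.closure (Gen hQ F₀ C), (h : Matrix ι ι F) *ᵥ x = e j := by
  have hCsub : ∀ u v, C u → C v → C (u - v) := by
    intro u v cu cv
    have := hCadd u (-v) cu (by have := hCsmul (-1) v cv; rwa [neg_one_smul] at this)
    rwa [← sub_eq_add_neg] at this
  -- one move with a helper vector `g` orthogonal to `f j` and `e j`, pairing nontrivially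
  have one : ∀ (g : ι → F) (x : ι → F), Rt F₀ g → C g → Q g = 0 → polar (⇑Q) (f j) g = 0 →
      polar (⇑Q) g (e j) = 0 → Rt F₀ x → C x → Q x = 0 → polar (⇑Q) g x ≠ 0 →
      ∃ h ∈ Subgroup.closure (Gen hQ F₀ C), (h : Matrix ι ι F) *ᵥ x = e j := by
    intro g x rg cg qg hfg hge rx cx qx hgx
    obtain ⟨γ, hγ⟩ : ∃ γ : F, γ = (1 - polar (⇑Q) (f j) x) / polar (⇑Q) g x := ⟨_, rfl⟩
    have hγF : γ ∈ F₀ := by
      rw [hγ]
      exact F₀.div_mem (F₀.sub_mem F₀.one_mem (hr.polar (fr.rf j) rx)) (hr.polar rg rx)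
    obtain ⟨u, hu⟩ : ∃ u : ι → F, u = f j + γ • g := ⟨_, rfl⟩
    have ru : Rt F₀ u := by rw [hu]; exact (fr.rf j).add (rg.smul hγF)
    have cu : C u := by rw [hu]; exact hCadd _ _ hCfj (hCsmul _ _ cg)
    have qu : Q u = 0 := by
      rw [hu, QuadraticMap.map_add (⇑Q) (f j) (γ • g), QuadraticMap.map_smul, fr.qf, qg,
        polar_smul_right, hfg]
      simp
    have hux : polar (⇑Q) u x = 1 := by
      rw [hu, polar_add_left, polar_smul_left, hγ, smul_eq_mul, div_mul_cancel₀ _ hgx]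
      ring
    have hue : polar (⇑Q) u (e j) = 1 := by
      rw [hu, polar_add_left, polar_smul_left, fr.bfe_same, hge]
      simp
    refine ⟨ee Q hQ u (e j - x), Subgroup.subset_closure
      ⟨u, e j - x, ru, (fr.re j).sub rx, cu, hCsub _ _ hCej cx, qu, ?_, rfl⟩,
      move hQ qu qx (fr.qe j) hux hue⟩
    rw [polar_sub_right, hux, hue, sub_self]
  by_cases h1 : polar (⇑Q) x (e l) ≠ 0
  · exact one (e l) x (fr.re l) hCel (fr.qe l) (fr.bfe_ne hjl) (fr.bee l j) rx cx qx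
      (by rwa [polar_comm])
  by_cases h2 : polar (⇑Q) x (f l) ≠ 0
  · exact one (f l) x (fr.rf l) hCfl (fr.qf l) (fr.bff j l) (fr.bfe_ne (Ne.symm hjl)) rx cx qx
      (by rwa [polar_comm])
  rw [not_not] at h1 h2
  -- a vector `w` for the preliminary move
  have hw : ∃ w, Rt F₀ w ∧ C w ∧ polar (⇑Q) w (e l) = 0 ∧ polar (⇑Q) w x ≠ 0 := by
    by_cases h3 : polar (⇑Q) x (e j) ≠ 0
    · exact ⟨e j, fr.re j, hCej, fr.bee j l, by rwa [polar_comm]⟩
    by_cases h4 : polar (⇑Q) x (f j) ≠ 0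
    · exact ⟨f j, fr.rf j, hCfj, fr.bfe_ne hjl, by rwa [polar_comm]⟩
    rw [not_not] at h3 h4
    exact hex h3 h4 h1 h2
  obtain ⟨w, rw', cw, hwl, hwx⟩ := hw
  have hlw : polar (⇑Q) (e l) w = 0 := by rw [polar_comm]; exact hwl
  obtain ⟨x', hx'⟩ : ∃ x' : ι → F, x' = ((ee Q hQ (e l) w : GL ι F) : Matrix ι ι F) *ᵥ x :=
    ⟨_, rfl⟩
  have hx'' : x' = x - polar (⇑Q) w x • e l := by
    rw [hx', ee_mulVec Q hQ (fr.qe l) hlw, polar_comm (⇑Q) (e l) x, h1]
    simp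
  have rx' : Rt F₀ x' := by rw [hx'']; exact rx.sub ((fr.re l).smul (hr.polar rw' rx))
  have cx' : C x' := by rw [hx'']; exact hCsub _ _ cx (hCsmul _ _ hCel)
  have qx' : Q x' = 0 := by rw [hx', iso_Q Q (ee_mem_iso Q hQ _ _), qx]
  have hfx' : polar (⇑Q) (f l) x' ≠ 0 := by
    rw [hx'', polar_sub_right, polar_smul_right, fr.bfe_same, polar_comm (⇑Q) (f l) x, h2]
    simpa using hwx
  obtain ⟨h, hh, hhx⟩ := one (f l) x' (fr.rf l) hCfl (fr.qf l) (fr.bff j l)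
    (fr.bfe_ne (Ne.symm hjl)) rx' cx' qx' hfx'
  refine ⟨h * ee Q hQ (e l) w, Subgroup.mul_mem _ hh (Subgroup.subset_closure
    ⟨e l, w, fr.re l, rw', hCel, cw, fr.qe l, hlw, rfl⟩), ?_⟩
  rw [gl_mul_act, ← hx', hhx]

/-- transitivity on rational singular vectors -/
theorem trans_abs (hr : RatForm Q F₀) (fr : Frame Q F₀ e f) {x : ι → F} (rx : Rt F₀ x)
    (qx : Q x = 0) (hx0 : x ≠ 0) :
    ∃ h ∈ Subgroup.closure (Gen hQ F₀ (fun _ => True)), (h : Matrix ι ι F) *ᵥ x = e 0 := by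
  refine trans_gen hQ hr fr (fun _ => True) (fun _ _ _ _ => trivial) (fun _ _ _ => trivial) 0 1
    (by decide) trivial trivial trivial trivial rx trivial qx ?_
  intro _ _ h3 h4
  obtain ⟨p, rp, hpx⟩ := exists_rt_polar_ne (F₀ := F₀) hQ hx0
  refine ⟨p - polar (⇑Q) p (e 1) • f 1, rp.sub ((fr.rf 1).smul (hr.polar rp (fr.re 1))), trivial,
    ?_, ?_⟩
  · rw [polar_sub_left, polar_smul_left, fr.bfe_same]; simp
  · rw [polar_sub_left, polar_smul_left, polar_comm (⇑Q) (f 1) x, h4]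
    simpa using hpx

/-- transitivity on rational singular vectors orthogonal to `e 0`, fixing `e 0` -/
theorem trans_rel (hr : RatForm Q F₀) (fr : Frame Q F₀ e f) {y : ι → F} (ry : Rt F₀ y)
    (qy : Q y = 0) (hy0 : polar (⇑Q) y (e 0) = 0) (hyne : ∀ c : F, y ≠ c • e 0) :
    ∃ h ∈ Subgroup.closure (Gen hQ F₀ (fun u => polar (⇑Q) u (e 0) = 0)),
      (h : Matrix ι ι F) *ᵥ y = e 1 := by
  refine trans_gen hQ hr fr (fun u => polar (⇑Q) u (e 0) = 0) ?_ ?_ 1 2 (by decide)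
    (fr.bee 1 0) (fr.bfe_ne (by decide)) (fr.bee 2 0) (fr.bfe_ne (by decide)) ry hy0 qy ?_
  · intro u v hu hv
    show polar (⇑Q) (u + v) (e 0) = 0
    rw [polar_add_left, hu, hv, add_zero]
  · intro c u hu
    show polar (⇑Q) (c • u) (e 0) = 0
    rw [polar_smul_left, hu, smul_zero]
  intro _ _ h3 h4
  obtain ⟨y', hy'⟩ : ∃ y' : ι → F, y' = y - polar (⇑Q) y (f 0) • e 0 := ⟨_, rfl⟩
  have hy'0 : y' ≠ 0 := by
    intro h0
    rw [hy', sub_eq_zero] at h0
    exact hyne _ h0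
  obtain ⟨p, rp, hpy⟩ := exists_rt_polar_ne (F₀ := F₀) hQ hy'0
  obtain ⟨w, hw⟩ : ∃ w : ι → F, w = hp Q (e 0) (f 0) p - polar (⇑Q) p (e 2) • f 2 := ⟨_, rfl⟩
  have rhp : Rt F₀ (hp Q (e 0) (f 0) p) := hp_rt hr (fr.re 0) (fr.rf 0) rp
  have hw0 : polar (⇑Q) w (e 0) = 0 := by
    rw [hw, polar_sub_left, polar_smul_left, hp_perp_left (fr.qe 0) (fr.bef_same 0),
      fr.bfe_ne (by decide)]
    simp
  refine ⟨w, ?_, hw0, ?_, ?_⟩
  · rw [hw]; exact rhp.sub ((fr.rf 2).smul (hr.polar rp (fr.re 2)))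
  · rw [hw, polar_sub_left, polar_smul_left, fr.bfe_same,
      hp_polar (fr.bee 0 2) (fr.bfe_ne (by decide))]
    simp
  · have h5 : polar (⇑Q) w y = polar (⇑Q) w y' := by
      rw [hy', polar_sub_right, polar_smul_right, hw0]
      simp
    have h6 : polar (⇑Q) (e 0) y' = 0 := by
      rw [hy', polar_sub_right, polar_smul_right, polar_self_zero (fr.qe 0),
        polar_comm (⇑Q) (e 0) y, hy0]
      simp
    have h7 : polar (⇑Q) (f 0) y' = 0 := by
      rw [hy', polar_sub_right, polar_smul_right, fr.bfe_same, polar_comm (⇑Q) (f 0) y]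
      simp
    have h8 : polar (⇑Q) (f 2) y' = 0 := by
      rw [hy', polar_sub_right, polar_smul_right, fr.bfe_ne (by decide),
        polar_comm (⇑Q) (f 2) y, h4]
      simp
    rw [h5, hw, polar_sub_left, polar_smul_left, h8, hp_polar h6 h7]
    simpa using hpy

end Cfsg.Agent.Lib.Helper42.OSub
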