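import Mathlib
import Cfsg.Agent.Lib.Helper42.OSubC

set_option autoImplicit false
set_option linter.unusedSectionVars false
set_option linter.unusedVariables false
set_option linter.style.haveILetI false
set_option linter.unusedSimpArgs false

/-!
Subfield subgroups of orthogonal groups: if the root parameters of an overgroup are rational, the
unipotent radical of a rational singular point is rational.
-/

namespace Cfsg.Agent.Lib.Helper42.OSub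

open Matrix QuadraticMap Cfsg.Agent.Lib.Helper8 Cfsg.Agent.Lib.Helper13
  Cfsg.Agent.Lib.Helper42.Subf

variable {ι : Type} [Fintype ι] [DecidableEq ι] {F : Type*} [Field F] [Fintype F]
variable {Q : QuadraticForm F (ι → F)} (hQ : (QuadraticMap.polarBilin Q).Nondegenerate)
variable {F₀ : Subfield F} {e f : Fin 4 → ι → F} {L : Subgroup (GL ι F)}

set_option quotPrecheck false in
local notation "BQ" => QuadraticMap.polar (⇑Q)
local notation "EE" => ee Q hQ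
local notation:70 g:70 " ⋆ " x:71 => Matrix.mulVec (Units.val g) x

theorem omega_le_iso : Cfsg.Geo.omegaGL (⇑Q) ≤ Cfsg.isometryGroup F (⇑Q) :=
  Subgroup.map_subtype_le _

/-- the standing hypotheses: `L` lies between the rational group and `Ω` and its root parameters
are rational -/
structure Hyp (F₀ : Subfield F) (e f : Fin 4 → ι → F) (L : Subgroup (GL ι F)) : Prop where
  hn : 7 ≤ Fintype.card ι
  hr : RatForm Q F₀
  fr : Frame Q F₀ e f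
  hHL : HS Q F₀ ≤ L
  hLΩ : L ≤ Cfsg.Geo.omegaGL (⇑Q)
  hyp : ∀ t : F, EE (e 0) (t • e 1) ∈ L → t ∈ F₀

theorem ee_fix {u v z : ι → F} (hu : Q u = 0) (huv : BQ u v = 0) (h1 : BQ u z = 0)
    (h2 : BQ v z = 0) : EE u v ⋆ z = z := by
  rw [ee_mulVec Q hQ hu huv, h1, h2]
  simp

include hQ in
/-- a vector orthogonal to `e 0` pairing rationally with the rational vectors orthogonal to `e 0`
is rational modulo `e 0` -/
theorem rt_mod_e0 (hr : RatForm Q F₀) (fr : Frame Q F₀ e f) {v : ι → F}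
    (hv : BQ (e 0) v = 0)
    (h : ∀ p, Rt F₀ p → BQ p (e 0) = 0 → BQ p v ∈ F₀) :
    Rt F₀ (v - BQ (f 0) v • e 0) := by
  apply rt_of_polar_rt hQ hr
  intro p rp
  obtain ⟨p', hp'⟩ : ∃ p' : ι → F, p' = p - BQ p (e 0) • f 0 := ⟨_, rfl⟩
  have rp' : Rt F₀ p' := by rw [hp']; exact rp.sub ((fr.rf 0).smul (hr.polar rp (fr.re 0)))
  have hp'0 : BQ p' (e 0) = 0 := by
    rw [hp', polar_sub_left, polar_smul_left, fr.bfe_same]; simp
  have h1 : BQ p (v - BQ (f 0) v • e 0) = BQ p' v := by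
    rw [hp', polar_sub_right, polar_smul_right, polar_sub_left, polar_smul_left, smul_eq_mul,
      smul_eq_mul]
    ring
  rw [h1]
  exact h p' rp' hp'0

variable {hQ}

theorem Hyp.iso (H : Hyp hQ F₀ e f L) {g : GL ι F} (hg : g ∈ L) :
    g ∈ Cfsg.isometryGroup F (⇑Q) := omega_le_iso (H.hLΩ hg)

theorem Hyp.ee_mem (H : Hyp hQ F₀ e f L) {u v : ι → F} (hu : Q u = 0) (huv : BQ u v = 0)
    (ru : Rt F₀ u) (rv : Rt F₀ v) : EE u v ∈ L :=
  H.hHL (ee_mem_HS hQ H.hn H.hr hu huv ru rv)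

/-- rational parameters for all rational root groups through `e 0` -/
theorem Hyp.pair (H : Hyp hQ F₀ e f L) {y : ι → F} (ry : Rt F₀ y) (qy : Q y = 0)
    (hy0 : BQ y (e 0) = 0) {t : F} (ht : EE (e 0) (t • y) ∈ L) :
    t ∈ F₀ ∨ ∃ c : F, y = c • e 0 := by
  by_cases hy : ∃ c : F, y = c • e 0
  · exact Or.inr hy
  left
  push Not at hy
  obtain ⟨h, hh, hhy⟩ := trans_rel hQ H.hr H.fr ry qy hy0 hy
  have hsm : ∀ (c : F) (u : ι → F), BQ u (e 0) = 0 → BQ (c • u) (e 0) = 0 := by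
    intro c u hu
    rw [polar_smul_left, hu, smul_zero]
  have hhe : h ⋆ e 0 = e 0 := closure_gen_fix hQ hsm (fun u hu => hu) hh
  have hhL : h ∈ L := H.hHL (closure_gen_le_HS hQ H.hn H.hr _ hh)
  have h0y : BQ (e 0) (t • y) = 0 := by rw [polar_smul_right, polar_comm, hy0, smul_zero]
  have h1 : h * EE (e 0) (t • y) * h⁻¹ ∈ L := L.mul_mem (L.mul_mem hhL ht) (L.inv_mem hhL)
  rw [conj_ee Q hQ (H.iso hhL) (H.fr.qe 0) h0y, hhe, mulVec_smul, hhy] at h1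
  exact H.hyp t h1

/-- commutator with an element fixing `e 0` -/
theorem Hyp.comm_fix (H : Hyp hQ F₀ e f L) {g : GL ι F} (hgL : g ∈ L) (hge : g ⋆ e 0 = e 0)
    {v : ι → F} (hv : BQ (e 0) v = 0) (hL : EE (e 0) v ∈ L) :
    EE (e 0) (g ⋆ v - v) ∈ L := by
  have hgi := H.iso hgL
  have h1 : g * EE (e 0) v * g⁻¹ ∈ L := L.mul_mem (L.mul_mem hgL hL) (L.inv_mem hgL)
  rw [conj_ee Q hQ hgi (H.fr.qe 0) hv, hge] at h1
  have h2 : BQ (e 0) (g ⋆ v) = 0 := by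
    have := iso_B Q hgi (e 0) v
    rwa [hge, hv] at this
  have h3 : BQ (e 0) (-v) = 0 := by rw [polar_neg_right, hv, neg_zero]
  have h4 : EE (e 0) (-v) ∈ L := by rw [← ee_inv Q hQ (H.fr.qe 0) hv]; exact L.inv_mem hL
  have h5 := L.mul_mem h1 h4
  rwa [ee_mul Q hQ (H.fr.qe 0) h2 h3, ← sub_eq_add_neg] at h5

/-- first step of the `Q`-lemma: isolating one coefficient by a double commutator -/
theorem Hyp.Q_step (H : Hyp hQ F₀ e f L) {v : ι → F} (hv : BQ (e 0) v = 0)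
    (hL : EE (e 0) v ∈ L) {w₁ : ι → F} (rw₁ : Rt F₀ w₁) (qw₁ : Q w₁ = 0)
    (hw₁0 : BQ w₁ (e 0) = 0) (j : Fin 4) (hj : j ≠ 0) (hwe : BQ w₁ (e j) = 0)
    (hwf : BQ w₁ (f j) = 0) : BQ w₁ v ∈ F₀ := by
  have fr := H.fr
  have h0j : (0 : Fin 4) ≠ j := Ne.symm hj
  -- first commutator
  have hk : EE w₁ (e j) ∈ L := H.ee_mem qw₁ hwe rw₁ (fr.re j)
  have hke : EE w₁ (e j) ⋆ e 0 = e 0 := ee_fix hQ qw₁ hwe hw₁0 (fr.bee j 0)
  have h1 := H.comm_fix hk hke hv hL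
  obtain ⟨v', hv'⟩ : ∃ v' : ι → F, v' = BQ w₁ v • e j - BQ (e j) v • w₁ := ⟨_, rfl⟩
  have h2 : EE w₁ (e j) ⋆ v - v = v' := by
    rw [ee_mulVec Q hQ qw₁ hwe, fr.qe j, hv']
    module
  rw [h2] at h1
  have hv'0 : BQ (e 0) v' = 0 := by
    rw [hv', polar_sub_right, polar_smul_right, polar_smul_right, fr.bee 0 j,
      polar_comm (⇑Q) (e 0) w₁, hw₁0]
    simp
  -- second commutator
  have hfw : BQ (f j) w₁ = 0 := by rw [polar_comm]; exact hwf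
  have hk' : EE (f j) w₁ ∈ L := H.ee_mem (fr.qf j) hfw (fr.rf j) rw₁
  have hk'e : EE (f j) w₁ ⋆ e 0 = e 0 := ee_fix hQ (fr.qf j) hfw (fr.bfe_ne hj) hw₁0
  have h3 := H.comm_fix hk' hk'e hv'0 h1
  have h4 : EE (f j) w₁ ⋆ v' - v' = BQ w₁ v • w₁ := by
    rw [ee_mulVec Q hQ (fr.qf j) hfw, qw₁]
    have e1 : BQ (f j) v' = BQ w₁ v := by
      rw [hv', polar_sub_right, polar_smul_right, polar_smul_right, fr.bfe_same, hfw]
      simp
    have e2 : BQ w₁ v' = 0 := by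
      rw [hv', polar_sub_right, polar_smul_right, polar_smul_right, hwe, polar_self_zero qw₁]
      simp
    rw [e1, e2]
    module
  rw [h4] at h3
  rcases H.pair rw₁ qw₁ hw₁0 h3 with h | ⟨c, hc⟩
  · exact h
  · rw [hc, polar_smul_left, hv, smul_zero]
    exact F₀.zero_mem

/-- second step of the `Q`-lemma: all rational vectors orthogonal to `e 0` pair rationally -/
theorem Hyp.Q_step2 (H : Hyp hQ F₀ e f L) {v : ι → F} (hv : BQ (e 0) v = 0)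
    (hL : EE (e 0) v ∈ L) {p : ι → F} (rp : Rt F₀ p) (hp0 : BQ p (e 0) = 0) :
    BQ p v ∈ F₀ := by
  have fr := H.fr
  have hr := H.hr
  have s1 : ∀ (w₁ : ι → F), Rt F₀ w₁ → Q w₁ = 0 → BQ w₁ (e 0) = 0 → BQ w₁ (e 1) = 0 →
      BQ w₁ (f 1) = 0 → BQ w₁ v ∈ F₀ := fun w₁ a b c d g =>
    H.Q_step hv hL a b c 1 (by decide) d g
  have s2 : ∀ (w₁ : ι → F), Rt F₀ w₁ → Q w₁ = 0 → BQ w₁ (e 0) = 0 → BQ w₁ (e 2) = 0 →
      BQ w₁ (f 2) = 0 → BQ w₁ v ∈ F₀ := fun w₁ a b c d g =>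
    H.Q_step hv hL a b c 2 (by decide) d g
  have he1 : BQ (e 1) v ∈ F₀ :=
    s2 _ (fr.re 1) (fr.qe 1) (fr.bee 1 0) (fr.bee 1 2) (fr.bef_ne (by decide))
  have hf1 : BQ (f 1) v ∈ F₀ :=
    s2 _ (fr.rf 1) (fr.qf 1) (fr.bfe_ne (by decide)) (fr.bfe_ne (by decide)) (fr.bff 1 2)
  have he2 : BQ (e 2) v ∈ F₀ :=
    s1 _ (fr.re 2) (fr.qe 2) (fr.bee 2 0) (fr.bee 2 1) (fr.bef_ne (by decide))
  have hf2 : BQ (f 2) v ∈ F₀ :=
    s1 _ (fr.rf 2) (fr.qf 2) (fr.bfe_ne (by decide)) (fr.bfe_ne (by decide)) (fr.bff 2 1)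
  obtain ⟨q₁, hq₁⟩ : ∃ q₁ : ι → F, q₁ = hp Q (e 1) (f 1) p := ⟨_, rfl⟩
  obtain ⟨q₂, hq₂⟩ : ∃ q₂ : ι → F, q₂ = hp Q (e 2) (f 2) q₁ := ⟨_, rfl⟩
  have rq₁ : Rt F₀ q₁ := by rw [hq₁]; exact hp_rt hr (fr.re 1) (fr.rf 1) rp
  have rq₂ : Rt F₀ q₂ := by rw [hq₂]; exact hp_rt hr (fr.re 2) (fr.rf 2) rq₁
  have q₁e1 : BQ q₁ (e 1) = 0 := by rw [hq₁]; exact hp_perp_left (fr.qe 1) (fr.bef_same 1) p
  have q₁f1 : BQ q₁ (f 1) = 0 := by rw [hq₁]; exact hp_perp_right (fr.qf 1) (fr.bef_same 1) p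
  have q₁e0 : BQ q₁ (e 0) = 0 := by
    rw [hq₁, hp_polar (fr.bee 1 0) (fr.bfe_ne (by decide)), hp0]
  have q₂e2 : BQ q₂ (e 2) = 0 := by rw [hq₂]; exact hp_perp_left (fr.qe 2) (fr.bef_same 2) q₁
  have q₂f2 : BQ q₂ (f 2) = 0 := by rw [hq₂]; exact hp_perp_right (fr.qf 2) (fr.bef_same 2) q₁
  have q₂e1 : BQ q₂ (e 1) = 0 := by
    rw [hq₂, hp_polar (fr.bee 2 1) (fr.bfe_ne (by decide)), q₁e1]
  have q₂f1 : BQ q₂ (f 1) = 0 := by
    rw [hq₂, hp_polar (fr.bef_ne (by decide)) (fr.bff 2 1), q₁f1]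
  have q₂e0 : BQ q₂ (e 0) = 0 := by
    rw [hq₂, hp_polar (fr.bee 2 0) (fr.bfe_ne (by decide)), q₁e0]
  -- the singular vector attached to `q₂`
  obtain ⟨w₁, hw₁⟩ : ∃ w₁ : ι → F, w₁ = e 1 + q₂ - Q q₂ • f 1 := ⟨_, rfl⟩
  have rw₁ : Rt F₀ w₁ := by
    rw [hw₁]; exact ((fr.re 1).add rq₂).sub ((fr.rf 1).smul (hr _ rq₂))
  have qw₁ : Q w₁ = 0 := by
    rw [hw₁]; exact sing_add (fr.qe 1) (fr.qf 1) (fr.bef_same 1) q₂e1 q₂f1
  have hw₁v : BQ w₁ v ∈ F₀ := by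
    apply s2 w₁ rw₁ qw₁
    · rw [hw₁, polar_sub_left, polar_add_left, polar_smul_left, fr.bee 1 0, q₂e0,
        fr.bfe_ne (by decide)]
      simp
    · rw [hw₁, polar_sub_left, polar_add_left, polar_smul_left, fr.bee 1 2, q₂e2,
        fr.bfe_ne (by decide)]
      simp
    · rw [hw₁, polar_sub_left, polar_add_left, polar_smul_left, fr.bef_ne (by decide), q₂f2,
        fr.bff 1 2]
      simp
  have hq₂v : BQ q₂ v ∈ F₀ := by
    have h1 : BQ q₂ v = BQ w₁ v - BQ (e 1) v + Q q₂ * BQ (f 1) v := by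
      rw [hw₁, polar_sub_left, polar_add_left, polar_smul_left, smul_eq_mul]
      ring
    rw [h1]
    exact F₀.add_mem (F₀.sub_mem hw₁v he1) (F₀.mul_mem (hr _ rq₂) hf1)
  have hdec : p = q₂ + BQ q₁ (f 2) • e 2 + BQ q₁ (e 2) • f 2 + BQ p (f 1) • e 1 +
      BQ p (e 1) • f 1 := by
    have h1 := hp_decomp (Q := Q) (e 1) (f 1) p
    have h2 := hp_decomp (Q := Q) (e 2) (f 2) q₁
    rw [← hq₁] at h1
    rw [← hq₂] at h2
    have h3 : q₂ + BQ q₁ (f 2) • e 2 + BQ q₁ (e 2) • f 2 + BQ p (f 1) • e 1 + BQ p (e 1) • f 1 =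
        q₁ + BQ p (f 1) • e 1 + BQ p (e 1) • f 1 := by rw [← h2]
    rw [h3]
    exact h1
  rw [hdec]
  simp only [polar_add_left, polar_smul_left, smul_eq_mul]
  exact F₀.add_mem (F₀.add_mem (F₀.add_mem (F₀.add_mem hq₂v
    (F₀.mul_mem (hr.polar rq₁ (fr.rf 2)) he2)) (F₀.mul_mem (hr.polar rq₁ (fr.re 2)) hf2))
    (F₀.mul_mem (hr.polar rp (fr.rf 1)) he1)) (F₀.mul_mem (hr.polar rp (fr.re 1)) hf1)

/-- the `Q`-lemma: Eichler transformations of `L` at `e 0` are rational -/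
theorem Hyp.Q_lemma (H : Hyp hQ F₀ e f L) {v : ι → F} (hv : BQ (e 0) v = 0)
    (hL : EE (e 0) v ∈ L) : Rt F₀ (v - BQ (f 0) v • e 0) :=
  rt_mod_e0 hQ H.hr H.fr hv fun p rp hp0 => H.Q_step2 hv hL rp hp0

end Cfsg.Agent.Lib.Helper42.OSub
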