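import Mathlib
import Cfsg.Agent.Lib.Helper42.OSubD

set_option autoImplicit false
set_option linter.unusedSectionVars false
set_option linter.unusedVariables false
set_option linter.style.haveILetI false
set_option linter.unusedSimpArgs false

/-!
Subfield subgroups of orthogonal groups: if the root parameters of an overgroup are rational, the
stabilizer of a rational singular point is rational.
-/

namespace Cfsg.Agent.Lib.Helper42.OSub

open Matrix QuadraticMap Cfsg.Agent.Lib.Helper8 Cfsg.Agent.Lib.Helper13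
  Cfsg.Agent.Lib.Helper42.Subf

variable {ι : Type} [Fintype ι] [DecidableEq ι] {F : Type*} [Field F] [Fintype F]
variable {Q : QuadraticForm F (ι → F)} {hQ : (QuadraticMap.polarBilin Q).Nondegenerate}
variable {F₀ : Subfield F} {e f : Fin 4 → ι → F} {L : Subgroup (GL ι F)}

set_option quotPrecheck false in
local notation "BQ" => QuadraticMap.polar (⇑Q)
local notation "EE" => ee Q hQ
local notation:70 g:70 " ⋆ " x:71 => Matrix.mulVec (Units.val g) x

/-- the `P`-lemma: an element of `L` fixing the point of `e 0` is rational up to the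
eigenvalue -/
theorem Hyp.P_lemma (H : Hyp hQ F₀ e f L) {g : GL ι F} (hg : g ∈ L) {κ : F}
    (hκ : g ⋆ e 0 = κ • e 0) : ∀ x, Rt F₀ x → Rt F₀ (κ • (g ⋆ x)) := by
  have fr := H.fr
  have hr := H.hr
  have hgi := H.iso hg
  have hκ0 : κ ≠ 0 := by
    rintro rfl
    rw [zero_smul] at hκ
    exact gl_act_ne_zero g (fr.e_ne_zero 0) hκ
  -- the induced action on `e 0 ^⊥ / e 0`
  have P1 : ∀ v, Rt F₀ v → BQ (e 0) v = 0 →
      BQ (e 0) (κ • (g ⋆ v)) = 0 ∧
        Rt F₀ (κ • (g ⋆ v) - BQ (f 0) (κ • (g ⋆ v)) • e 0) := by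
    intro v rv hv
    have h1 : g * EE (e 0) v * g⁻¹ ∈ L :=
      L.mul_mem (L.mul_mem hg (H.ee_mem (fr.qe 0) hv (fr.re 0) rv)) (L.inv_mem hg)
    have h2 : BQ (e 0) (g ⋆ v) = 0 := by
      have := iso_B Q hgi (e 0) v
      rw [hκ, polar_smul_left, hv, smul_eq_mul] at this
      rcases mul_eq_zero.mp this with h | h
      · exact absurd h hκ0
      · exact h
    rw [conj_ee Q hQ hgi (fr.qe 0) hv, hκ, ee_smul_left Q hQ (fr.qe 0) h2] at h1
    have h3 : BQ (e 0) (κ • (g ⋆ v)) = 0 := by rw [polar_smul_right, h2, smul_zero]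
    exact ⟨h3, H.Q_lemma h3 h1⟩
  -- the eigenvalue is rational up to sign
  have hκ2 : κ * κ ∈ F₀ := by
    obtain ⟨v, hv⟩ : ∃ v : ι → F, v = e 1 + f 1 := ⟨_, rfl⟩
    have rv : Rt F₀ v := by rw [hv]; exact (fr.re 1).add (fr.rf 1)
    have hv0 : BQ (e 0) v = 0 := by
      rw [hv, polar_add_right, fr.bee 0 1, fr.bef_ne (by decide)]; simp
    have qv : Q v = 1 := by
      rw [hv, QuadraticMap.map_add (⇑Q) (e 1) (f 1), fr.qe, fr.qf, fr.bef_same]; simp
    obtain ⟨h3, h4⟩ := P1 v rv hv0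
    obtain ⟨c, hc⟩ : ∃ c : F, c = BQ (f 0) (κ • (g ⋆ v)) := ⟨_, rfl⟩
    obtain ⟨r, hr'⟩ : ∃ r : ι → F, r = κ • (g ⋆ v) - c • e 0 := ⟨_, rfl⟩
    rw [← hc, ← hr'] at h4
    have h5 : κ • (g ⋆ v) = r + c • e 0 := by rw [hr']; abel
    have h6 : BQ r (e 0) = 0 := by
      rw [hr', polar_sub_left, polar_comm (⇑Q) (κ • (g ⋆ v)) (e 0), h3, polar_smul_left,
        polar_self_zero (fr.qe 0)]
      simp
    have h7 : Q (κ • (g ⋆ v)) = κ * κ := by
      rw [QuadraticMap.map_smul, iso_Q Q hgi, qv]; simp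
    have h8 : Q (r + c • e 0) = Q r := by
      rw [QuadraticMap.map_add (⇑Q) r (c • e 0), QuadraticMap.map_smul, fr.qe,
        polar_smul_right, h6]
      simp
    rw [← h7, h5, h8]
    exact hr _ h4
  -- splitting off the unipotent part
  obtain ⟨y, hy⟩ : ∃ y : ι → F, y = κ • (g ⋆ f 0) := ⟨_, rfl⟩
  obtain ⟨w, hw⟩ : ∃ w : ι → F, w = hp Q (e 0) (f 0) y := ⟨_, rfl⟩
  have hye : BQ y (e 0) = 1 := by
    have h1 := iso_B Q hgi (f 0) (e 0)
    rw [hκ, polar_smul_right, fr.bfe_same, smul_eq_mul] at h1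
    rw [hy, polar_smul_left, smul_eq_mul]
    exact h1
  have qy : Q y = 0 := by
    rw [hy, QuadraticMap.map_smul, iso_Q Q hgi, fr.qf, smul_zero]
  have hwe : BQ w (e 0) = 0 := by rw [hw]; exact hp_perp_left (fr.qe 0) (fr.bef_same 0) y
  have hwf : BQ w (f 0) = 0 := by rw [hw]; exact hp_perp_right (fr.qf 0) (fr.bef_same 0) y
  have hew : BQ (e 0) w = 0 := by rw [polar_comm]; exact hwe
  have hydec : y = w + BQ y (f 0) • e 0 + f 0 := by
    have := hp_decomp (Q := Q) (e 0) (f 0) y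
    rw [← hw, hye, one_smul] at this
    exact this
  have hβ : BQ y (f 0) = - Q w := by
    have h1 : Q (w + BQ y (f 0) • e 0 + f 0) = Q w + BQ y (f 0) := by
      rw [QuadraticMap.map_add (⇑Q) (w + BQ y (f 0) • e 0) (f 0),
        QuadraticMap.map_add (⇑Q) w (BQ y (f 0) • e 0), QuadraticMap.map_smul, fr.qe, fr.qf,
        polar_smul_right, hwe, polar_add_left, polar_smul_left, hwf, fr.bef_same]
      simp
    rw [← hydec, qy] at h1
    linear_combination -h1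
  have hEf : EE (e 0) w ⋆ f 0 = y := by
    rw [ee_mulVec Q hQ (fr.qe 0) hew, fr.bef_same, hwf]
    conv_rhs => rw [hydec, hβ]
    module
  have hEinv : ∀ z, (EE (e 0) w)⁻¹ ⋆ (EE (e 0) w ⋆ z) = z := fun z => gl_inv_act _ z
  obtain ⟨g', hg'⟩ : ∃ g' : GL ι F, g' = (EE (e 0) w)⁻¹ * g := ⟨_, rfl⟩
  have hg'e : g' ⋆ e 0 = κ • e 0 := by
    rw [hg', gl_mul_act, hκ, mulVec_smul]
    congr 1
    have := hEinv (e 0)
    rwa [ee_fix hQ (fr.qe 0) hew (polar_self_zero (fr.qe 0)) hwe] at this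
  have hg'f : κ • (g' ⋆ f 0) = f 0 := by
    rw [hg', gl_mul_act, ← mulVec_smul, ← hy, ← hEf]
    exact hEinv (f 0)
  have hg'Ω : g' ∈ Cfsg.Geo.omegaGL (⇑Q) := by
    rw [hg']
    exact Subgroup.mul_mem _ (Subgroup.inv_mem _ (ee_mem_omega Q hQ H.hn _ _)) (H.hLΩ hg)
  have hg'i : g' ∈ Cfsg.isometryGroup F (⇑Q) := omega_le_iso hg'Ω
  -- the action of `g'` on the rational vectors orthogonal to the pair
  have hmid : ∀ v, Rt F₀ v → BQ (e 0) v = 0 → BQ (f 0) v = 0 → Rt F₀ (κ • (g' ⋆ v)) := by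
    intro v rv hv0 hvf
    obtain ⟨h3, h4⟩ := P1 v rv hv0
    obtain ⟨c, hc⟩ : ∃ c : F, c = BQ (f 0) (κ • (g ⋆ v)) := ⟨_, rfl⟩
    obtain ⟨r, hr'⟩ : ∃ r : ι → F, r = κ • (g ⋆ v) - c • e 0 := ⟨_, rfl⟩
    rw [← hc, ← hr'] at h4
    have h5 : κ • (g ⋆ v) = r + c • e 0 := by rw [hr']; abel
    have h6 : BQ (e 0) r = 0 := by
      rw [hr', polar_sub_right, h3, polar_smul_right, polar_self_zero (fr.qe 0)]
      simp
    have hnegw : BQ (e 0) (-w) = 0 := by rw [polar_neg_right, hew, neg_zero]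
    have h7 : κ • (g' ⋆ v) = r + (BQ w r + c) • e 0 := by
      rw [hg', gl_mul_act, ← mulVec_smul, h5, ee_inv Q hQ (fr.qe 0) hew,
        ee_mulVec Q hQ (fr.qe 0) hnegw, polar_add_right, polar_add_right, polar_smul_right,
        polar_smul_right, h6, polar_self_zero (fr.qe 0), polar_neg_left, polar_neg_left, hwe]
      simp only [smul_eq_mul, mul_zero, add_zero, zero_smul, neg_zero, zero_mul, sub_zero]
      module
    have h8 : BQ (f 0) (κ • (g' ⋆ v)) = 0 := by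
      have h9 := iso_B Q hg'i (f 0) v
      rw [hvf] at h9
      have h10 : BQ (κ • (g' ⋆ f 0)) (κ • (g' ⋆ v)) = 0 := by
        rw [polar_smul_left, polar_smul_right, h9]; simp
      rwa [hg'f] at h10
    have h9 : BQ w r + c = - BQ (f 0) r := by
      rw [h7, polar_add_right, polar_smul_right, fr.bfe_same, smul_eq_mul, mul_one] at h8
      linear_combination h8
    rw [h7, h9]
    exact h4.add ((fr.re 0).smul (F₀.neg_mem (hr.polar (fr.rf 0) h4)))
  have hall : ∀ x, Rt F₀ x → Rt F₀ (κ • (g' ⋆ x)) := by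
    intro x rx
    have hdec := hp_decomp (Q := Q) (e 0) (f 0) x
    have h1 : κ • (g' ⋆ x) = κ • (g' ⋆ hp Q (e 0) (f 0) x) + (BQ x (f 0) * (κ * κ)) • e 0 +
        BQ x (e 0) • f 0 := by
      conv_lhs => rw [hdec]
      rw [mulVec_add, mulVec_add, mulVec_smul, mulVec_smul, hg'e, smul_add, smul_add,
        smul_comm κ (BQ x (e 0)) (g' ⋆ f 0), hg'f]
      module
    rw [h1]
    refine ((hmid _ (hp_rt hr (fr.re 0) (fr.rf 0) rx) ?_ ?_).add
      ((fr.re 0).smul (F₀.mul_mem (hr.polar rx (fr.rf 0)) hκ2))).add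
      ((fr.rf 0).smul (hr.polar rx (fr.re 0)))
    · rw [polar_comm]; exact hp_perp_left (fr.qe 0) (fr.bef_same 0) x
    · rw [polar_comm]; exact hp_perp_right (fr.qf 0) (fr.bef_same 0) x
  -- hence `g'` lies in `L`, and so does the unipotent part
  have hg'L : g' ∈ L := H.hHL ⟨mem_sub_of_act g' κ hκ0 hall, hg'Ω⟩
  have hEL : EE (e 0) w ∈ L := by
    have h1 : EE (e 0) w = g * g'⁻¹ := by rw [hg']; group
    rw [h1]
    exact L.mul_mem hg (L.inv_mem hg'L)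
  have rw' : Rt F₀ w := by
    have h1 := H.Q_lemma hew hEL
    rwa [polar_comm (⇑Q) (f 0) w, hwf, zero_smul, sub_zero] at h1
  intro x rx
  have h1 : g = EE (e 0) w * g' := by rw [hg']; group
  rw [h1, gl_mul_act, ← mulVec_smul]
  exact ee_rt hQ hr (fr.qe 0) hew (fr.re 0) rw' (hall x rx)

/-- the general `P`-lemma: an element of `L` mapping a rational singular point to a rational
singular point is rational up to a scalar -/
theorem Hyp.P_gen (H : Hyp hQ F₀ e f L) {g : GL ι F} (hg : g ∈ L) {x y : ι → F}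
    (rx : Rt F₀ x) (qx : Q x = 0) (hx0 : x ≠ 0) (ry : Rt F₀ y) (qy : Q y = 0) (hy0 : y ≠ 0)
    {κ : F} (hκ : g ⋆ x = κ • y) : ∀ z, Rt F₀ z → Rt F₀ (κ • (g ⋆ z)) := by
  obtain ⟨h₁, hh₁, hh₁x⟩ := trans_abs hQ H.hr H.fr rx qx hx0
  obtain ⟨h₂, hh₂, hh₂y⟩ := trans_abs hQ H.hr H.fr ry qy hy0
  have hsm : ∀ (c : F) (u : ι → F), True → True := fun _ _ _ => trivial
  have hh₁L : h₁ ∈ L := H.hHL (closure_gen_le_HS hQ H.hn H.hr _ hh₁)
  have hh₂L : h₂ ∈ L := H.hHL (closure_gen_le_HS hQ H.hn H.hr _ hh₂)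
  have hx' : h₁⁻¹ ⋆ e 0 = x := by rw [← hh₁x, gl_inv_act]
  have h1 : (h₂ * g * h₁⁻¹) ⋆ e 0 = κ • e 0 := by
    rw [gl_mul_act, gl_mul_act, hx', hκ, mulVec_smul, hh₂y]
  have h2 := H.P_lemma (L.mul_mem (L.mul_mem hh₂L hg) (L.inv_mem hh₁L)) h1
  intro z rz
  have h3 := h2 _ (closure_gen_rt hQ H.hr hsm hh₁ z rz)
  rw [gl_mul_act, gl_mul_act, gl_inv_act, ← mulVec_smul] at h3
  have h4 := closure_gen_rt hQ H.hr hsm (Subgroup.inv_mem _ hh₂) _ h3
  rwa [gl_inv_act] at h4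

/-- membership in the subfield group from the rational action -/
theorem Hyp.mem_HS (H : Hyp hQ F₀ e f L) {g : GL ι F} (hg : g ∈ L) {κ : F} (hκ0 : κ ≠ 0)
    (h : ∀ z, Rt F₀ z → Rt F₀ (κ • (g ⋆ z))) : g ∈ HS Q F₀ :=
  ⟨mem_sub_of_act g κ hκ0 h, H.hLΩ hg⟩

/-- the general `Q`-lemma -/
theorem Hyp.Q_gen (H : Hyp hQ F₀ e f L) {x v : ι → F} (rx : Rt F₀ x) (qx : Q x = 0)
    (hx0 : x ≠ 0) (hxv : BQ x v = 0) (hL : EE x v ∈ L) : ∃ c : F, Rt F₀ (v - c • x) := by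
  obtain ⟨h, hh, hhx⟩ := trans_abs hQ H.hr H.fr rx qx hx0
  have hsm : ∀ (c : F) (u : ι → F), True → True := fun _ _ _ => trivial
  have hhL : h ∈ L := H.hHL (closure_gen_le_HS hQ H.hn H.hr _ hh)
  have hhi := H.iso hhL
  have h1 : h * EE x v * h⁻¹ ∈ L := L.mul_mem (L.mul_mem hhL hL) (L.inv_mem hhL)
  rw [conj_ee Q hQ hhi qx hxv, hhx] at h1
  have h2 : BQ (e 0) (h ⋆ v) = 0 := by
    have := iso_B Q hhi x v
    rwa [hhx, hxv] at this
  have h3 := H.Q_lemma h2 h1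
  refine ⟨BQ (f 0) (h ⋆ v), ?_⟩
  have hx' : h⁻¹ ⋆ e 0 = x := by rw [← hhx, gl_inv_act]
  have h4 := closure_gen_rt hQ H.hr hsm (Subgroup.inv_mem _ hh) _ h3
  rwa [mulVec_sub, mulVec_smul, gl_inv_act, hx'] at h4

end Cfsg.Agent.Lib.Helper42.OSub
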