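import Mathlib
import Cfsg.Agent.Lib.Helper42.OSubE

set_option autoImplicit false
set_option linter.unusedSectionVars false
set_option linter.unusedVariables false
set_option linter.style.haveILetI false
set_option linter.unusedSimpArgs false

/-!
Subfield subgroups of orthogonal groups: the action on a totally singular line, the general
position argument, and the argument for rational lines.
-/

namespace Cfsg.Agent.Lib.Helper42.OSub

open Matrix QuadraticMap Cfsg.Agent.Lib.Helper8 Cfsg.Agent.Lib.Helper13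
  Cfsg.Agent.Lib.Helper42.Subf Cfsg.Agent.Lib.Helper2.SL2 Cfsg.Agent.Lib.Helper14.Dk
open scoped MatrixGroups

variable {ι : Type} [Fintype ι] [DecidableEq ι] {F : Type*} [Field F] [Fintype F]
variable {Q : QuadraticForm F (ι → F)} {hQ : (QuadraticMap.polarBilin Q).Nondegenerate}
variable {F₀ : Subfield F} {e f : Fin 4 → ι → F} {L : Subgroup (GL ι F)}

set_option quotPrecheck false in
local notation "BQ" => QuadraticMap.polar (⇑Q)
local notation "EE" => ee Q hQ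
local notation:70 g:70 " ⋆ " x:71 => Matrix.mulVec (Units.val g) x
local notation "SL2" => Matrix.SpecialLinearGroup (Fin 2) F

/-- the lifting relation between elements of `GL` stabilizing a plane and elements of `SL₂` -/
def Lift2 (p a : ι → F) (g : GL ι F) (s : SL2) : Prop :=
  g ⋆ p = s 0 0 • p + s 1 0 • a ∧ g ⋆ a = s 0 1 • p + s 1 1 • a

theorem Lift2.one (p a : ι → F) : Lift2 p a (1 : GL ι F) (1 : SL2) := by
  refine ⟨?_, ?_⟩
  · rw [Units.val_one, one_mulVec, one00, one10]; module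
  · rw [Units.val_one, one_mulVec, one01, one11]; module

theorem Lift2.mul {p a : ι → F} {g g' : GL ι F} {s s' : SL2} (h : Lift2 p a g s)
    (h' : Lift2 p a g' s') : Lift2 p a (g * g') (s * s') := by
  obtain ⟨h1, h2⟩ := h
  obtain ⟨h1', h2'⟩ := h'
  refine ⟨?_, ?_⟩
  · rw [gl_mul_act, h1', mulVec_add, mulVec_smul, mulVec_smul, h1, h2, mul00, mul10]
    module
  · rw [gl_mul_act, h2', mulVec_add, mulVec_smul, mulVec_smul, h1, h2, mul01, mul11]
    module

/-- the action of a root element of the line `⟨a, b⟩` on `e 0` -/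
theorem act_root_e0 {a b : ι → F} (qa : Q a = 0) (qb : Q b = 0) (hab : BQ a b = 0) (t : F)
    {z : ι → F} (hb0 : BQ b z ≠ 0) :
    EE a (t • b) ⋆ z = z - (t * BQ b z) • (a - (BQ a z / BQ b z) • b) := by
  have h1 : BQ a (t • b) = 0 := by rw [polar_smul_right, hab, smul_zero]
  have hq : Q (t • b) = 0 := by rw [QuadraticMap.map_smul, qb, smul_zero]
  rw [ee_mulVec Q hQ qa h1, hq, polar_smul_left, smul_eq_mul, zero_mul, zero_smul, sub_zero]
  have h2 : (t * BQ b z) • (a - (BQ a z / BQ b z) • b) =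
      (t * BQ b z) • a - (t * BQ a z) • b := by
    rw [smul_sub, smul_smul]
    congr 2
    field_simp
  rw [h2]
  module

theorem act_root_fix {a b : ι → F} (qa : Q a = 0) (qb : Q b = 0) (hab : BQ a b = 0) (t θ : F) :
    EE a (t • b) ⋆ (a - θ • b) = a - θ • b := by
  have h1 : BQ a (t • b) = 0 := by rw [polar_smul_right, hab, smul_zero]
  apply ee_fix hQ qa h1
  · rw [polar_sub_right, polar_smul_right, polar_self_zero qa, hab]; simp
  · rw [polar_smul_left, polar_sub_right, polar_smul_right, polar_self_zero qb,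
      polar_comm (⇑Q) b a, hab]
    simp

/-- the general position argument -/
theorem Hyp.false_of_gen (p : ℕ) [Fact p.Prime] [CharP F p] (H : Hyp hQ F₀ e f L)
    {a b : ι → F} (qa : Q a = 0) (qb : Q b = 0) (hab : BQ a b = 0)
    (hL : ∀ t ∈ F₀, EE a (t • b) ∈ L) (hb0 : BQ b (e 0) ≠ 0) {v₂ v₃ : ι → F}
    (rv₂ : Rt F₀ v₂) (rv₃ : Rt F₀ v₃) (hv₂ : BQ (e 0) v₂ = 0) (hv₃ : BQ (e 0) v₃ = 0)
    (hind : Indep F₀ (BQ v₂ (a - (BQ a (e 0) / BQ b (e 0)) • b))
      (BQ v₃ (a - (BQ a (e 0) / BQ b (e 0)) • b))) : False := by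
  have fr := H.fr
  have hr := H.hr
  obtain ⟨θ, hθ⟩ : ∃ θ : F, θ = BQ a (e 0) / BQ b (e 0) := ⟨_, rfl⟩
  obtain ⟨a', ha'⟩ : ∃ a' : ι → F, a' = a - θ • b := ⟨_, rfl⟩
  rw [← hθ, ← ha'] at hind
  obtain ⟨c₁, hc₁⟩ : ∃ c₁ : F, c₁ = BQ v₂ a' := ⟨_, rfl⟩
  obtain ⟨c₂, hc₂⟩ : ∃ c₂ : F, c₂ = BQ v₃ a' := ⟨_, rfl⟩
  obtain ⟨b₀, hb₀⟩ : ∃ b₀ : F, b₀ = BQ b (e 0) := ⟨_, rfl⟩
  rw [← hc₁, ← hc₂] at hind
  have he0a' : BQ (e 0) a' = 0 := by
    rw [ha', polar_sub_right, polar_smul_right, polar_comm (⇑Q) (e 0) a,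
      polar_comm (⇑Q) (e 0) b, hθ, smul_eq_mul, div_mul_cancel₀ _ hb0, sub_self]
  -- the generators
  obtain ⟨S, hS'⟩ : ∃ S : Set SL2, S = {s | ∃ c ∈ F₀, ∃ d ∈ F₀, s = uu (c * -c₁ + d * -c₂)} ∪
      {ll (-b₀), ll b₀} := ⟨_, rfl⟩
  have hll : ∀ t ∈ F₀, ∃ g ∈ L, Lift2 (e 0) a' g (ll (-(t * b₀))) := by
    intro t ht
    refine ⟨EE a (t • b), hL t ht, ?_, ?_⟩
    · rw [act_root_e0 qa qb hab t hb0, ← hθ, ← ha', ← hb₀, ll_00, ll_10]
      module
    · rw [ha', act_root_fix qa qb hab t θ, ll_01, ll_11]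
      module
  have hSlift : ∀ s ∈ S, ∃ g ∈ L, Lift2 (e 0) a' g s := by
    intro s hs
    rw [hS'] at hs
    rcases hs with ⟨c, hc, d, hd, rfl⟩ | hs
    · obtain ⟨v, hv⟩ : ∃ v : ι → F, v = c • v₂ + d • v₃ := ⟨_, rfl⟩
      have rv : Rt F₀ v := by rw [hv]; exact (rv₂.smul hc).add (rv₃.smul hd)
      have hv0 : BQ (e 0) v = 0 := by
        rw [hv, polar_add_right, polar_smul_right, polar_smul_right, hv₂, hv₃]; simp
      refine ⟨EE (e 0) v, H.ee_mem (fr.qe 0) hv0 (fr.re 0) rv, ?_, ?_⟩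
      · rw [ee_fix hQ (fr.qe 0) hv0 (polar_self_zero (fr.qe 0))
          (by rw [polar_comm]; exact hv0), uu_00, uu_10]
        module
      · rw [ee_mulVec Q hQ (fr.qe 0) hv0, he0a', uu_01, uu_11]
        have : BQ v a' = c * c₁ + d * c₂ := by
          rw [hv, polar_add_left, polar_smul_left, polar_smul_left, hc₁, hc₂, smul_eq_mul,
            smul_eq_mul]
        rw [this]
        module
    · rcases hs with rfl | hs
      · obtain ⟨g, hg, hl⟩ := hll 1 F₀.one_mem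
        rw [one_mul] at hl
        exact ⟨g, hg, hl⟩
      · rw [Set.mem_singleton_iff] at hs
        subst hs
        obtain ⟨g, hg, hl⟩ := hll (-1) (F₀.neg_mem F₀.one_mem)
        rw [neg_one_mul, neg_neg] at hl
        exact ⟨g, hg, hl⟩
  have hSinv : ∀ s ∈ S, s⁻¹ ∈ S := by
    intro s hs
    rw [hS'] at hs ⊢
    rcases hs with ⟨c, hc, d, hd, rfl⟩ | hs
    · left
      refine ⟨-c, F₀.neg_mem hc, -d, F₀.neg_mem hd, ?_⟩
      rw [uu_inv]
      congr 1
      ring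
    · right
      rcases hs with rfl | hs
      · rw [ll_inv, neg_neg]
        exact Set.mem_insert_of_mem _ rfl
      · rw [Set.mem_singleton_iff] at hs
        subst hs
        rw [ll_inv]
        exact Set.mem_insert _ _
  have hlift : ∀ s ∈ Subgroup.closure S, ∃ g ∈ L, Lift2 (e 0) a' g s := by
    intro s hs
    induction hs using Subgroup.closure_induction'' with
    | mem x hx => exact hSlift x hx
    | inv_mem x hx => exact hSlift _ (hSinv x hx)
    | one => exact ⟨1, L.one_mem, Lift2.one _ _⟩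
    | mul x y _ _ hx hy =>
      obtain ⟨g, hg, hl⟩ := hx
      obtain ⟨g', hg', hl'⟩ := hy
      exact ⟨g * g', L.mul_mem hg hg', hl.mul hl'⟩
  have hind' : Indep F₀ (-c₁) (-c₂) := by
    refine ⟨neg_ne_zero.mpr hind.1, fun c hc hcon => hind.2 c hc ?_⟩
    have : -c₂ = -(c * c₁) := by rw [hcon]; ring
    exact neg_injective this
  have hb₀0 : b₀ ≠ 0 := by rw [hb₀]; exact hb0
  obtain ⟨s, hsL, hs10, hs00⟩ := dickson_line p F₀ (Subgroup.closure S) (-c₁) (-c₂) (-b₀)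
    hind' (fun c hc d hd => Subgroup.subset_closure (by
      rw [hS']; left; exact ⟨c, hc, d, hd, rfl⟩)) (neg_ne_zero.mpr hb₀0)
    (Subgroup.subset_closure (by rw [hS']; right; exact Set.mem_insert _ _))
  obtain ⟨g, hgL, hge, -⟩ := hlift s hsL
  rw [hs10, zero_smul, add_zero] at hge
  have h1 := H.P_lemma hgL hge (e 0) (fr.re 0)
  rw [hge, smul_smul] at h1
  have h2 := hr.polar (fr.rf 0) h1
  rw [polar_smul_right, fr.bfe_same, smul_eq_mul, mul_one] at h2
  apply hs00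
  rwa [pow_two]

/-- an element of `L` mapping `e 0` into the line `⟨e 0, e 1⟩`, and whose inverse does so too,
maps `e 0` to a multiple of a rational vector -/
theorem Hyp.X_lemma (H : Hyp hQ F₀ e f L) {g : GL ι F} (hg : g ∈ L) {α β α' β' : F}
    (h1 : g ⋆ e 0 = α • e 0 + β • e 1) (h2 : g⁻¹ ⋆ e 0 = α' • e 0 + β' • e 1) :
    ∃ c : F, c ≠ 0 ∧ Rt F₀ (c • (g ⋆ e 0)) := by
  have fr := H.fr
  have hr := H.hr
  have hgi := H.iso hg
  have hgi' : g⁻¹ ∈ Cfsg.isometryGroup F (⇑Q) := Subgroup.inv_mem _ hgi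
  obtain ⟨z, hz⟩ : ∃ z : ι → F, z = e 2 + f 2 := ⟨_, rfl⟩
  have rz : Rt F₀ z := by rw [hz]; exact (fr.re 2).add (fr.rf 2)
  have qz : Q z = 1 := by
    rw [hz, QuadraticMap.map_add (⇑Q) (e 2) (f 2), fr.qe, fr.qf, fr.bef_same]; simp
  have hz0 : BQ (e 0) z = 0 := by
    rw [hz, polar_add_right, fr.bee 0 2, fr.bef_ne (by decide)]; simp
  have hz1 : BQ (e 1) z = 0 := by
    rw [hz, polar_add_right, fr.bee 1 2, fr.bef_ne (by decide)]; simp
  obtain ⟨y, hy⟩ : ∃ y : ι → F, y = g⁻¹ ⋆ z := ⟨_, rfl⟩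
  have qy : Q y = 1 := by rw [hy, iso_Q Q hgi', qz]
  -- a rational vector orthogonal to the line and not to `y`
  have hv : ∃ v, Rt F₀ v ∧ BQ v (e 0) = 0 ∧ BQ v (e 1) = 0 ∧ BQ v y ≠ 0 := by
    by_contra hcon
    push Not at hcon
    obtain ⟨c0, hc0⟩ : ∃ c0 : F, c0 = BQ y (f 0) := ⟨_, rfl⟩
    obtain ⟨c1, hc1⟩ : ∃ c1 : F, c1 = BQ y (f 1) := ⟨_, rfl⟩
    obtain ⟨y', hy'⟩ : ∃ y' : ι → F, y' = y - c0 • e 0 - c1 • e 1 := ⟨_, rfl⟩
    have hy'0 : y' = 0 := by
      apply eq_zero_of_polar_rt (F₀ := F₀) hQ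
      intro p rp
      obtain ⟨p', hp'⟩ : ∃ p' : ι → F, p' = p - BQ p (e 0) • f 0 - BQ p (e 1) • f 1 := ⟨_, rfl⟩
      have rp' : Rt F₀ p' := by
        rw [hp']
        exact (rp.sub ((fr.rf 0).smul (hr.polar rp (fr.re 0)))).sub
          ((fr.rf 1).smul (hr.polar rp (fr.re 1)))
      have hp'0 : BQ p' (e 0) = 0 := by
        rw [hp', polar_sub_left, polar_sub_left, polar_smul_left, polar_smul_left, fr.bfe_same,
          fr.bfe_ne (by decide)]
        simp
      have hp'1 : BQ p' (e 1) = 0 := by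
        rw [hp', polar_sub_left, polar_sub_left, polar_smul_left, polar_smul_left, fr.bfe_same,
          fr.bfe_ne (by decide)]
        simp
      have h3 := hcon p' rp' hp'0 hp'1
      rw [hp', polar_sub_left, polar_sub_left, polar_smul_left, polar_smul_left, smul_eq_mul,
        smul_eq_mul, polar_comm (⇑Q) (f 0) y, polar_comm (⇑Q) (f 1) y, ← hc0, ← hc1] at h3
      rw [hy', polar_sub_right, polar_sub_right, polar_smul_right, polar_smul_right, smul_eq_mul,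
        smul_eq_mul]
      linear_combination h3
    have h4 : y = c0 • e 0 + c1 • e 1 := by
      have h5 := hy'0
      rw [hy', sub_sub, sub_eq_zero] at h5
      exact h5
    have h6 : Q y = 0 := by
      rw [h4, QuadraticMap.map_add (⇑Q), QuadraticMap.map_smul, QuadraticMap.map_smul, fr.qe,
        fr.qe, polar_smul_left, polar_smul_right, fr.bee 0 1]
      simp
    rw [qy] at h6
    exact one_ne_zero h6
  obtain ⟨v, rv, hv0, hv1, hvy⟩ := hv
  have h0v : BQ (e 0) v = 0 := by rw [polar_comm]; exact hv0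
  obtain ⟨u, hu⟩ : ∃ u : ι → F, u = g ⋆ e 0 := ⟨_, rfl⟩
  have hu' : u = α • e 0 + β • e 1 := by rw [hu, h1]
  have h3 : g * EE (e 0) v * g⁻¹ ∈ L :=
    L.mul_mem (L.mul_mem hg (H.ee_mem (fr.qe 0) h0v (fr.re 0) rv)) (L.inv_mem hg)
  rw [conj_ee Q hQ hgi (fr.qe 0) h0v, ← hu] at h3
  have qu : Q u = 0 := by rw [hu, iso_Q Q hgi, fr.qe]
  have huv : BQ u (g ⋆ v) = 0 := by rw [hu, iso_B Q hgi, h0v]
  have hue : BQ u (e 0) = 0 := by
    rw [hu', polar_add_left, polar_smul_left, polar_smul_left, polar_self_zero (fr.qe 0),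
      fr.bee 1 0]
    simp
  have hgve : BQ (g ⋆ v) (e 0) = 0 := by
    rw [iso_B_inv Q hgi, h2, polar_add_right, polar_smul_right, polar_smul_right, hv0, hv1]
    simp
  have h4 : EE u (g ⋆ v) ⋆ e 0 = (1 : F) • e 0 := by
    rw [one_smul]; exact ee_fix hQ qu huv hue hgve
  have h5 := H.P_lemma h3 h4 z rz
  rw [one_smul, ee_mulVec Q hQ qu huv] at h5
  have huz : BQ u z = 0 := by
    rw [hu', polar_add_left, polar_smul_left, polar_smul_left, hz0, hz1]; simp
  have hgvz : BQ (g ⋆ v) z = BQ v y := by rw [iso_B_inv Q hgi, hy]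
  rw [huz, hgvz] at h5
  refine ⟨BQ v y, hvy, ?_⟩
  have h6 : BQ v y • u = z - (z + (0 : F) • (g ⋆ v) - BQ v y • u - (Q (g ⋆ v) * 0) • u) := by
    module
  rw [← hu, h6]
  exact rz.sub h5

/-- an element of `L` stabilizing the line `⟨e 0, e 1⟩` is rational -/
theorem Hyp.line_rat (H : Hyp hQ F₀ e f L) {g : GL ι F} (hg : g ∈ L) {α β α' β' : F}
    (h1 : g ⋆ e 0 = α • e 0 + β • e 1) (h2 : g⁻¹ ⋆ e 0 = α' • e 0 + β' • e 1) :
    g ∈ HS Q F₀ := by
  obtain ⟨c, hc0, hc⟩ := H.X_lemma hg h1 h2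
  have fr := H.fr
  have hgi := H.iso hg
  have h3 : g ⋆ e 0 = c⁻¹ • (c • (g ⋆ e 0)) := by
    rw [smul_smul, inv_mul_cancel₀ hc0, one_smul]
  have h4 : Q (c • (g ⋆ e 0)) = 0 := by
    rw [QuadraticMap.map_smul, iso_Q Q hgi, fr.qe, smul_zero]
  have h5 : c • (g ⋆ e 0) ≠ 0 :=
    smul_ne_zero hc0 (gl_act_ne_zero g (fr.e_ne_zero 0))
  exact H.mem_HS hg (inv_ne_zero hc0)
    (H.P_gen hg (fr.re 0) (fr.qe 0) (fr.e_ne_zero 0) hc h4 h5 h3)

include hQ in
/-- a nonzero vector is not orthogonal to all rational singular vectors -/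
theorem exists_rt_sing_polar_ne (hr : RatForm Q F₀) (fr : Frame Q F₀ e f) {b : ι → F}
    (hb : b ≠ 0) : ∃ p, Rt F₀ p ∧ Q p = 0 ∧ BQ p b ≠ 0 := by
  by_contra hcon
  push Not at hcon
  apply hb
  apply eq_zero_of_polar_rt (F₀ := F₀) hQ
  intro p rp
  obtain ⟨q, hq⟩ : ∃ q : ι → F, q = hp Q (e 0) (f 0) p := ⟨_, rfl⟩
  have rq : Rt F₀ q := by rw [hq]; exact hp_rt hr (fr.re 0) (fr.rf 0) rp
  have hqe : BQ q (e 0) = 0 := by rw [hq]; exact hp_perp_left (fr.qe 0) (fr.bef_same 0) p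
  have hqf : BQ q (f 0) = 0 := by rw [hq]; exact hp_perp_right (fr.qf 0) (fr.bef_same 0) p
  have h1 := hcon (e 0 + q - Q q • f 0) (((fr.re 0).add rq).sub ((fr.rf 0).smul (hr _ rq)))
    (sing_add (fr.qe 0) (fr.qf 0) (fr.bef_same 0) hqe hqf)
  have h2 := hcon (e 0) (fr.re 0) (fr.qe 0)
  have h3 := hcon (f 0) (fr.rf 0) (fr.qf 0)
  rw [polar_sub_left, polar_add_left, polar_smul_left, h2, h3] at h1
  have h4 : BQ q b = 0 := by simpa using h1
  have hdec := hp_decomp (Q := Q) (e 0) (f 0) p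
  rw [← hq] at hdec
  rw [hdec, polar_add_left, polar_add_left, polar_smul_left, polar_smul_left, h2, h3, h4]
  simp

end Cfsg.Agent.Lib.Helper42.OSub
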