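import Mathlib
import Cfsg.Agent.Lib.Helper42.OSubF

set_option autoImplicit false
set_option linter.unusedSectionVars false
set_option linter.unusedVariables false
set_option linter.style.haveILetI false
set_option linter.unusedSimpArgs false

/-!
Subfield subgroups of orthogonal groups: an overgroup of the subfield group inside `Ω` all of
whose root parameters are rational is the subfield group.
-/

namespace Cfsg.Agent.Lib.Helper42.OSub

open Matrix QuadraticMap Cfsg.Agent.Lib.Helper8 Cfsg.Agent.Lib.Helper13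
  Cfsg.Agent.Lib.Helper42.Subf

variable {ι : Type} [Fintype ι] [DecidableEq ι] {F : Type*} [Field F] [Fintype F]
variable {Q : QuadraticForm F (ι → F)} {hQ : (QuadraticMap.polarBilin Q).Nondegenerate}
variable {F₀ : Subfield F} {e f : Fin 4 → ι → F} {L : Subgroup (GL ι F)}

set_option quotPrecheck false in
local notation "BQ" => QuadraticMap.polar (⇑Q)
local notation "EE" => ee Q hQ
local notation:70 g:70 " ⋆ " x:71 => Matrix.mulVec (Units.val g) x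

variable (hQ) in
/-- a totally singular line carrying a rational family of root elements of `L` -/
def Conf (F₀ : Subfield F) (L : Subgroup (GL ι F)) (a b : ι → F) : Prop :=
  Q a = 0 ∧ Q b = 0 ∧ BQ a b = 0 ∧ ∀ t ∈ F₀, EE a (t • b) ∈ L

theorem Conf.map (H : Hyp hQ F₀ e f L) {a b : ι → F} (hc : Conf hQ F₀ L a b) {h : GL ι F}
    (hh : h ∈ L) : Conf hQ F₀ L (h ⋆ a) (h ⋆ b) := by
  obtain ⟨qa, qb, hab, hL⟩ := hc
  have hi := H.iso hh
  refine ⟨by rw [iso_Q Q hi, qa], by rw [iso_Q Q hi, qb], by rw [iso_B Q hi, hab], ?_⟩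
  intro t ht
  have h1 : BQ a (t • b) = 0 := by rw [polar_smul_right, hab, smul_zero]
  have h2 : h * EE a (t • b) * h⁻¹ ∈ L := L.mul_mem (L.mul_mem hh (hL t ht)) (L.inv_mem hh)
  rwa [conj_ee Q hQ hi qa h1, mulVec_smul] at h2

/-- root elements of a totally singular line only depend on the line -/
theorem ee_shift {a b : ι → F} (qa : Q a = 0) (qb : Q b = 0) (hab : BQ a b = 0) (t θ : F) :
    EE a (t • b) = EE (a - θ • b) (t • b) := by
  have h1 : BQ a (t • b) = 0 := by rw [polar_smul_right, hab, smul_zero]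
  have hbb := polar_self_zero qb
  have hba : BQ b a = 0 := by rw [polar_comm]; exact hab
  have h2 : Q (a - θ • b) = 0 := by
    have : a - θ • b = a + (-θ) • b := by rw [neg_smul]; abel
    rw [this, QuadraticMap.map_add (⇑Q), QuadraticMap.map_smul, qa, qb, polar_smul_right, hab]
    simp
  have h3 : BQ (a - θ • b) (t • b) = 0 := by
    rw [polar_sub_left, polar_smul_left, polar_smul_right, polar_smul_right, hab, hbb]
    simp
  have hq : Q (t • b) = 0 := by rw [QuadraticMap.map_smul, qb, smul_zero]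
  apply gl_ext
  intro x
  rw [ee_mulVec Q hQ qa h1, ee_mulVec Q hQ h2 h3, hq, polar_sub_left, polar_smul_left,
    polar_smul_left]
  simp only [smul_eq_mul, zero_mul, zero_smul, sub_zero]
  module

theorem Q_line {a b : ι → F} (qa : Q a = 0) (qb : Q b = 0) (hab : BQ a b = 0) (s t : F) :
    Q (s • a + t • b) = 0 := by
  rw [QuadraticMap.map_add (⇑Q), QuadraticMap.map_smul, QuadraticMap.map_smul, qa, qb,
    polar_smul_left, polar_smul_right, hab]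
  simp

/-- the point of the line orthogonal to `e 0` lies on a rational line through `e 0` -/
theorem Hyp.near (p : ℕ) [Fact p.Prime] [CharP F p] (H : Hyp hQ F₀ e f L) {a b : ι → F} (hc : Conf hQ F₀ L a b)
    (hb0 : BQ b (e 0) ≠ 0) :
    ∃ (lam : F) (ρ : ι → F) (c' : F), lam ≠ 0 ∧ Rt F₀ ρ ∧ BQ ρ (e 0) = 0 ∧
      lam • (a - (BQ a (e 0) / BQ b (e 0)) • b) = ρ + c' • e 0 := by
  obtain ⟨qa, qb, hab, hL⟩ := hc
  have fr := H.fr
  have hr := H.hr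
  obtain ⟨a', ha'⟩ : ∃ a' : ι → F, a' = a - (BQ a (e 0) / BQ b (e 0)) • b := ⟨_, rfl⟩
  rw [← ha']
  have he0a' : BQ (e 0) a' = 0 := by
    rw [ha', polar_sub_right, polar_smul_right, polar_comm (⇑Q) (e 0) a,
      polar_comm (⇑Q) (e 0) b, smul_eq_mul, div_mul_cancel₀ _ hb0, sub_self]
  by_cases hG : ∃ v₂ v₃, Rt F₀ v₂ ∧ Rt F₀ v₃ ∧ BQ (e 0) v₂ = 0 ∧ BQ (e 0) v₃ = 0 ∧
      Indep F₀ (BQ v₂ a') (BQ v₃ a')
  · exfalso
    obtain ⟨v₂, v₃, rv₂, rv₃, hv₂, hv₃, hind⟩ := hG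
    rw [ha'] at hind
    exact H.false_of_gen p qa qb hab hL hb0 rv₂ rv₃ hv₂ hv₃ hind
  push Not at hG
  have key : ∃ lam : F, lam ≠ 0 ∧ ∀ v, Rt F₀ v → BQ v (e 0) = 0 → BQ v (lam • a') ∈ F₀ := by
    by_cases h0 : ∃ v₀, Rt F₀ v₀ ∧ BQ (e 0) v₀ = 0 ∧ BQ v₀ a' ≠ 0
    · obtain ⟨v₀, rv₀, hv₀, hne⟩ := h0
      refine ⟨(BQ v₀ a')⁻¹, inv_ne_zero hne, fun v rv hv => ?_⟩
      have h1 := hG v₀ v rv₀ rv hv₀ (by rw [polar_comm]; exact hv)
      unfold Indep at h1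
      push Not at h1
      obtain ⟨c, hc, hcv⟩ := h1 hne
      rw [polar_smul_right, hcv, smul_eq_mul]
      have : (BQ v₀ a')⁻¹ * (c * BQ v₀ a') = c := by field_simp
      rw [this]
      exact hc
    · push Not at h0
      refine ⟨1, one_ne_zero, fun v rv hv => ?_⟩
      rw [one_smul, h0 v rv (by rw [polar_comm]; exact hv)]
      exact F₀.zero_mem
  obtain ⟨lam, hlam, hkey⟩ := key
  have h1 : BQ (e 0) (lam • a') = 0 := by rw [polar_smul_right, he0a', smul_zero]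
  have h2 := rt_mod_e0 hQ hr fr h1 hkey
  refine ⟨lam, lam • a' - BQ (f 0) (lam • a') • e 0, BQ (f 0) (lam • a'), hlam, h2, ?_, by abel⟩
  rw [polar_sub_left, polar_comm (⇑Q) (lam • a') (e 0), h1, polar_smul_left,
    polar_self_zero (fr.qe 0)]
  simp

/-- if the point of the line orthogonal to `e 0` lies on the line `⟨e 0, e 1⟩`, it is rational -/
theorem Hyp.near_rat (H : Hyp hQ F₀ e f L) {a b : ι → F} (hc : Conf hQ F₀ L a b)
    (hb0 : BQ b (e 0) ≠ 0) {lam c' : F} (hlam : lam ≠ 0)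
    (h : lam • (a - (BQ a (e 0) / BQ b (e 0)) • b) = e 1 + c' • e 0) : c' ∈ F₀ := by
  obtain ⟨qa, qb, hab, hL⟩ := hc
  have fr := H.fr
  have hr := H.hr
  obtain ⟨θ, hθ⟩ : ∃ θ : F, θ = BQ a (e 0) / BQ b (e 0) := ⟨_, rfl⟩
  obtain ⟨a', ha'⟩ : ∃ a' : ι → F, a' = a - θ • b := ⟨_, rfl⟩
  obtain ⟨b₀, hb₀⟩ : ∃ b₀ : F, b₀ = BQ b (e 0) := ⟨_, rfl⟩
  rw [← hθ, ← ha'] at h
  have ha'' : a' = lam⁻¹ • (e 1 + c' • e 0) := by
    rw [← h, smul_smul, inv_mul_cancel₀ hlam, one_smul]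
  obtain ⟨s, hs⟩ : ∃ s : F, s = b₀ * lam⁻¹ := ⟨_, rfl⟩
  have hb₀0 : b₀ ≠ 0 := by rw [hb₀]; exact hb0
  have hs0 : s ≠ 0 := by rw [hs]; exact mul_ne_zero hb₀0 (inv_ne_zero hlam)
  obtain ⟨g₁, hg₁⟩ : ∃ g₁ : GL ι F, g₁ = EE a ((1 : F) • b) := ⟨_, rfl⟩
  have hg₁L : g₁ ∈ L := by rw [hg₁]; exact hL 1 F₀.one_mem
  have hgi := H.iso hg₁L
  have h1 : g₁ ⋆ e 0 = (1 - s * c') • e 0 + (-s) • e 1 := by
    rw [hg₁, act_root_e0 qa qb hab 1 hb0, ← hθ, ← ha', ← hb₀, ha'', hs]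
    module
  have hinv : g₁⁻¹ = EE a ((-1 : F) • b) := by
    have h3 : BQ a ((1 : F) • b) = 0 := by rw [polar_smul_right, hab, smul_zero]
    rw [hg₁, ee_inv Q hQ qa h3, one_smul, neg_one_smul]
  have h2 : g₁⁻¹ ⋆ e 0 = (1 + s * c') • e 0 + s • e 1 := by
    rw [hinv, act_root_e0 qa qb hab (-1) hb0, ← hθ, ← ha', ← hb₀, ha'', hs]
    module
  obtain ⟨c, hc0, hc⟩ := H.X_lemma hg₁L h1 h2
  have h3 : g₁ ⋆ e 0 = c⁻¹ • (c • (g₁ ⋆ e 0)) := by
    rw [smul_smul, inv_mul_cancel₀ hc0, one_smul]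
  have h4 : Q (c • (g₁ ⋆ e 0)) = 0 := by
    rw [QuadraticMap.map_smul, iso_Q Q hgi, fr.qe, smul_zero]
  have h5 : c • (g₁ ⋆ e 0) ≠ 0 := smul_ne_zero hc0 (gl_act_ne_zero g₁ (fr.e_ne_zero 0))
  have hP := H.P_gen hg₁L (fr.re 0) (fr.qe 0) (fr.e_ne_zero 0) hc h4 h5 h3
  -- the scalar is rational
  have hcF : c⁻¹ ∈ F₀ := by
    have h6 := hP (e 2) (fr.re 2)
    have h7 : g₁ ⋆ e 2 = e 2 - BQ b (e 2) • a' := by
      have h8 : BQ (a - θ • b) ((1 : F) • b) = 0 := by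
        rw [polar_sub_left, polar_smul_left, polar_smul_right, polar_smul_right, hab,
          polar_self_zero qb]
        simp
      have h9 : Q (a - θ • b) = 0 := by
        have : a - θ • b = (1 : F) • a + (-θ) • b := by rw [neg_smul, one_smul]; abel
        rw [this]; exact Q_line qa qb hab _ _
      have h10 : BQ a' (e 2) = 0 := by
        rw [ha'', polar_smul_left, polar_add_left, polar_smul_left, fr.bee 1 2, fr.bee 0 2]
        simp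
      rw [hg₁, ee_shift qa qb hab 1 θ, ← ha'] at *
      rw [ee_mulVec Q hQ (by rw [ha']; exact h9) (by rw [ha']; exact h8), h10,
        QuadraticMap.map_smul, qb, polar_smul_left]
      simp only [smul_eq_mul, mul_zero, zero_mul, zero_smul, one_mul, sub_zero, add_zero,
        one_smul]
    rw [h7, ha''] at h6
    have h8 := hr.polar (fr.rf 2) h6
    rw [polar_smul_right, polar_sub_right, polar_smul_right, polar_smul_right, polar_add_right,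
      polar_smul_right, fr.bfe_same, fr.bfe_ne (by decide), fr.bfe_ne (by decide)] at h8
    simpa using h8
  have hcinv0 : c⁻¹ ≠ 0 := inv_ne_zero hc0
  have h6 : Rt F₀ (g₁ ⋆ e 0) := Rt.of_smul hcF hcinv0 (hP (e 0) (fr.re 0))
  rw [h1] at h6
  have h7 := hr.polar (fr.rf 1) h6
  have h8 := hr.polar (fr.rf 0) h6
  rw [polar_add_right, polar_smul_right, polar_smul_right, fr.bfe_same, fr.bfe_ne (by decide)]
    at h7 h8
  have hsF : s ∈ F₀ := by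
    have : -s ∈ F₀ := by simpa using h7
    have := F₀.neg_mem this
    rwa [neg_neg] at this
  have hsc : s * c' ∈ F₀ := by
    have h9 : 1 - s * c' ∈ F₀ := by simpa using h8
    have := F₀.sub_mem F₀.one_mem h9
    rwa [sub_sub_cancel] at this
  have := F₀.mul_mem (F₀.inv_mem hsF) hsc
  rwa [← mul_assoc, inv_mul_cancel₀ hs0, one_mul] at this

/-- the point of the line orthogonal to `e 0` is rational -/
theorem Hyp.near_pt (p : ℕ) [Fact p.Prime] [CharP F p] (H : Hyp hQ F₀ e f L) {a b : ι → F} (hc : Conf hQ F₀ L a b)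
    (hb0 : BQ b (e 0) ≠ 0) (ha'0 : a - (BQ a (e 0) / BQ b (e 0)) • b ≠ 0) :
    ∃ (ν : F) (a'' : ι → F), ν ≠ 0 ∧ Rt F₀ a'' ∧
      a - (BQ a (e 0) / BQ b (e 0)) • b = ν • a'' := by
  have fr := H.fr
  have hr := H.hr
  obtain ⟨lam, ρ, c', hlam, rρ, hρ0, hnear⟩ := H.near p hc hb0
  obtain ⟨qa, qb, hab, hL⟩ := hc
  obtain ⟨θ, hθ⟩ : ∃ θ : F, θ = BQ a (e 0) / BQ b (e 0) := ⟨_, rfl⟩
  obtain ⟨a', ha'⟩ : ∃ a' : ι → F, a' = a - θ • b := ⟨_, rfl⟩
  rw [← hθ, ← ha'] at hnear ha'0 ⊢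
  have ha'eq : a' = lam⁻¹ • (ρ + c' • e 0) := by
    rw [← hnear, smul_smul, inv_mul_cancel₀ hlam, one_smul]
  by_cases hρ : ∃ c : F, ρ = c • e 0
  · obtain ⟨c, hcρ⟩ := hρ
    have h1 : a' = (lam⁻¹ * (c + c')) • e 0 := by
      rw [ha'eq, hcρ]; module
    refine ⟨lam⁻¹ * (c + c'), e 0, ?_, fr.re 0, h1⟩
    intro h0
    rw [h0, zero_smul] at h1
    exact ha'0 h1
  push Not at hρ
  have qa' : Q a' = 0 := by
    have : a' = (1 : F) • a + (-θ) • b := by rw [ha', neg_smul, one_smul]; abel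
    rw [this]; exact Q_line qa qb hab _ _
  have qρ : Q ρ = 0 := by
    have h1 : Q (lam • a') = 0 := by rw [QuadraticMap.map_smul, qa', smul_zero]
    rw [hnear, QuadraticMap.map_add (⇑Q), QuadraticMap.map_smul, fr.qe, polar_smul_right,
      hρ0] at h1
    simpa using h1
  obtain ⟨h, hh, hhρ⟩ := trans_rel hQ hr fr rρ qρ hρ0 hρ
  have hsm : ∀ (c : F) (u : ι → F), BQ u (e 0) = 0 → BQ (c • u) (e 0) = 0 := by
    intro c u hu
    rw [polar_smul_left, hu, smul_zero]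
  have hhe : h ⋆ e 0 = e 0 := closure_gen_fix hQ hsm (fun u hu => hu) hh
  have hhL : h ∈ L := H.hHL (closure_gen_le_HS hQ H.hn hr _ hh)
  have hhi := H.iso hhL
  have hc2 := Conf.map H (⟨qa, qb, hab, hL⟩ : Conf hQ F₀ L a b) hhL
  have e1 : BQ (h ⋆ a) (e 0) = BQ a (e 0) := by
    conv_lhs => rw [← hhe]
    exact iso_B Q hhi a (e 0)
  have e2 : BQ (h ⋆ b) (e 0) = BQ b (e 0) := by
    conv_lhs => rw [← hhe]
    exact iso_B Q hhi b (e 0)
  have hb0' : BQ (h ⋆ b) (e 0) ≠ 0 := by rw [e2]; exact hb0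
  have h3 : lam • (h ⋆ a - (BQ (h ⋆ a) (e 0) / BQ (h ⋆ b) (e 0)) • (h ⋆ b)) =
      e 1 + c' • e 0 := by
    rw [e1, e2, ← hθ, ← mulVec_smul, ← mulVec_sub, ← ha', ← mulVec_smul, hnear, mulVec_add,
      mulVec_smul, hhρ, hhe]
  have hc'F := H.near_rat hc2 hb0' hlam h3
  exact ⟨lam⁻¹, ρ + c' • e 0, inv_ne_zero hlam, rρ.add ((fr.re 0).smul hc'F), ha'eq⟩

/-- once a point of the line is rational, the line is rational -/
theorem Hyp.near_line (H : Hyp hQ F₀ e f L) {a b : ι → F} (hc : Conf hQ F₀ L a b) {θ ν : F}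
    {a'' : ι → F} (hν : ν ≠ 0) (ra'' : Rt F₀ a'') (ha''0 : a'' ≠ 0)
    (h : a - θ • b = ν • a'') : ∃ c₃ : F, Rt F₀ (ν • b - c₃ • a'') := by
  obtain ⟨qa, qb, hab, hL⟩ := hc
  have qa' : Q (a - θ • b) = 0 := by
    have : a - θ • b = (1 : F) • a + (-θ) • b := by rw [neg_smul, one_smul]; abel
    rw [this]; exact Q_line qa qb hab _ _
  have qa'' : Q a'' = 0 := by
    rw [h, QuadraticMap.map_smul] at qa'
    rcases smul_eq_zero.mp qa' with h0 | h0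
    · exact absurd (mul_self_eq_zero.mp h0) hν
    · exact h0
  have h1 : BQ (a - θ • b) b = 0 := by
    rw [polar_sub_left, polar_smul_left, hab, polar_self_zero qb]; simp
  have h2 : BQ a'' b = 0 := by
    rw [h, polar_smul_left, smul_eq_mul] at h1
    rcases mul_eq_zero.mp h1 with h0 | h0
    · exact absurd h0 hν
    · exact h0
  have h3 : EE a ((1 : F) • b) ∈ L := hL 1 F₀.one_mem
  have h4 : BQ a'' ((1 : F) • b) = 0 := by rw [one_smul]; exact h2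
  rw [ee_shift qa qb hab 1 θ, h, ee_smul_left Q hQ qa'' h4, one_smul] at h3
  have h5 : BQ a'' (ν • b) = 0 := by rw [polar_smul_right, h2, smul_zero]
  exact H.Q_gen ra'' qa'' ha''0 h5 h3

/-- the main step: an element of `L` whose image of `e 1` is not orthogonal to `e 0` is rational -/
theorem Hyp.key (p : ℕ) [Fact p.Prime] [CharP F p] (H : Hyp hQ F₀ e f L) {g₀ : GL ι F} (hg₀ : g₀ ∈ L)
    (hb0 : BQ (g₀ ⋆ e 1) (e 0) ≠ 0) : g₀ ∈ HS Q F₀ := by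
  have fr := H.fr
  have hr := H.hr
  have hgi := H.iso hg₀
  obtain ⟨a, ha⟩ : ∃ a : ι → F, a = g₀ ⋆ e 0 := ⟨_, rfl⟩
  obtain ⟨b, hb⟩ : ∃ b : ι → F, b = g₀ ⋆ e 1 := ⟨_, rfl⟩
  rw [← hb] at hb0
  have hconf : Conf hQ F₀ L a b := by
    refine ⟨by rw [ha, iso_Q Q hgi, fr.qe], by rw [hb, iso_Q Q hgi, fr.qe],
      by rw [ha, hb, iso_B Q hgi, fr.bee], ?_⟩
    intro t ht
    have h1 : BQ (e 0) (t • e 1) = 0 := by rw [polar_smul_right, fr.bee, smul_zero]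
    have h2 : g₀ * EE (e 0) (t • e 1) * g₀⁻¹ ∈ L :=
      L.mul_mem (L.mul_mem hg₀ (H.ee_mem (fr.qe 0) h1 (fr.re 0) ((fr.re 1).smul ht)))
        (L.inv_mem hg₀)
    rwa [conj_ee Q hQ hgi (fr.qe 0) h1, mulVec_smul, ← ha, ← hb] at h2
  obtain ⟨qa, qb, hab, hL⟩ := hconf
  obtain ⟨θ, hθ⟩ : ∃ θ : F, θ = BQ a (e 0) / BQ b (e 0) := ⟨_, rfl⟩
  obtain ⟨x', hx'⟩ : ∃ x' : ι → F, x' = e 0 - θ • e 1 := ⟨_, rfl⟩
  have hx'0 : x' ≠ 0 := by
    intro h0
    have h1 : BQ x' (f 0) = 1 := by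
      rw [hx', polar_sub_left, polar_smul_left, fr.bef_same, fr.bef_ne (by decide)]; simp
    rw [h0, polar_zero_left] at h1
    exact zero_ne_one h1
  have ha' : a - θ • b = g₀ ⋆ x' := by
    rw [ha, hb, hx', mulVec_sub, mulVec_smul]
  have ha'0 : a - θ • b ≠ 0 := by rw [ha']; exact gl_act_ne_zero g₀ hx'0
  obtain ⟨ν, a'', hν, ra'', hνa⟩ :=
    H.near_pt p (⟨qa, qb, hab, hL⟩ : Conf hQ F₀ L a b) hb0 (by rw [← hθ]; exact ha'0)
  rw [← hθ] at hνa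
  have ha''0 : a'' ≠ 0 := by
    rintro rfl
    rw [smul_zero] at hνa
    exact ha'0 hνa
  obtain ⟨c₃, rρb⟩ :=
    H.near_line (⟨qa, qb, hab, hL⟩ : Conf hQ F₀ L a b) hν ra'' ha''0 hνa
  obtain ⟨ρb, hρb⟩ : ∃ ρb : ι → F, ρb = ν • b - c₃ • a'' := ⟨_, rfl⟩
  rw [← hρb] at rρb
  have qa' : Q (a - θ • b) = 0 := by
    have : a - θ • b = (1 : F) • a + (-θ) • b := by rw [neg_smul, one_smul]; abel
    rw [this]; exact Q_line qa qb hab _ _
  have qa'' : Q a'' = 0 := by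
    rw [hνa, QuadraticMap.map_smul] at qa'
    rcases smul_eq_zero.mp qa' with h0 | h0
    · exact absurd (mul_self_eq_zero.mp h0) hν
    · exact h0
  have hba'' : BQ b a'' = 0 := by
    have h1 : BQ b (a - θ • b) = 0 := by
      rw [polar_sub_right, polar_smul_right, polar_comm (⇑Q) b a, hab, polar_self_zero qb]
      simp
    rw [hνa, polar_smul_right, smul_eq_mul] at h1
    rcases mul_eq_zero.mp h1 with h0 | h0
    · exact absurd h0 hν
    · exact h0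
  have qρb : Q ρb = 0 := by
    have : ρb = ν • b + (-c₃) • a'' := by rw [hρb, neg_smul]; abel
    rw [this]; exact Q_line qb qa'' hba'' _ _
  have hρba : BQ ρb a'' = 0 := by
    rw [hρb, polar_sub_left, polar_smul_left, polar_smul_left, hba'', polar_self_zero qa'']
    simp
  -- move the rational line to the standard line
  obtain ⟨h₁, hh₁, hh₁a⟩ := trans_abs hQ hr fr ra'' qa'' ha''0
  have hsm₁ : ∀ (c : F) (u : ι → F), True → True := fun _ _ _ => trivial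
  have hh₁L : h₁ ∈ L := H.hHL (closure_gen_le_HS hQ H.hn hr _ hh₁)
  have hh₁i := H.iso hh₁L
  obtain ⟨ρ₁, hρ₁⟩ : ∃ ρ₁ : ι → F, ρ₁ = h₁ ⋆ ρb := ⟨_, rfl⟩
  have rρ₁ : Rt F₀ ρ₁ := by rw [hρ₁]; exact closure_gen_rt hQ hr hsm₁ hh₁ _ rρb
  have qρ₁ : Q ρ₁ = 0 := by rw [hρ₁, iso_Q Q hh₁i, qρb]
  have hρ₁0 : BQ ρ₁ (e 0) = 0 := by rw [hρ₁, ← hh₁a, iso_B Q hh₁i, hρba]
  have hρ₁ne : ∀ c : F, ρ₁ ≠ c • e 0 := by
    intro c hcon
    have h1 : ρb = c • a'' := by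
      have h2 : h₁⁻¹ ⋆ ρ₁ = h₁⁻¹ ⋆ (c • e 0) := by rw [hcon]
      rwa [hρ₁, gl_inv_act, mulVec_smul, ← hh₁a, gl_inv_act] at h2
    have h2 : ν • b = (c + c₃) • a'' := by
      rw [hρb] at h1
      rw [add_smul, ← h1]; abel
    have h3 : b = ((c + c₃) * ν⁻¹ * ν⁻¹) • (a - θ • b) := by
      rw [hνa, smul_smul]
      have : (c + c₃) * ν⁻¹ * ν⁻¹ * ν = ν⁻¹ * (c + c₃) := by field_simp
      rw [this, mul_smul, ← h2, smul_smul, inv_mul_cancel₀ hν, one_smul]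
    rw [ha', hb, ← mulVec_smul] at h3
    have h4 : e 1 = ((c + c₃) * ν⁻¹ * ν⁻¹) • x' := by
      have h5 : g₀⁻¹ ⋆ (g₀ ⋆ e 1) =
          g₀⁻¹ ⋆ (g₀ ⋆ (((c + c₃) * ν⁻¹ * ν⁻¹) • x')) := by rw [← h3]
      rwa [gl_inv_act, gl_inv_act] at h5
    have h5 : BQ (e 1) (f 0) = BQ (((c + c₃) * ν⁻¹ * ν⁻¹) • x') (f 0) := by rw [← h4]
    rw [fr.bef_ne (by decide), polar_smul_left, hx', polar_sub_left, polar_smul_left,
      fr.bef_same, fr.bef_ne (by decide)] at h5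
    have h6 : (c + c₃) * ν⁻¹ * ν⁻¹ = 0 := by
      have : (0 : F) = (c + c₃) * ν⁻¹ * ν⁻¹ := by simpa using h5
      exact this.symm
    rw [h6, zero_smul] at h4
    exact fr.e_ne_zero 1 h4
  obtain ⟨h₂, hh₂, hh₂ρ⟩ := trans_rel hQ hr fr rρ₁ qρ₁ hρ₁0 hρ₁ne
  have hsm₂ : ∀ (c : F) (u : ι → F), BQ u (e 0) = 0 → BQ (c • u) (e 0) = 0 := by
    intro c u hu
    rw [polar_smul_left, hu, smul_zero]
  have hh₂e : h₂ ⋆ e 0 = e 0 := closure_gen_fix hQ hsm₂ (fun u hu => hu) hh₂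
  have hh₂L : h₂ ∈ L := H.hHL (closure_gen_le_HS hQ H.hn hr _ hh₂)
  obtain ⟨h, hh⟩ : ∃ h : GL ι F, h = h₂ * h₁ := ⟨_, rfl⟩
  have hhL : h ∈ L := by rw [hh]; exact L.mul_mem hh₂L hh₁L
  have hhHS : h ∈ HS Q F₀ := by
    rw [hh]
    exact Subgroup.mul_mem _ (closure_gen_le_HS hQ H.hn hr _ hh₂)
      (closure_gen_le_HS hQ H.hn hr _ hh₁)
  have hha'' : h ⋆ a'' = e 0 := by rw [hh, gl_mul_act, hh₁a, hh₂e]
  have hhρb : h ⋆ ρb = e 1 := by rw [hh, gl_mul_act, ← hρ₁, hh₂ρ]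
  -- the images of `e 0`
  have hbdec : b = ν⁻¹ • (ρb + c₃ • a'') := by
    rw [hρb, sub_add_cancel, smul_smul, inv_mul_cancel₀ hν, one_smul]
  have hadec : a = ν • a'' + θ • b := by rw [← hνa]; abel
  have h1 : (h * g₀) ⋆ e 0 = (ν + θ * ν⁻¹ * c₃) • e 0 + (θ * ν⁻¹) • e 1 := by
    rw [gl_mul_act, ← ha, hadec, hbdec, mulVec_add, mulVec_smul, mulVec_smul, mulVec_smul,
      mulVec_add, mulVec_smul, hha'', hhρb]
    module
  have h2 : (h * g₀)⁻¹ ⋆ e 0 = ν⁻¹ • e 0 + (-(ν⁻¹ * θ)) • e 1 := by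
    have h3 : h⁻¹ ⋆ e 0 = a'' := by rw [← hha'', gl_inv_act]
    have h4 : g₀⁻¹ ⋆ a'' = ν⁻¹ • x' := by
      have h5 : a'' = ν⁻¹ • (g₀ ⋆ x') := by
        rw [← ha', hνa, smul_smul, inv_mul_cancel₀ hν, one_smul]
      rw [h5, mulVec_smul, gl_inv_act]
    rw [_root_.mul_inv_rev, gl_mul_act, h3, h4, hx']
    module
  have h3 := H.line_rat (L.mul_mem hhL hg₀) h1 h2
  have h4 : g₀ = h⁻¹ * (h * g₀) := by group
  rw [h4]
  exact Subgroup.mul_mem _ (Subgroup.inv_mem _ hhHS) h3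

/-- an overgroup with rational root parameters is contained in the subfield group -/
theorem Hyp.le_HS (p : ℕ) [Fact p.Prime] [CharP F p] (H : Hyp hQ F₀ e f L) : L ≤ HS Q F₀ := by
  intro g₀ hg₀
  have fr := H.fr
  have hr := H.hr
  have hb : g₀ ⋆ e 1 ≠ 0 := gl_act_ne_zero g₀ (fr.e_ne_zero 1)
  obtain ⟨p₁, rp₁, qp₁, hp₁⟩ := exists_rt_sing_polar_ne (hQ := hQ) hr fr hb
  have hp₁0 : p₁ ≠ 0 := by
    rintro rfl
    rw [polar_zero_left] at hp₁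
    exact hp₁ rfl
  obtain ⟨h₀, hh₀, hh₀p⟩ := trans_abs hQ hr fr rp₁ qp₁ hp₁0
  have hh₀HS : h₀ ∈ HS Q F₀ := closure_gen_le_HS hQ H.hn hr _ hh₀
  have hh₀L : h₀ ∈ L := H.hHL hh₀HS
  have hh₀i := H.iso hh₀L
  have h1 : BQ ((h₀ * g₀) ⋆ e 1) (e 0) ≠ 0 := by
    rw [gl_mul_act, ← hh₀p, iso_B Q hh₀i, polar_comm]
    exact hp₁
  have h2 := H.key p (L.mul_mem hh₀L hg₀) h1
  have h3 : g₀ = h₀⁻¹ * (h₀ * g₀) := by group
  rw [h3]
  exact Subgroup.mul_mem _ (Subgroup.inv_mem _ hh₀HS) h2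

end Cfsg.Agent.Lib.Helper42.OSub
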