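import Mathlib
import Cfsg.Agent.Lib.Helper42.OSubG

set_option autoImplicit false
set_option linter.unusedSectionVars false
set_option linter.unusedVariables false
set_option linter.style.haveILetI false
set_option linter.unusedSimpArgs false

/-!
Subfield subgroups of orthogonal groups: the root parameters of an overgroup form a subfield, and
an overgroup with all root parameters is `Ω`.
-/

namespace Cfsg.Agent.Lib.Helper42.OSub

open Matrix QuadraticMap Cfsg.Agent.Lib.Helper8 Cfsg.Agent.Lib.Helper13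
  Cfsg.Agent.Lib.Helper42.Subf

variable {ι : Type} [Fintype ι] [DecidableEq ι] {F : Type*} [Field F] [Fintype F]
variable {Q : QuadraticForm F (ι → F)} {hQ : (QuadraticMap.polarBilin Q).Nondegenerate}
variable {F₀ : Subfield F} {e f : Fin 4 → ι → F} {L : Subgroup (GL ι F)}

set_option quotPrecheck false in
local notation "BQ" => QuadraticMap.polar (⇑Q)
local notation "EE" => ee Q hQ
local notation:70 g:70 " ⋆ " x:71 => Matrix.mulVec (Units.val g) x

/-- the standing hypotheses on an overgroup, without the hypothesis on the root parameters -/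
structure Ctx (hQ : (QuadraticMap.polarBilin Q).Nondegenerate) (F₀ : Subfield F) (e f : Fin 4 → ι → F) (L : Subgroup (GL ι F)) : Prop where
  hn : 7 ≤ Fintype.card ι
  hr : RatForm Q F₀
  fr : Frame Q F₀ e f
  hHL : HS Q F₀ ≤ L
  hLΩ : L ≤ Cfsg.Geo.omegaGL (⇑Q)

theorem Ctx.iso (C : Ctx hQ F₀ e f L) {g : GL ι F} (hg : g ∈ L) :
    g ∈ Cfsg.isometryGroup F (⇑Q) := omega_le_iso (C.hLΩ hg)

theorem Ctx.ee_mem (C : Ctx hQ F₀ e f L) {u v : ι → F} (hu : Q u = 0) (huv : BQ u v = 0)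
    (ru : Rt F₀ u) (rv : Rt F₀ v) : EE u v ∈ L :=
  C.hHL (ee_mem_HS hQ C.hn C.hr hu huv ru rv)

/-- the commutator of two elements of `L` of Eichler type -/
theorem Ctx.comm_mem (C : Ctx hQ F₀ e f L) {e₁ e₂ w w' : ι → F} (h1 : Q e₁ = 0)
    (h2 : Q e₂ = 0) (h12 : BQ e₁ e₂ = 0) (h1w : BQ e₁ w = 0) (h2w : BQ e₂ w = 0)
    (h1w' : BQ e₁ w' = 0) (h2w' : BQ e₂ w' = 0) (hL : EE e₁ w ∈ L) (hL' : EE e₂ w' ∈ L) :
    EE e₁ (-BQ w' w • e₂) ∈ L := by
  rw [← ee_comm Q hQ h1 h2 h12 h1w h2w h1w' h2w']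
  exact L.mul_mem (L.mul_mem (L.mul_mem hL' hL) (L.inv_mem hL')) (L.inv_mem hL)

/-- the set of root parameters -/
def Par (hQ : (QuadraticMap.polarBilin Q).Nondegenerate) (e : Fin 4 → ι → F)
    (L : Subgroup (GL ι F)) : Set F := {t | ee Q hQ (e 0) (t • e 1) ∈ L}

theorem Ctx.par_mul (C : Ctx hQ F₀ e f L) {s t : F} (hs : s ∈ Par hQ e L)
    (ht : t ∈ Par hQ e L) : s * t ∈ Par hQ e L := by
  have fr := C.fr
  -- first step
  have h1 : EE (e 0) (-t • f 2) ∈ L := by
    have := C.comm_mem (e₁ := e 0) (e₂ := f 2) (w := t • e 1) (w' := f 1) (fr.qe 0) (fr.qf 2)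
      (fr.bef_ne (by decide))
      (by rw [polar_smul_right, fr.bee, smul_zero])
      (by rw [polar_smul_right, fr.bfe_ne (by decide), smul_zero])
      (fr.bef_ne (by decide)) (fr.bff 2 1) ht
      (C.ee_mem (fr.qf 2) (fr.bff 2 1) (fr.rf 2) (fr.rf 1))
    rwa [polar_smul_right, fr.bfe_same, smul_eq_mul, mul_one] at this
  -- second step
  have h2 : EE (e 1) (s • e 2) ∈ L := by
    have h3 : EE (e 0) (s • e 1) = EE (e 1) (-s • e 0) := by
      have q1 : Q (s • e 1) = 0 := by rw [QuadraticMap.map_smul, fr.qe, smul_zero]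
      have b1 : BQ (e 0) (s • e 1) = 0 := by rw [polar_smul_right, fr.bee, smul_zero]
      have b2 : BQ (e 1) (-e 0) = 0 := by rw [polar_neg_right, fr.bee, neg_zero]
      rw [ee_swap Q hQ (fr.qe 0) q1 b1, ee_smul_left Q hQ (fr.qe 1) b2, smul_neg, neg_smul]
    have h4 : EE (e 1) (-s • e 0) ∈ L := by rw [← h3]; exact hs
    have := C.comm_mem (e₁ := e 1) (e₂ := e 2) (w := -s • e 0) (w' := f 0) (fr.qe 1) (fr.qe 2)
      (fr.bee 1 2)
      (by rw [polar_smul_right, fr.bee, smul_zero])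
      (by rw [polar_smul_right, fr.bee, smul_zero])
      (fr.bef_ne (by decide)) (fr.bef_ne (by decide)) h4
      (C.ee_mem (fr.qe 2) (fr.bef_ne (by decide)) (fr.re 2) (fr.rf 0))
    rwa [polar_smul_right, fr.bfe_same, smul_eq_mul, mul_one, neg_neg] at this
  -- third step
  have := C.comm_mem (e₁ := e 0) (e₂ := e 1) (w := -t • f 2) (w' := s • e 2) (fr.qe 0) (fr.qe 1)
    (fr.bee 0 1)
    (by rw [polar_smul_right, fr.bef_ne (by decide), smul_zero])
    (by rw [polar_smul_right, fr.bef_ne (by decide), smul_zero])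
    (by rw [polar_smul_right, fr.bee, smul_zero])
    (by rw [polar_smul_right, fr.bee, smul_zero]) h1 h2
  rw [polar_smul_left, polar_smul_right, fr.bef_same] at this
  show EE (e 0) ((s * t) • e 1) ∈ L
  have h5 : -(s • -t • (1 : F)) = s * t := by
    simp only [smul_eq_mul, mul_one]; ring
  rwa [h5] at this

theorem Ctx.par_zero (C : Ctx hQ F₀ e f L) : (0 : F) ∈ Par hQ e L := by
  show EE (e 0) ((0 : F) • e 1) ∈ L
  rw [zero_smul, ee_zero]
  exact L.one_mem

theorem Ctx.par_add (C : Ctx hQ F₀ e f L) {s t : F} (hs : s ∈ Par hQ e L)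
    (ht : t ∈ Par hQ e L) : s + t ∈ Par hQ e L := by
  have fr := C.fr
  show EE (e 0) ((s + t) • e 1) ∈ L
  have b1 : ∀ c : F, BQ (e 0) (c • e 1) = 0 := fun c => by
    rw [polar_smul_right, fr.bee, smul_zero]
  rw [add_smul, ← ee_mul Q hQ (fr.qe 0) (b1 s) (b1 t)]
  exact L.mul_mem hs ht

theorem Ctx.par_neg (C : Ctx hQ F₀ e f L) {s : F} (hs : s ∈ Par hQ e L) :
    -s ∈ Par hQ e L := by
  have fr := C.fr
  show EE (e 0) ((-s) • e 1) ∈ L
  have b1 : BQ (e 0) (s • e 1) = 0 := by rw [polar_smul_right, fr.bee, smul_zero]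
  rw [neg_smul, ← ee_inv Q hQ (fr.qe 0) b1]
  exact L.inv_mem hs

theorem Ctx.par_of_mem (C : Ctx hQ F₀ e f L) {s : F} (hs : s ∈ F₀) : s ∈ Par hQ e L := by
  have fr := C.fr
  exact C.ee_mem (fr.qe 0) (by rw [polar_smul_right, fr.bee, smul_zero]) (fr.re 0)
    ((fr.re 1).smul hs)

theorem Ctx.par_pow (C : Ctx hQ F₀ e f L) {s : F} (hs : s ∈ Par hQ e L) (k : ℕ) :
    s ^ k ∈ Par hQ e L := by
  induction k with
  | zero => rw [pow_zero]; exact C.par_of_mem F₀.one_mem
  | succ k ih => rw [pow_succ]; exact C.par_mul ih hs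

/-- the field of root parameters -/
def Ctx.parField (C : Ctx hQ F₀ e f L) : Subfield F where
  carrier := Par hQ e L
  mul_mem' := fun ha hb => C.par_mul ha hb
  one_mem' := C.par_of_mem F₀.one_mem
  add_mem' := fun ha hb => C.par_add ha hb
  zero_mem' := C.par_zero
  neg_mem' := fun ha => C.par_neg ha
  inv_mem' := by
    intro c hc
    by_cases h0 : c = 0
    · rw [h0, _root_.inv_zero]; exact C.par_zero
    · have h1 := FiniteField.pow_card_sub_one_eq_one c h0
      have h2 : 2 ≤ Fintype.card F := Fintype.one_lt_card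
      have h4 : c⁻¹ = c ^ (Fintype.card F - 2) := by
        apply inv_eq_of_mul_eq_one_right
        rw [← pow_succ', show Fintype.card F - 2 + 1 = Fintype.card F - 1 by omega]
        exact h1
      show c⁻¹ ∈ Par hQ e L
      rw [h4]
      exact C.par_pow hc _

theorem Ctx.mem_parField (C : Ctx hQ F₀ e f L) (t : F) :
    t ∈ C.parField ↔ EE (e 0) (t • e 1) ∈ L := Iff.rfl

theorem Ctx.le_parField (C : Ctx hQ F₀ e f L) : F₀ ≤ C.parField :=
  fun _ hs => C.par_of_mem hs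

/-! ### all root parameters -/

/-- all Eichler transformations at `e 0` lie in `L` once all root parameters occur -/
theorem Ctx.all_e0 (C : Ctx hQ F₀ e f L) (htop : ∀ t : F, EE (e 0) (t • e 1) ∈ L) {v : ι → F}
    (hv : BQ (e 0) v = 0) : EE (e 0) v ∈ L := by
  have fr := C.fr
  have hr := C.hr
  -- rational singular vectors
  have s1 : ∀ (y : ι → F), Rt F₀ y → Q y = 0 → BQ y (e 0) = 0 → ∀ t : F,
      EE (e 0) (t • y) ∈ L := by
    intro y ry qy hy0 t
    by_cases hy : ∃ c : F, y = c • e 0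
    · obtain ⟨c, rfl⟩ := hy
      have h1 : t • c • e 0 = 0 + (t * c) • e 0 := by rw [zero_add, smul_smul]
      rw [h1, ee_add_smul Q hQ (fr.qe 0) (by rw [polar_zero_right]), ee_zero]
      exact L.one_mem
    push Not at hy
    obtain ⟨h, hh, hhy⟩ := trans_rel hQ hr fr ry qy hy0 hy
    have hsm : ∀ (c : F) (u : ι → F), BQ u (e 0) = 0 → BQ (c • u) (e 0) = 0 := by
      intro c u hu
      rw [polar_smul_left, hu, smul_zero]
    have hhe : h ⋆ e 0 = e 0 := closure_gen_fix hQ hsm (fun u hu => hu) hh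
    have hhL : h ∈ L := C.hHL (closure_gen_le_HS hQ C.hn hr _ hh)
    have h0y : BQ (e 0) (t • y) = 0 := by rw [polar_smul_right, polar_comm, hy0, smul_zero]
    have h1 : h * EE (e 0) (t • y) * h⁻¹ = EE (e 0) (t • e 1) := by
      rw [conj_ee Q hQ (C.iso hhL) (fr.qe 0) h0y, hhe, mulVec_smul, hhy]
    have h2 : EE (e 0) (t • y) = h⁻¹ * (h * EE (e 0) (t • y) * h⁻¹) * h := by group
    rw [h2, h1]
    exact L.mul_mem (L.mul_mem (L.inv_mem hhL) (htop t)) hhL
  -- rational vectors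
  have s2 : ∀ (b' : ι → F), Rt F₀ b' → BQ b' (e 0) = 0 → ∀ t : F, EE (e 0) (t • b') ∈ L := by
    intro b' rb hb0 t
    obtain ⟨q, hq⟩ : ∃ q : ι → F, q = hp Q (e 1) (f 1) b' := ⟨_, rfl⟩
    have rq : Rt F₀ q := by rw [hq]; exact hp_rt hr (fr.re 1) (fr.rf 1) rb
    have hqe : BQ q (e 1) = 0 := by rw [hq]; exact hp_perp_left (fr.qe 1) (fr.bef_same 1) b'
    have hqf : BQ q (f 1) = 0 := by rw [hq]; exact hp_perp_right (fr.qf 1) (fr.bef_same 1) b'
    have hq0 : BQ q (e 0) = 0 := by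
      rw [hq, hp_polar (fr.bee 1 0) (fr.bfe_ne (by decide)), hb0]
    obtain ⟨w, hw⟩ : ∃ w : ι → F, w = e 1 + q - Q q • f 1 := ⟨_, rfl⟩
    have rw' : Rt F₀ w := by rw [hw]; exact ((fr.re 1).add rq).sub ((fr.rf 1).smul (hr _ rq))
    have qw : Q w = 0 := by
      rw [hw]; exact sing_add (fr.qe 1) (fr.qf 1) (fr.bef_same 1) hqe hqf
    have hw0 : BQ w (e 0) = 0 := by
      rw [hw, polar_sub_left, polar_add_left, polar_smul_left, fr.bee 1 0, hq0,
        fr.bfe_ne (by decide)]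
      simp
    have hdec : t • b' = t • w + ((t * (BQ b' (f 1) - 1)) • e 1 +
        (t * (BQ b' (e 1) + Q q)) • f 1) := by
      have := hp_decomp (Q := Q) (e 1) (f 1) b'
      rw [← hq] at this
      conv_lhs => rw [this]
      rw [hw]
      module
    have b0 : ∀ (c : F) (y : ι → F), BQ y (e 0) = 0 → BQ (e 0) (c • y) = 0 := by
      intro c y hy
      rw [polar_smul_right, polar_comm, hy, smul_zero]
    have h1 := s1 w rw' qw hw0 t
    have h2 := s1 (e 1) (fr.re 1) (fr.qe 1) (fr.bee 1 0) (t * (BQ b' (f 1) - 1))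
    have h3 := s1 (f 1) (fr.rf 1) (fr.qf 1) (fr.bfe_ne (by decide)) (t * (BQ b' (e 1) + Q q))
    have h4 := L.mul_mem h2 h3
    rw [ee_mul Q hQ (fr.qe 0) (b0 _ _ (fr.bee 1 0)) (b0 _ _ (fr.bfe_ne (by decide)))] at h4
    have h5 := L.mul_mem h1 h4
    rw [ee_mul Q hQ (fr.qe 0) (b0 _ _ hw0) (by
      rw [polar_add_right, b0 _ _ (fr.bee 1 0), b0 _ _ (fr.bfe_ne (by decide)), add_zero])]
      at h5
    rwa [hdec]
  -- arbitrary vectors
  obtain ⟨bb, hbb⟩ : ∃ bb : ι → ι → F,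
      bb = fun i => Pi.single i 1 - BQ (Pi.single i 1) (e 0) • f 0 := ⟨_, rfl⟩
  have rbb : ∀ i, Rt F₀ (bb i) := by
    intro i
    rw [hbb]
    exact (Rt.single i).sub ((fr.rf 0).smul (hr.polar (Rt.single i) (fr.re 0)))
  have hbb0 : ∀ i, BQ (bb i) (e 0) = 0 := by
    intro i
    rw [hbb]
    show BQ (Pi.single i 1 - BQ (Pi.single i 1) (e 0) • f 0) (e 0) = 0
    rw [polar_sub_left, polar_smul_left, fr.bfe_same]
    simp
  have hsum : v = ∑ i, v i • bb i := by
    have h1 : (∑ i, v i • bb i) = (∑ i, v i • (Pi.single i (1 : F) : ι → F)) -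
        (∑ i, v i * BQ (Pi.single i 1) (e 0)) • f 0 := by
      rw [Finset.sum_smul, ← Finset.sum_sub_distrib]
      refine Finset.sum_congr rfl fun i _ => ?_
      rw [hbb]
      show v i • (Pi.single i 1 - BQ (Pi.single i 1) (e 0) • f 0) = _
      rw [smul_sub, smul_smul]
    rw [h1, sum_smul_single, ← polar_sum_left, polar_comm, hv, zero_smul, sub_zero]
  have hfin : ∀ s : Finset ι, BQ (e 0) (∑ i ∈ s, v i • bb i) = 0 ∧
      EE (e 0) (∑ i ∈ s, v i • bb i) ∈ L := by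
    intro s
    induction s using Finset.induction_on with
    | empty =>
      rw [Finset.sum_empty, ee_zero]
      exact ⟨polar_zero_right _ _, L.one_mem⟩
    | insert a s ha ih =>
      rw [Finset.sum_insert ha]
      have h1 : BQ (e 0) (v a • bb a) = 0 := by
        rw [polar_smul_right, polar_comm, hbb0, smul_zero]
      refine ⟨by rw [polar_add_right, h1, ih.1, add_zero], ?_⟩
      rw [← ee_mul Q hQ (fr.qe 0) h1 ih.1]
      exact L.mul_mem (s2 _ (rbb a) (hbb0 a) _) ih.2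
  rw [hsum]
  exact (hfin Finset.univ).2

/-- all Eichler transformations at `f 0` lie in `L` once all root parameters occur -/
theorem Ctx.all_f0 (C : Ctx hQ F₀ e f L) (htop : ∀ t : F, EE (e 0) (t • e 1) ∈ L) {v : ι → F}
    (hv : BQ (f 0) v = 0) : EE (f 0) v ∈ L := by
  have fr := C.fr
  obtain ⟨h, hh, hhf⟩ := trans_abs hQ C.hr fr (fr.rf 0) (fr.qf 0) (fr.f_ne_zero 0)
  have hhL : h ∈ L := C.hHL (closure_gen_le_HS hQ C.hn C.hr _ hh)
  have hhi := C.iso hhL
  have h1 : h * EE (f 0) v * h⁻¹ = EE (e 0) (h ⋆ v) := by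
    rw [conj_ee Q hQ hhi (fr.qf 0) hv, hhf]
  have h2 : BQ (e 0) (h ⋆ v) = 0 := by rw [← hhf, iso_B Q hhi, hv]
  have h3 : EE (f 0) v = h⁻¹ * (h * EE (f 0) v * h⁻¹) * h := by group
  rw [h3, h1]
  exact L.mul_mem (L.mul_mem (L.inv_mem hhL) (C.all_e0 htop h2)) hhL

end Cfsg.Agent.Lib.Helper42.OSub
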