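import Mathlib
import Cfsg.Agent.Lib.Helper42.OSubH

set_option autoImplicit false
set_option linter.unusedSectionVars false
set_option linter.unusedVariables false
set_option linter.style.haveILetI false
set_option linter.unusedSimpArgs false

/-!
Subfield subgroups of orthogonal groups: an overgroup with all root parameters contains `Ω`, and
the maximality of the rational group.
-/

namespace Cfsg.Agent.Lib.Helper42.OSub

open Matrix QuadraticMap Cfsg.Agent.Lib.Helper8 Cfsg.Agent.Lib.Helper13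
  Cfsg.Agent.Lib.Helper42.Subf

variable {ι : Type} [Fintype ι] [DecidableEq ι] {F : Type*} [Field F] [Fintype F]
variable {Q : QuadraticForm F (ι → F)} {hQ : (QuadraticMap.polarBilin Q).Nondegenerate}
variable {F₀ : Subfield F} {e f : Fin 4 → ι → F} {L : Subgroup (GL ι F)}

set_option quotPrecheck false in
local notation "BQ" => QuadraticMap.polar (⇑Q)
local notation "EE" => ee Q hQ
local notation:70 g:70 " ⋆ " x:71 => Matrix.mulVec (Units.val g) x

/-- transport of the second vector of a hyperbolic pair -/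
theorem ee_hp_act {a b x : ι → F} (ha : Q a = 0) (hb : Q b = 0) (hab : BQ a b = 1)
    (hx : Q x = 0) (hax : BQ a x = 1) : EE a (hp Q a b x) ⋆ b = x := by
  obtain ⟨w, hw⟩ : ∃ w : ι → F, w = hp Q a b x := ⟨_, rfl⟩
  obtain ⟨α, hα⟩ : ∃ α : F, α = BQ x b := ⟨_, rfl⟩
  have hwa : BQ w a = 0 := by rw [hw]; exact hp_perp_left ha hab x
  have hwb : BQ w b = 0 := by rw [hw]; exact hp_perp_right hb hab x
  have haw : BQ a w = 0 := by rw [polar_comm]; exact hwa
  have hdec : x = w + (α • a + b) := by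
    have := hp_decomp (Q := Q) a b x
    rw [← hw, ← hα, polar_comm (⇑Q) x a, hax, one_smul] at this
    rw [add_assoc] at this
    exact this
  have hQw : Q w = -α := by
    have h1 : Q x = Q w + α := by
      conv_lhs => rw [hdec]
      rw [QuadraticMap.map_add (⇑Q) w, QuadraticMap.map_add (⇑Q) (α • a) b,
        QuadraticMap.map_smul, ha, hb, polar_smul_left, hab, polar_add_right, polar_smul_right,
        hwa, hwb]
      simp
    rw [hx] at h1
    exact eq_neg_of_add_eq_zero_left h1.symm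
  rw [← hw, ee_mulVec Q hQ ha haw, hab, hwb, hQw]
  conv_rhs => rw [hdec]
  module

theorem ee_of_not {u v : ι → F} (h : ¬ (Q u = 0 ∧ BQ u v = 0)) : EE u v = 1 := by
  unfold ee
  rw [dif_neg h]

theorem ee_zero_left (v : ι → F) : EE 0 v = 1 := by
  by_cases h : Q (0 : ι → F) = 0 ∧ BQ 0 v = 0
  · apply gl_ext
    intro x
    rw [ee_mulVec Q hQ h.1 h.2, Units.val_one, one_mulVec]
    simp
  · exact ee_of_not h

/-- every singular point can be moved to `⟨e 0⟩` inside `L` -/
theorem Ctx.reach (C : Ctx hQ F₀ e f L) (htop : ∀ t : F, EE (e 0) (t • e 1) ∈ L) {u : ι → F}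
    (hu : Q u = 0) (hne : u ≠ 0) : ∃ k ∈ L, ∃ c : F, k ⋆ u = c • e 0 := by
  have fr := C.fr
  -- the case where `u` is not orthogonal to `e 0`
  have stepA : ∀ u : ι → F, Q u = 0 → BQ (e 0) u ≠ 0 → ∃ k ∈ L, ∃ c : F, k ⋆ u = c • e 0 := by
    intro u hu hδ
    obtain ⟨δ, hδ'⟩ : ∃ δ : F, δ = BQ (e 0) u := ⟨_, rfl⟩
    rw [← hδ'] at hδ
    obtain ⟨x, hx⟩ : ∃ x : ι → F, x = δ⁻¹ • u := ⟨_, rfl⟩
    have qx : Q x = 0 := by rw [hx, QuadraticMap.map_smul, hu, smul_zero]
    have h0x : BQ (e 0) x = 1 := by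
      rw [hx, polar_smul_right, ← hδ', smul_eq_mul, inv_mul_cancel₀ hδ]
    have hux : u = δ • x := by rw [hx, smul_smul, mul_inv_cancel₀ hδ, one_smul]
    obtain ⟨w, hw⟩ : ∃ w : ι → F, w = hp Q (e 0) (f 0) x := ⟨_, rfl⟩
    have hw0 : BQ (e 0) w = 0 := by
      rw [hw, polar_comm]; exact hp_perp_left (fr.qe 0) (fr.bef_same 0) x
    have h1 : EE (e 0) w ⋆ f 0 = x := by
      rw [hw]; exact ee_hp_act (fr.qe 0) (fr.qf 0) (fr.bef_same 0) qx h0x
    have hL1 : EE (e 0) w ∈ L := C.all_e0 htop hw0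
    obtain ⟨h, hh, hhf⟩ := trans_abs hQ C.hr fr (fr.rf 0) (fr.qf 0) (fr.f_ne_zero 0)
    have hhL : h ∈ L := C.hHL (closure_gen_le_HS hQ C.hn C.hr _ hh)
    refine ⟨h * (EE (e 0) w)⁻¹, L.mul_mem hhL (L.inv_mem hL1), δ, ?_⟩
    rw [gl_mul_act, hux, ← h1, mulVec_smul, gl_inv_act, mulVec_smul, hhf]
  by_cases hδ : BQ (e 0) u = 0
  · by_cases hβ : BQ (f 0) u = 0
    · -- both vanish
      obtain ⟨z, _, hz⟩ := exists_rt_polar_ne (F₀ := F₀) hQ hne
      obtain ⟨w, hw⟩ : ∃ w : ι → F, w = hp Q (e 0) (f 0) z := ⟨_, rfl⟩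
      have hwu : BQ w u = BQ z u := by rw [hw]; exact hp_polar hδ hβ z
      have hfw : BQ (f 0) w = 0 := by
        rw [hw, polar_comm]; exact hp_perp_right (fr.qf 0) (fr.bef_same 0) z
      have hL1 : EE (f 0) w ∈ L := C.all_f0 htop hfw
      have hact : EE (f 0) w ⋆ u = u - BQ w u • f 0 := by
        rw [ee_mulVec Q hQ (fr.qf 0) hfw, hβ]
        simp
      have hq : Q (EE (f 0) w ⋆ u) = 0 := by rw [iso_Q Q (ee_mem_iso Q hQ _ _), hu]
      have hne' : BQ (e 0) (EE (f 0) w ⋆ u) ≠ 0 := by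
        rw [hact, polar_sub_right, polar_smul_right, hδ, fr.bef_same, hwu]
        simpa using hz
      obtain ⟨k, hk, c, hkc⟩ := stepA _ hq hne'
      refine ⟨k * EE (f 0) w, L.mul_mem hk hL1, c, ?_⟩
      rw [gl_mul_act, hkc]
    · obtain ⟨β, hβ'⟩ : ∃ β : F, β = BQ (f 0) u := ⟨_, rfl⟩
      rw [← hβ'] at hβ
      obtain ⟨x, hx⟩ : ∃ x : ι → F, x = β⁻¹ • u := ⟨_, rfl⟩
      have qx : Q x = 0 := by rw [hx, QuadraticMap.map_smul, hu, smul_zero]
      have h0x : BQ (f 0) x = 1 := by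
        rw [hx, polar_smul_right, ← hβ', smul_eq_mul, inv_mul_cancel₀ hβ]
      have hux : u = β • x := by rw [hx, smul_smul, mul_inv_cancel₀ hβ, one_smul]
      obtain ⟨w, hw⟩ : ∃ w : ι → F, w = hp Q (f 0) (e 0) x := ⟨_, rfl⟩
      have hw0 : BQ (f 0) w = 0 := by
        rw [hw, polar_comm]; exact hp_perp_left (fr.qf 0) (fr.bfe_same 0) x
      have h1 : EE (f 0) w ⋆ e 0 = x := by
        rw [hw]; exact ee_hp_act (fr.qf 0) (fr.qe 0) (fr.bfe_same 0) qx h0x
      have hL1 : EE (f 0) w ∈ L := C.all_f0 htop hw0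
      refine ⟨(EE (f 0) w)⁻¹, L.inv_mem hL1, β, ?_⟩
      rw [hux, ← h1, mulVec_smul, gl_inv_act]
  · exact stepA u hu hδ

/-- all Eichler transformations lie in `L` once all root parameters occur -/
theorem Ctx.all_sing (C : Ctx hQ F₀ e f L) (htop : ∀ t : F, EE (e 0) (t • e 1) ∈ L)
    (u v : ι → F) : EE u v ∈ L := by
  have fr := C.fr
  by_cases h : Q u = 0 ∧ BQ u v = 0
  · by_cases hu0 : u = 0
    · rw [hu0, ee_zero_left]; exact L.one_mem
    · obtain ⟨k, hk, c, hkc⟩ := C.reach htop h.1 hu0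
      have hki := C.iso hk
      have hc : c ≠ 0 := by
        rintro rfl
        rw [zero_smul] at hkc
        exact gl_act_ne_zero k hu0 hkc
      have h0 : BQ (e 0) (k ⋆ v) = 0 := by
        have h1 : BQ (k ⋆ u) (k ⋆ v) = 0 := by rw [iso_B Q hki, h.2]
        rw [hkc, polar_smul_left, smul_eq_mul] at h1
        rcases mul_eq_zero.mp h1 with h2 | h2
        · exact absurd h2 hc
        · exact h2
      have h1 : k * EE u v * k⁻¹ = EE (e 0) (c • (k ⋆ v)) := by
        rw [conj_ee Q hQ hki h.1 h.2, hkc, ee_smul_left Q hQ (fr.qe 0) h0]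
      have h2 : EE u v = k⁻¹ * (k * EE u v * k⁻¹) * k := by group
      rw [h2, h1]
      refine L.mul_mem (L.mul_mem (L.inv_mem hk) (C.all_e0 htop ?_)) hk
      rw [polar_smul_right, h0, smul_zero]
  · rw [ee_of_not h]; exact L.one_mem

/-- an overgroup with all root parameters contains `Ω` -/
theorem Ctx.omega_le (C : Ctx hQ F₀ e f L) (htop : ∀ t : F, EE (e 0) (t • e 1) ∈ L) :
    Cfsg.Geo.omegaGL (⇑Q) ≤ L := by
  have hfr : Module.finrank F (ι → F) = Fintype.card ι := Module.finrank_fintype_fun_eq_card F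
  have hn := C.hn
  show (commutator ↥(Cfsg.isometryGroup F (⇑Q))).map (Subgroup.subtype _) ≤ L
  rw [omega_eq_closure_longRoot Q hQ (by rw [hfr]; omega) (fun _ => by rw [hfr]; exact hn),
    Subgroup.map_le_iff_le_comap, Subgroup.closure_le]
  rintro g ⟨u, v, hu, huv, hv, rfl⟩
  show ((eichlerElt Q hQ u v hu huv : ↥(Cfsg.isometryGroup F (⇑Q))) : GL ι F) ∈ L
  rw [← ee_eq Q hQ hu huv]
  exact C.all_sing htop u v

/-- the rational group is maximal in `Ω` -/
theorem HS_isMaximalIn (hn : 7 ≤ Fintype.card ι) (hr : RatForm Q F₀) (fr : Frame Q F₀ e f)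
    (hQ : (QuadraticMap.polarBilin Q).Nondegenerate)
    (r : ℕ) (hrp : r.Prime) (hcard : Fintype.card F = Nat.card F₀ ^ r) :
    Cfsg.Geo.IsMaximalIn (Cfsg.Geo.omegaGL (⇑Q)) (HS Q F₀) := by
  haveI : Fintype F₀ := Fintype.ofFinite F₀
  have hq₀ : 2 ≤ Nat.card F₀ := by
    rw [Nat.card_eq_fintype_card]
    exact Fintype.one_lt_card
  refine ⟨lt_of_le_of_ne inf_le_right ?_, ?_⟩
  · -- proper
    intro heq
    have hex : ∃ c : F, c ∉ F₀ := by
      by_contra hcon
      push Not at hcon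
      have htop : F₀ = ⊤ := by
        rw [eq_top_iff]; exact fun x _ => hcon x
      have h1 : Nat.card F₀ = Fintype.card F := by
        rw [htop, ← Nat.card_eq_fintype_card]
        exact Nat.card_congr Subfield.topEquiv.toEquiv
      rw [hcard] at h1
      have h2 : Nat.card F₀ ^ 1 < Nat.card F₀ ^ r := Nat.pow_lt_pow_right hq₀ hrp.one_lt
      rw [pow_one] at h2
      omega
    obtain ⟨t, ht⟩ := hex
    have b1 : BQ (e 0) (t • e 1) = 0 := by rw [polar_smul_right, fr.bee, smul_zero]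
    have hmem : ee Q hQ (e 0) (t • e 1) ∈ HS Q F₀ := by
      rw [heq]; exact ee_mem_omega Q hQ hn _ _
    obtain ⟨μ, hμ0, hμ⟩ := act_of_mem_sub _ hmem.1
    have hμF : μ ∈ F₀ := by
      have h1 := hr.polar (hμ _ (fr.re 2)) (fr.rf 2)
      rw [ee_fix hQ (fr.qe 0) b1 (fr.bee 0 2)
        (by rw [polar_smul_left, fr.bee, smul_zero]), polar_smul_left, fr.bef_same,
        smul_eq_mul, mul_one] at h1
      exact h1
    have hact : ee Q hQ (e 0) (t • e 1) ⋆ f 0 = f 0 + t • e 1 := by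
      rw [ee_mulVec Q hQ (fr.qe 0) b1, fr.bef_same, one_smul, QuadraticMap.map_smul, fr.qe,
        polar_smul_left, fr.bef_ne (by decide)]
      simp
    have h2 := hr.polar (hμ _ (fr.rf 0)) (fr.rf 1)
    rw [hact, polar_smul_left, polar_add_left, fr.bff, polar_smul_left, fr.bef_same, zero_add,
      smul_eq_mul, smul_eq_mul, mul_one] at h2
    apply ht
    have : t = μ⁻¹ * (μ * t) := by rw [← mul_assoc, inv_mul_cancel₀ hμ0, one_mul]
    rw [this]
    exact F₀.mul_mem (F₀.inv_mem hμF) h2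
  · intro M hHM hMΩ
    have C : Ctx hQ F₀ e f M := ⟨hn, hr, fr, hHM, hMΩ⟩
    rcases subfield_dichotomy F₀ r hrp hcard C.parField C.le_parField with hB | hB
    · left
      have H : Hyp hQ F₀ e f M := by
        refine ⟨hn, hr, fr, hHM, hMΩ, ?_⟩
        intro t ht
        have h1 : t ∈ C.parField := (C.mem_parField t).mpr ht
        rwa [hB] at h1
      obtain ⟨p, hp'⟩ := CharP.exists F
      haveI : Fact p.Prime := ⟨CharP.char_is_prime F p⟩
      exact le_antisymm (H.le_HS p) hHM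
    · right
      have htop : ∀ t : F, ee Q hQ (e 0) (t • e 1) ∈ M := by
        intro t
        rw [← C.mem_parField t, hB]
        exact Subfield.mem_top t
      exact le_antisymm hMΩ (C.omega_le htop)

end Cfsg.Agent.Lib.Helper42.OSub
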