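import Mathlib
import Cfsg.Agent.Lib.Helper42.OSubI
import Cfsg.Agent.Lib.Helper43.Witt

set_option autoImplicit false
set_option linter.unusedSectionVars false
set_option linter.unusedVariables false
set_option linter.style.haveILetI false
set_option linter.unusedSimpArgs false

/-!
Subfield subgroups of orthogonal groups: existence of a rational frame.
-/

namespace Cfsg.Agent.Lib.Helper42.OSub

open Matrix QuadraticMap Cfsg.Agent.Lib.Helper8 Cfsg.Agent.Lib.Helper13
  Cfsg.Agent.Lib.Helper42.Subf

variable {ι : Type} [Fintype ι] [DecidableEq ι] {F : Type*} [Field F]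
variable {Q : QuadraticForm F (ι → F)} {F₀ : Subfield F}

theorem up_add (x y : ι → F₀) : up (x + y) = up x + up y := rfl

theorem up_smul (c : F₀) (x : ι → F₀) : up (c • x) = (c : F) • up x := rfl

theorem up_single (j : ι) : up (Pi.single j (1 : F₀) : ι → F₀) = (Pi.single j (1 : F) : ι → F) := by
  ext i
  unfold up
  by_cases hij : i = j
  · rw [hij, Pi.single_eq_same, Pi.single_eq_same]; rfl
  · rw [Pi.single_eq_of_ne hij, Pi.single_eq_of_ne hij]; rfl

/-- the polar form over the subfield -/
noncomputable def restrB (hr : RatForm Q F₀) : LinearMap.BilinForm F₀ (ι → F₀) :=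
  LinearMap.mk₂ F₀
    (fun x y => (⟨polar (⇑Q) (up x) (up y), hr.polar (up_rt x) (up_rt y)⟩ : F₀))
    (by
      intro u u' v
      apply Subtype.ext
      rw [Subfield.coe_add]
      show polar (⇑Q) (up (u + u')) (up v) = _
      rw [up_add, polar_add_left])
    (by
      intro c u v
      apply Subtype.ext
      rw [smul_eq_mul, Subfield.coe_mul]
      show polar (⇑Q) (up (c • u)) (up v) = _
      rw [up_smul, polar_smul_left, smul_eq_mul])
    (by
      intro u v v'
      apply Subtype.ext
      rw [Subfield.coe_add]
      show polar (⇑Q) (up u) (up (v + v')) = _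
      rw [up_add, polar_add_right])
    (by
      intro c u v
      apply Subtype.ext
      rw [smul_eq_mul, Subfield.coe_mul]
      show polar (⇑Q) (up u) (up (c • v)) = _
      rw [up_smul, polar_smul_right, smul_eq_mul])

/-- the restriction of the form to the rational vectors -/
noncomputable def restr (hr : RatForm Q F₀) : QuadraticForm F₀ (ι → F₀) where
  toFun v := ⟨Q (up v), hr _ (up_rt v)⟩
  toFun_smul a x := by
    apply Subtype.ext
    rw [smul_eq_mul, Subfield.coe_mul, Subfield.coe_mul]
    show Q (up (a • x)) = _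
    rw [up_smul, QuadraticMap.map_smul, smul_eq_mul]
  exists_companion' := ⟨restrB hr, fun x y => by
    apply Subtype.ext
    rw [Subfield.coe_add, Subfield.coe_add]
    show Q (up (x + y)) = Q (up x) + Q (up y) + polar (⇑Q) (up x) (up y)
    rw [up_add]
    unfold QuadraticMap.polar
    ring⟩

theorem restr_apply (hr : RatForm Q F₀) (v : ι → F₀) : ((restr hr v : F₀) : F) = Q (up v) := rfl

theorem restr_polar (hr : RatForm Q F₀) (x y : ι → F₀) :
    ((polar (⇑(restr hr)) x y : F₀) : F) = polar (⇑Q) (up x) (up y) := by
  unfold QuadraticMap.polar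
  rw [Subfield.coe_sub, Subfield.coe_sub, restr_apply, restr_apply, restr_apply, up_add]

theorem restr_nondeg (hQ : (QuadraticMap.polarBilin Q).Nondegenerate) (hr : RatForm Q F₀) :
    (QuadraticMap.polarBilin (restr hr)).Nondegenerate := by
  have key : ∀ x : ι → F₀, (∀ y, polar (⇑(restr hr)) x y = 0) → x = 0 := by
    intro x hx
    apply up_injective
    show up x = 0
    apply eq_zero_of_polar_single hQ
    intro j
    have h1 := congrArg Subtype.val (hx (Pi.single j 1))
    rw [restr_polar, up_single] at h1
    rw [polar_comm]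
    exact h1
  refine ⟨fun x hx => key x fun y => ?_, fun y hy => key y fun x => ?_⟩
  · have := hx y
    rwa [polarBilin_apply_apply] at this
  · have := hy x
    rw [polarBilin_apply_apply] at this
    rw [polar_comm]
    exact this

/-- existence of a rational frame -/
theorem exists_frame [Fintype F] (hQ : (QuadraticMap.polarBilin Q).Nondegenerate)
    (hr : RatForm Q F₀) (hn : 10 ≤ Fintype.card ι) :
    ∃ e f : Fin 4 → ι → F, Frame Q F₀ e f := by
  haveI : Finite F₀ := Finite.of_injective (fun x : F₀ => (x : F)) Subtype.val_injective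
  have hfr : Module.finrank F₀ (ι → F₀) = Fintype.card ι := Module.finrank_fintype_fun_eq_card F₀
  obtain ⟨k, e₀, f₀, W, hq, hef, hee, -, hdim, hW2, -, -⟩ :=
    Cfsg.Agent.Lib.Helper43.witt_decomp (Fintype.card ι) (ι → F₀) (restr hr) hfr
      (restr_nondeg hQ hr)
  have hk : 4 ≤ k := by omega
  refine ⟨fun i => up (e₀ (Fin.castLE hk i)), fun i => up (f₀ (Fin.castLE hk i)), ?_⟩
  refine ⟨fun i => up_rt _, fun i => up_rt _, ?_, ?_, ?_, ?_, ?_⟩
  · intro i
    rw [← restr_apply hr, (hq _).1]; rfl
  · intro i
    rw [← restr_apply hr, (hq _).2]; rfl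
  · intro i j
    rw [← restr_polar hr, (hee _ _).1]; rfl
  · intro i j
    rw [← restr_polar hr, (hee _ _).2]; rfl
  · intro i j
    rw [← restr_polar hr, hef]
    by_cases hij : i = j
    · rw [if_pos hij, if_pos (by rw [hij])]; rfl
    · rw [if_neg hij, if_neg (fun h => hij (Fin.castLE_injective hk h))]; rfl

end Cfsg.Agent.Lib.Helper42.OSub
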