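import Mathlib
import Cfsg.Agent.Lib.Helper42.OSubJ
import Cfsg.Agent.Lib.Helper37.ParabolicBridge

set_option autoImplicit false
set_option linter.unusedSectionVars false
set_option linter.unusedVariables false
set_option linter.style.haveILetI false
set_option linter.unusedSimpArgs false

/-!
Subfield subgroups of orthogonal groups: reduction of a general rational structure to the
standard one, and the maximality theorem.
-/

namespace Cfsg.Agent.Lib.Helper42.OSub

open Matrix QuadraticMap Cfsg.Agent.Lib.Helper8 Cfsg.Agent.Lib.Helper13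
  Cfsg.Agent.Lib.Helper42.Subf

variable {ι : Type} [Fintype ι] [DecidableEq ι] {F : Type*} [Field F]

/-- transport of maximality along a group automorphism -/
theorem isMaximalIn_map {G : Type*} [Group G] (φ : G ≃* G) (S K : Subgroup G)
    (h : Cfsg.Geo.IsMaximalIn S K) :
    Cfsg.Geo.IsMaximalIn (S.map φ.toMonoidHom) (K.map φ.toMonoidHom) := by
  obtain ⟨hlt, hmax⟩ := h
  have hinj : Function.Injective φ.toMonoidHom := φ.injective
  have hsurj : Function.Surjective φ.toMonoidHom := φ.surjective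
  refine ⟨lt_of_le_of_ne (Subgroup.map_mono hlt.le)
    (fun heq => hlt.ne (Subgroup.map_injective hinj heq)), ?_⟩
  intro M hKM hMS
  have h1 : K ≤ M.comap φ.toMonoidHom := Subgroup.map_le_iff_le_comap.mp hKM
  have h2 : M.comap φ.toMonoidHom ≤ S := by
    have := Subgroup.comap_mono (f := φ.toMonoidHom) hMS
    rwa [Subgroup.comap_map_eq_self_of_injective hinj] at this
  have hM : M = (M.comap φ.toMonoidHom).map φ.toMonoidHom :=
    (Subgroup.map_comap_eq_self_of_surjective hsurj M).symm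
  rcases hmax _ h1 h2 with h | h
  · left; rw [hM, h]
  · right; rw [hM, h]

theorem omegaGL_eq_comm (Q : (ι → F) → F) :
    Cfsg.Geo.omegaGL Q = ⁅Cfsg.isometryGroup F Q, Cfsg.isometryGroup F Q⁆ :=
  Subgroup.map_subtype_commutator _

/-- the isometry group of a pulled back and rescaled form -/
theorem iso_conj (Q : (ι → F) → F) (P : GL ι F) (ζ : F) (hζ : ζ ≠ 0) :
    Cfsg.isometryGroup F Q =
      (Cfsg.isometryGroup F (fun v => ζ * Q ((P : Matrix ι ι F) *ᵥ v))).map
        (MulAut.conj P).toMonoidHom := by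
  ext g
  constructor
  · intro hg
    rw [mem_isometryGroup_iff] at hg
    refine ⟨P⁻¹ * g * P, ?_, ?_⟩
    · show P⁻¹ * g * P ∈ Cfsg.isometryGroup F (fun v => ζ * Q ((P : Matrix ι ι F) *ᵥ v))
      rw [mem_isometryGroup_iff]
      intro x
      show ζ * Q ((P : Matrix ι ι F) *ᵥ (((P⁻¹ * g * P : GL ι F) : Matrix ι ι F) *ᵥ x)) =
        ζ * Q ((P : Matrix ι ι F) *ᵥ x)
      rw [gl_mul_act, gl_mul_act, gl_act_inv, hg]
    · show P * (P⁻¹ * g * P) * P⁻¹ = g
      group
  · rintro ⟨y, hy, rfl⟩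
    have hy' := (mem_isometryGroup_iff _ y).mp hy
    show P * y * P⁻¹ ∈ _
    rw [mem_isometryGroup_iff]
    intro x
    have h1 := hy' (((P⁻¹ : GL ι F) : Matrix ι ι F) *ᵥ x)
    simp only [gl_act_inv] at h1
    rw [gl_mul_act, gl_mul_act]
    exact mul_left_cancel₀ hζ h1

theorem omega_conj (Q : (ι → F) → F) (P : GL ι F) (ζ : F) (hζ : ζ ≠ 0) :
    Cfsg.Geo.omegaGL Q =
      (Cfsg.Geo.omegaGL (fun v => ζ * Q ((P : Matrix ι ι F) *ᵥ v))).map
        (MulAut.conj P).toMonoidHom := by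
  rw [omegaGL_eq_comm, omegaGL_eq_comm, Subgroup.map_commutator, ← iso_conj Q P ζ hζ]

theorem subfield_conj (F₀ : Subfield F) (P : GL ι F) :
    Cfsg.Geo.subfieldSubgroup F₀ P =
      (Cfsg.Geo.subfieldSubgroup F₀ (1 : GL ι F)).map (MulAut.conj P).toMonoidHom := by
  have hid : (MulAut.conj (1 : GL ι F)).toMonoidHom = MonoidHom.id (GL ι F) := by
    ext x; simp
  unfold Cfsg.Geo.subfieldSubgroup
  rw [hid, Subgroup.map_id]

/-- the subfield subgroup of a rational structure for a quadratic form is maximal in `Ω` -/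
theorem orth_subfield_isMaximalIn [Fintype F] (hn : 10 ≤ Fintype.card ι) (Q : (ι → F) → F)
    (hQ : Cfsg.Geo.IsNondegenerateQuadraticForm Q) (F₀ : Subfield F) (r : ℕ) (hr : r.Prime)
    (hcard : Fintype.card F = Nat.card F₀ ^ r) (P : GL ι F) (ζ : F) (hζ : ζ ≠ 0)
    (hP : Cfsg.Geo.IsQuadFormRationalStructure (fun v => ζ * Q v) F₀ P) :
    Cfsg.Geo.IsMaximalIn (Cfsg.Geo.omegaGL Q)
      (Cfsg.Geo.subfieldSubgroup F₀ P ⊓ Cfsg.Geo.omegaGL Q) := by
  obtain ⟨QF, hQF⟩ : ∃ QF : QuadraticForm F (ι → F), QF = Cfsg.Agent.Lib.Helper37.toQF Q hQ :=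
    ⟨_, rfl⟩
  have hQFcoe : ⇑QF = Q := by rw [hQF]; rfl
  have hQFnd : (QuadraticMap.polarBilin QF).Nondegenerate := by
    rw [hQF]; exact Cfsg.Agent.Lib.Helper37.toQF_nondeg Q hQ
  obtain ⟨Q', hQ'⟩ : ∃ Q' : QuadraticForm F (ι → F),
      Q' = (ζ • QF).comp (Matrix.toLin' (P : Matrix ι ι F)) := ⟨_, rfl⟩
  have hQ'coe : ⇑Q' = fun v => ζ * Q ((P : Matrix ι ι F) *ᵥ v) := by
    funext v
    rw [hQ', QuadraticMap.comp_apply, _root_.smul_apply, Matrix.toLin'_apply, smul_eq_mul,
      hQFcoe]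
  have hpol : ∀ x y, polar (⇑Q') x y =
      ζ * polar (⇑QF) ((P : Matrix ι ι F) *ᵥ x) ((P : Matrix ι ι F) *ᵥ y) := by
    intro x y
    rw [hQ'coe, hQFcoe]
    unfold QuadraticMap.polar
    simp only [mulVec_add]
    ring
  have hQ'nd : (QuadraticMap.polarBilin Q').Nondegenerate := by
    have key : ∀ x : ι → F, (∀ y, polar (⇑Q') x y = 0) → x = 0 := by
      intro x hx
      by_contra hx0
      apply gl_act_ne_zero P hx0
      apply hQFnd.1
      intro z
      rw [polarBilin_apply_apply]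
      have h1 := hx (((P⁻¹ : GL ι F) : Matrix ι ι F) *ᵥ z)
      rw [hpol, gl_act_inv] at h1
      rcases mul_eq_zero.mp h1 with h | h
      · exact absurd h hζ
      · exact h
    refine ⟨fun x hx => key x fun y => ?_, fun y hy => key y fun x => ?_⟩
    · have := hx y
      rwa [polarBilin_apply_apply] at this
    · have := hy x
      rw [polarBilin_apply_apply] at this
      rw [polar_comm]
      exact this
  have hrat : RatForm Q' F₀ := by
    intro u hu
    rw [show Q' u = ζ * Q ((P : Matrix ι ι F) *ᵥ u) from congrFun hQ'coe u]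
    exact hP u hu
  obtain ⟨e, f, fr⟩ := exists_frame hQ'nd hrat hn
  have hmax := HS_isMaximalIn (by omega) hrat fr hQ'nd r hr hcard
  have h2 := isMaximalIn_map (MulAut.conj P) _ _ hmax
  have e1 : (Cfsg.Geo.omegaGL (⇑Q')).map (MulAut.conj P).toMonoidHom = Cfsg.Geo.omegaGL Q := by
    rw [hQ'coe, ← omega_conj Q P ζ hζ]
  have e2 : (HS Q' F₀).map (MulAut.conj P).toMonoidHom =
      Cfsg.Geo.subfieldSubgroup F₀ P ⊓ Cfsg.Geo.omegaGL Q := by
    unfold HS
    rw [Subgroup.map_inf _ _ _ (MulAut.conj P).injective, ← subfield_conj, e1]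
  rw [e1, e2] at h2
  exact h2

end Cfsg.Agent.Lib.Helper42.OSub
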