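import Mathlib
import Cfsg.Agent.Lib.Helper42.OSubK
import Cfsg.Agent.Lib.Helper99.NPair1

set_option autoImplicit false
set_option linter.unusedSectionVars false
set_option linter.unusedVariables false
set_option linter.style.haveILetI false
set_option linter.unusedSimpArgs false

/-!
Stabilizers of orthogonal decompositions in `Ω`: geometry of a nondegenerate subspace.
-/

namespace Cfsg.Agent.Lib.Helper42.ODec

open Matrix QuadraticMap Module Cfsg.Agent.Lib.Helper8 Cfsg.Agent.Lib.Helper13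
  Cfsg.Agent.Lib.Helper42.OSub

variable {ι : Type} [Fintype ι] [DecidableEq ι] {F : Type*} [Field F]
variable {Q : QuadraticForm F (ι → F)} {W : Submodule F (ι → F)}

set_option quotPrecheck false in
local notation "BQ" => QuadraticMap.polar (⇑Q)

/-- the polar form is nondegenerate on the subspace -/
def NdOn (Q : QuadraticForm F (ι → F)) (W : Submodule F (ι → F)) : Prop :=
  ∀ x ∈ W, (∀ y ∈ W, QuadraticMap.polar (⇑Q) x y = 0) → x = 0

theorem NdOn.exists_polar_ne (hW : NdOn Q W) {x : ι → F} (hx : x ∈ W) (hx0 : x ≠ 0) :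
    ∃ y ∈ W, BQ x y ≠ 0 := by
  by_contra hcon
  push Not at hcon
  exact hx0 (hW x hx hcon)

/-- hyperbolic partner inside the subspace -/
theorem NdOn.exists_partner (hW : NdOn Q W) {u : ι → F} (hu : u ∈ W) (hu0 : u ≠ 0)
    (qu : Q u = 0) : ∃ f ∈ W, Q f = 0 ∧ BQ u f = 1 := by
  obtain ⟨y, hy, hyu⟩ := hW.exists_polar_ne hu hu0
  obtain ⟨y', hy'⟩ : ∃ y' : ι → F, y' = (BQ u y)⁻¹ • y := ⟨_, rfl⟩
  have hy'W : y' ∈ W := by rw [hy']; exact W.smul_mem _ hy
  have h1 : BQ u y' = 1 := by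
    rw [hy', polar_smul_right, smul_eq_mul, inv_mul_cancel₀ hyu]
  refine ⟨y' - Q y' • u, W.sub_mem hy'W (W.smul_mem _ hu), ?_, ?_⟩
  · have h2 : y' - Q y' • u = y' + (-Q y') • u := by rw [neg_smul, sub_eq_add_neg]
    rw [h2, QuadraticMap.map_add (⇑Q), QuadraticMap.map_smul, qu, polar_smul_right,
      polar_comm (⇑Q) y' u, h1]
    simp
  · rw [polar_sub_right, polar_smul_right, h1, polar_self_zero qu]
    simp

theorem hp_mem {a b x : ι → F} (ha : a ∈ W) (hb : b ∈ W) (hx : x ∈ W) : hp Q a b x ∈ W := by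
  unfold hp
  exact W.sub_mem (W.sub_mem hx (W.smul_mem _ ha)) (W.smul_mem _ hb)

/-- a nonsingular vector of the subspace orthogonal to a hyperbolic pair of the subspace -/
theorem NdOn.exists_nonsing_perp2 (hW : NdOn Q W) (h3 : 3 ≤ finrank F W) {u f : ι → F}
    (hu : u ∈ W) (hf : f ∈ W) (qu : Q u = 0) (qf : Q f = 0) (huf : BQ u f = 1) :
    ∃ y ∈ W, BQ u y = 0 ∧ BQ f y = 0 ∧ Q y ≠ 0 := by
  obtain ⟨y₀, hy₀, hy₀0, hperp⟩ := Cfsg.Agent.Lib.Helper99.exists_ne_zero_perp Q [u, f] W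
    (by simpa using h3)
  have hu0 : BQ u y₀ = 0 := hperp u (by simp)
  have hf0 : BQ f y₀ = 0 := hperp f (by simp)
  by_cases hq : Q y₀ = 0
  · obtain ⟨y, hy, hyy⟩ := hW.exists_polar_ne hy₀ hy₀0
    obtain ⟨y₁, hy₁⟩ : ∃ y₁ : ι → F, y₁ = hp Q u f y := ⟨_, rfl⟩
    have hy₁W : y₁ ∈ W := by rw [hy₁]; exact hp_mem hu hf hy
    have h1u : BQ y₁ u = 0 := by rw [hy₁]; exact hp_perp_left qu huf y
    have h1f : BQ y₁ f = 0 := by rw [hy₁]; exact hp_perp_right qf huf y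
    have h10 : BQ y₁ y₀ ≠ 0 := by
      rw [hy₁, hp_polar hu0 hf0, polar_comm]; exact hyy
    by_cases hq1 : Q y₁ = 0
    · refine ⟨y₀ + y₁, W.add_mem hy₀ hy₁W, ?_, ?_, ?_⟩
      · rw [polar_add_right, hu0, polar_comm (⇑Q) u y₁, h1u, add_zero]
      · rw [polar_add_right, hf0, polar_comm (⇑Q) f y₁, h1f, add_zero]
      · rw [QuadraticMap.map_add (⇑Q), hq, hq1, zero_add, zero_add, polar_comm]
        exact h10
    · exact ⟨y₁, hy₁W, by rw [polar_comm]; exact h1u, by rw [polar_comm]; exact h1f, hq1⟩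
  · exact ⟨y₀, hy₀, hu0, hf0, hq⟩

/-- a nonsingular vector of the subspace orthogonal to a singular vector of the subspace -/
theorem NdOn.exists_nonsing_perp1 (hW : NdOn Q W) (h3 : 3 ≤ finrank F W) {u : ι → F}
    (hu : u ∈ W) (hu0 : u ≠ 0) (qu : Q u = 0) : ∃ y ∈ W, BQ u y = 0 ∧ Q y ≠ 0 := by
  obtain ⟨f, hf, qf, huf⟩ := hW.exists_partner hu hu0 qu
  obtain ⟨y, hy, h1, -, h3⟩ := hW.exists_nonsing_perp2 h3 hu hf qu qf huf
  exact ⟨y, hy, h1, h3⟩

/-- a vector orthogonal to all singular vectors of a subspace containing a hyperbolic pair is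
orthogonal to the subspace -/
theorem polar_eq_zero_of_sing {u f : ι → F} (hu : u ∈ W) (hf : f ∈ W) (qu : Q u = 0)
    (qf : Q f = 0) (huf : BQ u f = 1) {w : ι → F}
    (h : ∀ s ∈ W, Q s = 0 → BQ s w = 0) : ∀ x ∈ W, BQ x w = 0 := by
  intro x hx
  obtain ⟨y, hy⟩ : ∃ y : ι → F, y = hp Q u f x := ⟨_, rfl⟩
  have hyW : y ∈ W := by rw [hy]; exact hp_mem hu hf hx
  have hyu : BQ y u = 0 := by rw [hy]; exact hp_perp_left qu huf x
  have hyf : BQ y f = 0 := by rw [hy]; exact hp_perp_right qf huf x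
  have hfu : BQ f u = 1 := by rw [polar_comm]; exact huf
  have hs : Q (f + y - Q y • u) = 0 := sing_add qf qu hfu hyf hyu
  have h1 := h _ (W.sub_mem (W.add_mem hf hyW) (W.smul_mem _ hu)) hs
  rw [polar_sub_left, polar_add_left, polar_smul_left, h f hf qf, h u hu qu] at h1
  have h2 : BQ y w = 0 := by simpa using h1
  have h3 := hp_decomp (Q := Q) u f x
  rw [← hy] at h3
  rw [h3, polar_add_left, polar_add_left, polar_smul_left, polar_smul_left, h2, h u hu qu,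
    h f hf qf]
  simp

/-- a singular vector of the subspace not orthogonal to a given vector -/
theorem NdOn.exists_sing_polar_ne [Finite F] (hW : NdOn Q W) (h3 : 3 ≤ finrank F W)
    {w : ι → F} (hw : ∃ x ∈ W, BQ x w ≠ 0) :
    ∃ u ∈ W, u ≠ 0 ∧ Q u = 0 ∧ BQ u w ≠ 0 := by
  obtain ⟨u₀, hu₀, hu₀0, qu₀⟩ := Cfsg.Agent.Lib.Helper99.exists_singular_sub Q W h3
  obtain ⟨f₀, hf₀, qf₀, huf₀⟩ := hW.exists_partner hu₀ hu₀0 qu₀
  by_contra hcon
  push Not at hcon
  obtain ⟨x, hx, hxw⟩ := hw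
  apply hxw
  refine polar_eq_zero_of_sing hu₀ hf₀ qu₀ qf₀ huf₀ ?_ x hx
  intro s hs qs
  by_cases hs0 : s = 0
  · rw [hs0, polar_zero_left]
  · exact hcon s hs hs0 qs

end Cfsg.Agent.Lib.Helper42.ODec
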