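import Mathlib
import Cfsg.Agent.Lib.Helper42.ODecA
import Cfsg.Agent.Lib.Helper37.OmegaCenter2

set_option autoImplicit false
set_option linter.unusedSectionVars false
set_option linter.unusedVariables false
set_option linter.style.haveILetI false
set_option linter.unusedSimpArgs false

/-!
Stabilizers of orthogonal decompositions in `Ω`: the decomposition, components, membership in the
stabilizer.
-/

namespace Cfsg.Agent.Lib.Helper42.ODec

open Matrix QuadraticMap Module Cfsg.Agent.Lib.Helper8 Cfsg.Agent.Lib.Helper13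
  Cfsg.Agent.Lib.Helper42.OSub

variable {ι : Type} [Fintype ι] [DecidableEq ι] {F : Type*} [Field F] [Fintype F]
variable {Q : QuadraticForm F (ι → F)} {hQ : (QuadraticMap.polarBilin Q).Nondegenerate}
variable {k t : ℕ} {D : Fin t → Submodule F (ι → F)}

set_option quotPrecheck false in
local notation "BQ" => QuadraticMap.polar (⇑Q)
local notation "EE" => ee Q hQ
local notation:70 g:70 " ⋆ " x:71 => Matrix.mulVec (Units.val g) x

/-- an orthogonal decomposition into nondegenerate blocks of dimension `k ≥ 3` -/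
structure Dec (Q : QuadraticForm F (ι → F)) (k : ℕ) {t : ℕ}
    (D : Fin t → Submodule F (ι → F)) : Prop where
  h2 : (2 : F) ≠ 0
  hk : 3 ≤ k
  hn : 7 ≤ Fintype.card ι
  fr : ∀ i, finrank F (D i) = k
  nd : ∀ i, NdOn Q (D i)
  orth : ∀ i j, i ≠ j → ∀ x ∈ D i, ∀ y ∈ D j, QuadraticMap.polar (⇑Q) x y = 0
  top : iSup D = ⊤
  indep : iSupIndep D

/-- the group `H` -/
def Hs (Q : QuadraticForm F (ι → F)) {t : ℕ} (D : Fin t → Submodule F (ι → F)) :
    Subgroup (GL ι F) :=
  Cfsg.Geo.decompositionStabilizer D ⊓ Cfsg.Geo.omegaGL (⇑Q)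

theorem polar_self_eq (x : ι → F) : BQ x x = 2 * Q x := by
  rw [QuadraticMap.polar_self]
  simp [two_mul, two_smul]

include hQ in
theorem Dec.perp_all (d : Dec Q k D) {x : ι → F} (h : ∀ j, ∀ y ∈ D j, BQ y x = 0) : x = 0 := by
  have h1 : ∀ y : ι → F, BQ y x = 0 := by
    intro y
    have hy : y ∈ iSup D := by rw [d.top]; trivial
    refine Submodule.iSup_induction D (motive := fun y => BQ y x = 0) hy ?_ ?_ ?_
    · intro i y hy; exact h i y hy
    · show BQ (0 : ι → F) x = 0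
      rw [polar_zero_left]
    · intro y z hy hz
      show BQ (y + z) x = 0
      rw [polar_add_left, hy, hz, add_zero]
  exact hQ.2 x (fun y => by rw [polarBilin_apply_apply]; exact h1 y)

theorem Dec.exists_comp (d : Dec Q k D) (x : ι → F) (j : Fin t) :
    ∃ c ∈ D j, ∀ y ∈ D j, BQ (x - c) y = 0 := by
  have hx : x ∈ iSup D := by rw [d.top]; trivial
  refine Submodule.iSup_induction D
    (motive := fun x => ∃ c ∈ D j, ∀ y ∈ D j, BQ (x - c) y = 0) hx ?_ ?_ ?_
  · intro i x hx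
    by_cases hij : i = j
    · subst hij
      exact ⟨x, hx, fun y _ => by rw [sub_self, polar_zero_left]⟩
    · exact ⟨0, (D j).zero_mem, fun y hy => by rw [sub_zero]; exact d.orth i j hij x hx y hy⟩
  · exact ⟨0, (D j).zero_mem, fun y _ => by rw [sub_zero, polar_zero_left]⟩
  · rintro x y ⟨c₁, hc₁, h₁⟩ ⟨c₂, hc₂, h₂⟩
    refine ⟨c₁ + c₂, (D j).add_mem hc₁ hc₂, fun z hz => ?_⟩
    have : x + y - (c₁ + c₂) = (x - c₁) + (y - c₂) := by abel
    rw [this, polar_add_left, h₁ z hz, h₂ z hz, add_zero]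

theorem Dec.inter (d : Dec Q k D) {i j : Fin t} (hij : i ≠ j) {x : ι → F} (hi : x ∈ D i)
    (hj : x ∈ D j) : x = 0 :=
  d.nd i x hi fun y hy => d.orth j i hij.symm x hj y hy

theorem Dec.three_le (d : Dec Q k D) (i : Fin t) : 3 ≤ finrank F (D i) := by
  rw [d.fr]; exact d.hk

theorem Dec.exists_sing (d : Dec Q k D) (i : Fin t) : ∃ s ∈ D i, s ≠ 0 ∧ Q s = 0 :=
  Cfsg.Agent.Lib.Helper99.exists_singular_sub Q (D i) (d.three_le i)

/-- a hyperbolic pair in each block -/
theorem Dec.exists_hyp (d : Dec Q k D) (i : Fin t) :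
    ∃ e ∈ D i, ∃ f ∈ D i, Q e = 0 ∧ Q f = 0 ∧ BQ e f = 1 := by
  obtain ⟨e, he, he0, qe⟩ := d.exists_sing i
  obtain ⟨f, hf, qf, hef⟩ := (d.nd i).exists_partner he he0 qe
  exact ⟨e, he, f, hf, qe, qf, hef⟩

/-- a matrix mapping each block into a block lies in the stabilizer -/
theorem Dec.mem_stab (d : Dec Q k D) (g : GL ι F) (σ : Fin t → Fin t)
    (h : ∀ i, ∀ x ∈ D i, g ⋆ x ∈ D (σ i)) : g ∈ Cfsg.Geo.decompositionStabilizer D := by
  have hinj : Function.Injective (Matrix.toLin' (g : Matrix ι ι F)) := by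
    intro x y hxy
    rw [Matrix.toLin'_apply, Matrix.toLin'_apply] at hxy
    have := congrArg (fun v => (g⁻¹ : GL ι F) ⋆ v) hxy
    simp only [gl_inv_act] at this
    exact this
  have hmap : ∀ i, (D i).map (Matrix.toLin' (g : Matrix ι ι F)) = D (σ i) := by
    intro i
    apply Submodule.eq_of_le_of_finrank_eq
    · rintro _ ⟨x, hx, rfl⟩
      rw [Matrix.toLin'_apply]; exact h i x hx
    · rw [d.fr, ← d.fr i]
      exact (Submodule.equivMapOfInjective _ hinj (D i)).finrank_eq.symm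
  have hσ : Function.Injective σ := by
    intro i i' hii
    by_contra hne
    have h1 : (D i).map (Matrix.toLin' (g : Matrix ι ι F)) =
        (D i').map (Matrix.toLin' (g : Matrix ι ι F)) := by rw [hmap, hmap, hii]
    have h2 : D i = D i' := Submodule.map_injective_of_injective hinj h1
    obtain ⟨s, hs, hs0, -⟩ := d.exists_sing i
    exact hs0 (d.inter hne hs (h2 ▸ hs))
  show ∃ τ : Equiv.Perm (Fin t), ∀ i, (D i).map (Matrix.toLin' (g : Matrix ι ι F)) = D (τ i)
  refine ⟨Equiv.ofBijective σ ⟨hσ, Finite.injective_iff_surjective.mp hσ⟩, fun i => ?_⟩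
  exact hmap i

/-- block Eichler transformations lie in `H` -/
theorem Dec.ee_block (d : Dec Q k D) {j : Fin t} {u y : ι → F} (hu : u ∈ D j) (hy : y ∈ D j) :
    EE u y ∈ Hs Q D := by
  by_cases h : Q u = 0 ∧ BQ u y = 0
  · refine ⟨d.mem_stab _ id fun i x hx => ?_, ee_mem_omega Q hQ d.hn u y⟩
    rw [ee_mulVec Q hQ h.1 h.2]
    by_cases hij : i = j
    · subst hij
      exact (D i).sub_mem ((D i).sub_mem ((D i).add_mem hx ((D i).smul_mem _ hy))
        ((D i).smul_mem _ hu)) ((D i).smul_mem _ hu)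
    · have h1 : BQ u x = 0 := d.orth j i (Ne.symm hij) u hu x hx
      have h2 : BQ y x = 0 := d.orth j i (Ne.symm hij) y hy x hx
      rw [h1, h2]
      simpa using hx
  · rw [ee_of_not h]; exact Subgroup.one_mem _

/-- the reflection formula -/
def rf (Q : QuadraticForm F (ι → F)) (c x : ι → F) : ι → F :=
  x - ((Q c)⁻¹ * QuadraticMap.polar (⇑Q) c x) • c

theorem Dec.rf_mem (d : Dec Q k D) {j i : Fin t} {c x : ι → F} (hc : c ∈ D j) (hx : x ∈ D i) :
    rf Q c x ∈ D i := by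
  unfold rf
  by_cases hij : i = j
  · subst hij
    exact (D i).sub_mem hx ((D i).smul_mem _ hc)
  · have h1 : BQ c x = 0 := d.orth j i (Ne.symm hij) c hc x hx
    rw [h1]
    simpa using hx

theorem rf_fix {c x : ι → F} (h : BQ c x = 0) : rf Q c x = x := by
  unfold rf
  rw [h]
  simp

include hQ in
/-- products of two block reflections of equal norm lie in `H` -/
theorem Dec.birefl (d : Dec Q k D) {j : Fin t} {c c₂ : ι → F} (hc : c ∈ D j) (hc₂ : c₂ ∈ D j)
    (qc : Q c ≠ 0) (q2 : Q c₂ = Q c) :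
    ∃ ρ : GL ι F, ρ ∈ Hs Q D ∧ ∀ x, ρ ⋆ x = rf Q c (rf Q c₂ x) := by
  have qc₂ : Q c₂ ≠ 0 := by rw [q2]; exact qc
  have hact : ∀ x, (((reflElt Q c qc * reflElt Q c₂ qc₂ : ↥(Cfsg.isometryGroup F (⇑Q))) :
      GL ι F)) ⋆ x = rf Q c (rf Q c₂ x) := by
    intro x
    have h1 := Cfsg.Agent.Lib.Helper37.act_mul Q (reflElt Q c qc) (reflElt Q c₂ qc₂) x
    rw [Cfsg.Agent.Lib.Helper37.act_refl, Cfsg.Agent.Lib.Helper37.act_refl] at h1
    exact h1
  refine ⟨_, ⟨d.mem_stab _ id fun i x hx => ?_, ?_⟩, hact⟩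
  · rw [hact]
    exact d.rf_mem hc (d.rf_mem hc₂ hx)
  · exact Subgroup.mem_map.mpr
      ⟨_, Cfsg.Agent.Lib.Helper37.refl_mul_refl_mem_omega Q hQ c c₂ qc qc₂ q2, rfl⟩

end Cfsg.Agent.Lib.Helper42.ODec
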