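import Mathlib
import Cfsg.Agent.Lib.Helper42.ODecB

set_option autoImplicit false
set_option linter.unusedSectionVars false
set_option linter.unusedVariables false
set_option linter.style.haveILetI false
set_option linter.unusedSimpArgs false

/-!
Stabilizers of orthogonal decompositions in `Ω`: root groups of an overgroup, first properties.
-/

namespace Cfsg.Agent.Lib.Helper42.ODec

open Matrix QuadraticMap Module Cfsg.Agent.Lib.Helper8 Cfsg.Agent.Lib.Helper13
  Cfsg.Agent.Lib.Helper42.OSub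

variable {ι : Type} [Fintype ι] [DecidableEq ι] {F : Type*} [Field F] [Fintype F]
variable {Q : QuadraticForm F (ι → F)} {hQ : (QuadraticMap.polarBilin Q).Nondegenerate}
variable {k t : ℕ} {D : Fin t → Submodule F (ι → F)} {M : Subgroup (GL ι F)}

set_option quotPrecheck false in
local notation "BQ" => QuadraticMap.polar (⇑Q)
local notation "EE" => ee Q hQ
local notation:70 g:70 " ⋆ " x:71 => Matrix.mulVec (Units.val g) x

/-- the standing hypotheses on the overgroup -/
structure MCtx (hQ : (QuadraticMap.polarBilin Q).Nondegenerate) (k : ℕ) {t : ℕ}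
    (D : Fin t → Submodule F (ι → F)) (M : Subgroup (GL ι F)) : Prop where
  d : Dec Q k D
  hHM : Hs Q D ≤ M
  hMΩ : M ≤ Cfsg.Geo.omegaGL (⇑Q)
  hex : 5 ≤ Fintype.card F ∨ 4 ≤ k

theorem MCtx.iso (C : MCtx hQ k D M) {g : GL ι F} (hg : g ∈ M) :
    g ∈ Cfsg.isometryGroup F (⇑Q) :=
  omega_le_iso (Q := Q) (C.hMΩ hg)

theorem MCtx.ee_mem (C : MCtx hQ k D M) {j : Fin t} {u y : ι → F} (hu : u ∈ D j)
    (hy : y ∈ D j) : EE u y ∈ M :=
  C.hHM (C.d.ee_block hu hy)

/-- the root groups at block-singular points are no bigger than those of `H` -/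
def NG (hQ : (QuadraticMap.polarBilin Q).Nondegenerate) {t : ℕ}
    (D : Fin t → Submodule F (ι → F)) (M : Subgroup (GL ι F)) : Prop :=
  ∀ l, ∀ b ∈ D l, Q b = 0 → b ≠ 0 → ∀ w : ι → F, QuadraticMap.polar (⇑Q) b w = 0 →
    ee Q hQ b w ∈ M → w ∈ D l

/-- the root group of `M` at the singular point `a` is given by the subspace `A` -/
structure Cen (hQ : (QuadraticMap.polarBilin Q).Nondegenerate) (M : Subgroup (GL ι F)) (k : ℕ)
    (a : ι → F) (A : Submodule F (ι → F)) : Prop where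
  qa : Q a = 0
  a0 : a ≠ 0
  mem : ∀ w, w ∈ A ↔ (QuadraticMap.polar (⇑Q) a w = 0 ∧ ee Q hQ a w ∈ M)
  fr : finrank F A + 1 = k
  rad : ∀ w ∈ A, (∀ x ∈ A, QuadraticMap.polar (⇑Q) w x = 0) → ∃ c : F, w = c • a

theorem gl_toLin_injective (g : GL ι F) :
    Function.Injective (Matrix.toLin' (g : Matrix ι ι F)) := by
  intro x y hxy
  rw [Matrix.toLin'_apply, Matrix.toLin'_apply] at hxy
  have := congrArg (fun v => (g⁻¹ : GL ι F) ⋆ v) hxy
  simp only [gl_inv_act] at this
  exact this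

variable {a : ι → F} {A : Submodule F (ι → F)}

theorem Cen.self_mem (ca : Cen hQ M k a A) : a ∈ A := by
  rw [ca.mem]
  refine ⟨polar_self_zero ca.qa, ?_⟩
  have h0 : BQ a 0 = 0 := by rw [polar_zero_right]
  have := ee_add_smul Q hQ ca.qa h0 1
  rw [zero_add, one_smul, ee_zero] at this
  rw [this]
  exact M.one_mem

theorem Cen.perp (ca : Cen hQ M k a A) {w : ι → F} (hw : w ∈ A) : BQ a w = 0 :=
  ((ca.mem w).mp hw).1

theorem Cen.map (C : MCtx hQ k D M) (ca : Cen hQ M k a A) {m : GL ι F} (hm : m ∈ M) :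
    Cen hQ M k (m ⋆ a) (A.map (Matrix.toLin' (m : Matrix ι ι F))) := by
  have hmi := C.iso hm
  have hmi' : m⁻¹ ∈ Cfsg.isometryGroup F (⇑Q) := Subgroup.inv_mem _ hmi
  refine ⟨by rw [iso_Q Q hmi, ca.qa], gl_act_ne_zero m ca.a0, fun w => ⟨?_, ?_⟩, ?_, ?_⟩
  · rintro ⟨w', hw', rfl⟩
    rw [Matrix.toLin'_apply]
    obtain ⟨h1, h2⟩ := (ca.mem w').mp hw'
    refine ⟨by rw [iso_B Q hmi, h1], ?_⟩
    rw [← conj_ee Q hQ hmi ca.qa h1]
    exact M.mul_mem (M.mul_mem hm h2) (M.inv_mem hm)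
  · rintro ⟨h1, h2⟩
    have qa' : Q (m ⋆ a) = 0 := by rw [iso_Q Q hmi, ca.qa]
    have h3 := conj_ee Q hQ hmi' qa' h1
    rw [gl_inv_act] at h3
    have h4 : ((m⁻¹ : GL ι F) ⋆ w) ∈ A := by
      rw [ca.mem]
      refine ⟨?_, ?_⟩
      · rw [← iso_B Q hmi, gl_act_inv]; exact h1
      · rw [← h3]
        exact M.mul_mem (M.mul_mem (M.inv_mem hm) h2) (M.inv_mem (M.inv_mem hm))
    exact Submodule.mem_map.mpr ⟨_, h4, by rw [Matrix.toLin'_apply, gl_act_inv]⟩
  · rw [← ca.fr]
    congr 1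
    exact (Submodule.equivMapOfInjective _ (gl_toLin_injective m) A).finrank_eq.symm
  · rintro _ ⟨w', hw', rfl⟩ h
    rw [Matrix.toLin'_apply] at h ⊢
    obtain ⟨c, hc⟩ := ca.rad w' hw' (fun x hx => by
      have := h (m ⋆ x) (Submodule.mem_map.mpr ⟨x, hx, by rw [Matrix.toLin'_apply]⟩)
      rwa [iso_B Q hmi] at this)
    exact ⟨c, by rw [hc, mulVec_smul]⟩

/-- invariance of the root group under elements of `M` fixing the point -/
theorem Cen.map_fix (C : MCtx hQ k D M) (ca : Cen hQ M k a A) {h : GL ι F} (hM : h ∈ M)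
    (hfix : h ⋆ a = a) {w : ι → F} (hw : w ∈ A) : h ⋆ w ∈ A := by
  have ca' := ca.map C hM
  rw [hfix] at ca'
  rw [ca.mem]
  exact (ca'.mem _).mp (Submodule.mem_map.mpr ⟨w, hw, by rw [Matrix.toLin'_apply]⟩)

/-- the root group is bigger than the point -/
theorem Cen.exists_not_smul (C : MCtx hQ k D M) (ca : Cen hQ M k a A) :
    ∃ w ∈ A, ∀ c : F, w ≠ c • a := by
  by_contra hcon
  push Not at hcon
  have h1 : A ≤ Submodule.span F {a} := by
    intro w hw
    obtain ⟨c, hc⟩ := hcon w hw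
    rw [Submodule.mem_span_singleton]
    exact ⟨c, hc.symm⟩
  have h2 := Submodule.finrank_mono h1
  rw [finrank_span_singleton ca.a0] at h2
  have := ca.fr
  have := C.d.hk
  omega

theorem ee_pm {s y : ι → F} (qs : Q s = 0) (hsy : BQ s y = 0) (w : ι → F) :
    EE s y ⋆ w + EE s (-y) ⋆ w = (2 : F) • w - (2 * Q y * BQ s w) • s := by
  have hsy' : BQ s (-y) = 0 := by rw [polar_neg_right, hsy, neg_zero]
  rw [ee_mulVec Q hQ qs hsy, ee_mulVec Q hQ qs hsy', polar_neg_left, QuadraticMap.map_neg]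
  module

theorem ee_diff {s y : ι → F} (qs : Q s = 0) (hsy : BQ s y = 0) (w : ι → F) :
    EE s y ⋆ w - w = BQ s w • y - BQ y w • s - (Q y * BQ s w) • s := by
  rw [ee_mulVec Q hQ qs hsy]
  module

/-- the block root group at a singular point -/
theorem cen_block (C : MCtx hQ k D M) (ng : NG hQ D M) {l : Fin t} {b : ι → F} (hb : b ∈ D l)
    (qb : Q b = 0) (b0 : b ≠ 0) :
    Cen hQ M k b (D l ⊓ LinearMap.ker (QuadraticMap.polarBilin Q b)) := by
  have d := C.d
  obtain ⟨f, hf, qf, hbf⟩ := (d.nd l).exists_partner hb b0 qb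
  have hmem : ∀ w : ι → F, w ∈ D l ⊓ LinearMap.ker (QuadraticMap.polarBilin Q b) ↔
      (w ∈ D l ∧ BQ b w = 0) := by
    intro w
    rw [Submodule.mem_inf, LinearMap.mem_ker, polarBilin_apply_apply]
  refine ⟨qb, b0, fun w => ?_, ?_, ?_⟩
  · rw [hmem]
    constructor
    · rintro ⟨h1, h2⟩
      exact ⟨h2, C.ee_mem hb h1⟩
    · rintro ⟨h1, h2⟩
      exact ⟨ng l b hb qb b0 w h1 h2, h1⟩
  · have h1 := Cfsg.Agent.Lib.Helper99.finrank_le_inf_ker_polar Q (D l) b
    have h2 : D l ⊓ LinearMap.ker (QuadraticMap.polarBilin Q b) < D l := by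
      refine lt_of_le_of_ne inf_le_left ?_
      intro heq
      have : f ∈ D l ⊓ LinearMap.ker (QuadraticMap.polarBilin Q b) := by rw [heq]; exact hf
      rw [hmem] at this
      rw [this.2] at hbf
      exact zero_ne_one hbf
    have h3 := Submodule.finrank_lt_finrank_of_lt h2
    rw [d.fr] at h1 h3
    omega
  · intro w hw hall
    rw [hmem] at hw
    obtain ⟨hwl, hbw⟩ := hw
    refine ⟨BQ w f, ?_⟩
    have h0 : w - BQ w f • b = 0 := by
      apply d.nd l _ ((D l).sub_mem hwl ((D l).smul_mem _ hb))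
      intro y hy
      have hdec := hp_decomp (Q := Q) b f y
      have hpy : hp Q b f y ∈ D l ⊓ LinearMap.ker (QuadraticMap.polarBilin Q b) := by
        rw [hmem]
        exact ⟨hp_mem hb hf hy, by rw [polar_comm]; exact hp_perp_left qb hbf y⟩
      have h1 : BQ w (hp Q b f y) = 0 := hall _ hpy
      have h2 : BQ b (hp Q b f y) = 0 := ((hmem _).mp hpy).2
      have h3 : BQ w b = 0 := by rw [polar_comm]; exact hbw
      rw [hdec, polar_sub_left, polar_smul_left, polar_add_right, polar_add_right,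
        polar_add_right, polar_add_right, polar_smul_right, polar_smul_right, polar_smul_right,
        polar_smul_right, h1, h2, h3, polar_self_zero qb, hbf]
      simp only [smul_eq_mul]
      ring
    exact sub_eq_zero.mp h0

/-- no singular vector of a block lies in the root group of a point outside the block -/
theorem F3 (ng : NG hQ D M) (ca : Cen hQ M k a A) {j : Fin t} (haj : a ∉ D j) {s : ι → F}
    (hs : s ∈ A) (hsj : s ∈ D j) (qs : Q s = 0) : s = 0 := by
  by_contra hne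
  obtain ⟨h1, h2⟩ := (ca.mem s).mp hs
  rw [ee_swap Q hQ ca.qa qs h1] at h2
  have h3 : BQ s (-a) = 0 := by rw [polar_neg_right, polar_comm, h1, neg_zero]
  have h4 := ng j s hsj qs hne (-a) h3 h2
  exact haj (by simpa using (D j).neg_mem h4)

theorem Cen.smul_mem_iff (ca : Cen hQ M k a A) {c : F} (hc : c ≠ 0) {s : ι → F}
    (h : c • s ∈ A) : s ∈ A := by
  have := A.smul_mem c⁻¹ h
  rwa [smul_smul, inv_mul_cancel₀ hc, one_smul] at this

/-- the sum of the two displacements by opposite block root elements fixing the point -/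
theorem Cen.pm_mem (C : MCtx hQ k D M) (ca : Cen hQ M k a A) {j : Fin t} {s y : ι → F}
    (hs : s ∈ D j) (hy : y ∈ D j) (qs : Q s = 0) (hsy : BQ s y = 0) (hsa : BQ s a = 0)
    (hya : BQ y a = 0) {w : ι → F} (hw : w ∈ A) : (2 * Q y * BQ s w) • s ∈ A := by
  have hsy' : BQ s (-y) = 0 := by rw [polar_neg_right, hsy, neg_zero]
  have hya' : BQ (-y) a = 0 := by rw [polar_neg_left, hya, neg_zero]
  have h1 := ca.map_fix C (C.ee_mem hs hy) (ee_fix hQ qs hsy hsa hya) hw
  have h2 := ca.map_fix C (C.ee_mem hs ((D j).neg_mem hy)) (ee_fix hQ qs hsy' hsa hya') hw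
  have h3 := ee_pm (hQ := hQ) qs hsy w
  have h4 : (2 * Q y * BQ s w) • s = (2 : F) • w - (EE s y ⋆ w + EE s (-y) ⋆ w) := by
    rw [h3]; abel
  rw [h4]
  exact A.sub_mem (A.smul_mem _ hw) (A.add_mem h1 h2)

theorem Cen.diff_mem (C : MCtx hQ k D M) (ca : Cen hQ M k a A) {j : Fin t} {s y : ι → F}
    (hs : s ∈ D j) (hy : y ∈ D j) (qs : Q s = 0) (hsy : BQ s y = 0) (hsa : BQ s a = 0)
    (hya : BQ y a = 0) {w : ι → F} (hw : w ∈ A) :
    BQ s w • y - BQ y w • s - (Q y * BQ s w) • s ∈ A := by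
  have h1 := ca.map_fix C (C.ee_mem hs hy) (ee_fix hQ qs hsy hsa hya) hw
  rw [← ee_diff (hQ := hQ) qs hsy w]
  exact A.sub_mem h1 hw

/-- case of a point orthogonal to the block -/
theorem F4Z (C : MCtx hQ k D M) (ng : NG hQ D M) (ca : Cen hQ M k a A) {j : Fin t}
    (haj : a ∉ D j) (hz : ∀ y ∈ D j, BQ a y = 0) {w : ι → F} (hw : w ∈ A) :
    ∀ x ∈ D j, BQ x w = 0 := by
  have d := C.d
  obtain ⟨e, he, f, hf, qe, qf, hef⟩ := d.exists_hyp j
  refine polar_eq_zero_of_sing he hf qe qf hef ?_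
  intro s hs qs
  by_contra hne
  have hs0 : s ≠ 0 := by
    rintro rfl
    exact hne (polar_zero_left _ _)
  obtain ⟨y, hy, hsy, qy⟩ := (d.nd j).exists_nonsing_perp1 (d.three_le j) hs hs0 qs
  have h1 := ca.pm_mem C hs hy qs hsy (by rw [polar_comm]; exact hz s hs)
    (by rw [polar_comm]; exact hz y hy) hw
  have h2 : s ∈ A := ca.smul_mem_iff (mul_ne_zero (mul_ne_zero d.h2 qy) hne) h1
  exact hs0 (F3 ng ca haj h2 hs qs)

/-- case of a point with singular component in the block -/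
theorem F4S (C : MCtx hQ k D M) (ng : NG hQ D M) (ca : Cen hQ M k a A) {j : Fin t}
    (haj : a ∉ D j) {aj : ι → F} (hajD : aj ∈ D j) (hB : ∀ y ∈ D j, BQ a y = BQ aj y)
    (aj0 : aj ≠ 0) (qaj : Q aj = 0) {w : ι → F} (hw : w ∈ A) :
    ∃ β : F, ∀ x ∈ D j, BQ x (w - β • a) = 0 := by
  have d := C.d
  obtain ⟨f, hf, qf, hajf⟩ := (d.nd j).exists_partner hajD aj0 qaj
  have haja : BQ aj a = 0 := by
    rw [polar_comm, hB aj hajD]; exact polar_self_zero qaj
  have hnot : aj ∉ A := fun h => aj0 (F3 ng ca haj h hajD qaj)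
  -- first step
  have h1 : BQ aj w = 0 := by
    by_contra hne
    obtain ⟨z, hz, hajz, qz⟩ := (d.nd j).exists_nonsing_perp1 (d.three_le j) hajD aj0 qaj
    have hza : BQ z a = 0 := by rw [polar_comm, hB z hz]; exact hajz
    have h2 := ca.pm_mem C hajD hz qaj hajz haja hza hw
    exact hnot (ca.smul_mem_iff (mul_ne_zero (mul_ne_zero d.h2 qz) hne) h2)
  -- second step
  have h2 : ∀ z ∈ D j, BQ aj z = 0 → BQ z w = 0 := by
    intro z hz hajz
    by_contra hne
    have hza : BQ z a = 0 := by rw [polar_comm, hB z hz]; exact hajz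
    have h3 := ca.diff_mem C hajD hz qaj hajz haja hza hw
    rw [h1, zero_smul, mul_zero, zero_smul, sub_zero, zero_sub] at h3
    have h4 : BQ z w • aj ∈ A := by simpa using A.neg_mem h3
    exact hnot (ca.smul_mem_iff hne h4)
  refine ⟨BQ f w, fun x hx => ?_⟩
  have hdec := hp_decomp (Q := Q) aj f x
  have h3 : BQ (hp Q aj f x) w = 0 :=
    h2 _ (hp_mem hajD hf hx) (by rw [polar_comm]; exact hp_perp_left qaj hajf x)
  have h4 : BQ x a = BQ x aj := by rw [polar_comm, hB x hx, polar_comm]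
  have h5 : BQ x w = BQ x aj * BQ f w := by
    conv_lhs => rw [hdec]
    rw [polar_add_left, polar_add_left, polar_smul_left, polar_smul_left, h3, h1]
    simp only [smul_eq_mul]
    ring
  rw [polar_sub_right, polar_smul_right, h4, h5]
  simp only [smul_eq_mul]
  ring

end Cfsg.Agent.Lib.Helper42.ODec
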