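import Mathlib
import Cfsg.Agent.Lib.Helper42.ODecC

set_option autoImplicit false
set_option linter.unusedSectionVars false
set_option linter.unusedVariables false
set_option linter.style.haveILetI false
set_option linter.unusedSimpArgs false

/-!
Stabilizers of orthogonal decompositions in `Ω`: the root group of a point outside a block, case of
a nonsingular component.
-/

namespace Cfsg.Agent.Lib.Helper42.ODec

open Matrix QuadraticMap Module Cfsg.Agent.Lib.Helper8 Cfsg.Agent.Lib.Helper13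
  Cfsg.Agent.Lib.Helper42.OSub

variable {ι : Type} [Fintype ι] [DecidableEq ι] {F : Type*} [Field F] [Fintype F]
variable {Q : QuadraticForm F (ι → F)} {hQ : (QuadraticMap.polarBilin Q).Nondegenerate}
variable {k t : ℕ} {D : Fin t → Submodule F (ι → F)} {M : Subgroup (GL ι F)}
variable {a : ι → F} {A : Submodule F (ι → F)}

set_option quotPrecheck false in
local notation "BQ" => QuadraticMap.polar (⇑Q)
local notation "EE" => ee Q hQ
local notation:70 g:70 " ⋆ " x:71 => Matrix.mulVec (Units.val g) x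

omit [Fintype ι] [DecidableEq ι] in
theorem exists_avoid (h : 4 ≤ Fintype.card F) (d : F) :
    ∃ m : F, m ≠ 0 ∧ d * (m * m) ≠ 1 := by
  classical
  by_cases hex : ∃ m₀ : F, d * (m₀ * m₀) = 1
  · obtain ⟨m₀, hm₀⟩ := hex
    obtain ⟨m, hm⟩ : ∃ m : F, m ∉ ({0, m₀, -m₀} : Finset F) := by
      by_contra hcon
      push Not at hcon
      have h1 : (Finset.univ : Finset F) ⊆ ({0, m₀, -m₀} : Finset F) := fun x _ => hcon x
      have h2 := Finset.card_le_card h1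
      have h3 : ({0, m₀, -m₀} : Finset F).card ≤ 3 := Finset.card_le_three
      rw [Finset.card_univ] at h2
      omega
    simp only [Finset.mem_insert, Finset.mem_singleton, not_or] at hm
    refine ⟨m, hm.1, fun hm1 => ?_⟩
    have hd : d ≠ 0 := by
      rintro rfl
      simp at hm₀
    have h1 : d * ((m - m₀) * (m + m₀)) = 0 := by linear_combination hm1 - hm₀
    rcases mul_eq_zero.mp ((mul_eq_zero.mp h1).resolve_left hd) with h' | h'
    · exact hm.2.1 (sub_eq_zero.mp h')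
    · exact hm.2.2 (eq_neg_of_add_eq_zero_left h')
  · push Not at hex
    exact ⟨1, one_ne_zero, hex 1⟩

/-- the orthogonal complement of a nonsingular vector in a nondegenerate subspace -/
theorem NdOn.perp_nonsing {W : Submodule F (ι → F)} (hW : NdOn Q W) (h2 : (2 : F) ≠ 0)
    {c : ι → F} (hc : c ∈ W) (qc : Q c ≠ 0) :
    NdOn Q (W ⊓ LinearMap.ker (QuadraticMap.polarBilin Q c)) := by
  intro x hx hall
  rw [Submodule.mem_inf, LinearMap.mem_ker, polarBilin_apply_apply] at hx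
  apply hW x hx.1
  intro y hy
  have h2q : 2 * Q c ≠ 0 := mul_ne_zero h2 qc
  obtain ⟨r, hr⟩ : ∃ r : F, r = (2 * Q c)⁻¹ * BQ c y := ⟨_, rfl⟩
  have hr' : r * (2 * Q c) = BQ c y := by
    rw [hr, mul_comm, ← mul_assoc, mul_inv_cancel₀ h2q, one_mul]
  have hy' : y - r • c ∈ W ⊓ LinearMap.ker (QuadraticMap.polarBilin Q c) := by
    rw [Submodule.mem_inf, LinearMap.mem_ker, polarBilin_apply_apply]
    refine ⟨W.sub_mem hy (W.smul_mem _ hc), ?_⟩
    rw [polar_sub_right, polar_smul_right, polar_self_eq, smul_eq_mul, hr', sub_self]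
  have h1 := hall _ hy'
  rw [polar_sub_right, polar_smul_right, polar_comm (⇑Q) x c, hx.2, smul_zero, sub_zero] at h1
  exact h1

/-- the main computation: transporting the root group to a singular point of the block -/
theorem LS (C : MCtx hQ k D M) (ng : NG hQ D M) (ca : Cen hQ M k a A) {j : Fin t}
    (haj : a ∉ D j) {p z : ι → F} (hpD : p ∈ D j) (hz : z ∈ D j) (qp : Q p = 0)
    (hpz : BQ p z = 0) (hpa : BQ p a = 0) (hν : BQ z a ≠ 0) {w₀ : ι → F} (hw₀ : w₀ ∈ A)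
    (hμ : BQ p w₀ ≠ 0) : Q w₀ = Q z * (BQ p w₀ * BQ p w₀) := by
  obtain ⟨ν, hν'⟩ : ∃ ν : F, ν = BQ z a := ⟨_, rfl⟩
  obtain ⟨μ, hμ'⟩ : ∃ μ : F, μ = BQ p w₀ := ⟨_, rfl⟩
  rw [← hν'] at hν
  rw [← hμ'] at hμ ⊢
  have p0 : p ≠ 0 := by
    rintro rfl
    rw [polar_zero_left] at hμ'
    exact hμ hμ'
  have hM : EE p z ∈ M := C.ee_mem hpD hz
  have haw₀ : BQ a w₀ = 0 := ca.perp hw₀
  obtain ⟨a₁, ha₁'⟩ : ∃ a₁ : ι → F, a₁ = EE p z ⋆ a := ⟨_, rfl⟩
  obtain ⟨w₁, hw₁'⟩ : ∃ w₁ : ι → F, w₁ = EE p z ⋆ w₀ := ⟨_, rfl⟩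
  have ha₁ : a₁ = a - ν • p := by
    rw [ha₁', ee_mulVec Q hQ qp hpz, hpa, ← hν']
    simp
  have hw₁ : w₁ = w₀ + μ • z - BQ z w₀ • p - (Q z * μ) • p := by
    rw [hw₁', ee_mulVec Q hQ qp hpz, ← hμ']
  have ca₁ := ca.map C hM
  rw [← ha₁'] at ca₁
  obtain ⟨τ, hτ'⟩ : ∃ τ : F, τ = (μ * ν)⁻¹ := ⟨_, rfl⟩
  have hτ : τ * (μ * ν) = 1 := by rw [hτ', inv_mul_cancel₀ (mul_ne_zero hμ hν)]
  have hτ0 : τ ≠ 0 := by
    rintro rfl
    rw [zero_mul] at hτ
    exact zero_ne_one hτ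
  have hw₁A : τ • w₁ ∈ A.map (Matrix.toLin' ((EE p z : GL ι F) : Matrix ι ι F)) :=
    Submodule.smul_mem _ _ (Submodule.mem_map.mpr ⟨w₀, hw₀, by rw [Matrix.toLin'_apply, hw₁']⟩)
  obtain ⟨h1, h2⟩ := (ca₁.mem _).mp hw₁A
  have qa₁ : Q a₁ = 0 := ca₁.qa
  have hiso₁ : EE p z ∈ Cfsg.isometryGroup F (⇑Q) := ee_mem_iso Q hQ _ _
  have hQw₁ : Q w₁ = Q w₀ := by rw [hw₁', iso_Q Q hiso₁]
  -- pairings
  have b1 : BQ a₁ a = 0 := by
    rw [ha₁, polar_sub_left, polar_smul_left, polar_self_zero ca.qa, hpa]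
    simp
  have b2 : BQ w₁ a = μ * ν := by
    rw [hw₁, polar_sub_left, polar_sub_left, polar_add_left, polar_smul_left, polar_smul_left,
      polar_smul_left, polar_comm (⇑Q) w₀ a, haw₀, hpa, ← hν']
    simp
  have b3 : BQ a₁ w₀ = -(ν * μ) := by
    rw [ha₁, polar_sub_left, polar_smul_left, haw₀, ← hμ']
    simp
  have b4 : BQ w₁ w₀ = 2 * Q w₀ - Q z * (μ * μ) := by
    rw [hw₁, polar_sub_left, polar_sub_left, polar_add_left, polar_smul_left, polar_smul_left,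
      polar_smul_left, polar_self_eq, ← hμ']
    simp only [smul_eq_mul]
    ring
  -- the image of `a`
  have hm₁a : EE a₁ (τ • w₁) ⋆ a = ν • p := by
    rw [ee_mulVec Q hQ qa₁ h1, b1, polar_smul_left, b2, ha₁]
    simp only [smul_eq_mul, zero_smul, mul_zero, add_zero, sub_zero]
    linear_combination (norm := module) (-hτ) • (a - ν • p)
  have ca₂ := ca.map C h2
  rw [hm₁a] at ca₂
  obtain ⟨x, hx'⟩ : ∃ x : ι → F, x = EE a₁ (τ • w₁) ⋆ w₀ := ⟨_, rfl⟩
  have hxA : x ∈ A.map (Matrix.toLin' ((EE a₁ (τ • w₁) : GL ι F) : Matrix ι ι F)) :=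
    Submodule.mem_map.mpr ⟨w₀, hw₀, by rw [Matrix.toLin'_apply, hx']⟩
  obtain ⟨h3, h4⟩ := (ca₂.mem _).mp hxA
  have hpx : BQ p x = 0 := by
    rw [polar_smul_left, smul_eq_mul] at h3
    exact (mul_eq_zero.mp h3).resolve_left hν
  rw [ee_smul_left Q hQ qp hpx] at h4
  have h5 : ν • x ∈ D j :=
    ng j p hpD qp p0 (ν • x) (by rw [polar_smul_right, hpx, smul_zero]) h4
  have hxD : x ∈ D j := by
    have := (D j).smul_mem ν⁻¹ h5
    rwa [smul_smul, inv_mul_cancel₀ hν, one_smul] at this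
  -- the formula for `x`
  have hx : x = (w₀ - w₁) - (τ * (Q w₀ - Q z * (μ * μ))) • a₁ := by
    rw [hx', ee_mulVec Q hQ qa₁ h1, b3, polar_smul_left, b4, QuadraticMap.map_smul, hQw₁]
    simp only [smul_eq_mul]
    linear_combination (norm := module) hτ • (-w₁ + (τ * Q w₀) • a₁)
  have h6 : w₀ - w₁ ∈ D j := by
    have : w₀ - w₁ = -(μ • z) + BQ z w₀ • p + (Q z * μ) • p := by rw [hw₁]; abel
    rw [this]
    exact (D j).add_mem ((D j).add_mem ((D j).neg_mem ((D j).smul_mem _ hz))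
      ((D j).smul_mem _ hpD)) ((D j).smul_mem _ hpD)
  have h7 : (τ * (Q w₀ - Q z * (μ * μ))) • a₁ ∈ D j := by
    have : (τ * (Q w₀ - Q z * (μ * μ))) • a₁ = (w₀ - w₁) - x := by rw [hx]; abel
    rw [this]
    exact (D j).sub_mem h6 hxD
  by_contra hne
  have hκ : τ * (Q w₀ - Q z * (μ * μ)) ≠ 0 :=
    mul_ne_zero hτ0 (sub_ne_zero.mpr hne)
  have h8 : a₁ ∈ D j := by
    have := (D j).smul_mem (τ * (Q w₀ - Q z * (μ * μ)))⁻¹ h7
    rwa [smul_smul, inv_mul_cancel₀ hκ, one_smul] at this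
  apply haj
  have : a = a₁ + ν • p := by rw [ha₁]; abel
  rw [this]
  exact (D j).add_mem h8 ((D j).smul_mem _ hpD)

/-- singular vectors of the block orthogonal to the component are orthogonal to the root group -/
theorem NsS_perp (C : MCtx hQ k D M) (ng : NG hQ D M) (ca : Cen hQ M k a A) {j : Fin t}
    (haj : a ∉ D j) {aj : ι → F} (hajD : aj ∈ D j) (hB : ∀ y ∈ D j, BQ a y = BQ aj y)
    (qaj : Q aj ≠ 0) {p : ι → F} (hpD : p ∈ D j) (qp : Q p = 0) (hpaj : BQ p aj = 0)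
    {w₀ : ι → F} (hw₀ : w₀ ∈ A) : BQ p w₀ = 0 := by
  by_contra hμ
  have d := C.d
  have hpa : BQ p a = 0 := by rw [polar_comm, hB p hpD, polar_comm]; exact hpaj
  have hν : BQ aj a ≠ 0 := by
    rw [polar_comm, hB aj hajD, polar_self_eq]; exact mul_ne_zero d.h2 qaj
  have e1 := LS C ng ca haj hpD hajD qp hpaj hpa hν hw₀ hμ
  have hμμ : BQ p w₀ * BQ p w₀ ≠ 0 := mul_ne_zero hμ hμ
  rcases C.hex with h5 | h4
  · obtain ⟨c, hc0, hc1⟩ := exists_avoid (by omega : 4 ≤ Fintype.card F) (1 : F)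
    have hν' : BQ (c • aj) a ≠ 0 := by
      rw [polar_smul_left, smul_eq_mul]; exact mul_ne_zero hc0 hν
    have e2 := LS C ng ca haj hpD ((D j).smul_mem c hajD) qp
      (by rw [polar_smul_right, hpaj, smul_zero]) hpa hν' hw₀ hμ
    rw [QuadraticMap.map_smul, smul_eq_mul] at e2
    have h1 : (1 * (c * c) - 1) * (Q aj * (BQ p w₀ * BQ p w₀)) = 0 := by
      linear_combination e1 - e2
    rcases mul_eq_zero.mp h1 with h | h
    · exact hc1 (sub_eq_zero.mp h)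
    · exact (mul_ne_zero qaj hμμ) h
  · have hPi := (d.nd j).perp_nonsing d.h2 hajD qaj
    have hfr : 3 ≤ finrank F ↥(D j ⊓ LinearMap.ker (QuadraticMap.polarBilin Q aj)) := by
      have := Cfsg.Agent.Lib.Helper99.finrank_le_inf_ker_polar Q (D j) aj
      rw [d.fr] at this
      omega
    have hpPi : p ∈ D j ⊓ LinearMap.ker (QuadraticMap.polarBilin Q aj) := by
      rw [Submodule.mem_inf, LinearMap.mem_ker, polarBilin_apply_apply, polar_comm]
      exact ⟨hpD, hpaj⟩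
    have p0 : p ≠ 0 := by
      rintro rfl
      exact hμ (polar_zero_left _ _)
    obtain ⟨y, hy, hpy, qy⟩ := hPi.exists_nonsing_perp1 hfr hpPi p0 qp
    rw [Submodule.mem_inf, LinearMap.mem_ker, polarBilin_apply_apply] at hy
    have hν' : BQ (aj + y) a ≠ 0 := by
      rw [polar_comm, hB _ ((D j).add_mem hajD hy.1), polar_add_right, polar_self_eq, hy.2,
        add_zero]
      exact mul_ne_zero d.h2 qaj
    have e2 := LS C ng ca haj hpD ((D j).add_mem hajD hy.1) qp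
      (by rw [polar_add_right, hpaj, hpy, add_zero]) hpa hν' hw₀ hμ
    rw [QuadraticMap.map_add (⇑Q), hy.2, add_zero] at e2
    have h1 : Q y * (BQ p w₀ * BQ p w₀) = 0 := by linear_combination e1 - e2
    exact (mul_ne_zero qy hμμ) h1

/-- case of a nonsingular component with a singular vector orthogonal to it -/
theorem F4NS (C : MCtx hQ k D M) (ng : NG hQ D M) (ca : Cen hQ M k a A) {j : Fin t}
    (haj : a ∉ D j) {aj : ι → F} (hajD : aj ∈ D j) (hB : ∀ y ∈ D j, BQ a y = BQ aj y)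
    (qaj : Q aj ≠ 0) {p₀ : ι → F} (hp₀D : p₀ ∈ D j) (p₀0 : p₀ ≠ 0) (qp₀ : Q p₀ = 0)
    (hp₀aj : BQ p₀ aj = 0) {w : ι → F} (hw : w ∈ A) :
    ∃ β : F, ∀ x ∈ D j, BQ x (w - β • a) = 0 := by
  have d := C.d
  have hPi := (d.nd j).perp_nonsing d.h2 hajD qaj
  have hmem : ∀ x : ι → F, x ∈ D j ⊓ LinearMap.ker (QuadraticMap.polarBilin Q aj) ↔
      (x ∈ D j ∧ BQ aj x = 0) := by
    intro x
    rw [Submodule.mem_inf, LinearMap.mem_ker, polarBilin_apply_apply]
  have hp₀Pi : p₀ ∈ D j ⊓ LinearMap.ker (QuadraticMap.polarBilin Q aj) := by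
    rw [hmem, polar_comm]; exact ⟨hp₀D, hp₀aj⟩
  obtain ⟨f₀, hf₀, qf₀, hpf₀⟩ := hPi.exists_partner hp₀Pi p₀0 qp₀
  have hperp : ∀ x ∈ D j ⊓ LinearMap.ker (QuadraticMap.polarBilin Q aj), BQ x w = 0 := by
    refine polar_eq_zero_of_sing hp₀Pi hf₀ qp₀ qf₀ hpf₀ ?_
    intro s hs qs
    rw [hmem] at hs
    exact NsS_perp C ng ca haj hajD hB qaj hs.1 qs (by rw [polar_comm]; exact hs.2) hw
  have h2q : 2 * Q aj ≠ 0 := mul_ne_zero d.h2 qaj
  refine ⟨(2 * Q aj)⁻¹ * BQ aj w, fun x hx => ?_⟩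
  obtain ⟨r, hr⟩ : ∃ r : F, r = (2 * Q aj)⁻¹ * BQ aj x := ⟨_, rfl⟩
  have hr' : r * (2 * Q aj) = BQ aj x := by
    rw [hr, mul_comm, ← mul_assoc, mul_inv_cancel₀ h2q, one_mul]
  have hx' : x - r • aj ∈ D j ⊓ LinearMap.ker (QuadraticMap.polarBilin Q aj) := by
    rw [hmem]
    refine ⟨(D j).sub_mem hx ((D j).smul_mem _ hajD), ?_⟩
    rw [polar_sub_right, polar_smul_right, polar_self_eq, smul_eq_mul, hr', sub_self]
  have h1 := hperp _ hx'
  rw [polar_sub_left, polar_smul_left, smul_eq_mul] at h1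
  have h3 : BQ x a = BQ aj x := by rw [polar_comm, hB x hx]
  rw [polar_sub_right, polar_smul_right, h3, smul_eq_mul, sub_eq_zero.mp h1, hr]
  ring

end Cfsg.Agent.Lib.Helper42.ODec
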