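import Mathlib
import Cfsg.Agent.Lib.Helper42.ODecD

set_option autoImplicit false
set_option linter.unusedSectionVars false
set_option linter.unusedVariables false
set_option linter.style.haveILetI false
set_option linter.unusedSimpArgs false

/-!
Stabilizers of orthogonal decompositions in `Ω`: the anisotropic case, and the description of the
root group of a point outside a block.
-/

namespace Cfsg.Agent.Lib.Helper42.ODec

open Matrix QuadraticMap Module Cfsg.Agent.Lib.Helper8 Cfsg.Agent.Lib.Helper13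
  Cfsg.Agent.Lib.Helper42.OSub

variable {ι : Type} [Fintype ι] [DecidableEq ι] {F : Type*} [Field F] [Fintype F]
variable {Q : QuadraticForm F (ι → F)} {hQ : (QuadraticMap.polarBilin Q).Nondegenerate}
variable {k t : ℕ} {D : Fin t → Submodule F (ι → F)} {M : Subgroup (GL ι F)}
variable {a : ι → F} {A : Submodule F (ι → F)}

set_option quotPrecheck false in
local notation "BQ" => QuadraticMap.polar (⇑Q)
local notation "EE" => ee Q hQ
local notation:70 g:70 " ⋆ " x:71 => Matrix.mulVec (Units.val g) x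

/-- case of a nonsingular component whose orthogonal complement in the block is anisotropic -/
theorem F4NN (C : MCtx hQ k D M) (ng : NG hQ D M) (ca : Cen hQ M k a A) {j : Fin t}
    (haj : a ∉ D j) {aj : ι → F} (hajD : aj ∈ D j) (hB : ∀ y ∈ D j, BQ a y = BQ aj y)
    (qaj : Q aj ≠ 0) (hno : ∀ p ∈ D j, Q p = 0 → BQ p aj = 0 → p = 0) {w : ι → F}
    (hw : w ∈ A) : ∃ β : F, ∀ x ∈ D j, BQ x (w - β • a) = 0 := by
  have d := C.d
  have h2 := d.h2
  have hk3 : k = 3 := by
    by_contra hne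
    have h4 : 4 ≤ k := by have := d.hk; omega
    have hfr : 3 ≤ finrank F ↥(D j ⊓ LinearMap.ker (QuadraticMap.polarBilin Q aj)) := by
      have := Cfsg.Agent.Lib.Helper99.finrank_le_inf_ker_polar Q (D j) aj
      rw [d.fr] at this
      omega
    obtain ⟨s, hs, hs0, qs⟩ := Cfsg.Agent.Lib.Helper99.exists_singular_sub Q _ hfr
    rw [Submodule.mem_inf, LinearMap.mem_ker, polarBilin_apply_apply] at hs
    exact hs0 (hno s hs.1 qs (by rw [polar_comm]; exact hs.2))
  have h5 : 5 ≤ Fintype.card F := by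
    rcases C.hex with h | h
    · exact h
    · omega
  obtain ⟨wj, hwj, hwperp⟩ := d.exists_comp w j
  have hBw : ∀ y ∈ D j, BQ w y = BQ wj y := by
    intro y hy
    have := hwperp y hy
    rw [polar_sub_left] at this
    exact sub_eq_zero.mp this
  have h2q : 2 * Q aj ≠ 0 := mul_ne_zero h2 qaj
  obtain ⟨c, hc⟩ : ∃ c : F, c = (2 * Q aj)⁻¹ * BQ wj aj := ⟨_, rfl⟩
  have hc' : c * (2 * Q aj) = BQ wj aj := by
    rw [hc, mul_comm, ← mul_assoc, mul_inv_cancel₀ h2q, one_mul]
  obtain ⟨π, hπ⟩ : ∃ π : ι → F, π = wj - c • aj := ⟨_, rfl⟩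
  have hπD : π ∈ D j := by rw [hπ]; exact (D j).sub_mem hwj ((D j).smul_mem _ hajD)
  have hπaj : BQ π aj = 0 := by
    rw [hπ, polar_sub_left, polar_smul_left, polar_self_eq, smul_eq_mul, hc', sub_self]
  have key : ∀ x ∈ D j, BQ x (w - c • a) = BQ x π := by
    intro x hx
    rw [polar_sub_right, polar_smul_right, polar_comm (⇑Q) x w, hBw x hx, polar_comm (⇑Q) x a,
      hB x hx, hπ, polar_sub_right, polar_smul_right, polar_comm (⇑Q) wj x,
      polar_comm (⇑Q) aj x]
  by_cases hπ0 : π = 0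
  · exact ⟨c, fun x hx => by rw [key x hx, hπ0, polar_zero_right]⟩
  exfalso
  have qπ : Q π ≠ 0 := fun q => hπ0 (hno π hπD q hπaj)
  obtain ⟨c', hc'D, hc'0, hperp⟩ :=
    Cfsg.Agent.Lib.Helper99.exists_ne_zero_perp Q [aj, π] (D j) (by
      rw [d.fr, hk3]; simp)
  have hajc' : BQ aj c' = 0 := hperp aj (by simp)
  have hπc' : BQ π c' = 0 := hperp π (by simp)
  have qc' : Q c' ≠ 0 := fun q => hc'0 (hno c' hc'D q (by rw [polar_comm]; exact hajc'))
  obtain ⟨N, hN⟩ : ∃ N : F, N = Q π := ⟨_, rfl⟩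
  have hN0 : N ≠ 0 := by rw [hN]; exact qπ
  obtain ⟨dd, hdd⟩ : ∃ dd : F, dd = Q c' * N⁻¹ := ⟨_, rfl⟩
  have hddN : Q c' = dd * N := by
    rw [hdd, mul_assoc, inv_mul_cancel₀ hN0, mul_one]
  have hdd0 : dd ≠ 0 := by rw [hdd]; exact mul_ne_zero qc' (inv_ne_zero hN0)
  obtain ⟨m, hm0, hm1⟩ := exists_avoid (by omega : 4 ≤ Fintype.card F) dd
  obtain ⟨E, hE⟩ : ∃ E : F, E = 1 + dd * (m * m) := ⟨_, rfl⟩
  have hE0 : E ≠ 0 := by
    intro hE0
    have h1 : Q (π + m • c') = 0 := by
      rw [QuadraticMap.map_add (⇑Q), QuadraticMap.map_smul, polar_smul_right, hπc', ← hN,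
        hddN, smul_eq_mul]
      have : N + m * m * (dd * N) + m * 0 = N * E := by rw [hE]; ring
      rw [smul_eq_mul, this, hE0, mul_zero]
    have h2' : π + m • c' = 0 :=
      hno _ ((D j).add_mem hπD ((D j).smul_mem _ hc'D)) h1 (by
        rw [polar_add_left, polar_smul_left, hπaj, polar_comm (⇑Q) c' aj, hajc']
        simp)
    have h3 : BQ π (π + m • c') = 2 * N := by
      rw [polar_add_right, polar_smul_right, hπc', polar_self_eq, hN]
      simp
    rw [h2', polar_zero_right] at h3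
    exact (mul_ne_zero h2 hN0) h3.symm
  obtain ⟨α, hα⟩ : ∃ α : F, α = (1 - dd * (m * m)) * E⁻¹ := ⟨_, rfl⟩
  obtain ⟨β, hβ⟩ : ∃ β : F, β = 2 * m * E⁻¹ := ⟨_, rfl⟩
  have hα0 : α ≠ 0 := by
    rw [hα]
    exact mul_ne_zero (sub_ne_zero.mpr (Ne.symm hm1)) (inv_ne_zero hE0)
  have hβ0 : β ≠ 0 := by
    rw [hβ]
    exact mul_ne_zero (mul_ne_zero h2 hm0) (inv_ne_zero hE0)
  have hαβ : α * α + dd * (β * β) = 1 := by
    rw [hα, hβ]
    field_simp
    rw [hE]
    ring
  have hα1 : α * α - 1 ≠ 0 := by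
    have : α * α - 1 = -(dd * (β * β)) := by linear_combination hαβ
    rw [this]
    exact neg_ne_zero.mpr (mul_ne_zero hdd0 (mul_ne_zero hβ0 hβ0))
  obtain ⟨c₂, hc₂⟩ : ∃ c₂ : ι → F, c₂ = α • π + β • c' := ⟨_, rfl⟩
  have hc₂D : c₂ ∈ D j := by
    rw [hc₂]; exact (D j).add_mem ((D j).smul_mem _ hπD) ((D j).smul_mem _ hc'D)
  have qc₂ : Q c₂ = Q π := by
    rw [hc₂, QuadraticMap.map_add (⇑Q), QuadraticMap.map_smul, QuadraticMap.map_smul,
      polar_smul_left, polar_smul_right, hπc', ← hN, hddN]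
    simp only [smul_eq_mul]
    linear_combination N * hαβ
  -- pairings with `a`
  have hπa : BQ π a = 0 := by rw [polar_comm, hB π hπD, polar_comm]; exact hπaj
  have hc'a : BQ c' a = 0 := by rw [polar_comm, hB c' hc'D]; exact hajc'
  have hc₂a : BQ c₂ a = 0 := by
    rw [hc₂, polar_add_left, polar_smul_left, polar_smul_left, hπa, hc'a]
    simp
  -- the two bireflections
  obtain ⟨ρ₁, hρ₁H, hρ₁⟩ := d.birefl (hQ := hQ) hπD hc₂D qπ qc₂
  obtain ⟨ρ₂, hρ₂H, hρ₂⟩ := d.birefl (hQ := hQ) hc₂D hπD (by rw [qc₂]; exact qπ) qc₂.symm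
  have fix₁ : ρ₁ ⋆ a = a := by rw [hρ₁, rf_fix hc₂a, rf_fix hπa]
  have fix₂ : ρ₂ ⋆ a = a := by rw [hρ₂, rf_fix hπa, rf_fix hc₂a]
  have m₁ := ca.map_fix C (C.hHM hρ₁H) fix₁ hw
  have m₂ := ca.map_fix C (C.hHM hρ₂H) fix₂ hw
  -- pairings with `w`
  have hwj' : wj = π + c • aj := by rw [hπ]; abel
  have hπw : BQ π w = 2 * N := by
    rw [polar_comm, hBw π hπD, hwj', polar_add_left, polar_smul_left, polar_self_eq,
      polar_comm (⇑Q) aj π, hπaj, hN]
    simp
  have hc'w : BQ c' w = 0 := by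
    rw [polar_comm, hBw c' hc'D, hwj', polar_add_left, polar_smul_left, hπc', hajc']
    simp
  have hc₂w : BQ c₂ w = 2 * α * N := by
    rw [hc₂, polar_add_left, polar_smul_left, polar_smul_left, hπw, hc'w]
    simp only [smul_eq_mul]
    ring
  have hπc₂ : BQ π c₂ = 2 * α * N := by
    rw [hc₂, polar_add_right, polar_smul_right, polar_smul_right, hπc', polar_self_eq, ← hN]
    simp only [smul_eq_mul]
    ring
  have hNN : N⁻¹ * N = 1 := inv_mul_cancel₀ hN0
  -- the first image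
  have e₁ : ρ₁ ⋆ w = w - (2 * α) • c₂ - (2 - 4 * (α * α)) • π := by
    rw [hρ₁]
    have s1 : rf Q c₂ w = w - (2 * α) • c₂ := by
      unfold rf
      rw [qc₂, ← hN, hc₂w]
      have : N⁻¹ * (2 * α * N) = 2 * α := by linear_combination (2 * α) * hNN
      rw [this]
    rw [s1]
    unfold rf
    rw [← hN, polar_sub_right, polar_smul_right, hπw, hπc₂]
    have : N⁻¹ * (2 * N - (2 * α) • (2 * α * N)) = 2 - 4 * (α * α) := by
      rw [smul_eq_mul]
      linear_combination (2 - 4 * (α * α)) * hNN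
    rw [this]
  have e₂ : ρ₂ ⋆ w = w - (2 : F) • π + (2 * α) • c₂ := by
    rw [hρ₂]
    have s1 : rf Q π w = w - (2 : F) • π := by
      unfold rf
      rw [← hN, hπw]
      have : N⁻¹ * (2 * N) = 2 := by linear_combination 2 * hNN
      rw [this]
    rw [s1]
    unfold rf
    rw [qc₂, ← hN, polar_sub_right, polar_smul_right, hc₂w, polar_comm (⇑Q) c₂ π, hπc₂]
    have : N⁻¹ * (2 * α * N - (2 : F) • (2 * α * N)) = -(2 * α) := by
      rw [smul_eq_mul]
      linear_combination (-(2 * α)) * hNN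
    rw [this]
    module
  have h4 : (4 : F) ≠ 0 := by
    have : (4 : F) = 2 * 2 := by norm_num
    rw [this]; exact mul_ne_zero h2 h2
  have hπA : π ∈ A := by
    have h1 : (4 * (α * α - 1)) • π = ρ₁ ⋆ w + ρ₂ ⋆ w - (2 : F) • w := by
      rw [e₁, e₂, hc₂]
      module
    have h3 : (4 * (α * α - 1)) • π ∈ A := by
      rw [h1]
      exact A.sub_mem (A.add_mem m₁ m₂) (A.smul_mem _ hw)
    exact ca.smul_mem_iff (mul_ne_zero h4 hα1) h3
  have hc'A : c' ∈ A := by
    have h1 : (4 * (α * β)) • c' = ρ₂ ⋆ w - ρ₁ ⋆ w := by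
      rw [e₁, e₂, hc₂]
      module
    have h3 : (4 * (α * β)) • c' ∈ A := by
      rw [h1]
      exact A.sub_mem m₂ m₁
    exact ca.smul_mem_iff (mul_ne_zero h4 (mul_ne_zero hα0 hβ0)) h3
  -- dimension count
  have hS₂A : Submodule.span F {π, c'} ≤ A := by
    rw [Submodule.span_le]
    intro x hx
    rcases hx with rfl | rfl
    · exact hπA
    · exact hc'A
  have hS₂D : Submodule.span F {π, c'} ≤ D j := by
    rw [Submodule.span_le]
    intro x hx
    rcases hx with rfl | rfl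
    · exact hπD
    · exact hc'D
  have lt₁ : Submodule.span F {π} < Submodule.span F {π, c'} := by
    refine lt_of_le_of_ne (Submodule.span_mono (by simp)) ?_
    intro heq
    have : c' ∈ Submodule.span F {π} := by
      rw [heq]; exact Submodule.subset_span (by simp)
    obtain ⟨r, hr⟩ := Submodule.mem_span_singleton.mp this
    have h1 : BQ π c' = r * (2 * N) := by
      rw [← hr, polar_smul_right, polar_self_eq, hN, smul_eq_mul]
    rw [hπc'] at h1
    have hr0 : r = 0 := by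
      rcases mul_eq_zero.mp h1.symm with h | h
      · exact h
      · exact absurd h (mul_ne_zero h2 hN0)
    rw [hr0, zero_smul] at hr
    exact hc'0 hr.symm
  have lt₂ : Submodule.span F {π, c'} < A := by
    refine lt_of_le_of_ne hS₂A ?_
    intro heq
    exact haj (hS₂D (by rw [heq]; exact ca.self_mem))
  have f₁ := Submodule.finrank_lt_finrank_of_lt lt₁
  have f₂ := Submodule.finrank_lt_finrank_of_lt lt₂
  rw [finrank_span_singleton hπ0] at f₁
  have := ca.fr
  omega

/-- the root group of a point outside a block is, modulo the point, orthogonal to the block -/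
theorem F4 (C : MCtx hQ k D M) (ng : NG hQ D M) (ca : Cen hQ M k a A) {j : Fin t}
    (haj : a ∉ D j) {w : ι → F} (hw : w ∈ A) : ∃ β : F, ∀ x ∈ D j, BQ x (w - β • a) = 0 := by
  obtain ⟨aj, hajD, hperp⟩ := C.d.exists_comp a j
  have hB : ∀ y ∈ D j, BQ a y = BQ aj y := by
    intro y hy
    have := hperp y hy
    rw [polar_sub_left] at this
    exact sub_eq_zero.mp this
  by_cases h0 : aj = 0
  · refine ⟨0, fun x hx => ?_⟩
    rw [zero_smul, sub_zero]
    exact F4Z C ng ca haj (fun y hy => by rw [hB y hy, h0, polar_zero_left]) hw x hx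
  by_cases hq : Q aj = 0
  · exact F4S C ng ca haj hajD hB h0 hq hw
  by_cases hs : ∃ p ∈ D j, p ≠ 0 ∧ Q p = 0 ∧ BQ p aj = 0
  · obtain ⟨p, hpD, p0, qp, hpaj⟩ := hs
    exact F4NS C ng ca haj hajD hB hq hpD p0 qp hpaj hw
  · push Not at hs
    refine F4NN C ng ca haj hajD hB hq (fun p hpD qp hpaj => ?_) hw
    by_contra hp0
    exact hs p hpD hp0 qp hpaj

end Cfsg.Agent.Lib.Helper42.ODec
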