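import Mathlib
import Cfsg.Agent.Lib.Helper42.ODecE

set_option autoImplicit false
set_option linter.unusedSectionVars false
set_option linter.unusedVariables false
set_option linter.style.haveILetI false
set_option linter.unusedSimpArgs false

/-!
Stabilizers of orthogonal decompositions in `Ω`: a proper overgroup has a bigger root group at a
block-singular point.
-/

namespace Cfsg.Agent.Lib.Helper42.ODec

open Matrix QuadraticMap Module Cfsg.Agent.Lib.Helper8 Cfsg.Agent.Lib.Helper13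
  Cfsg.Agent.Lib.Helper42.OSub

variable {ι : Type} [Fintype ι] [DecidableEq ι] {F : Type*} [Field F] [Fintype F]
variable {Q : QuadraticForm F (ι → F)} {hQ : (QuadraticMap.polarBilin Q).Nondegenerate}
variable {k t : ℕ} {D : Fin t → Submodule F (ι → F)} {M : Subgroup (GL ι F)}
variable {a : ι → F} {A : Submodule F (ι → F)}

set_option quotPrecheck false in
local notation "BQ" => QuadraticMap.polar (⇑Q)
local notation "EE" => ee Q hQ
local notation:70 g:70 " ⋆ " x:71 => Matrix.mulVec (Units.val g) x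

/-- a nonsingular vector of the root group orthogonal to a block -/
theorem exists_what (C : MCtx hQ k D M) (ng : NG hQ D M) (ca : Cen hQ M k a A) {l : Fin t}
    (hal : a ∉ D l) : ∃ ŵ ∈ A, (∀ x ∈ D l, BQ x ŵ = 0) ∧ Q ŵ ≠ 0 := by
  obtain ⟨w, hw, hwa⟩ := ca.exists_not_smul C
  have h1 : ∃ x ∈ A, BQ w x ≠ 0 := by
    by_contra hcon
    push Not at hcon
    obtain ⟨c, hc⟩ := ca.rad w hw hcon
    exact hwa c hc
  obtain ⟨x, hx, hwx⟩ := h1
  obtain ⟨β, hβ⟩ := F4 C ng ca hal hw
  obtain ⟨β', hβ'⟩ := F4 C ng ca hal hx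
  have haA := ca.self_mem
  have hw'A : w - β • a ∈ A := A.sub_mem hw (A.smul_mem _ haA)
  have hx'A : x - β' • a ∈ A := A.sub_mem hx (A.smul_mem _ haA)
  have hB : BQ (w - β • a) (x - β' • a) = BQ w x := by
    rw [polar_sub_left, polar_sub_right, polar_sub_right, polar_smul_left, polar_smul_left,
      polar_smul_right, polar_smul_right, ca.perp hx, polar_comm (⇑Q) w a, ca.perp hw,
      polar_self_zero ca.qa]
    simp
  by_cases q1 : Q (w - β • a) = 0
  · by_cases q2 : Q (x - β' • a) = 0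
    · refine ⟨(w - β • a) + (x - β' • a), A.add_mem hw'A hx'A, fun y hy => ?_, ?_⟩
      · rw [polar_add_right, hβ y hy, hβ' y hy, add_zero]
      · rw [QuadraticMap.map_add (⇑Q), q1, q2, hB]
        simpa using hwx
    · exact ⟨_, hx'A, hβ', q2⟩
  · exact ⟨_, hw'A, hβ, q1⟩

/-- no point outside all blocks has a root group as small as those of `H` -/
theorem F5 (C : MCtx hQ k D M) (ng : NG hQ D M) (ca : Cen hQ M k a A)
    (hno : ∀ j, a ∉ D j) : False := by
  have d := C.d
  have h2 := d.h2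
  have haA := ca.self_mem
  -- a block not orthogonal to `a`
  obtain ⟨l, x₀, hx₀, hx₀a⟩ : ∃ l, ∃ x ∈ D l, BQ x a ≠ 0 := by
    by_contra hcon
    push Not at hcon
    exact ca.a0 (d.perp_all (hQ := hQ) hcon)
  obtain ⟨ŵ, hŵA, hŵperp, qŵ⟩ := exists_what C ng ca (hno l)
  obtain ⟨u, hu, hu0, qu, hua⟩ :=
    (d.nd l).exists_sing_polar_ne (d.three_le l) ⟨x₀, hx₀, hx₀a⟩
  obtain ⟨z, hz, huz, qz⟩ := (d.nd l).exists_nonsing_perp1 (d.three_le l) hu hu0 qu
  have hM : EE u z ∈ M := C.ee_mem hu hz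
  obtain ⟨a', ha''⟩ : ∃ a' : ι → F, a' = EE u z ⋆ a := ⟨_, rfl⟩
  have ha' : a' = a + BQ u a • z - BQ z a • u - (Q z * BQ u a) • u := by
    rw [ha'', ee_mulVec Q hQ qu huz]
  have huŵ : BQ u ŵ = 0 := hŵperp u hu
  have hzŵ : BQ z ŵ = 0 := hŵperp z hz
  have hfix : EE u z ⋆ ŵ = ŵ := ee_fix hQ qu huz huŵ hzŵ
  have ca' := ca.map C hM
  rw [← ha''] at ca'
  have hŵA' : ŵ ∈ A.map (Matrix.toLin' ((EE u z : GL ι F) : Matrix ι ι F)) :=
    Submodule.mem_map.mpr ⟨ŵ, hŵA, by rw [Matrix.toLin'_apply, hfix]⟩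
  obtain ⟨haŵ, hm₂⟩ := (ca.mem ŵ).mp hŵA
  obtain ⟨y, hy'⟩ : ∃ y : ι → F, y = EE a ŵ ⋆ a' := ⟨_, rfl⟩
  have cy := ca'.map C hm₂
  rw [← hy'] at cy
  obtain ⟨κ, hκ⟩ : ∃ κ : F, κ = BQ a a' := ⟨_, rfl⟩
  have hŵa : BQ ŵ a = 0 := by rw [polar_comm]; exact haŵ
  have hŵa' : BQ ŵ a' = 0 := by
    rw [ha', polar_sub_right, polar_sub_right, polar_add_right, polar_smul_right,
      polar_smul_right, polar_smul_right, hŵa, polar_comm (⇑Q) ŵ z, hzŵ,
      polar_comm (⇑Q) ŵ u, huŵ]
    simp
  have hy : y = a' + κ • ŵ - (Q ŵ * κ) • a := by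
    rw [hy', ee_mulVec Q hQ ca.qa haŵ, ← hκ, hŵa']
    simp
  have hŵ₂ : EE a ŵ ⋆ ŵ = ŵ - (2 * Q ŵ) • a := by
    rw [ee_mulVec Q hQ ca.qa haŵ, haŵ, polar_self_eq]
    simp
  have hŵ₂A : ŵ - (2 * Q ŵ) • a ∈
      (A.map (Matrix.toLin' ((EE u z : GL ι F) : Matrix ι ι F))).map
        (Matrix.toLin' ((EE a ŵ : GL ι F) : Matrix ι ι F)) :=
    Submodule.mem_map.mpr ⟨ŵ, hŵA', by rw [Matrix.toLin'_apply, hŵ₂]⟩
  have huu : BQ u u = 0 := polar_self_zero qu
  have hzu : BQ z u = 0 := by rw [polar_comm]; exact huz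
  have hua' : BQ u a' = BQ u a := by
    rw [ha', polar_sub_right, polar_sub_right, polar_add_right, polar_smul_right,
      polar_smul_right, polar_smul_right, huz, huu]
    simp
  have hza' : BQ z a' = BQ z a + 2 * Q z * BQ u a := by
    rw [ha', polar_sub_right, polar_sub_right, polar_add_right, polar_smul_right,
      polar_smul_right, polar_smul_right, hzu, polar_self_eq]
    simp only [smul_eq_mul]
    ring
  by_cases hyl : y ∈ D l
  · -- `y` in the block
    obtain ⟨h3, h4⟩ := (cy.mem _).mp hŵ₂A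
    have h5 := ng l y hyl cy.qa cy.a0 _ h3 h4
    have h6 := hŵperp _ h5
    rw [polar_sub_left, polar_smul_left, polar_self_eq, polar_comm (⇑Q) a ŵ, hŵa] at h6
    have : 2 * Q ŵ = 0 := by simpa using h6
    exact (mul_ne_zero h2 qŵ) this
  · obtain ⟨β, hβ⟩ := F4 C ng cy hyl hŵ₂A
    have e1 := hβ u hu
    have e2 := hβ z hz
    have huy : BQ u y = BQ u a * (1 - Q ŵ * κ) := by
      rw [hy, polar_sub_right, polar_add_right, polar_smul_right, polar_smul_right, hua', huŵ]
      simp only [smul_eq_mul]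
      ring
    have hzy : BQ z y = BQ z a * (1 - Q ŵ * κ) + 2 * Q z * BQ u a := by
      rw [hy, polar_sub_right, polar_add_right, polar_smul_right, polar_smul_right, hza', hzŵ]
      simp only [smul_eq_mul]
      ring
    rw [polar_sub_right, polar_sub_right, polar_smul_right, polar_smul_right, huŵ, huy] at e1
    rw [polar_sub_right, polar_sub_right, polar_smul_right, polar_smul_right, hzŵ, hzy] at e2
    simp only [smul_eq_mul] at e1 e2
    have e3 : 2 * Q ŵ + β * (1 - Q ŵ * κ) = 0 := by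
      have : BQ u a * (2 * Q ŵ + β * (1 - Q ŵ * κ)) = 0 := by linear_combination -e1
      exact (mul_eq_zero.mp this).resolve_left hua
    have e4 : β * (2 * Q z * BQ u a) = 0 := by
      linear_combination -e2 - BQ z a * e3
    have hβ0 : β = 0 :=
      (mul_eq_zero.mp e4).resolve_right (mul_ne_zero (mul_ne_zero h2 qz) hua)
    rw [hβ0] at e3
    have : 2 * Q ŵ = 0 := by linear_combination e3
    exact (mul_ne_zero h2 qŵ) this

/-- an isometry outside the stabilizer maps some block-singular vector outside all blocks -/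
theorem exists_bad (d : Dec Q k D) {g : GL ι F} (hg : g ∈ Cfsg.isometryGroup F (⇑Q))
    (hgs : g ∉ Cfsg.Geo.decompositionStabilizer D) :
    ∃ l, ∃ b ∈ D l, Q b = 0 ∧ b ≠ 0 ∧ ∀ j, g ⋆ b ∉ D j := by
  by_contra hcon
  push Not at hcon
  apply hgs
  have hblock : ∀ l, ∃ j, ∀ x ∈ D l, g ⋆ x ∈ D j := by
    intro l
    obtain ⟨e, he, f, hf, qe, qf, hef⟩ := d.exists_hyp l
    have he0 : e ≠ 0 := by
      rintro rfl
      rw [polar_zero_left] at hef
      exact zero_ne_one hef
    have hf0 : f ≠ 0 := by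
      rintro rfl
      rw [polar_zero_right] at hef
      exact zero_ne_one hef
    obtain ⟨j, hje⟩ := hcon l e he qe he0
    refine ⟨j, ?_⟩
    -- transfer along non-orthogonal singular vectors
    have S : ∀ b ∈ D l, ∀ b' ∈ D l, Q b' = 0 → BQ b b' ≠ 0 → g ⋆ b ∈ D j → g ⋆ b' ∈ D j := by
      intro b hb b' hb' qb' hbb' hgb
      have hb'0 : b' ≠ 0 := by
        rintro rfl
        exact hbb' (polar_zero_right _ _)
      obtain ⟨j', hj'⟩ := hcon l b' hb' qb' hb'0
      by_cases hjj : j = j'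
      · rw [hjj]; exact hj'
      · exfalso
        apply hbb'
        rw [← iso_B Q hg]
        exact d.orth j j' hjj _ hgb _ hj'
    have hjf : g ⋆ f ∈ D j := S e he f hf qf (by rw [hef]; exact one_ne_zero) hje
    have hfe : BQ f e = 1 := by rw [polar_comm]; exact hef
    have hsing : ∀ b ∈ D l, Q b = 0 → g ⋆ b ∈ D j := by
      intro b hb qb
      by_cases h1 : BQ e b = 0
      · by_cases h2 : BQ f b = 0
        · have q' : Q (b + e) = 0 := by
            rw [QuadraticMap.map_add (⇑Q), qb, qe, polar_comm, h1]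
            simp
          have h3 : BQ f (b + e) ≠ 0 := by
            rw [polar_add_right, h2, hfe]
            simp
          have h4 := S f hf (b + e) ((D l).add_mem hb he) q' h3 hjf
          rw [mulVec_add] at h4
          have := (D j).sub_mem h4 hje
          rwa [add_sub_cancel_right] at this
        · exact S f hf b hb qb h2 hjf
      · exact S e he b hb qb h1 hje
    intro x hx
    obtain ⟨y, hy⟩ : ∃ y : ι → F, y = hp Q e f x := ⟨_, rfl⟩
    have hyD : y ∈ D l := by rw [hy]; exact hp_mem he hf hx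
    have hye : BQ y e = 0 := by rw [hy]; exact hp_perp_left qe hef x
    have hyf : BQ y f = 0 := by rw [hy]; exact hp_perp_right qf hef x
    have hs : Q (f + y - Q y • e) = 0 := sing_add qf qe hfe hyf hye
    have h1 := hsing _ ((D l).sub_mem ((D l).add_mem hf hyD) ((D l).smul_mem _ he)) hs
    have hdec := hp_decomp (Q := Q) e f x
    rw [← hy] at hdec
    have hx' : x = (f + y - Q y • e) + (Q y + BQ x f) • e + (BQ x e - 1) • f := by
      conv_lhs => rw [hdec]
      module
    rw [hx', mulVec_add, mulVec_add, mulVec_smul, mulVec_smul]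
    exact (D j).add_mem ((D j).add_mem h1 ((D j).smul_mem _ hje)) ((D j).smul_mem _ hjf)
  choose σ hσ using hblock
  exact d.mem_stab g σ hσ

/-- a proper overgroup has a bigger root group at some block-singular point -/
theorem not_NG (C : MCtx hQ k D M) {g : GL ι F} (hg : g ∈ M)
    (hgs : g ∉ Cfsg.Geo.decompositionStabilizer D) : ¬ NG hQ D M := by
  intro ng
  obtain ⟨l, b, hb, qb, b0, hno⟩ := exists_bad C.d (C.iso hg) hgs
  have cb := cen_block C ng hb qb b0
  exact F5 C ng (cb.map C hg) hno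

end Cfsg.Agent.Lib.Helper42.ODec
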