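import Mathlib
import Cfsg.Agent.Lib.Helper42.ODecF

set_option autoImplicit false
set_option linter.unusedSectionVars false
set_option linter.unusedVariables false
set_option linter.style.haveILetI false
set_option linter.unusedSimpArgs false

/-!
Stabilizers of orthogonal decompositions in `Ω`: linking of blocks.
-/

namespace Cfsg.Agent.Lib.Helper42.ODec

open Matrix QuadraticMap Module Cfsg.Agent.Lib.Helper8 Cfsg.Agent.Lib.Helper13
  Cfsg.Agent.Lib.Helper42.OSub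

variable {ι : Type} [Fintype ι] [DecidableEq ι] {F : Type*} [Field F] [Fintype F]
variable {Q : QuadraticForm F (ι → F)} {hQ : (QuadraticMap.polarBilin Q).Nondegenerate}
variable {k t : ℕ} {D : Fin t → Submodule F (ι → F)} {M : Subgroup (GL ι F)}

set_option quotPrecheck false in
local notation "BQ" => QuadraticMap.polar (⇑Q)
local notation "EE" => ee Q hQ
local notation:70 g:70 " ⋆ " x:71 => Matrix.mulVec (Units.val g) x

/-- the root parameters of `M` at a singular vector -/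
def XS (hQ : (QuadraticMap.polarBilin Q).Nondegenerate) (M : Subgroup (GL ι F)) (b : ι → F)
    (qb : Q b = 0) : AddSubgroup (ι → F) where
  carrier := {w | QuadraticMap.polar (⇑Q) b w = 0 ∧ ee Q hQ b w ∈ M}
  zero_mem' := ⟨polar_zero_right _ _, by rw [ee_zero]; exact M.one_mem⟩
  add_mem' := by
    rintro w w' ⟨h1, h2⟩ ⟨h1', h2'⟩
    refine ⟨by rw [polar_add_right, h1, h1', add_zero], ?_⟩
    rw [← ee_mul Q hQ qb h1 h1']
    exact M.mul_mem h2 h2'
  neg_mem' := by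
    rintro w ⟨h1, h2⟩
    refine ⟨by rw [polar_neg_right, h1, neg_zero], ?_⟩
    rw [← ee_inv Q hQ qb h1]
    exact M.inv_mem h2

theorem mem_XS {b : ι → F} {qb : Q b = 0} {w : ι → F} :
    w ∈ XS hQ M b qb ↔ (BQ b w = 0 ∧ EE b w ∈ M) := Iff.rfl

theorem XS.smul_self {b : ι → F} (qb : Q b = 0) (c : F) : c • b ∈ XS hQ M b qb := by
  rw [mem_XS]
  have h0 : BQ b 0 = 0 := polar_zero_right _ _
  refine ⟨by rw [polar_smul_right, polar_self_zero qb, smul_zero], ?_⟩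
  have := ee_add_smul Q hQ qb h0 c
  rw [zero_add, ee_zero] at this
  rw [this]
  exact M.one_mem

theorem XS.map_fix (C : MCtx hQ k D M) {b : ι → F} (qb : Q b = 0) {h : GL ι F} (hM : h ∈ M)
    (hfix : h ⋆ b = b) {w : ι → F} (hw : w ∈ XS hQ M b qb) : h ⋆ w ∈ XS hQ M b qb := by
  rw [mem_XS] at hw ⊢
  have hi := C.iso hM
  refine ⟨?_, ?_⟩
  · have := iso_B Q hi b w
    rw [hfix] at this
    rw [this]; exact hw.1
  · have := conj_ee Q hQ hi qb hw.1
    rw [hfix] at this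
    rw [← this]
    exact M.mul_mem (M.mul_mem hM hw.2) (M.inv_mem hM)

/-- a root element at a block-singular point with a parameter not orthogonal to another block gives
all root elements with parameters in that block -/
theorem link_block (C : MCtx hQ k D M) {l j : Fin t} (hlj : l ≠ j) {b : ι → F} (hb : b ∈ D l)
    (qb : Q b = 0) {w : ι → F} (hbw : BQ b w = 0) (hw : EE b w ∈ M)
    (hne : ∃ x ∈ D j, BQ x w ≠ 0) : ∀ v ∈ D j, EE b v ∈ M := by
  have d := C.d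
  have h2 := d.h2
  have hwX : w ∈ XS hQ M b qb := mem_XS.mpr ⟨hbw, hw⟩
  -- invariance under the block root elements
  have hinv : ∀ s ∈ D j, ∀ y ∈ D j, Q s = 0 → BQ s y = 0 → ∀ x ∈ XS hQ M b qb,
      EE s y ⋆ x ∈ XS hQ M b qb := by
    intro s hs y hy qs hsy x hx
    refine XS.map_fix C qb (C.ee_mem hs hy) ?_ hx
    exact ee_fix hQ qs hsy (d.orth j l (Ne.symm hlj) s hs b hb) (d.orth j l (Ne.symm hlj) y hy b hb)
  obtain ⟨u, hu, hu0, qu, huw⟩ := (d.nd j).exists_sing_polar_ne (d.three_le j) hne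
  obtain ⟨c₀, hc₀⟩ : ∃ c₀ : F, c₀ = BQ u w := ⟨_, rfl⟩
  rw [← hc₀] at huw
  -- step 1
  have step1 : ∀ y ∈ D j, BQ u y = 0 → (2 * Q y * c₀) • u ∈ XS hQ M b qb := by
    intro y hy huy
    have huy' : BQ u (-y) = 0 := by rw [polar_neg_right, huy, neg_zero]
    have h1 := hinv u hu y hy qu huy w hwX
    have h3 := hinv u hu (-y) ((D j).neg_mem hy) qu huy' w hwX
    have h4 := ee_pm (hQ := hQ) qu huy w
    have h5 : (2 * Q y * c₀) • u = (w + w) - (EE u y ⋆ w + EE u (-y) ⋆ w) := by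
      rw [h4, hc₀, two_smul]; abel
    rw [h5]
    exact AddSubgroup.sub_mem _ (AddSubgroup.add_mem _ hwX hwX) (AddSubgroup.add_mem _ h1 h3)
  -- step 2
  obtain ⟨y₀, hy₀, huy₀, qy₀⟩ := (d.nd j).exists_nonsing_perp1 (d.three_le j) hu hu0 qu
  obtain ⟨κ, hκ⟩ : ∃ κ : F, κ = 2 * Q y₀ * c₀ := ⟨_, rfl⟩
  have hκ0 : κ ≠ 0 := by rw [hκ]; exact mul_ne_zero (mul_ne_zero h2 qy₀) huw
  have sq : ∀ s : F, (s * s * κ) • u ∈ XS hQ M b qb := by
    intro s
    have := step1 (s • y₀) ((D j).smul_mem s hy₀) (by rw [polar_smul_right, huy₀, smul_zero])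
    rw [QuadraticMap.map_smul, smul_eq_mul] at this
    have e : 2 * (s * s * Q y₀) * c₀ = s * s * κ := by rw [hκ]; ring
    rwa [e] at this
  have step2 : ∀ x : F, x • u ∈ XS hQ M b qb := by
    intro x
    obtain ⟨r, hr⟩ : ∃ r : F, r = x * κ⁻¹ := ⟨_, rfl⟩
    have hx : x = r * κ := by rw [hr, mul_assoc, inv_mul_cancel₀ hκ0, mul_one]
    have h2' : (2 : F) * 2⁻¹ = 1 := mul_inv_cancel₀ h2
    have e : x • u = (((r + 1) * 2⁻¹) * ((r + 1) * 2⁻¹) * κ) • u -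
        (((r - 1) * 2⁻¹) * ((r - 1) * 2⁻¹) * κ) • u := by
      rw [← sub_smul, hx]
      congr 1
      have : (2 : F)⁻¹ * 2⁻¹ * 4 = 1 := by
        have h4 : (4 : F) = 2 * 2 := by norm_num
        rw [h4]
        field_simp
      linear_combination (-(r * κ)) * this
    rw [e]
    exact AddSubgroup.sub_mem _ (sq _) (sq _)
  -- step 3
  have step3 : ∀ y ∈ D j, BQ u y = 0 → y ∈ XS hQ M b qb := by
    intro y hy huy
    obtain ⟨y', hy'⟩ : ∃ y' : ι → F, y' = c₀⁻¹ • y := ⟨_, rfl⟩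
    have hy'D : y' ∈ D j := by rw [hy']; exact (D j).smul_mem _ hy
    have huy' : BQ u y' = 0 := by rw [hy', polar_smul_right, huy, smul_zero]
    have h1 := hinv u hu y' hy'D qu huy' w hwX
    have h3 := ee_diff (hQ := hQ) qu huy' w
    rw [← hc₀] at h3
    have h4 : y = (EE u y' ⋆ w - w) + (BQ y' w + Q y' * c₀) • u := by
      rw [h3, hy', smul_smul, mul_inv_cancel₀ huw, one_smul]
      module
    rw [h4]
    exact AddSubgroup.add_mem _ (AddSubgroup.sub_mem _ h1 hwX) (step2 _)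
  -- step 4
  obtain ⟨f, hf, qf, huf⟩ := (d.nd j).exists_partner hu hu0 qu
  obtain ⟨y₁, hy₁, huy₁, hfy₁, qy₁⟩ := (d.nd j).exists_nonsing_perp2 (d.three_le j) hu hf qu qf huf
  have step4 : ∀ x : F, x • f ∈ XS hQ M b qb := by
    intro x
    obtain ⟨s, hs⟩ : ∃ s : F, s = -(x * (2 * Q y₁)⁻¹) := ⟨_, rfl⟩
    have hfsy : BQ f (s • y₁) = 0 := by rw [polar_smul_right, hfy₁, smul_zero]
    have h1 := hinv f hf (s • y₁) ((D j).smul_mem s hy₁) qf hfsy y₁ (step3 y₁ hy₁ huy₁)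
    rw [ee_mulVec Q hQ qf hfsy, hfy₁, polar_smul_left, polar_self_eq] at h1
    have h2q : 2 * Q y₁ ≠ 0 := mul_ne_zero h2 qy₁
    have hsx : s * (2 * Q y₁) = -x := by
      rw [hs, neg_mul, mul_assoc, inv_mul_cancel₀ h2q, mul_one]
    have e : y₁ + (0 : F) • s • y₁ - (s • (2 * Q y₁)) • f - (Q (s • y₁) * 0) • f =
        y₁ + x • f := by
      rw [smul_eq_mul, hsx]
      module
    rw [e] at h1
    have e' : x • f = (y₁ + x • f) - y₁ := by abel
    rw [e']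
    exact AddSubgroup.sub_mem _ h1 (step3 y₁ hy₁ huy₁)
  -- step 5
  intro v hv
  have hdec := hp_decomp (Q := Q) u f v
  have h1 : hp Q u f v ∈ XS hQ M b qb :=
    step3 _ (hp_mem hu hf hv) (by rw [polar_comm]; exact hp_perp_left qu huf v)
  have h3 : v ∈ XS hQ M b qb := by
    rw [hdec]
    exact AddSubgroup.add_mem _ (AddSubgroup.add_mem _ h1 (step2 _)) (step4 _)
  exact (mem_XS.mp h3).2

/-- full linking of two blocks -/
def Lk (hQ : (QuadraticMap.polarBilin Q).Nondegenerate) (D : Fin t → Submodule F (ι → F))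
    (M : Subgroup (GL ι F)) (l j : Fin t) : Prop :=
  ∀ b ∈ D l, Q b = 0 → ∀ v ∈ D j, ee Q hQ b v ∈ M

theorem Lk.of_one (C : MCtx hQ k D M) {l j : Fin t} (hlj : l ≠ j) {b : ι → F} (hb : b ∈ D l)
    (qb : Q b = 0) (b0 : b ≠ 0) (h : ∀ v ∈ D j, EE b v ∈ M) : Lk hQ D M j l := by
  have d := C.d
  intro v hv qv x hx
  by_cases hv0 : v = 0
  · rw [hv0, ee_zero_left]; exact M.one_mem
  have hbv : BQ b v = 0 := d.orth l j hlj b hb v hv
  have h1 := h v hv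
  rw [ee_swap Q hQ qb qv hbv] at h1
  have h3 : BQ v (-b) = 0 := by rw [polar_neg_right, polar_comm, hbv, neg_zero]
  obtain ⟨y, hy, hby⟩ := (d.nd l).exists_polar_ne hb b0
  refine link_block C (Ne.symm hlj) hv qv h3 h1 ⟨y, hy, ?_⟩ x hx
  rw [polar_neg_right, polar_comm]
  exact neg_ne_zero.mpr hby

theorem Lk.symm (C : MCtx hQ k D M) {l j : Fin t} (hlj : l ≠ j) (h : Lk hQ D M l j) :
    Lk hQ D M j l := by
  obtain ⟨b, hb, b0, qb⟩ := C.d.exists_sing l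
  exact Lk.of_one C hlj hb qb b0 (h b hb qb)

theorem Lk.trans (C : MCtx hQ k D M) {l j j' : Fin t} (hlj : l ≠ j) (hjj' : j ≠ j')
    (hlj' : l ≠ j') (h1 : Lk hQ D M l j) (h2 : Lk hQ D M j' j) : Lk hQ D M l j' := by
  have d := C.d
  intro e₁ he₁ q₁ v hv
  by_cases he₁0 : e₁ = 0
  · rw [he₁0, ee_zero_left]; exact M.one_mem
  obtain ⟨e₂, he₂, e₂0, q₂⟩ := d.exists_sing j'
  obtain ⟨w, hw, w0, -⟩ := d.exists_sing j
  obtain ⟨w', hw', hww'⟩ := (d.nd j).exists_polar_ne hw w0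
  have o12 : BQ e₁ e₂ = 0 := d.orth l j' hlj' e₁ he₁ e₂ he₂
  have o1w : BQ e₁ w = 0 := d.orth l j hlj e₁ he₁ w hw
  have o2w : BQ e₂ w = 0 := d.orth j' j (Ne.symm hjj') e₂ he₂ w hw
  have o1w' : BQ e₁ w' = 0 := d.orth l j hlj e₁ he₁ w' hw'
  have o2w' : BQ e₂ w' = 0 := d.orth j' j (Ne.symm hjj') e₂ he₂ w' hw'
  have m1 : EE e₁ w ∈ M := h1 e₁ he₁ q₁ w hw
  have m2 : EE e₂ w' ∈ M := h2 e₂ he₂ q₂ w' hw'
  have hc := ee_comm Q hQ q₁ q₂ o12 o1w o2w o1w' o2w'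
  have m3 : EE e₁ (-BQ w' w • e₂) ∈ M := by
    rw [← hc]
    exact M.mul_mem (M.mul_mem (M.mul_mem m2 m1) (M.inv_mem m2)) (M.inv_mem m1)
  have hcne : -BQ w' w ≠ 0 := by
    rw [polar_comm]; exact neg_ne_zero.mpr hww'
  obtain ⟨y, hy, he₂y⟩ := (d.nd j').exists_polar_ne he₂ e₂0
  refine link_block C hlj' he₁ q₁ (by rw [polar_smul_right, o12, smul_zero]) m3 ⟨y, hy, ?_⟩ v hv
  rw [polar_smul_right, polar_comm (⇑Q) y e₂, smul_eq_mul]
  exact mul_ne_zero hcne he₂y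

theorem Lk.conj (C : MCtx hQ k D M) {l j l' j' : Fin t} (hlj : l ≠ j) {h : GL ι F} (hM : h ∈ M)
    (hl : ∀ x ∈ D l', (h⁻¹ : GL ι F) ⋆ x ∈ D l) (hj : ∀ x ∈ D j', (h⁻¹ : GL ι F) ⋆ x ∈ D j)
    (hL : Lk hQ D M l j) : Lk hQ D M l' j' := by
  have d := C.d
  have hi := C.iso hM
  have hi' : h⁻¹ ∈ Cfsg.isometryGroup F (⇑Q) := Subgroup.inv_mem _ hi
  intro b' hb' qb' v' hv'
  have hb := hl b' hb'
  have hv := hj v' hv'
  have qb : Q ((h⁻¹ : GL ι F) ⋆ b') = 0 := by rw [iso_Q Q hi', qb']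
  have hbv : BQ ((h⁻¹ : GL ι F) ⋆ b') ((h⁻¹ : GL ι F) ⋆ v') = 0 := d.orth l j hlj _ hb _ hv
  have h1 := hL _ hb qb _ hv
  have h3 := conj_ee Q hQ hi qb hbv
  rw [gl_act_inv, gl_act_inv] at h3
  rw [← h3]
  exact M.mul_mem (M.mul_mem hM h1) (M.inv_mem hM)

end Cfsg.Agent.Lib.Helper42.ODec
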