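import Mathlib
import Cfsg.Agent.Lib.Helper42.ODecG

set_option autoImplicit false
set_option linter.unusedSectionVars false
set_option linter.unusedVariables false
set_option linter.style.haveILetI false
set_option linter.unusedSimpArgs false

/-!
Stabilizers of orthogonal decompositions in `Ω`: permutations of the blocks.
-/

namespace Cfsg.Agent.Lib.Helper42.ODec

open Matrix QuadraticMap Module Cfsg.Agent.Lib.Helper8 Cfsg.Agent.Lib.Helper13
  Cfsg.Agent.Lib.Helper42.OSub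

variable {ι : Type} [Fintype ι] [DecidableEq ι] {F : Type*} [Field F] [Fintype F]
variable {Q : QuadraticForm F (ι → F)} {hQ : (QuadraticMap.polarBilin Q).Nondegenerate}
variable {k t : ℕ} {D : Fin t → Submodule F (ι → F)} {M : Subgroup (GL ι F)}

set_option quotPrecheck false in
local notation "BQ" => QuadraticMap.polar (⇑Q)
local notation "EE" => ee Q hQ
local notation:70 g:70 " ⋆ " x:71 => Matrix.mulVec (Units.val g) x

theorem span_range_coe_basis' {κ : Type*} (W : Submodule F (ι → F)) (b : Basis κ F W) :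
    Submodule.span F (Set.range (fun j => ((b j : W) : ι → F))) = W := by
  have h1 : Set.range (fun j => ((b j : W) : ι → F)) = W.subtype '' Set.range b := by
    rw [← Set.range_comp]
    rfl
  rw [h1, ← Submodule.map_span, b.span_eq, Submodule.map_top, Submodule.range_subtype]

/-- the isometry condition between blocks -/
def IsoBlocks (Q : QuadraticForm F (ι → F)) (D : Fin t → Submodule F (ι → F)) : Prop :=
  ∀ i j, ∃ e : D i ≃ₗ[F] D j, ∀ w : D i, Q ((e w : D j) : ι → F) = Q (w : ι → F)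

/-- every permutation of the blocks is induced by an isometry -/
theorem exists_perm_iso (d : Dec Q k D) (hiso : IsoBlocks Q D) (i₀ : Fin t)
    (σ : Equiv.Perm (Fin t)) :
    ∃ g : GL ι F, g ∈ Cfsg.isometryGroup F (⇑Q) ∧
      ∀ i, (D i).map (Matrix.toLin' (g : Matrix ι ι F)) = D (σ i) := by
  classical
  have h2 := d.h2
  have hiso' := fun i => hiso i₀ i
  choose e he using hiso'
  let b₀ : Basis (Fin k) F (D i₀) := Module.finBasisOfFinrankEq F (D i₀) (d.fr i₀)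
  let b : ∀ i, Basis (Fin k) F (D i) := fun i => b₀.map (e i)
  have hb : ∀ i x, ((b i x : D i) : ι → F) = ((e i (b₀ x) : D i) : ι → F) := by
    intro i x
    simp only [b, Basis.map_apply]
  have hint : DirectSum.IsInternal D :=
    DirectSum.isInternal_submodule_of_iSupIndep_of_iSup_eq_top d.indep d.top
  let 𝔅 : Basis (Σ _ : Fin t, Fin k) F (ι → F) := hint.collectedBasis b
  have h𝔅 : ∀ i x, 𝔅 ⟨i, x⟩ = ((b i x : D i) : ι → F) := by
    intro i x
    simp only [𝔅, DirectSum.IsInternal.collectedBasis_coe]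
  let π : (Σ _ : Fin t, Fin k) ≃ (Σ _ : Fin t, Fin k) :=
    ⟨fun a => ⟨σ a.1, a.2⟩, fun a => ⟨σ.symm a.1, a.2⟩, fun a => by simp, fun a => by simp⟩
  let E : (ι → F) ≃ₗ[F] (ι → F) := 𝔅.equiv 𝔅 π
  have hE : ∀ i x, E ((b i x : D i) : ι → F) = ((b (σ i) x : D (σ i)) : ι → F) := by
    intro i x
    rw [← h𝔅, ← h𝔅]
    exact Basis.equiv_apply 𝔅 ⟨i, x⟩ 𝔅 π
  -- the isometries preserve the polar form
  have hepol : ∀ i (u v : D i₀), BQ ((e i u : D i) : ι → F) ((e i v : D i) : ι → F) =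
      BQ (u : ι → F) (v : ι → F) := by
    intro i u v
    unfold QuadraticMap.polar
    have h1 : ((e i u : D i) : ι → F) + ((e i v : D i) : ι → F) =
        ((e i (u + v) : D i) : ι → F) := by
      rw [map_add, Submodule.coe_add]
    rw [h1, he, he, he, Submodule.coe_add]
  have hgram : ∀ i x i' x', BQ ((b i x : D i) : ι → F) ((b i' x' : D i') : ι → F) =
      if i = i' then BQ ((b₀ x : D i₀) : ι → F) ((b₀ x' : D i₀) : ι → F) else 0 := by
    intro i x i' x'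
    split_ifs with h
    · subst h
      rw [hb, hb, hepol]
    · exact d.orth i i' h _ (b i x).2 _ (b i' x').2
  have hpres : ∀ u v, BQ (E u) (E v) = BQ u v := by
    have hB : (QuadraticMap.polarBilin Q).compl₁₂ E.toLinearMap E.toLinearMap =
        QuadraticMap.polarBilin Q := by
      apply LinearMap.ext_basis 𝔅 𝔅
      rintro ⟨i, x⟩ ⟨i', x'⟩
      rw [LinearMap.compl₁₂_apply, h𝔅, h𝔅]
      show QuadraticMap.polarBilin Q (E _) (E _) = _
      rw [hE, hE, polarBilin_apply_apply, polarBilin_apply_apply, hgram, hgram]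
      by_cases h : i = i'
      · rw [if_pos h, if_pos (by rw [h])]
      · rw [if_neg h, if_neg (fun h' => h (σ.injective h'))]
    intro u v
    have := congrArg (fun B => B u v) hB
    simp only [LinearMap.compl₁₂_apply, polarBilin_apply_apply] at this
    exact this
  have hQE : ∀ u, Q (E u) = Q u := by
    intro u
    have h1 := hpres u u
    rw [polar_self_eq, polar_self_eq] at h1
    exact mul_left_cancel₀ h2 h1
  refine ⟨Cfsg.Agent.S2631.glOfEquiv E, ?_, ?_⟩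
  · rw [mem_isometryGroup_iff]
    intro x
    rw [Cfsg.Agent.S2631.glOfEquiv_mulVec]
    exact hQE x
  · intro i
    have hlin : Matrix.toLin' ((Cfsg.Agent.S2631.glOfEquiv E : GL ι F) : Matrix ι ι F) =
        E.toLinearMap := by
      show Matrix.toLin' (LinearMap.toMatrix' E.toLinearMap) = _
      rw [Matrix.toLin'_toMatrix']
    rw [hlin]
    conv_lhs => rw [← span_range_coe_basis' (D i) (b i)]
    rw [Submodule.map_span, ← Set.range_comp]
    have : (⇑E.toLinearMap ∘ fun x => ((b i x : D i) : ι → F)) =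
        fun x => ((b (σ i) x : D (σ i)) : ι → F) := by
      funext x
      exact hE i x
    rw [this, span_range_coe_basis' (D (σ i)) (b (σ i))]

theorem map_mem_of_stab {g : GL ι F} {σ : Equiv.Perm (Fin t)}
    (hg : ∀ i, (D i).map (Matrix.toLin' (g : Matrix ι ι F)) = D (σ i)) {i : Fin t} {x : ι → F}
    (hx : x ∈ D i) : g ⋆ x ∈ D (σ i) := by
  rw [← hg i]
  exact Submodule.mem_map.mpr ⟨x, hx, by rw [Matrix.toLin'_apply]⟩

theorem inv_mem_of_stab {g : GL ι F} {σ : Equiv.Perm (Fin t)}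
    (hg : ∀ i, (D i).map (Matrix.toLin' (g : Matrix ι ι F)) = D (σ i)) {i : Fin t} {x : ι → F}
    (hx : x ∈ D (σ i)) : (g⁻¹ : GL ι F) ⋆ x ∈ D i := by
  rw [← hg i] at hx
  obtain ⟨y, hy, rfl⟩ := Submodule.mem_map.mp hx
  rw [Matrix.toLin'_apply, gl_inv_act]
  exact hy

/-- a cyclic permutation of three blocks inside `H` -/
theorem exists_cycle (d : Dec Q k D) (hiso : IsoBlocks Q D) {l j j' : Fin t} (hlj : l ≠ j)
    (hjj' : j ≠ j') (hlj' : l ≠ j') :
    ∃ h : GL ι F, h ∈ Hs Q D ∧ (∀ x ∈ D j', (h⁻¹ : GL ι F) ⋆ x ∈ D l) ∧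
      (∀ x ∈ D l, (h⁻¹ : GL ι F) ⋆ x ∈ D j) := by
  obtain ⟨g₁, hg₁i, hg₁⟩ := exists_perm_iso d hiso l (Equiv.swap l j)
  obtain ⟨g₂, hg₂i, hg₂⟩ := exists_perm_iso d hiso l (Equiv.swap j j')
  have hs₁ : g₁ ∈ Cfsg.Geo.decompositionStabilizer D := ⟨_, hg₁⟩
  have hs₂ : g₂ ∈ Cfsg.Geo.decompositionStabilizer D := ⟨_, hg₂⟩
  refine ⟨g₁ * g₂ * g₁⁻¹ * g₂⁻¹, ⟨?_, ?_⟩, ?_, ?_⟩
  · exact Subgroup.mul_mem _ (Subgroup.mul_mem _ (Subgroup.mul_mem _ hs₁ hs₂)
      (Subgroup.inv_mem _ hs₁)) (Subgroup.inv_mem _ hs₂)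
  · obtain ⟨a₁, ha₁⟩ : ∃ a₁ : ↥(Cfsg.isometryGroup F (⇑Q)), a₁ = ⟨g₁, hg₁i⟩ := ⟨_, rfl⟩
    obtain ⟨a₂, ha₂⟩ : ∃ a₂ : ↥(Cfsg.isometryGroup F (⇑Q)), a₂ = ⟨g₂, hg₂i⟩ := ⟨_, rfl⟩
    have hmem : a₁ * a₂ * a₁⁻¹ * a₂⁻¹ ∈ commutator ↥(Cfsg.isometryGroup F (⇑Q)) := by
      rw [← commutatorElement_def]
      exact Subgroup.commutator_mem_commutator (Subgroup.mem_top _) (Subgroup.mem_top _)
    refine Subgroup.mem_map.mpr ⟨a₁ * a₂ * a₁⁻¹ * a₂⁻¹, hmem, ?_⟩
    rw [ha₁, ha₂]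
    rfl
  · intro x hx
    have e : (g₁ * g₂ * g₁⁻¹ * g₂⁻¹)⁻¹ = g₂ * g₁ * g₂⁻¹ * g₁⁻¹ := by group
    rw [e, gl_mul_act, gl_mul_act, gl_mul_act]
    -- x ∈ D j'
    have s1 : (g₁⁻¹ : GL ι F) ⋆ x ∈ D j' := by
      apply inv_mem_of_stab hg₁
      rw [Equiv.swap_apply_of_ne_of_ne (Ne.symm hlj') (Ne.symm hjj')]
      exact hx
    have s2 : (g₂⁻¹ : GL ι F) ⋆ ((g₁⁻¹ : GL ι F) ⋆ x) ∈ D j := by
      apply inv_mem_of_stab hg₂
      rw [Equiv.swap_apply_left]
      exact s1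
    have s3 := map_mem_of_stab hg₁ s2
    rw [Equiv.swap_apply_right] at s3
    have s4 := map_mem_of_stab hg₂ s3
    rw [Equiv.swap_apply_of_ne_of_ne hlj hlj'] at s4
    exact s4
  · intro x hx
    have e : (g₁ * g₂ * g₁⁻¹ * g₂⁻¹)⁻¹ = g₂ * g₁ * g₂⁻¹ * g₁⁻¹ := by group
    rw [e, gl_mul_act, gl_mul_act, gl_mul_act]
    -- x ∈ D l
    have s1 : (g₁⁻¹ : GL ι F) ⋆ x ∈ D j := by
      apply inv_mem_of_stab hg₁
      rw [Equiv.swap_apply_right]
      exact hx
    have s2 : (g₂⁻¹ : GL ι F) ⋆ ((g₁⁻¹ : GL ι F) ⋆ x) ∈ D j' := by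
      apply inv_mem_of_stab hg₂
      rw [Equiv.swap_apply_right]
      exact s1
    have s3 := map_mem_of_stab hg₁ s2
    rw [Equiv.swap_apply_of_ne_of_ne (Ne.symm hlj') (Ne.symm hjj')] at s3
    have s4 := map_mem_of_stab hg₂ s3
    rw [Equiv.swap_apply_right] at s4
    exact s4

end Cfsg.Agent.Lib.Helper42.ODec
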