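import Mathlib
import Cfsg.Agent.Lib.Helper42.ODecH

set_option autoImplicit false
set_option linter.unusedSectionVars false
set_option linter.unusedVariables false
set_option linter.style.haveILetI false
set_option linter.unusedSimpArgs false

/-!
Stabilizers of orthogonal decompositions in `Ω`: maximality.
-/

namespace Cfsg.Agent.Lib.Helper42.ODec

open Matrix QuadraticMap Module Cfsg.Agent.Lib.Helper8 Cfsg.Agent.Lib.Helper13
  Cfsg.Agent.Lib.Helper42.OSub

variable {ι : Type} [Fintype ι] [DecidableEq ι] {F : Type*} [Field F] [Fintype F]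
variable {Q : QuadraticForm F (ι → F)} {hQ : (QuadraticMap.polarBilin Q).Nondegenerate}
variable {k t : ℕ} {D : Fin t → Submodule F (ι → F)} {M : Subgroup (GL ι F)}

set_option quotPrecheck false in
local notation "BQ" => QuadraticMap.polar (⇑Q)
local notation "EE" => ee Q hQ
local notation:70 g:70 " ⋆ " x:71 => Matrix.mulVec (Units.val g) x

/-- one linked pair of blocks links all pairs -/
theorem Lk_all (C : MCtx hQ k D M) (hiso : IsoBlocks Q D) {l₀ j₀ : Fin t} (h0 : l₀ ≠ j₀)
    (hL : Lk hQ D M l₀ j₀) : ∀ l j, l ≠ j → Lk hQ D M l j := by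
  have d := C.d
  have hA : ∀ j', j' ≠ l₀ → Lk hQ D M l₀ j' := by
    intro j' hj'
    by_cases hjj : j' = j₀
    · rw [hjj]; exact hL
    · obtain ⟨h, hH, h1, h3⟩ := exists_cycle d hiso h0 (Ne.symm hjj) (Ne.symm hj')
      have := Lk.conj C h0 (C.hHM hH) h1 h3 hL
      exact Lk.symm C hj' this
  intro l j hlj
  by_cases hl : l = l₀
  · rw [hl]
    exact hA j (by rw [← hl]; exact Ne.symm hlj)
  · by_cases hj : j = l₀
    · rw [hj]
      exact Lk.symm C (Ne.symm hl) (hA l hl)
    · exact Lk.trans C hl (Ne.symm hj) hlj (Lk.symm C (Ne.symm hl) (hA l hl))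
        (Lk.symm C (Ne.symm hj) (hA j hj))

/-- with all pairs of blocks linked, the root groups at block-singular points are full -/
theorem full_block (C : MCtx hQ k D M) (hall : ∀ l j, l ≠ j → Lk hQ D M l j) {l : Fin t}
    {b : ι → F} (hb : b ∈ D l) (qb : Q b = 0) {v : ι → F} (hbv : BQ b v = 0) : EE b v ∈ M := by
  have d := C.d
  by_cases b0 : b = 0
  · rw [b0, ee_zero_left]; exact M.one_mem
  obtain ⟨f, hf, qf, hbf⟩ := (d.nd l).exists_partner hb b0 qb
  have hperp : ∀ v : ι → F, BQ b (v - BQ b v • f) = 0 := by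
    intro v
    rw [polar_sub_right, polar_smul_right, hbf]
    simp
  have hP : ∀ v : ι → F, EE b (v - BQ b v • f) ∈ M := by
    intro v
    have hv : v ∈ iSup D := by rw [d.top]; trivial
    refine Submodule.iSup_induction D (motive := fun v => EE b (v - BQ b v • f) ∈ M) hv ?_ ?_ ?_
    · intro i v hv
      by_cases hil : i = l
      · subst hil
        exact C.ee_mem hb ((D i).sub_mem hv ((D i).smul_mem _ hf))
      · have h0 : BQ b v = 0 := d.orth l i (Ne.symm hil) b hb v hv
        show EE b (v - BQ b v • f) ∈ M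
        rw [h0, zero_smul, sub_zero]
        exact hall l i (Ne.symm hil) b hb qb v hv
    · show EE b (0 - BQ b 0 • f) ∈ M
      rw [polar_zero_right, zero_smul, sub_zero, ee_zero]
      exact M.one_mem
    · intro v v' h1 h3
      show EE b ((v + v') - BQ b (v + v') • f) ∈ M
      have e : (v + v') - BQ b (v + v') • f = (v - BQ b v • f) + (v' - BQ b v' • f) := by
        rw [polar_add_right]
        module
      rw [e, ← ee_mul Q hQ qb (hperp v) (hperp v')]
      exact M.mul_mem h1 h3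
  have := hP v
  rwa [hbv, zero_smul, sub_zero] at this

/-- a subgroup of isometries with full root groups at both points of a hyperbolic pair contains
`Ω` -/
theorem omega_le_of_full (hn : 7 ≤ Fintype.card ι) (hMi : M ≤ Cfsg.isometryGroup F (⇑Q))
    {e f : ι → F} (qe : Q e = 0) (qf : Q f = 0) (hef : BQ e f = 1)
    (he : ∀ v : ι → F, BQ e v = 0 → EE e v ∈ M) (hf : ∀ v : ι → F, BQ f v = 0 → EE f v ∈ M) :
    Cfsg.Geo.omegaGL (⇑Q) ≤ M := by
  have hfe : BQ f e = 1 := by rw [polar_comm]; exact hef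
  -- moving a singular vector to one of the two points
  have gen : ∀ (e f : ι → F), Q e = 0 → Q f = 0 → BQ e f = 1 →
      (∀ v : ι → F, BQ e v = 0 → EE e v ∈ M) → ∀ u : ι → F, Q u = 0 → BQ e u ≠ 0 →
      ∃ m ∈ M, ∃ c : F, m ⋆ u = c • f := by
    intro e f qe qf hef he u qu hδ
    obtain ⟨δ, hδ'⟩ : ∃ δ : F, δ = BQ e u := ⟨_, rfl⟩
    rw [← hδ'] at hδ
    obtain ⟨x, hx⟩ : ∃ x : ι → F, x = δ⁻¹ • u := ⟨_, rfl⟩
    have qx : Q x = 0 := by rw [hx, QuadraticMap.map_smul, qu, smul_zero]
    have h0x : BQ e x = 1 := by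
      rw [hx, polar_smul_right, ← hδ', smul_eq_mul, inv_mul_cancel₀ hδ]
    have hux : u = δ • x := by rw [hx, smul_smul, mul_inv_cancel₀ hδ, one_smul]
    obtain ⟨w, hw⟩ : ∃ w : ι → F, w = hp Q e f x := ⟨_, rfl⟩
    have hw0 : BQ e w = 0 := by
      rw [hw, polar_comm]; exact hp_perp_left qe hef x
    have h1 : EE e w ⋆ f = x := by
      rw [hw]; exact ee_hp_act qe qf hef qx h0x
    refine ⟨(EE e w)⁻¹, M.inv_mem (he w hw0), δ, ?_⟩
    rw [hux, ← h1, mulVec_smul, gl_inv_act]
  have reach : ∀ u : ι → F, Q u = 0 → u ≠ 0 →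
      ∃ m ∈ M, ∃ c : F, (m ⋆ u = c • e ∨ m ⋆ u = c • f) := by
    intro u qu u0
    by_cases h1 : BQ e u = 0
    · by_cases h3 : BQ f u = 0
      · obtain ⟨z, hz⟩ : ∃ z : ι → F, BQ z u ≠ 0 := by
          by_contra hcon
          push Not at hcon
          exact u0 (hQ.2 u (fun y => by rw [polarBilin_apply_apply]; exact hcon y))
        obtain ⟨w, hw⟩ : ∃ w : ι → F, w = hp Q e f z := ⟨_, rfl⟩
        have hwu : BQ w u = BQ z u := by rw [hw]; exact hp_polar h1 h3 z
        have hfw : BQ f w = 0 := by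
          rw [hw, polar_comm]; exact hp_perp_right qf hef z
        have hact : EE f w ⋆ u = u - BQ w u • f := by
          rw [ee_mulVec Q hQ qf hfw, h3]
          simp
        have hq : Q (EE f w ⋆ u) = 0 := by rw [iso_Q Q (ee_mem_iso Q hQ _ _), qu]
        have hne' : BQ e (EE f w ⋆ u) ≠ 0 := by
          rw [hact, polar_sub_right, polar_smul_right, h1, hef, hwu]
          simpa using hz
        obtain ⟨m, hm, c, hmc⟩ := gen e f qe qf hef he _ hq hne'
        refine ⟨m * EE f w, M.mul_mem hm (hf w hfw), c, Or.inr ?_⟩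
        rw [gl_mul_act, hmc]
      · obtain ⟨m, hm, c, hmc⟩ := gen f e qf qe hfe hf u qu h3
        exact ⟨m, hm, c, Or.inl hmc⟩
    · obtain ⟨m, hm, c, hmc⟩ := gen e f qe qf hef he u qu h1
      exact ⟨m, hm, c, Or.inr hmc⟩
  have all : ∀ u v : ι → F, EE u v ∈ M := by
    intro u v
    by_cases h : Q u = 0 ∧ BQ u v = 0
    · by_cases hu0 : u = 0
      · rw [hu0, ee_zero_left]; exact M.one_mem
      · obtain ⟨m, hm, c, hmc⟩ := reach u h.1 hu0
        have hmi := hMi hm
        have hc : c ≠ 0 := by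
          rintro rfl
          rw [zero_smul, zero_smul] at hmc
          exact gl_act_ne_zero m hu0 (by rcases hmc with h | h <;> exact h)
        have h1 : BQ (m ⋆ u) (m ⋆ v) = 0 := by rw [iso_B Q hmi, h.2]
        have h3 : EE u v = m⁻¹ * (m * EE u v * m⁻¹) * m := by group
        rw [h3, conj_ee Q hQ hmi h.1 h.2]
        refine M.mul_mem (M.mul_mem (M.inv_mem hm) ?_) hm
        rcases hmc with hmc | hmc
        · rw [hmc, polar_smul_left, smul_eq_mul] at h1
          have h0 : BQ e (m ⋆ v) = 0 := (mul_eq_zero.mp h1).resolve_left hc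
          rw [hmc, ee_smul_left Q hQ qe h0]
          exact he _ (by rw [polar_smul_right, h0, smul_zero])
        · rw [hmc, polar_smul_left, smul_eq_mul] at h1
          have h0 : BQ f (m ⋆ v) = 0 := (mul_eq_zero.mp h1).resolve_left hc
          rw [hmc, ee_smul_left Q hQ qf h0]
          exact hf _ (by rw [polar_smul_right, h0, smul_zero])
    · rw [ee_of_not h]; exact M.one_mem
  have hfr : Module.finrank F (ι → F) = Fintype.card ι := Module.finrank_fintype_fun_eq_card F
  show (commutator ↥(Cfsg.isometryGroup F (⇑Q))).map (Subgroup.subtype _) ≤ M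
  rw [omega_eq_closure_longRoot Q hQ (by rw [hfr]; omega) (fun _ => by rw [hfr]; exact hn),
    Subgroup.map_le_iff_le_comap, Subgroup.closure_le]
  rintro g ⟨u, v, hu, huv, hv, rfl⟩
  show ((eichlerElt Q hQ u v hu huv : ↥(Cfsg.isometryGroup F (⇑Q))) : GL ι F) ∈ M
  rw [← ee_eq Q hQ hu huv]
  exact all u v

include hQ in
/-- the stabilizer of the decomposition does not contain `Ω` -/
theorem Hs_ne (d : Dec Q k D) {l j : Fin t} (hlj : l ≠ j) :
    Hs Q D ≠ Cfsg.Geo.omegaGL (⇑Q) := by
  intro heq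
  obtain ⟨b, hb, b0, qb⟩ := d.exists_sing l
  obtain ⟨f, hf, qf, hbf⟩ := (d.nd l).exists_partner hb b0 qb
  obtain ⟨u, hu, u0, qu⟩ := d.exists_sing j
  have hbu : BQ b u = 0 := d.orth l j hlj b hb u hu
  have huf : BQ u f = 0 := d.orth j l (Ne.symm hlj) u hu f hf
  have hmem : EE b u ∈ Hs Q D := by rw [heq]; exact ee_mem_omega Q hQ d.hn b u
  obtain ⟨σ, hσ⟩ := hmem.1
  have h1 := map_mem_of_stab hσ hf
  rw [ee_mulVec Q hQ qb hbu, hbf, huf, qu] at h1
  have h3 : f + u ∈ D (σ l) := by simpa using h1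
  by_cases hi : σ l = l
  · rw [hi] at h3
    have h4 : u ∈ D l := by
      have := (D l).sub_mem h3 hf
      rwa [add_sub_cancel_left] at this
    exact u0 (d.inter hlj h4 hu)
  · have h4 : BQ b (f + u) = 0 := d.orth l (σ l) (Ne.symm hi) b hb _ h3
    rw [polar_add_right, hbf, hbu, add_zero] at h4
    exact one_ne_zero h4

/-- **Maximality of the stabilizer of an orthogonal decomposition** into isometric nondegenerate
blocks of dimension at least three. -/
theorem stab_isMaximalIn (hQ : (QuadraticMap.polarBilin Q).Nondegenerate) (d : Dec Q k D)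
    (hiso : IsoBlocks Q D) (ht : 2 ≤ t) (hex : 5 ≤ Fintype.card F ∨ 4 ≤ k) :
    Cfsg.Geo.IsMaximalIn (Cfsg.Geo.omegaGL (⇑Q))
      (Cfsg.Geo.decompositionStabilizer D ⊓ Cfsg.Geo.omegaGL (⇑Q)) := by
  have h01 : (⟨0, by omega⟩ : Fin t) ≠ ⟨1, by omega⟩ := by
    intro h
    have := congrArg Fin.val h
    simp at this
  refine ⟨lt_of_le_of_ne inf_le_right (Hs_ne (hQ := hQ) d h01), fun M hHM hMΩ => ?_⟩
  by_cases hMH : M = Cfsg.Geo.decompositionStabilizer D ⊓ Cfsg.Geo.omegaGL (⇑Q)
  · exact Or.inl hMH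
  right
  have C : MCtx hQ k D M := ⟨d, hHM, hMΩ, hex⟩
  obtain ⟨g, hgM, hgH⟩ := SetLike.exists_of_lt (lt_of_le_of_ne hHM (Ne.symm hMH))
  have hgs : g ∉ Cfsg.Geo.decompositionStabilizer D := fun h => hgH ⟨h, hMΩ hgM⟩
  have hng := not_NG C hgM hgs
  unfold NG at hng
  push Not at hng
  obtain ⟨l, b, hb, qb, b0, w, hbw, hw, hwl⟩ := hng
  -- a second block not orthogonal to `w`
  obtain ⟨j, hjl, x, hx, hxw⟩ : ∃ j, j ≠ l ∧ ∃ x ∈ D j, BQ x w ≠ 0 := by
    by_contra hcon
    push Not at hcon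
    obtain ⟨wl, hwlD, hperp⟩ := d.exists_comp w l
    have h0 : w - wl = 0 := by
      apply d.perp_all (hQ := hQ)
      intro j y hy
      by_cases hjl : j = l
      · subst hjl
        rw [polar_comm]; exact hperp y hy
      · rw [polar_sub_right, hcon j hjl y hy, d.orth j l hjl y hy wl hwlD, sub_zero]
    apply hwl
    rw [sub_eq_zero.mp h0]
    exact hwlD
  have h1 := link_block C (Ne.symm hjl) hb qb hbw hw ⟨x, hx, hxw⟩
  have h3 : Lk hQ D M j l := Lk.of_one C (Ne.symm hjl) hb qb b0 h1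
  have hall := Lk_all C hiso hjl h3
  obtain ⟨e, he, f, hf, qe, qf, hef⟩ := d.exists_hyp l
  refine le_antisymm hMΩ ?_
  exact omega_le_of_full (hQ := hQ) d.hn (fun g hg => C.iso hg) qe qf hef
    (fun v hv => full_block C hall he qe hv) (fun v hv => full_block C hall hf qf hv)

end Cfsg.Agent.Lib.Helper42.ODec
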