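import Mathlib
import Cfsg.Agent.Lib.Helper42.ODecI
import Cfsg.Agent.Lib.Helper37.ParabolicBridge
import Cfsg.Agent.Lib.Helper94.QuadOdd

set_option autoImplicit false
set_option linter.unusedSectionVars false
set_option linter.unusedVariables false
set_option linter.style.haveILetI false
set_option linter.unusedSimpArgs false

/-!
Stabilizers of orthogonal decompositions in `Ω`: the statement in the language of the Prelude.
-/

namespace Cfsg.Agent.Lib.Helper42.ODec

open Matrix QuadraticMap Module Cfsg.Agent.Lib.Helper8 Cfsg.Agent.Lib.Helper13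
  Cfsg.Agent.Lib.Helper42.OSub

variable {ι : Type} [Fintype ι] [DecidableEq ι] {F : Type*} [Field F] [Fintype F]

theorem two_ne_zero_of_odd_card42 (hF : Odd (Fintype.card F)) : (2 : F) ≠ 0 := by
  intro h
  have h2 : ringChar F ∣ 2 := by
    have := (CharP.cast_eq_zero_iff F (ringChar F) 2).mp (by exact_mod_cast h)
    exact this
  have hp : (ringChar F).Prime := CharP.char_is_prime F (ringChar F)
  have h3 : ringChar F = 2 := (Nat.prime_dvd_prime_iff_eq hp Nat.prime_two).mp h2
  have := FiniteField.even_card_of_char_two h3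
  rw [Nat.odd_iff] at hF
  omega

/-- the dimension of the space is the number of blocks times the dimension of a block -/
theorem card_eq_mul {k t : ℕ} {D : Fin t → Submodule F (ι → F)}
    (hfr : ∀ i, finrank F (D i) = k) (hind : iSupIndep D) (htop : iSup D = ⊤) :
    Fintype.card ι = t * k := by
  classical
  have hint : DirectSum.IsInternal D :=
    DirectSum.isInternal_submodule_of_iSupIndep_of_iSup_eq_top hind htop
  let b : ∀ i, Basis (Fin k) F (D i) := fun i => Module.finBasisOfFinrankEq F (D i) (hfr i)
  have h1 := Module.finrank_eq_card_basis (hint.collectedBasis b)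
  rw [Module.finrank_fintype_fun_eq_card] at h1
  rw [h1, Fintype.card_sigma]
  simp

/-- **Maximality of the stabilizer of an orthogonal decomposition**, for a form given as a bare
function, in odd characteristic and odd dimension. -/
theorem orth_decomp_isMaximalIn (hodd : Odd (Fintype.card F)) (hn : 7 ≤ Fintype.card ι)
    (hnodd : Odd (Fintype.card ι)) (Q : (ι → F) → F)
    (hQ : Cfsg.Geo.IsNondegenerateQuadraticForm Q) {t : ℕ} (k : ℕ) (hk : 1 < k)
    (D : Fin t → Submodule F (ι → F)) (hD : Cfsg.Geo.IsOrthogonalMDecomposition Q k D)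
    (hex : ¬ (Fintype.card F = 3 ∧ k = 3)) :
    Cfsg.Geo.IsMaximalIn (Cfsg.Geo.omegaGL Q)
      (Cfsg.Geo.decompositionStabilizer D ⊓ Cfsg.Geo.omegaGL Q) := by
  have h2 : (2 : F) ≠ 0 := two_ne_zero_of_odd_card42 hodd
  have hcard := card_eq_mul hD.decomp.decomp.finrank_eq hD.decomp.decomp.indep
    hD.decomp.decomp.iSup_eq_top
  have hk3 : 3 ≤ k := by
    by_contra hlt
    have hk2 : k = 2 := by omega
    rw [hk2] at hcard
    rw [Nat.odd_iff] at hnodd
    omega
  have d : Dec (Cfsg.Agent.Lib.Helper37.toQF Q hQ) k D := by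
    refine ⟨h2, hk3, hn, hD.decomp.decomp.finrank_eq, fun i => ?_, fun i j hij x hx y hy => ?_,
      hD.decomp.decomp.iSup_eq_top, hD.decomp.decomp.indep⟩
    · intro x hx hall
      by_contra hx0
      obtain ⟨-, y, hy, hne⟩ := hD.decomp.nondegenerate i x hx hx0
      exact hne (hall y hy)
    · exact hD.decomp.orthogonal i j hij x hx y hy
  have hex' : 5 ≤ Fintype.card F ∨ 4 ≤ k := by
    have h1 : 1 < Fintype.card F := Fintype.one_lt_card
    rw [Nat.odd_iff] at hodd
    by_cases hk4 : 4 ≤ k
    · exact Or.inr hk4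
    · left
      have hk3' : k = 3 := by omega
      have : Fintype.card F ≠ 3 := fun h => hex ⟨h, hk3'⟩
      omega
  exact stab_isMaximalIn (Q := Cfsg.Agent.Lib.Helper37.toQF Q hQ)
    (Cfsg.Agent.Lib.Helper37.toQF_nondeg Q hQ) d hD.isometric hD.decomp.decomp.two_le hex'

end Cfsg.Agent.Lib.Helper42.ODec
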