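import Mathlib
import Cfsg.Prelude.Def_GeometricClasses
import Cfsg.Agent.Lib.Helper45.OfCARDE

/-!
# IDX-P (helper8's OC-IDX sub-hive of helper44's Oc hive): the PLUS number of zeros gives a totally
singular subspace of half the dimension
-/

set_option autoImplicit false
set_option linter.style.haveILetI false

namespace Cfsg.Agent.Lib.Helper44.Oc

open Module QuadraticMap Cfsg.Agent.Lib.Helper43 Cfsg.Agent.Lib.Helper8 Cfsg.Agent.Lib.Helper44.Of

/-- the subspace of `F^(k ⊕ k)` on which the second half of the coordinates vanishes -/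
def p_W0 (F : Type*) [Field F] (k : ℕ) : Submodule F (Fin k ⊕ Fin k → F) where
  carrier := {w | ∀ i, w (Sum.inr i) = 0}
  add_mem' := fun {a b} ha hb i => by rw [Pi.add_apply, ha i, hb i, add_zero]
  zero_mem' := fun i => rfl
  smul_mem' := fun c a ha i => by rw [Pi.smul_apply, ha i, smul_zero]

theorem p_finrank_W0 (F : Type*) [Field F] (k : ℕ) : finrank F (p_W0 F k) = k := by
  have e : p_W0 F k ≃ₗ[F] (Fin k → F) :=
    { toFun := fun w i => w.1 (Sum.inl i)
      map_add' := fun a b => rfl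
      map_smul' := fun c a => rfl
      invFun := fun u => ⟨Sum.elim u 0, fun i => rfl⟩
      left_inv := fun w => by
        apply Subtype.ext
        funext j
        rcases j with j | j
        · rfl
        · exact (w.2 j).symm
      right_inv := fun u => rfl }
  rw [e.finrank_eq, Module.finrank_fin_fun]

/-- IDX-P -/
theorem idx_lagrangian_of_card_zeros {F : Type*} [Field F] [Fintype F] (h2 : (2 : F) ≠ 0) {n m : ℕ}
    (hnm : n = 2 * m) (hm : 1 ≤ m) (Q : (Fin n → F) → F)
    (hQ : Cfsg.Geo.IsNondegenerateQuadraticForm Q)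
    (hN : Nat.card {v : Fin n → F // Q v = 0}
      = (Fintype.card F ^ m - 1) * (Fintype.card F ^ (m - 1) + 1) + 1) :
    ∃ X : Submodule F (Fin n → F), Module.finrank F X = m ∧ ∀ x ∈ X, Q x = 0 := by
  have _ := h2
  obtain ⟨k, rfl⟩ : ∃ k, m = k + 1 := ⟨m - 1, by omega⟩
  have hq1 : 1 ≤ Fintype.card F := Fintype.card_pos
  set Qf := carde_qf Q hQ with hQf
  have hnd := carde_qf_nondeg Q hQ
  have hdim : finrank F (Fin n → F) = 2 * (k + 1) := by
    rw [Module.finrank_fintype_fun_eq_card, Fintype.card_fin, hnm]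
  have hZ : Nat.card {v : Fin n → F // Qf v = 0} = ZZ (Fintype.card F) 0 1 (k + 1) := by
    rw [ZZ_plus _ hq1]
    rw [Nat.add_sub_cancel] at hN
    exact hN
  obtain ⟨Θ, hΘ⟩ := classify_plus (Fin n → F) Qf hnd (k + 1) hdim hZ
  refine ⟨(p_W0 F (k + 1)).map Θ.symm.toLinearMap, ?_, ?_⟩
  · rw [LinearEquiv.finrank_map_eq, p_finrank_W0]
  · rintro x ⟨w, hw, rfl⟩
    have h1 := hΘ (Θ.symm w)
    rw [LinearEquiv.apply_symm_apply] at h1
    show Q (Θ.symm w) = 0
    rw [show Q (Θ.symm w) = Qf (Θ.symm w) from rfl, ← h1]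
    unfold Cfsg.quadFormPlus
    apply Finset.sum_eq_zero
    intro i _
    rw [hw i, mul_zero]

end Cfsg.Agent.Lib.Helper44.Oc
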