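import Mathlib
import Cfsg.Prelude.Def_ClassicalGeometry
import Cfsg.Prelude.Def_GeometricClasses
import Cfsg.Agent.Lib.Helper46.OmDefs
import Cfsg.Agent.Lib.Helper94.Un14
import Cfsg.Agent.Lib.Helper49.OnP

/-! # OM-P-ODD (Om hive of helper46, S5991): a bad unipotent element of `Ω⁻`, `d = k + 1` odd.
Clone of helper49's ON-P (`Lib/Helper49/OnP.lean`) with `Helper94.Un.exists_unipotent_minus`. -/

set_option autoImplicit false

namespace Cfsg.Agent.Lib.Helper46.Om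

open Module

section concrete

variable {F : Type*} [Field F] [Fintype F]

section unipotent

variable {p : ℕ} [Fact p.Prime] [CharP F p]

local notation "MatM" k => Matrix ((Fin k ⊕ Fin k) ⊕ Fin 2) ((Fin k ⊕ Fin k) ⊕ Fin 2) F

/-- the unipotent element of `Ω⁻` of Jordan type `a'^j 2^n` (`a'` odd, `0 < j`, `n` even) and its
invariant nondegenerate subspaces -/
theorem podd_core (h2 : (2 : F) ≠ 0) (d k : ℕ) (hkd : k = d - 1) (hd : 1 ≤ d) (a' j n : ℕ)
    (ha : Odd a') (hap : a' ≤ p) (hj : 0 < j)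
    (hn : Even n) (hn0 : 0 < n) (hsum : j * a' + n * 2 = 2 * d) (a b : F)
    (hab : ∀ x y : F, x ^ 2 + a * x * y + b * y ^ 2 = 0 → x = 0 ∧ y = 0) :
    ∃ x : Matrix.GeneralLinearGroup ((Fin k ⊕ Fin k) ⊕ Fin 2) F,
      x ∈ Cfsg.Geo.omegaGL (Cfsg.quadFormMinus k F a b) ∧
      ((x ^ p : Matrix.GeneralLinearGroup ((Fin k ⊕ Fin k) ⊕ Fin 2) F) : MatM k) = 1 ∧
      (∀ z : F, (x : MatM k) ≠ z • (1 : MatM k)) ∧
      ∀ W : Submodule F (VM k F),
        Cfsg.Geo.IsNondegenerateOn (QuadraticMap.polar (Cfsg.quadFormMinus k F a b)) W →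
        W.map (Matrix.toLin' (x : MatM k)) ≤ W →
        ∃ c₁ c₂ : ℕ, c₁ ≤ j ∧ Even c₂ ∧ finrank F W = c₁ * a' + c₂ * 2 := by
  subst hkd
  classical
  have ha2 : a' ≠ 2 := by
    rintro rfl
    exact absurd ha (by decide)
  have hp2 : 2 ≤ p := (Fact.out : p.Prime).two_le
  set μ : Multiset ℕ := Multiset.replicate j a' + Multiset.replicate n 2 with hμ
  have hμsum : μ.sum = 2 * d := by
    rw [hμ, Multiset.sum_add, Multiset.sum_replicate, Multiset.sum_replicate, smul_eq_mul,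
      smul_eq_mul, hsum]
  have hca : μ.count a' = j := by
    rw [hμ, Multiset.count_add, Multiset.count_replicate_self, Multiset.count_replicate,
      if_neg (Ne.symm ha2), add_zero]
  have hmem : ∀ x ∈ μ, x = a' ∨ x = 2 := by
    intro x hx
    rw [hμ, Multiset.mem_add] at hx
    rcases hx with hx | hx
    · exact Or.inl (Multiset.eq_of_mem_replicate hx)
    · exact Or.inr (Multiset.eq_of_mem_replicate hx)
  have hev : ∀ e, Even e → Even (μ.count e) := by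
    intro e he
    have hea : a' ≠ e := by
      rintro rfl
      exact (Nat.not_even_iff_odd.mpr ha) he
    rw [hμ, Multiset.count_add, Multiset.count_replicate, if_neg hea, zero_add,
      Multiset.count_replicate]
    split_ifs
    · exact hn
    · exact ⟨0, rfl⟩
  have hodd : ∃ c ∈ μ, Odd c := by
    refine ⟨a', ?_, ha⟩
    rw [hμ, Multiset.mem_add]
    exact Or.inl (Multiset.mem_replicate.mpr ⟨hj.ne', rfl⟩)
  obtain ⟨x, hxΩ, hprof⟩ :=
    Cfsg.Agent.Lib.Helper94.Un.exists_unipotent_minus (F := F) h2 d hd a b hab μ hev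
      hμsum hodd
  have hQ : Cfsg.Geo.IsNondegenerateQuadraticForm (Cfsg.quadFormMinus (d - 1) F a b) :=
    Cfsg.Agent.Lib.Helper94.Un.nondeg_quadFormMinus (F := F) h2 d hd a b hab
  have hxiso : x ∈ Cfsg.isometryGroup F (Cfsg.quadFormMinus (d - 1) F a b) :=
    Cfsg.Agent.Lib.Helper94.omega_le_isom hxΩ
  have hcard : μ.sum = Fintype.card ((Fin (d - 1) ⊕ Fin (d - 1)) ⊕ Fin 2) := by
    rw [hμsum, Fintype.card_sum, Fintype.card_sum, Fintype.card_fin, Fintype.card_fin]; omega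
  have h2mem : 2 ∈ μ := by
    rw [hμ, Multiset.mem_add]
    exact Or.inr (Multiset.mem_replicate.mpr ⟨hn0.ne', rfl⟩)
  obtain ⟨hxp, hxns, hW⟩ := Cfsg.Agent.Lib.Helper94.Un.unipotent_facts hQ h2 x hxiso μ hprof hcard
    (fun b hb => by
      rcases hmem b hb with rfl | rfl
      · exact hap
      · exact hp2) 2 h2mem (by norm_num)
  refine ⟨x, hxΩ, hxp, hxns, fun W hWnd hxW => ?_⟩
  obtain ⟨ν, hν1, hν2, hν3⟩ := hW W hWnd hxW
  refine ⟨ν.count a', ν.count 2, ?_, hν3 2 (by decide), ?_⟩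
  · rw [← hca]
    exact Multiset.count_le_of_le a' hν1
  · rw [← hν2]
    exact Cfsg.Agent.Lib.Helper81.On.p_sum_two_vals a' ha2 ν
      (fun y hy => hmem y (Multiset.mem_of_le hν1 hy))

/-- OM-P-ODD: a bad unipotent element (`d = k + 1` odd). -/
theorem exists_bad_unipotent_odd (h2 : (2 : F) ≠ 0) (k m : ℕ) (hk : 3 ≤ k) (hke : Even k)
    (hm : Odd m) (a b : F)
    (hab : ∀ x y : F, x ^ 2 + a * x * y + b * y ^ 2 = 0 → x = 0 ∧ y = 0) :
    ∃ x : Matrix.GeneralLinearGroup ((Fin k ⊕ Fin k) ⊕ Fin 2) F,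
      x ∈ Cfsg.Geo.omegaGL (Cfsg.quadFormMinus k F a b) ∧
      ((x ^ p : Matrix.GeneralLinearGroup ((Fin k ⊕ Fin k) ⊕ Fin 2) F) :
        Matrix ((Fin k ⊕ Fin k) ⊕ Fin 2) ((Fin k ⊕ Fin k) ⊕ Fin 2) F) = 1 ∧
      (∀ z : F, (x : Matrix ((Fin k ⊕ Fin k) ⊕ Fin 2) ((Fin k ⊕ Fin k) ⊕ Fin 2) F) ≠
        z • (1 : Matrix ((Fin k ⊕ Fin k) ⊕ Fin 2) ((Fin k ⊕ Fin k) ⊕ Fin 2) F)) ∧
      ∀ W : Submodule F (VM k F),
        Cfsg.Geo.IsNondegenerateOn (QuadraticMap.polar (Cfsg.quadFormMinus k F a b)) W →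
        W.map (Matrix.toLin'
          (x : Matrix ((Fin k ⊕ Fin k) ⊕ Fin 2) ((Fin k ⊕ Fin k) ⊕ Fin 2) F)) ≤ W →
        finrank F W ≠ m := by
  have hp : p.Prime := Fact.out
  have hp3 : 3 ≤ p := by
    have hp2 : p ≠ 2 := by
      rintro rfl
      apply h2
      have := CharP.cast_eq_zero F 2
      exact_mod_cast this
    have := hp.two_le
    omega
  obtain ⟨m', hm'⟩ := hm
  obtain ⟨k', hk'⟩ := hke
  rcases Nat.even_or_odd m' with hme | hmo
  · -- `m % 4 = 1`: Jordan type `3^2 2^(k-2)`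
    obtain ⟨m'', hm''⟩ := hme
    obtain ⟨x, hxΩ, hxp, hxns, hW⟩ := podd_core (F := F) (p := p) h2 (k + 1) k rfl (by omega) 3 2 (k - 2) (by decide) hp3
      (by omega) (by rw [Nat.even_iff]; omega) (by omega) (by omega) a b hab
    refine ⟨x, hxΩ, hxp, hxns, fun W hWnd hxW => ?_⟩
    obtain ⟨c₁, c₂, hc₁, ⟨c₃, hc₃⟩, hfin⟩ := hW W hWnd hxW
    omega
  · -- `m % 4 = 3`: Jordan type `1^2 2^k`
    obtain ⟨m'', hm''⟩ := hmo
    obtain ⟨x, hxΩ, hxp, hxns, hW⟩ := podd_core (F := F) (p := p) h2 (k + 1) k rfl (by omega) 1 2 k (by decide)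
      (by omega) (by omega) (by rw [Nat.even_iff]; omega) (by omega) (by omega) a b hab
    refine ⟨x, hxΩ, hxp, hxns, fun W hWnd hxW => ?_⟩
    obtain ⟨c₁, c₂, hc₁, ⟨c₃, hc₃⟩, hfin⟩ := hW W hWnd hxW
    omega

end unipotent

end concrete

end Cfsg.Agent.Lib.Helper46.Om
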