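import Mathlib
import Cfsg.Agent.S2280

set_option autoImplicit false
set_option linter.unusedSectionVars false
set_option linter.unusedVariables false
set_option linter.unusedSimpArgs false

/-! # S2279 part 2 (helper42): `τ ∈ ⟨u, τ u τ⁻¹⟩` for a regular unipotent `u`, abstract family calculus. -/

namespace Cfsg.Agent.Lib.Helper42.RUn

open Matrix Cfsg.Agent.S5058 Cfsg.Agent.S5043 Cfsg.Agent.S2280

section ring
variable {R : Type*} [Ring R]

/-- `(1+A)(1+B) = (1 + (AB - ABB)) (1+B)(1+A)` when `BA = 0`, `BBB = 0`. -/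
theorem run_ring1 (A B : R) (hBA : B * A = 0) (hB3 : B * (B * B) = 0) :
    (1 + A) * (1 + B) = (1 + (A * B - A * (B * B))) * ((1 + B) * (1 + A)) := by
  have h1 : (1 + B) * (1 + A) = 1 + A + B := by
    rw [mul_add, add_mul, add_mul, one_mul, one_mul, mul_one, hBA, add_zero]; abel
  rw [h1]
  have h2 : A * B * A = 0 := by rw [mul_assoc, hBA, mul_zero]
  have h3 : A * (B * B) * A = 0 := by rw [mul_assoc, mul_assoc, hBA, mul_zero, mul_zero]
  have h4 : A * (B * B) * B = 0 := by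
    rw [mul_assoc, mul_assoc, hB3, mul_zero]
  have h5 : A * B * B = A * (B * B) := mul_assoc _ _ _
  simp only [mul_add, add_mul, sub_mul, one_mul, mul_one, h2, h3, h4, h5]
  abel

/-- `(1+A)(1+M) = (1 + AM)(1+M)(1+A)` when `MA = 0`, `MM = 0`. -/
theorem run_ring2 (A M : R) (hMA : M * A = 0) (hMM : M * M = 0) :
    (1 + A) * (1 + M) = (1 + A * M) * ((1 + M) * (1 + A)) := by
  have h1 : (1 + M) * (1 + A) = 1 + A + M := by
    rw [mul_add, add_mul, add_mul, one_mul, one_mul, mul_one, hMA, add_zero]; abel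
  rw [h1]
  have h2 : A * M * A = 0 := by rw [mul_assoc, hMA, mul_zero]
  have h3 : A * M * M = 0 := by rw [mul_assoc, hMM, mul_zero]
  simp only [mul_add, add_mul, one_mul, mul_one, h2, h3]
  abel

end ring

section grp
variable {G : Type*} [Group G]

theorem run_comm_mul_inv (x P Q : G) (h : Commute x Q) :
    x * (P * Q⁻¹) * x⁻¹ * (P * Q⁻¹)⁻¹ = x * P * x⁻¹ * P⁻¹ := by
  have e : Q⁻¹ * x⁻¹ = x⁻¹ * Q⁻¹ := (h.inv_left.inv_right).eq.symm
  calc x * (P * Q⁻¹) * x⁻¹ * (P * Q⁻¹)⁻¹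
      = x * P * (Q⁻¹ * x⁻¹) * (Q * P⁻¹) := by rw [_root_.mul_inv_rev, inv_inv]; simp only [mul_assoc]
    _ = x * P * (x⁻¹ * Q⁻¹) * (Q * P⁻¹) := by rw [e]
    _ = x * P * x⁻¹ * P⁻¹ := by group

end grp

section slcomm
variable {K : Type*} [Field K] {ι : Type*} [Fintype ι] [DecidableEq ι]

/-- value of a group commutator from a matrix identity `x y = Z (y x)`. -/
theorem run_comm_val (x y : SpecialLinearGroup ι K) (Z : Matrix ι ι K)
    (h : x.1 * y.1 = Z * (y.1 * x.1)) : (x * y * x⁻¹ * y⁻¹).1 = Z := by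
  have e : x * y * x⁻¹ * y⁻¹ = (x * y) * (y * x)⁻¹ := by group
  rw [e, Matrix.SpecialLinearGroup.coe_mul, Matrix.SpecialLinearGroup.coe_mul, h, Matrix.mul_assoc,
    ← Matrix.SpecialLinearGroup.coe_mul y x, val_mul_inv, Matrix.mul_one]

end slcomm

section family
variable {K : Type*} [Field K] {ι : Type*} [Fintype ι] [DecidableEq ι]
variable (U : SpecialLinearGroup ι K) (a0 φ0 : ι → K)

/-- `a_k = U^{-k} a_0`. -/
def av (k : ℤ) : ι → K := (U ^ (-k)).1 *ᵥ a0
/-- `φ_k = φ_0 U^k`. -/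
def fv (k : ℤ) : ι → K := φ0 ᵥ* (U ^ k).1
/-- the pairing function `c(d) = φ_0 U^d a_0`. -/
def cc (d : ℤ) : K := fv U φ0 d ⬝ᵥ a0

theorem av_zero : av U a0 0 = a0 := by simp [av]
theorem fv_zero : fv U φ0 0 = φ0 := by simp [fv]

theorem fv_dot_av (k j : ℤ) : fv U φ0 k ⬝ᵥ av U a0 j = cc U a0 φ0 (k - j) := by
  rw [cc, fv, fv, av, Matrix.dotProduct_mulVec, Matrix.vecMul_vecMul,
    ← Matrix.SpecialLinearGroup.coe_mul, ← _root_.zpow_add, sub_eq_add_neg]

theorem zpow_mulVec_av (i j : ℤ) : (U ^ i).1 *ᵥ av U a0 (j + i) = av U a0 j := by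
  rw [av, av, Matrix.mulVec_mulVec, ← Matrix.SpecialLinearGroup.coe_mul, ← _root_.zpow_add]
  congr 3
  ring

theorem fv_vecMul_zpow (i k : ℤ) : fv U φ0 k ᵥ* (U ^ i).1 = fv U φ0 (k + i) := by
  rw [fv, fv, Matrix.vecMul_vecMul, ← Matrix.SpecialLinearGroup.coe_mul, ← _root_.zpow_add]

/-- conjugating a family element by `U^i` shifts both indices by `i`. -/
theorem conj_family (x : SpecialLinearGroup ι K) (j k i : ℤ) (lam : K)
    (hx : x.1 = tvM (lam • av U a0 j) (fv U φ0 k)) :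
    (U ^ (-i) * x * U ^ i).1 = tvM (lam • av U a0 (j + i)) (fv U φ0 (k + i)) := by
  have h := conj_val' (U ^ i) x (lam • av U a0 j) (fv U φ0 k) (lam • av U a0 (j + i))
    (fv U φ0 (k + i)) hx (by rw [Matrix.mulVec_smul, zpow_mulVec_av]) (fv_vecMul_zpow U φ0 i k)
  rw [_root_.zpow_neg]
  exact h

end family

end Cfsg.Agent.Lib.Helper42.RUn
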