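import Mathlib
import Cfsg.Agent.Lib.Helper42.RUnA

set_option autoImplicit false
set_option linter.unusedSectionVars false
set_option linter.unusedVariables false
set_option linter.unusedSimpArgs false

/-! # S2279 part 2 (helper42): the derivation `τ ∈ ⟨U, τ U τ⁻¹⟩`. -/

namespace Cfsg.Agent.Lib.Helper42.RUn

open Matrix Cfsg.Agent.S5058 Cfsg.Agent.S5043 Cfsg.Agent.S2280

section deriv
variable {K : Type*} [Field K] {ι : Type*} [Fintype ι] [DecidableEq ι]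
variable (U : SpecialLinearGroup ι K) (a0 φ0 : ι → K)

/-- `V i j = a_i φ_jᵀ`. -/
def VV (i j : ℤ) : Matrix ι ι K := vecMulVec (av U a0 i) (fv U φ0 j)

theorem VV_mul (i j k l : ℤ) (c : K) (hc : cc U a0 φ0 (j - k) = c) :
    VV U a0 φ0 i j * VV U a0 φ0 k l = c • VV U a0 φ0 i l := by
  rw [VV, VV, Matrix.vecMulVec_mul_vecMulVec, fv_dot_av, hc, VV]
  simp [Matrix.vecMulVec_smul]

/-- `T_k = U^{-k} τ U^k`. -/
def Tk (τ : SpecialLinearGroup ι K) (k : ℤ) : SpecialLinearGroup ι K := U ^ (-k) * τ * U ^ k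

theorem Tk_val (τ : SpecialLinearGroup ι K) (hτ : τ.1 = tvM a0 φ0) (k : ℤ) :
    (Tk U τ k).1 = tvM (av U a0 k) (fv U φ0 k) := by
  have h := conj_family U a0 φ0 τ 0 0 k 1 (by rw [av_zero, fv_zero, one_smul]; exact hτ)
  rw [zero_add, one_smul] at h
  exact h

theorem s_mem (H : Subgroup (SpecialLinearGroup ι K)) (hU : U ∈ H) (τ : SpecialLinearGroup ι K)
    (hv : τ * U * τ⁻¹ ∈ H) (g : ℤ) : Tk U τ (g + 1) * (Tk U τ g)⁻¹ ∈ H := by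
  have e : Tk U τ (g + 1) * (Tk U τ g)⁻¹ = U ^ (-g) * (U⁻¹ * (τ * U * τ⁻¹)) * U ^ g := by
    unfold Tk
    group
  rw [e]
  exact H.mul_mem (H.mul_mem (H.zpow_mem hU _) (H.mul_mem (H.inv_mem hU) hv)) (H.zpow_mem hU _)

theorem s_val (τ : SpecialLinearGroup ι K) (hτ : τ.1 = tvM a0 φ0)
    (c0 : cc U a0 φ0 0 = 0) (c1 : cc U a0 φ0 1 = 0) (g : ℤ) :
    (Tk U τ (g + 1) * (Tk U τ g)⁻¹).1 = 1 + (VV U a0 φ0 (g + 1) (g + 1) - VV U a0 φ0 g g) := by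
  have hp : fv U φ0 g ⬝ᵥ av U a0 g = 0 := by rw [fv_dot_av, sub_self, c0]
  rw [Matrix.SpecialLinearGroup.coe_mul, Tk_val U a0 φ0 τ hτ, inv_val_of hp (Tk_val U a0 φ0 τ hτ g),
    tvM_mul, dotProduct_neg, fv_dot_av, add_sub_cancel_left, c1, neg_zero, zero_smul, add_zero,
    neg_vecMulVec, VV, VV]
  abel

/-- the gap-2 transvection `[s_0,[s_0,s_1]] = 1 - ε² a_0 φ_2ᵀ`. -/
theorem R_mem (H : Subgroup (SpecialLinearGroup ι K)) (hU : U ∈ H) (τ : SpecialLinearGroup ι K)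
    (hτ : τ.1 = tvM a0 φ0) (hv : τ * U * τ⁻¹ ∈ H)
    (c0 : cc U a0 φ0 0 = 0) (c1 : cc U a0 φ0 1 = 0) (c2 : cc U a0 φ0 2 = 0)
    (ε : K) (hε : cc U a0 φ0 (-1) = ε) :
    ∃ x ∈ H, x.1 = tvM ((-(ε * ε)) • av U a0 0) (fv U φ0 2) := by
  obtain ⟨s0, hs0def⟩ : ∃ s0, s0 = Tk U τ (0 + 1) * (Tk U τ 0)⁻¹ := ⟨_, rfl⟩
  obtain ⟨s1, hs1def⟩ : ∃ s1, s1 = Tk U τ (1 + 1) * (Tk U τ 1)⁻¹ := ⟨_, rfl⟩
  have hs0H : s0 ∈ H := by rw [hs0def]; exact s_mem U H hU τ hv 0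
  have hs1H : s1 ∈ H := by rw [hs1def]; exact s_mem U H hU τ hv 1
  obtain ⟨A, hA⟩ : ∃ A, A = VV U a0 φ0 1 1 - VV U a0 φ0 0 0 := ⟨_, rfl⟩
  obtain ⟨B, hB⟩ : ∃ B, B = VV U a0 φ0 2 2 - VV U a0 φ0 1 1 := ⟨_, rfl⟩
  have hs0 : s0.1 = 1 + A := by
    rw [hs0def, s_val U a0 φ0 τ hτ c0 c1 0, hA]; norm_num
  have hs1 : s1.1 = 1 + B := by
    rw [hs1def, s_val U a0 φ0 τ hτ c0 c1 1, hB]; norm_num
  -- products of the rank one pieces
  have p00_00 : VV U a0 φ0 0 0 * VV U a0 φ0 0 0 = 0 := by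
    rw [VV_mul U a0 φ0 0 0 0 0 0 (by norm_num; exact c0), zero_smul]
  have p11_11 : VV U a0 φ0 1 1 * VV U a0 φ0 1 1 = 0 := by
    rw [VV_mul U a0 φ0 1 1 1 1 0 (by norm_num; exact c0), zero_smul]
  have p22_22 : VV U a0 φ0 2 2 * VV U a0 φ0 2 2 = 0 := by
    rw [VV_mul U a0 φ0 2 2 2 2 0 (by norm_num; exact c0), zero_smul]
  have p11_00 : VV U a0 φ0 1 1 * VV U a0 φ0 0 0 = 0 := by
    rw [VV_mul U a0 φ0 1 1 0 0 0 (by norm_num; exact c1), zero_smul]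
  have p22_11 : VV U a0 φ0 2 2 * VV U a0 φ0 1 1 = 0 := by
    rw [VV_mul U a0 φ0 2 2 1 1 0 (by norm_num; exact c1), zero_smul]
  have p22_00 : VV U a0 φ0 2 2 * VV U a0 φ0 0 0 = 0 := by
    rw [VV_mul U a0 φ0 2 2 0 0 0 (by norm_num; exact c2), zero_smul]
  have p11_22 : VV U a0 φ0 1 1 * VV U a0 φ0 2 2 = ε • VV U a0 φ0 1 2 :=
    VV_mul U a0 φ0 1 1 2 2 ε (by norm_num; exact hε)
  have p00_11 : VV U a0 φ0 0 0 * VV U a0 φ0 1 1 = ε • VV U a0 φ0 0 1 :=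
    VV_mul U a0 φ0 0 0 1 1 ε (by norm_num; exact hε)
  obtain ⟨δ, hδ⟩ : ∃ δ, cc U a0 φ0 (-2) = δ := ⟨_, rfl⟩
  have p00_22 : VV U a0 φ0 0 0 * VV U a0 φ0 2 2 = δ • VV U a0 φ0 0 2 :=
    VV_mul U a0 φ0 0 0 2 2 δ (by norm_num; exact hδ)
  have hBA : B * A = 0 := by
    rw [hA, hB]
    simp only [sub_mul, mul_sub, p22_11, p22_00, p11_11, p11_00, sub_zero]
  have hBB : B * B = -(ε • VV U a0 φ0 1 2) := by
    rw [hB]
    simp only [sub_mul, mul_sub, p22_22, p22_11, p11_22, p11_11, sub_zero, zero_sub]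
  have p22_12 : VV U a0 φ0 2 2 * VV U a0 φ0 1 2 = 0 := by
    rw [VV_mul U a0 φ0 2 2 1 2 0 (by norm_num; exact c1), zero_smul]
  have p11_12 : VV U a0 φ0 1 1 * VV U a0 φ0 1 2 = 0 := by
    rw [VV_mul U a0 φ0 1 1 1 2 0 (by norm_num; exact c0), zero_smul]
  have p00_12 : VV U a0 φ0 0 0 * VV U a0 φ0 1 2 = ε • VV U a0 φ0 0 2 :=
    VV_mul U a0 φ0 0 0 1 2 ε (by norm_num; exact hε)
  have hB3 : B * (B * B) = 0 := by
    rw [hBB, hB]
    simp only [sub_mul, mul_neg, Matrix.mul_smul, p22_12, p11_12, smul_zero, neg_zero, sub_zero]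
  have hAB : A * B = ε • VV U a0 φ0 1 2 - δ • VV U a0 φ0 0 2 + ε • VV U a0 φ0 0 1 := by
    rw [hA, hB]
    simp only [sub_mul, mul_sub, p11_22, p11_11, p00_22, p00_11, sub_zero]
    abel
  have hABB : A * (B * B) = (ε * ε) • VV U a0 φ0 0 2 := by
    rw [hBB, hA]
    simp only [sub_mul, mul_neg, Matrix.mul_smul, p11_12, p00_12, smul_zero, neg_zero, zero_sub,
      neg_neg, smul_smul]
  obtain ⟨M, hM⟩ : ∃ M, M = A * B - A * (B * B) := ⟨_, rfl⟩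
  have hMval : M = ε • VV U a0 φ0 1 2 + ε • VV U a0 φ0 0 1 - (δ + ε * ε) • VV U a0 φ0 0 2 := by
    rw [hM, hAB, hABB, add_smul]; abel
  -- products with M
  have q12_11 : VV U a0 φ0 1 2 * VV U a0 φ0 1 1 = 0 := by
    rw [VV_mul U a0 φ0 1 2 1 1 0 (by norm_num; exact c1), zero_smul]
  have q12_00 : VV U a0 φ0 1 2 * VV U a0 φ0 0 0 = 0 := by
    rw [VV_mul U a0 φ0 1 2 0 0 0 (by norm_num; exact c2), zero_smul]
  have q01_11 : VV U a0 φ0 0 1 * VV U a0 φ0 1 1 = 0 := by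
    rw [VV_mul U a0 φ0 0 1 1 1 0 (by norm_num; exact c0), zero_smul]
  have q01_00 : VV U a0 φ0 0 1 * VV U a0 φ0 0 0 = 0 := by
    rw [VV_mul U a0 φ0 0 1 0 0 0 (by norm_num; exact c1), zero_smul]
  have q02_11 : VV U a0 φ0 0 2 * VV U a0 φ0 1 1 = 0 := by
    rw [VV_mul U a0 φ0 0 2 1 1 0 (by norm_num; exact c1), zero_smul]
  have q02_00 : VV U a0 φ0 0 2 * VV U a0 φ0 0 0 = 0 := by
    rw [VV_mul U a0 φ0 0 2 0 0 0 (by norm_num; exact c2), zero_smul]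
  have hMA : M * A = 0 := by
    rw [hMval, hA]
    simp only [sub_mul, add_mul, mul_sub, Matrix.smul_mul, q12_11, q12_00, q01_11, q01_00, q02_11,
      q02_00, smul_zero, sub_zero, add_zero]
  have r12_12 : VV U a0 φ0 1 2 * VV U a0 φ0 1 2 = 0 := by
    rw [VV_mul U a0 φ0 1 2 1 2 0 (by norm_num; exact c1), zero_smul]
  have r12_01 : VV U a0 φ0 1 2 * VV U a0 φ0 0 1 = 0 := by
    rw [VV_mul U a0 φ0 1 2 0 1 0 (by norm_num; exact c2), zero_smul]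
  have r12_02 : VV U a0 φ0 1 2 * VV U a0 φ0 0 2 = 0 := by
    rw [VV_mul U a0 φ0 1 2 0 2 0 (by norm_num; exact c2), zero_smul]
  have r01_12 : VV U a0 φ0 0 1 * VV U a0 φ0 1 2 = 0 := by
    rw [VV_mul U a0 φ0 0 1 1 2 0 (by norm_num; exact c0), zero_smul]
  have r01_01 : VV U a0 φ0 0 1 * VV U a0 φ0 0 1 = 0 := by
    rw [VV_mul U a0 φ0 0 1 0 1 0 (by norm_num; exact c1), zero_smul]
  have r01_02 : VV U a0 φ0 0 1 * VV U a0 φ0 0 2 = 0 := by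
    rw [VV_mul U a0 φ0 0 1 0 2 0 (by norm_num; exact c1), zero_smul]
  have r02_12 : VV U a0 φ0 0 2 * VV U a0 φ0 1 2 = 0 := by
    rw [VV_mul U a0 φ0 0 2 1 2 0 (by norm_num; exact c1), zero_smul]
  have r02_01 : VV U a0 φ0 0 2 * VV U a0 φ0 0 1 = 0 := by
    rw [VV_mul U a0 φ0 0 2 0 1 0 (by norm_num; exact c2), zero_smul]
  have r02_02 : VV U a0 φ0 0 2 * VV U a0 φ0 0 2 = 0 := by
    rw [VV_mul U a0 φ0 0 2 0 2 0 (by norm_num; exact c2), zero_smul]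
  have hMM : M * M = 0 := by
    rw [hMval]
    simp only [sub_mul, add_mul, mul_sub, mul_add, Matrix.smul_mul, Matrix.mul_smul, r12_12, r12_01,
      r12_02, r01_12, r01_01, r01_02, r02_12, r02_01, r02_02, smul_zero, sub_zero, add_zero]
  have t11_01 : VV U a0 φ0 1 1 * VV U a0 φ0 0 1 = 0 := by
    rw [VV_mul U a0 φ0 1 1 0 1 0 (by norm_num; exact c1), zero_smul]
  have t11_02 : VV U a0 φ0 1 1 * VV U a0 φ0 0 2 = 0 := by
    rw [VV_mul U a0 φ0 1 1 0 2 0 (by norm_num; exact c1), zero_smul]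
  have t00_01 : VV U a0 φ0 0 0 * VV U a0 φ0 0 1 = 0 := by
    rw [VV_mul U a0 φ0 0 0 0 1 0 (by norm_num; exact c0), zero_smul]
  have t00_02 : VV U a0 φ0 0 0 * VV U a0 φ0 0 2 = 0 := by
    rw [VV_mul U a0 φ0 0 0 0 2 0 (by norm_num; exact c0), zero_smul]
  have hAM : A * M = -((ε * ε) • VV U a0 φ0 0 2) := by
    rw [hMval, hA]
    simp only [sub_mul, mul_sub, mul_add, Matrix.mul_smul, p11_12, t11_01, t11_02, p00_12, t00_01,
      t00_02, smul_zero, sub_zero, add_zero, zero_sub, smul_smul]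
  -- the commutators
  obtain ⟨c01, hc01def⟩ : ∃ c, c = s0 * s1 * s0⁻¹ * s1⁻¹ := ⟨_, rfl⟩
  have hc01H : c01 ∈ H := by
    rw [hc01def]
    exact H.mul_mem (H.mul_mem (H.mul_mem hs0H hs1H) (H.inv_mem hs0H)) (H.inv_mem hs1H)
  have hc01 : c01.1 = 1 + M := by
    rw [hc01def, hM]
    apply run_comm_val
    rw [hs0, hs1]
    exact run_ring1 A B hBA hB3
  refine ⟨s0 * c01 * s0⁻¹ * c01⁻¹,
    H.mul_mem (H.mul_mem (H.mul_mem hs0H hc01H) (H.inv_mem hs0H)) (H.inv_mem hc01H), ?_⟩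
  have hR : (s0 * c01 * s0⁻¹ * c01⁻¹).1 = 1 + A * M := by
    apply run_comm_val
    rw [hs0, hc01]
    exact run_ring2 A M hMA hMM
  rw [hR, hAM, tvM, VV, neg_smul, Matrix.neg_vecMulVec, Matrix.smul_vecMulVec]

/-- all gap-`g` family transvections with coefficient `lam` lie in `H`. -/
def InH (H : Subgroup (SpecialLinearGroup ι K)) (g : ℤ) (lam : K) : Prop :=
  ∀ j : ℤ, ∀ x : SpecialLinearGroup ι K,
    x.1 = tvM (lam • av U a0 j) (fv U φ0 (j + g)) → x ∈ H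

theorem inH_of_one (H : Subgroup (SpecialLinearGroup ι K)) (hU : U ∈ H) (g : ℤ) (lam : K) (j0 : ℤ)
    (x : SpecialLinearGroup ι K) (hxH : x ∈ H)
    (hx : x.1 = tvM (lam • av U a0 j0) (fv U φ0 (j0 + g))) : InH U a0 φ0 H g lam := by
  intro j y hy
  have e : y = U ^ (-(j - j0)) * x * U ^ (j - j0) := by
    apply Subtype.ext
    rw [hy, conj_family U a0 φ0 x j0 (j0 + g) (j - j0) lam hx]
    have h1 : j0 + (j - j0) = j := by ring
    have h2 : j0 + g + (j - j0) = j + g := by ring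
    rw [h1, h2]
  rw [e]
  exact H.mul_mem (H.mul_mem (H.zpow_mem hU _) hxH) (H.zpow_mem hU _)

/-- climbing the gap by one with `s_g`. -/
theorem climb (H : Subgroup (SpecialLinearGroup ι K)) (hU : U ∈ H) (τ : SpecialLinearGroup ι K)
    (hτ : τ.1 = tvM a0 φ0) (hv : τ * U * τ⁻¹ ∈ H)
    (c0 : cc U a0 φ0 0 = 0) (g : ℤ) (hg0 : cc U a0 φ0 g = 0) (hg1 : cc U a0 φ0 (g + 1) = 0)
    (ε : K) (hε : cc U a0 φ0 (-1) = ε) (lam : K) (h : InH U a0 φ0 H g lam) :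
    InH U a0 φ0 H (g + 1) (lam * ε) := by
  have hx0 : fv U φ0 g ⬝ᵥ (lam • av U a0 0) = 0 := by
    rw [dotProduct_smul, fv_dot_av, sub_zero, hg0, smul_zero]
  obtain ⟨x, hxdef⟩ : ∃ x, x = tv (lam • av U a0 0) (fv U φ0 g) hx0 := ⟨_, rfl⟩
  have hxv : x.1 = tvM (lam • av U a0 0) (fv U φ0 g) := by rw [hxdef]; rfl
  have hxH : x ∈ H := h 0 x (by rw [zero_add]; exact hxv)
  obtain ⟨P, hP⟩ : ∃ P, P = Tk U τ (g + 1) := ⟨_, rfl⟩
  obtain ⟨Q, hQ⟩ : ∃ Q, Q = Tk U τ g := ⟨_, rfl⟩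
  have hPv : P.1 = tvM ((1 : K) • av U a0 (g + 1)) (fv U φ0 (g + 1)) := by
    rw [hP, Tk_val U a0 φ0 τ hτ, one_smul]
  have hQv : Q.1 = tvM (av U a0 g) (fv U φ0 g) := by rw [hQ, Tk_val U a0 φ0 τ hτ]
  have hsH : P * Q⁻¹ ∈ H := by rw [hP, hQ]; exact s_mem U H hU τ hv g
  have hcomm : Commute x Q := by
    apply Subtype.ext
    rw [Matrix.SpecialLinearGroup.coe_mul, Matrix.SpecialLinearGroup.coe_mul, hxv, hQv]
    apply comm_case
    · rw [fv_dot_av, sub_self, c0]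
    · exact hx0
  have hmem : x * (P * Q⁻¹) * x⁻¹ * (P * Q⁻¹)⁻¹ ∈ H :=
    H.mul_mem (H.mul_mem (H.mul_mem hxH hsH) (H.inv_mem hxH)) (H.inv_mem hsH)
  rw [run_comm_mul_inv x P Q hcomm] at hmem
  have hval := comm_val (av U a0 0) (fv U φ0 g) (av U a0 (g + 1)) (fv U φ0 (g + 1))
    (by rw [fv_dot_av, sub_zero, hg0]) (by rw [fv_dot_av, sub_self, c0])
    (by rw [fv_dot_av, sub_zero, hg1]) x P lam 1 hxv hPv
  rw [fv_dot_av, sub_add_cancel_left, hε, mul_one] at hval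
  exact inH_of_one U a0 φ0 H hU (g + 1) (lam * ε) 0 _ hmem (by rw [zero_add]; exact hval)

/-- commutator of two family elements (first at index `0`, second at index `j'`). -/
theorem comb (H : Subgroup (SpecialLinearGroup ι K)) (hU : U ∈ H) (g g' j' : ℤ) (lam mu γ : K)
    (h1 : InH U a0 φ0 H g lam) (h2 : InH U a0 φ0 H g' mu)
    (hg : cc U a0 φ0 g = 0) (hg' : cc U a0 φ0 g' = 0) (hnew : cc U a0 φ0 (j' + g') = 0)
    (hγ : cc U a0 φ0 (g - j') = γ) : InH U a0 φ0 H (j' + g') (lam * mu * γ) := by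
  have hx0 : fv U φ0 g ⬝ᵥ (lam • av U a0 0) = 0 := by
    rw [dotProduct_smul, fv_dot_av, sub_zero, hg, smul_zero]
  have hy0 : fv U φ0 (j' + g') ⬝ᵥ (mu • av U a0 j') = 0 := by
    rw [dotProduct_smul, fv_dot_av, add_sub_cancel_left, hg', smul_zero]
  obtain ⟨x, hxdef⟩ : ∃ x, x = tv (lam • av U a0 0) (fv U φ0 g) hx0 := ⟨_, rfl⟩
  obtain ⟨y, hydef⟩ : ∃ y, y = tv (mu • av U a0 j') (fv U φ0 (j' + g')) hy0 := ⟨_, rfl⟩
  have hxv : x.1 = tvM (lam • av U a0 0) (fv U φ0 g) := by rw [hxdef]; rfl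
  have hyv : y.1 = tvM (mu • av U a0 j') (fv U φ0 (j' + g')) := by rw [hydef]; rfl
  have hxH : x ∈ H := h1 0 x (by rw [zero_add]; exact hxv)
  have hyH : y ∈ H := h2 j' y hyv
  have hmem : x * y * x⁻¹ * y⁻¹ ∈ H :=
    H.mul_mem (H.mul_mem (H.mul_mem hxH hyH) (H.inv_mem hxH)) (H.inv_mem hyH)
  have hval := comm_val (av U a0 0) (fv U φ0 g) (av U a0 j') (fv U φ0 (j' + g'))
    (by rw [fv_dot_av, sub_zero, hg]) (by rw [fv_dot_av, add_sub_cancel_left, hg'])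
    (by rw [fv_dot_av, sub_zero, hnew]) x y lam mu hxv hyv
  rw [fv_dot_av, hγ] at hval
  exact inH_of_one U a0 φ0 H hU (j' + g') (lam * mu * γ) 0 _ hmem (by rw [zero_add]; exact hval)

theorem pm_mul {a b : K} (ha : a = 1 ∨ a = -1) (hb : b = 1 ∨ b = -1) : a * b = 1 ∨ a * b = -1 := by
  rcases ha with rfl | rfl <;> rcases hb with rfl | rfl <;> simp

/-- **Main derivation.** If `c(d) = 0` for `0 ≤ d ≤ N` (`N ≥ 2`), `c(N+1) = 1`, `c(-1) = ±1`, then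
`τ = 1 + a_0 φ_0ᵀ` lies in every subgroup containing `U` and `τ U τ⁻¹`. -/
theorem tau_mem (N : ℕ) (hN : 2 ≤ N)
    (hc0 : ∀ d : ℤ, 0 ≤ d → d ≤ N → cc U a0 φ0 d = 0)
    (hctop : cc U a0 φ0 (N + 1) = 1)
    (hcneg : cc U a0 φ0 (-1) = 1 ∨ cc U a0 φ0 (-1) = -1)
    (H : Subgroup (SpecialLinearGroup ι K)) (hU : U ∈ H) (τ : SpecialLinearGroup ι K)
    (hτ : τ.1 = tvM a0 φ0) (hv : τ * U * τ⁻¹ ∈ H) : τ ∈ H := by
  obtain ⟨ε, hε⟩ : ∃ ε, cc U a0 φ0 (-1) = ε := ⟨_, rfl⟩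
  have hεpm : ε = 1 ∨ ε = -1 := by rw [← hε]; exact hcneg
  have hεε : ε * ε = 1 := by rcases hεpm with rfl | rfl <;> simp
  have c0 : cc U a0 φ0 0 = 0 := hc0 0 le_rfl (by positivity)
  have c1 : cc U a0 φ0 1 = 0 := hc0 1 (by norm_num) (by exact_mod_cast (by omega : 1 ≤ N))
  have c2 : cc U a0 φ0 2 = 0 := hc0 2 (by norm_num) (by exact_mod_cast hN)
  have cN : cc U a0 φ0 (N : ℤ) = 0 := hc0 N (by positivity) le_rfl
  -- gap 2
  have h2 : InH U a0 φ0 H 2 (-1) := by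
    obtain ⟨x, hxH, hx⟩ := R_mem U a0 φ0 H hU τ hτ hv c0 c1 c2 ε hε
    rw [hεε] at hx
    exact inH_of_one U a0 φ0 H hU 2 (-1) 0 x hxH (by rw [zero_add]; exact hx)
  -- climbing
  have hclimb : ∀ k : ℕ, 2 + k ≤ N → ∃ lam : K, (lam = 1 ∨ lam = -1) ∧
      InH U a0 φ0 H (2 + (k : ℤ)) lam := by
    intro k
    induction k with
    | zero =>
      intro _
      refine ⟨-1, Or.inr rfl, ?_⟩
      simpa using h2
    | succ k ih =>
      intro hk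
      obtain ⟨lam, hlam, hIn⟩ := ih (by omega)
      refine ⟨lam * ε, pm_mul hlam hεpm, ?_⟩
      have hg0 : cc U a0 φ0 (2 + (k : ℤ)) = 0 :=
        hc0 _ (by positivity) (by exact_mod_cast (by omega : 2 + k ≤ N))
      have hg1 : cc U a0 φ0 (2 + (k : ℤ) + 1) = 0 :=
        hc0 _ (by positivity) (by exact_mod_cast (by omega : 2 + k + 1 ≤ N))
      have := climb U a0 φ0 H hU τ hτ hv c0 (2 + (k : ℤ)) hg0 hg1 ε hε lam hIn
      have e : (2 : ℤ) + ((k + 1 : ℕ) : ℤ) = 2 + (k : ℤ) + 1 := by push_cast; ring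
      rw [e]
      exact this
  obtain ⟨lamN, hlamN, hInN⟩ := hclimb (N - 2) (by omega)
  have eN : (2 : ℤ) + ((N - 2 : ℕ) : ℤ) = (N : ℤ) := by
    rw [Nat.cast_sub hN]; push_cast; ring
  rw [eN] at hInN
  -- gap 1
  have h1 : InH U a0 φ0 H 1 (lamN * (-1) * 1) := by
    have := comb U a0 φ0 H hU (N : ℤ) 2 (-1) lamN (-1) 1 hInN h2 cN c2
      (by norm_num; exact c1) (by rw [sub_neg_eq_add]; exact hctop)
    have e : (-1 : ℤ) + 2 = 1 := by norm_num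
    rw [e] at this
    exact this
  -- gap 0
  have h0 : InH U a0 φ0 H 0 (lamN * (lamN * (-1) * 1) * 1) := by
    have := comb U a0 φ0 H hU (N : ℤ) 1 (-1) lamN (lamN * (-1) * 1) 1 hInN h1 cN c1
      (by norm_num; exact c0) (by rw [sub_neg_eq_add]; exact hctop)
    have e : (-1 : ℤ) + 1 = 0 := by norm_num
    rw [e] at this
    exact this
  have hcoef : lamN * (lamN * (-1) * 1) * 1 = -1 := by
    rcases hlamN with rfl | rfl <;> simp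
  rw [hcoef] at h0
  -- τ⁻¹ has value `1 - a_0 φ_0ᵀ`
  have hp : φ0 ⬝ᵥ a0 = 0 := by
    have := c0
    rw [cc, fv_zero] at this
    exact this
  have hinv : (τ⁻¹).1 = tvM (-a0) φ0 := inv_val_of hp hτ
  have : τ⁻¹ ∈ H := h0 0 τ⁻¹ (by rw [zero_add, av_zero, fv_zero, neg_one_smul]; exact hinv)
  simpa using H.inv_mem this

end deriv

end Cfsg.Agent.Lib.Helper42.RUn
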