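import Mathlib
import Cfsg.Agent.Lib.Helper42.RUnB

set_option autoImplicit false
set_option linter.unusedSectionVars false
set_option linter.unusedVariables false
set_option linter.unusedSimpArgs false

/-! # S2279 part 2 (helper42): the concrete instance `U = V0 = 1 + L`, `τ = 1 + E_{0,n-1}`. -/

namespace Cfsg.Agent.Lib.Helper42.RUn

open Matrix Cfsg.Agent.S5058 Cfsg.Agent.S5043 Cfsg.Agent.S2280

section concrete
variable {K : Type*} [Field K] {m : ℕ}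

/-- `w_k = V0^k e_0`. -/
def wv (K : Type*) [Field K] (m k : ℕ) : Fin (m + 3) → K :=
  (V0M K m ^ k) *ᵥ Pi.single ⟨0, by omega⟩ 1

theorem wv_succ (k : ℕ) : wv K m (k + 1) = V0M K m *ᵥ wv K m k := by
  rw [wv, wv, pow_succ', Matrix.mulVec_mulVec]

theorem wv_high (k : ℕ) : ∀ (i : ℕ) (hi : i < m + 3), k < i → wv K m k ⟨i, hi⟩ = 0 := by
  induction k with
  | zero =>
    intro i hi hki
    have : ¬ (i = 0) := by omega
    simp [wv, Pi.single_apply, Fin.ext_iff, this]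
  | succ k ih =>
    intro i hi hki
    obtain ⟨i', rfl⟩ : ∃ i', i = i' + 1 := ⟨i - 1, by omega⟩
    rw [wv_succ, V0M_mulVec_succ, ih (i' + 1) hi (by omega), ih i' (by omega) (by omega), add_zero]

theorem wv_diag (k : ℕ) (hk : k < m + 3) : wv K m k ⟨k, hk⟩ = 1 := by
  induction k with
  | zero => simp [wv]
  | succ k ih =>
    rw [wv_succ, V0M_mulVec_succ, wv_high k (k + 1) hk (by omega), ih (by omega), zero_add]

/-- the alternating vector `V0⁻¹ e_0`. -/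
def altv (K : Type*) [Field K] (m : ℕ) : Fin (m + 3) → K := fun i => (-1) ^ (i : ℕ)

theorem V0M_mulVec_altv : V0M K m *ᵥ altv K m = Pi.single ⟨0, by omega⟩ 1 := by
  funext l
  obtain ⟨l, hl⟩ := l
  rcases Nat.eq_zero_or_pos l with rfl | hpos
  · rw [V0M_mulVec_zero]
    simp [altv]
  · obtain ⟨l', rfl⟩ : ∃ l', l = l' + 1 := ⟨l - 1, by omega⟩
    rw [V0M_mulVec_succ]
    simp [altv, Pi.single_apply, Fin.ext_iff, pow_succ]

theorem cc_nat (k : ℕ) :
    cc (V0 K m) (Pi.single ⟨0, by omega⟩ 1) (Pi.single ⟨m + 2, by omega⟩ 1) (k : ℤ)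
      = wv K m k ⟨m + 2, by omega⟩ := by
  rw [cc, fv, ← Matrix.dotProduct_mulVec, zpow_natCast, Matrix.SpecialLinearGroup.coe_pow,
    single_dotProduct, one_mul]
  rfl

theorem cc_neg_one :
    cc (V0 K m) (Pi.single ⟨0, by omega⟩ 1) (Pi.single ⟨m + 2, by omega⟩ 1) (-1)
      = (-1) ^ (m + 2) := by
  rw [cc, fv, ← Matrix.dotProduct_mulVec, single_dotProduct, one_mul, _root_.zpow_neg_one]
  have h : ((V0 K m)⁻¹).1 *ᵥ (Pi.single ⟨0, by omega⟩ 1 : Fin (m + 3) → K) = altv K m := by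
    rw [← V0M_mulVec_altv, Matrix.mulVec_mulVec]
    have : ((V0 K m)⁻¹).1 * V0M K m = 1 := inv_val_mul (V0 K m)
    rw [this, Matrix.one_mulVec]
  rw [h]
  rfl

/-- `τ = 1 + E_{0,n-1}` lies in every subgroup containing `V0` and `τ V0 τ⁻¹` (`n = m + 3 ≥ 4`). -/
theorem tau_mem_V0 (hm : 1 ≤ m) (H : Subgroup (SpecialLinearGroup (Fin (m + 3)) K))
    (hV : V0 K m ∈ H) (τ : SpecialLinearGroup (Fin (m + 3)) K)
    (hτ : τ.1 = tvM (Pi.single ⟨0, by omega⟩ 1) (Pi.single ⟨m + 2, by omega⟩ 1))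
    (hv : τ * V0 K m * τ⁻¹ ∈ H) : τ ∈ H := by
  apply tau_mem (V0 K m) (Pi.single ⟨0, by omega⟩ 1) (Pi.single ⟨m + 2, by omega⟩ 1) (m + 1)
    (by omega) ?_ ?_ ?_ H hV τ hτ hv
  · intro d hd0 hd
    obtain ⟨k, rfl⟩ := Int.eq_ofNat_of_zero_le hd0
    have hk : k ≤ m + 1 := by exact_mod_cast hd
    rw [cc_nat, wv_high k (m + 2) (by omega) (by omega)]
  · have e : (((m + 1 : ℕ) : ℤ) + 1) = ((m + 2 : ℕ) : ℤ) := by push_cast; ring
    rw [e, cc_nat, wv_diag (m + 2) (by omega)]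
  · rw [cc_neg_one]
    exact neg_one_pow_eq_or K (m + 2)

end concrete

end Cfsg.Agent.Lib.Helper42.RUn
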