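import Mathlib
import Cfsg.Agent.Lib.Helper42.RUnC

set_option autoImplicit false
set_option linter.unusedSectionVars false
set_option linter.unusedVariables false
set_option linter.unusedSimpArgs false

/-! # S2279 part 2 (helper42): `SL_n(𝔽_p)`, `n ≥ 4`, is generated by `V0` and `τ V0 τ⁻¹`. -/

namespace Cfsg.Agent.Lib.Helper42.RUn

open Matrix Cfsg.Agent.S5058 Cfsg.Agent.S5043 Cfsg.Agent.S2280

section fin
variable {F : Type*} [Field F] {m : ℕ}

/-- over a field of prime order, `Good H 1` already forces `H = ⊤`. -/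
theorem good_one_top [Fintype F] (hp : (Fintype.card F).Prime)
    (H : Subgroup (SpecialLinearGroup (Fin (m + 3)) F)) (hOne : Good H 1) : H = ⊤ := by
  apply Cfsg.Agent.Lib.Helper5.eq_top_of_transvection_mem
  intro i j hij c
  obtain ⟨k, hk⟩ : ∃ k : ℕ, c = (k : F) := by
    obtain ⟨z, rfl⟩ := (ZMod.ringEquivOfPrime F hp rfl).surjective c
    have : Fact (Fintype.card F).Prime := ⟨hp⟩
    refine ⟨z.val, ?_⟩
    conv_lhs => rw [← ZMod.natCast_zmod_val z]
    rw [map_natCast]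
  have h0 : (Pi.single j 1 : Fin (m + 3) → F) ⬝ᵥ Pi.single i 1 = 0 := dot_e_ne hij.symm
  have hx : (Matrix.SpecialLinearGroup.transvection hij (1 : F)).1
      = tvM ((1 : F) • Pi.single i 1) (Pi.single j 1) := by
    rw [Matrix.SpecialLinearGroup.transvection_coe]
    exact single_eq_tvM i j 1
  have hxH : Matrix.SpecialLinearGroup.transvection hij (1 : F) ∈ H := hOne i j hij _ hx
  have e : Matrix.SpecialLinearGroup.transvection hij c
      = (Matrix.SpecialLinearGroup.transvection hij (1 : F)) ^ k := by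
    apply Subtype.ext
    rw [pow_val _ 1 _ _ h0 hx, Matrix.SpecialLinearGroup.transvection_coe, hk, mul_one]
    exact single_eq_tvM i j _
  rw [e]
  exact H.pow_mem hxH k

theorem V0_regular :
    IsNilpotent ((V0 F m : Matrix (Fin (m + 3)) (Fin (m + 3)) F) - 1) ∧
      ((V0 F m : Matrix (Fin (m + 3)) (Fin (m + 3)) F) - 1) ^ (m + 2) ≠ 0 := by
  have h : (V0 F m : Matrix (Fin (m + 3)) (Fin (m + 3)) F) - 1 = LM F m := by
    change V0M F m - 1 = LM F m
    rw [V0M, add_sub_cancel_left]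
  rw [h]
  exact ⟨⟨m + 3, LM_pow_top⟩, LM_pow_ne⟩

/-- conjugates of regular unipotents are regular unipotent. -/
theorem regular_conj {ι : Type*} [Fintype ι] [DecidableEq ι] (u g : SpecialLinearGroup ι F) (k : ℕ)
    (h : IsNilpotent ((u : Matrix ι ι F) - 1) ∧ ((u : Matrix ι ι F) - 1) ^ k ≠ 0) :
    IsNilpotent (((g * u * g⁻¹ : SpecialLinearGroup ι F) : Matrix ι ι F) - 1) ∧
      (((g * u * g⁻¹ : SpecialLinearGroup ι F) : Matrix ι ι F) - 1) ^ k ≠ 0 := by
  have e : ((g * u * g⁻¹ : SpecialLinearGroup ι F) : Matrix ι ι F) - 1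
      = g.1 * (u.1 - 1) * (g⁻¹).1 := by
    rw [Matrix.SpecialLinearGroup.coe_mul, Matrix.SpecialLinearGroup.coe_mul, Matrix.mul_sub,
      Matrix.sub_mul, Matrix.mul_one, val_mul_inv]
  rw [e]
  obtain ⟨⟨r, hr⟩, hne⟩ := h
  constructor
  · refine ⟨r, ?_⟩
    rw [conj_pow' _ _ _ (val_mul_inv g) (inv_val_mul g), hr, Matrix.mul_zero, Matrix.zero_mul]
  · rw [conj_pow' _ _ _ (val_mul_inv g) (inv_val_mul g)]
    intro h0
    apply hne
    calc (u.1 - 1) ^ k = ((g⁻¹).1 * g.1) * (u.1 - 1) ^ k * ((g⁻¹).1 * g.1) := by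
          rw [inv_val_mul, Matrix.one_mul, Matrix.mul_one]
      _ = (g⁻¹).1 * (g.1 * (u.1 - 1) ^ k * (g⁻¹).1) * g.1 := by simp only [Matrix.mul_assoc]
      _ = 0 := by rw [h0, Matrix.mul_zero, Matrix.zero_mul]

/-- **Part 2.** Over a field of prime order, `SL_n` (`n = m + 3 ≥ 4`) is generated by two conjugate
regular unipotents `V0` and `τ V0 τ⁻¹`. -/
theorem part2 [Fintype F] (hm : 1 ≤ m) (hp : (Fintype.card F).Prime) :
    ∃ u g : SpecialLinearGroup (Fin (m + 3)) F,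
      (IsNilpotent ((u : Matrix (Fin (m + 3)) (Fin (m + 3)) F) - 1) ∧
        ((u : Matrix (Fin (m + 3)) (Fin (m + 3)) F) - 1) ^ (m + 2) ≠ 0) ∧
      Subgroup.closure ({u, g * u * g⁻¹} : Set (SpecialLinearGroup (Fin (m + 3)) F)) = ⊤ := by
  have hτ0 : (Pi.single ⟨m + 2, by omega⟩ 1 : Fin (m + 3) → F) ⬝ᵥ Pi.single ⟨0, by omega⟩ 1 = 0 :=
    dot_e_ne (by simp [Fin.ext_iff])
  obtain ⟨τ, hτdef⟩ : ∃ τ : SpecialLinearGroup (Fin (m + 3)) F, τ = tv _ _ hτ0 := ⟨_, rfl⟩
  have hτval : τ.1 = tvM (Pi.single ⟨0, by omega⟩ 1) (Pi.single ⟨m + 2, by omega⟩ 1) := by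
    rw [hτdef]; rfl
  refine ⟨V0 F m, τ, V0_regular, ?_⟩
  set H := Subgroup.closure
    ({V0 F m, τ * V0 F m * τ⁻¹} : Set (SpecialLinearGroup (Fin (m + 3)) F)) with hH
  have hVH : V0 F m ∈ H := Subgroup.subset_closure (by simp)
  have hvH : τ * V0 F m * τ⁻¹ ∈ H := Subgroup.subset_closure (by simp)
  have hτH : τ ∈ H := tau_mem_V0 hm H hVH τ hτval hvH
  have : Finite F := Finite.of_fintype F
  exact good_one_top hp H (lemmaT H τ hτval hVH hτH)

end fin

end Cfsg.Agent.Lib.Helper42.RUn
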