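import Mathlib
import Cfsg.Prelude.Def_EvenType
import Cfsg.Prelude.Def_LieTypeChar
import Cfsg.Agent.Lib.Helper76.RkIso

/-! # RK-PSL (Rk hive of helper76, S1788): `PSL_n(q)`, `q` even, `q^(n-1) ≥ 8`, has 2-rank `≥ 3`. -/

set_option autoImplicit false

namespace Cfsg.Agent.Lib.Helper76.Rk

open Cfsg Matrix

section

variable {F : Type} [Field F] {n : ℕ}

/-- the nilpotent part: row `j0`, columns `≠ j0` -/
def psl_N (j0 : Fin n) (t : {j : Fin n // j ≠ j0} → F) : Matrix (Fin n) (Fin n) F :=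
  Matrix.of fun i j => if h : i = j0 ∧ j ≠ j0 then t ⟨j, h.2⟩ else 0

theorem psl_N_apply (j0 : Fin n) (t : {j : Fin n // j ≠ j0} → F) (i j : Fin n) :
    psl_N j0 t i j = if h : i = j0 ∧ j ≠ j0 then t ⟨j, h.2⟩ else 0 := rfl

theorem psl_N_mul (j0 : Fin n) (t s : {j : Fin n // j ≠ j0} → F) : psl_N j0 t * psl_N j0 s = 0 := by
  ext i k
  rw [Matrix.mul_apply, Matrix.zero_apply]
  apply Finset.sum_eq_zero
  intro j _
  rw [psl_N_apply, psl_N_apply]
  by_cases h1 : i = j0 ∧ j ≠ j0
  · have h2 : ¬ (j = j0 ∧ k ≠ j0) := fun h => h1.2 h.1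
    rw [dif_neg h2, mul_zero]
  · rw [dif_neg h1, zero_mul]

theorem psl_N_add (j0 : Fin n) (t s : {j : Fin n // j ≠ j0} → F) :
    psl_N j0 (t + s) = psl_N j0 t + psl_N j0 s := by
  ext i j
  rw [Matrix.add_apply, psl_N_apply, psl_N_apply, psl_N_apply]
  by_cases h : i = j0 ∧ j ≠ j0
  · rw [dif_pos h, dif_pos h, dif_pos h]; rfl
  · rw [dif_neg h, dif_neg h, dif_neg h, add_zero]

theorem psl_N_zero (j0 : Fin n) : psl_N j0 (0 : {j : Fin n // j ≠ j0} → F) = 0 := by
  ext i j
  rw [psl_N_apply]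
  split_ifs <;> rfl

theorem psl_M_mul (j0 : Fin n) (t s : {j : Fin n // j ≠ j0} → F) :
    (1 + psl_N j0 t) * (1 + psl_N j0 s) = 1 + psl_N j0 (t + s) := by
  rw [add_mul, mul_add, mul_add, psl_N_mul, psl_N_add]
  simp only [one_mul, mul_one, add_zero]
  abel

variable [CharP F 2]

theorem psl_det (j0 : Fin n) (t : {j : Fin n // j ≠ j0} → F) : (1 + psl_N j0 t).det = 1 := by
  have h1 : (1 + psl_N j0 t) * (1 + psl_N j0 t) = 1 := by
    rw [psl_M_mul]
    have : t + t = 0 := by
      funext j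
      exact CharTwo.add_self_eq_zero (t j)
    rw [this, psl_N_zero, add_zero]
  have h2 := congrArg Matrix.det h1
  rw [Matrix.det_mul, Matrix.det_one] at h2
  have h3 : ((1 + psl_N j0 t).det - 1) ^ 2 = 0 := by
    have : ((1 + psl_N j0 t).det - 1) ^ 2 = (1 + psl_N j0 t).det * (1 + psl_N j0 t).det
        - 2 * (1 + psl_N j0 t).det + 1 := by ring
    rw [this, h2, CharTwo.two_eq_zero, zero_mul, sub_zero]
    exact CharTwo.add_self_eq_zero 1
  exact sub_eq_zero.1 (pow_eq_zero_iff (by norm_num) |>.1 h3)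

/-- the homomorphism `t ↦ 1 + N(t)` into `SL` -/
def psl_hom (j0 : Fin n) :
    Multiplicative ({j : Fin n // j ≠ j0} → F) →* Matrix.SpecialLinearGroup (Fin n) F where
  toFun t := ⟨1 + psl_N j0 (Multiplicative.toAdd t), psl_det j0 _⟩
  map_one' := by
    apply Subtype.ext
    show 1 + psl_N j0 (0 : {j : Fin n // j ≠ j0} → F) = 1
    rw [psl_N_zero, add_zero]
  map_mul' x y := by
    apply Subtype.ext
    show 1 + psl_N j0 (Multiplicative.toAdd x + Multiplicative.toAdd y) = _
    rw [← psl_M_mul]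
    rfl

end

theorem rk_psl {F : Type} [Field F] [Fintype F] [CharP F 2] (n : ℕ) (hn : 2 ≤ n)
    (hq : 8 ≤ Fintype.card F ^ (n - 1)) :
    PRankAtLeast 2 3 (Matrix.ProjectiveSpecialLinearGroup (Fin n) F) := by
  classical
  set j0 : Fin n := ⟨0, by omega⟩ with hj0
  set Ψ : Multiplicative ({j : Fin n // j ≠ j0} → F) →*
      Matrix.ProjectiveSpecialLinearGroup (Fin n) F :=
    (QuotientGroup.mk' (Subgroup.center (Matrix.SpecialLinearGroup (Fin n) F))).comp (psl_hom j0)
    with hΨ
  have hinj : Function.Injective Ψ := by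
    rw [injective_iff_map_eq_one]
    intro x hx
    rw [hΨ, MonoidHom.comp_apply, QuotientGroup.mk'_apply, QuotientGroup.eq_one_iff,
      Matrix.SpecialLinearGroup.mem_center_iff] at hx
    obtain ⟨r, -, hr⟩ := hx
    have hm : ∀ i j, (Matrix.scalar (Fin n) r) i j = (1 + psl_N j0 (Multiplicative.toAdd x)) i j := by
      intro i j
      rw [hr]; rfl
    have hr1 : r = 1 := by
      have := hm j0 j0
      rw [Matrix.scalar_apply, Matrix.diagonal_apply_eq, Matrix.add_apply, Matrix.one_apply_eq,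
        psl_N_apply, dif_neg (fun h => h.2 rfl), add_zero] at this
      exact this
    have hx0 : Multiplicative.toAdd x = 0 := by
      funext j
      have := hm j0 j.1
      rw [Matrix.scalar_apply, Matrix.diagonal_apply_ne _ (Ne.symm j.2), Matrix.add_apply,
        Matrix.one_apply_ne (Ne.symm j.2), psl_N_apply, dif_pos ⟨rfl, j.2⟩, zero_add] at this
      exact this.symm
    exact hx0
  refine ⟨Ψ.range, ?_, ?_, ?_⟩
  · constructor
    constructor
    rintro ⟨a, x, rfl⟩ ⟨b, y, rfl⟩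
    apply Subtype.ext
    show Ψ x * Ψ y = Ψ y * Ψ x
    rw [← map_mul, ← map_mul, mul_comm]
  · rintro a ⟨x, rfl⟩
    rw [← map_pow]
    have : x ^ 2 = 1 := by
      rw [sq]
      show Multiplicative.ofAdd (Multiplicative.toAdd x + Multiplicative.toAdd x) = 1
      have : Multiplicative.toAdd x + Multiplicative.toAdd x = 0 := by
        funext j
        exact CharTwo.add_self_eq_zero _
      rw [this]; rfl
    rw [this, map_one]
  · have h1 : Nat.card Ψ.range = Nat.card (Multiplicative ({j : Fin n // j ≠ j0} → F)) :=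
      Nat.card_congr (MonoidHom.ofInjective hinj).toEquiv.symm
    rw [h1]
    have h2 : Nat.card (Multiplicative ({j : Fin n // j ≠ j0} → F))
        = Fintype.card F ^ (n - 1) := by
      show Nat.card ({j : Fin n // j ≠ j0} → F) = _
      rw [Nat.card_eq_fintype_card, Fintype.card_fun, Fintype.card_subtype_compl,
        Fintype.card_fin]
      congr 1
    rw [h2]
    exact hq

end Cfsg.Agent.Lib.Helper76.Rk
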