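import Cfsg.Agent.Lib.Helper65.SF.Defs

set_option autoImplicit false

namespace Cfsg.Agent.Lib.Helper65.SF

open Matrix Module

/-- (SF-PSL) passage to `PSL₃`: if every non-scalar `g ∈ SL₃(F)` is a product of two conjugates of `s`,
and `s ^ k = 1`, then the image `x` of `s` has `orderOf x ∣ k` and covers `PSL₃(F) \ {1}`. -/
theorem psl3_of_sl3 {F : Type*} [Field F] (s : Matrix.SpecialLinearGroup (Fin 3) F) (k : ℕ) (hk : s ^ k = 1)
    (h : ∀ g : Matrix.SpecialLinearGroup (Fin 3) F, (¬ ∃ c : F, g.val = c • 1) →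
      ∃ u v : Matrix.SpecialLinearGroup (Fin 3) F, g = u * s * u⁻¹ * (v * s * v⁻¹)) :
    ∃ x : Matrix.ProjectiveSpecialLinearGroup (Fin 3) F, orderOf x ∣ k ∧
      ∀ g : Matrix.ProjectiveSpecialLinearGroup (Fin 3) F, g ≠ 1 →
        ∃ u v : Matrix.ProjectiveSpecialLinearGroup (Fin 3) F, g = (u * x * u⁻¹) * (v * x * v⁻¹) := by
  refine ⟨QuotientGroup.mk s, ?_, ?_⟩
  · apply orderOf_dvd_of_pow_eq_one
    rw [← QuotientGroup.mk_pow, hk]
    rfl
  · intro g hg
    obtain ⟨g0, rfl⟩ := QuotientGroup.mk_surjective g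
    have hns : ¬ ∃ c : F, g0.val = c • 1 := by
      rintro ⟨c, hc⟩
      apply hg
      rw [QuotientGroup.eq_one_iff, Matrix.SpecialLinearGroup.mem_center_iff]
      refine ⟨c, ?_, ?_⟩
      · have hdet := g0.property
        rw [hc] at hdet
        simpa using hdet
      · rw [hc]
        ext i j
        simp [Matrix.scalar_apply, Matrix.smul_apply, Matrix.one_apply, Matrix.diagonal_apply]
    obtain ⟨u, v, huv⟩ := h g0 hns
    exact ⟨QuotientGroup.mk u, QuotientGroup.mk v, by rw [huv]; rfl⟩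

end Cfsg.Agent.Lib.Helper65.SF
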