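import Mathlib
import Cfsg.Prelude.Def_GeometricClasses
import Cfsg.Agent.Lib.Helper24.HHLin

/-! SFR-Fb (leaf of helper44's S5965): eigenbasis of a matrix `y` with `y ^ r = 1` when the field
contains a nontrivial `r`-th root of unity. -/

set_option autoImplicit false
open scoped MatrixGroups
open Matrix Polynomial

namespace Cfsg.Agent.Lib.Helper44.Sfr

universe v
variable {F : Type v} [Field F] [Fintype F]

/-- general version over any field, for an endomorphism. -/
theorem h42_exists_eigenbasis_end {K : Type*} [Field K] {V : Type*} [AddCommGroup V] [Module K V]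
    [FiniteDimensional K V] (r : ℕ) [Fact r.Prime] (ω : K) (hω : ω ^ r = 1) (hω1 : ω ≠ 1)
    (f : Module.End K V) (hf : f ^ r = 1) {n : ℕ} (hn : Module.finrank K V = n) :
    ∃ (b : Module.Basis (Fin n) K V) (e : Fin n → ZMod r),
      ∀ i, f (b i) = ω ^ (e i).val • b i := by
  classical
  have hr : r.Prime := Fact.out
  have : NeZero r := ⟨hr.ne_zero⟩
  have hprim : IsPrimitiveRoot ω r := by
    rw [IsPrimitiveRoot.iff_orderOf]
    exact orderOf_eq_prime hω hω1
  have hrK : (r : K) ≠ 0 := (hprim.neZero').out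
  have htop0 := Cfsg.Agent.Lib.Helper24.HH.iSup_eigenspace_eq_top f ω r hprim hrK hf
  have htop : ⨆ μ : K, f.eigenspace μ = ⊤ := by
    apply top_unique
    rw [← htop0]
    apply iSup_le
    intro k
    exact le_iSup (fun μ : K => f.eigenspace μ) (ω ^ (k : ℕ))
  have hind := Module.End.eigenspaces_iSupIndep f
  have hint := DirectSum.isInternal_submodule_of_iSupIndep_of_iSup_eq_top hind htop
  let v : ∀ μ : K, Module.Basis (Fin (Module.finrank K (f.eigenspace μ))) K (f.eigenspace μ) :=
    fun μ => Module.finBasis K _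
  let B := hint.collectedBasis v
  have hfin : Finite (Σ μ : K, Fin (Module.finrank K (f.eigenspace μ))) :=
    Module.Finite.finite_basis B
  have := Fintype.ofFinite (Σ μ : K, Fin (Module.finrank K (f.eigenspace μ)))
  have hcard : Fintype.card (Σ μ : K, Fin (Module.finrank K (f.eigenspace μ))) = n := by
    rw [← hn]; exact (Module.finrank_eq_card_basis B).symm
  let e := Fintype.equivFinOfCardEq hcard
  have key : ∀ i, f (B (e.symm i)) = (e.symm i).1 • B (e.symm i) := fun i =>
    Module.End.mem_eigenspace_iff.mp (hint.collectedBasis_mem v _)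
  have hroot : ∀ i, (e.symm i).1 ^ r = 1 := by
    intro i
    have hne : B (e.symm i) ≠ 0 := B.ne_zero _
    have hpow : ∀ m : ℕ, (f ^ m) (B (e.symm i)) = (e.symm i).1 ^ m • B (e.symm i) := by
      intro m
      induction m with
      | zero => simp
      | succ m ih =>
        rw [pow_succ, Module.End.mul_apply, key i, map_smul, ih, smul_smul, pow_succ, mul_comm]
    have h1 := hpow r
    rw [hf, Module.End.one_apply] at h1
    have h2 : ((e.symm i).1 ^ r - 1) • B (e.symm i) = 0 := by
      rw [sub_smul, one_smul, ← h1, sub_self]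
    rcases smul_eq_zero.mp h2 with h3 | h3
    · exact sub_eq_zero.mp h3
    · exact absurd h3 hne
  have hex : ∀ i, ∃ k : ZMod r, ω ^ k.val = (e.symm i).1 := by
    intro i
    obtain ⟨k, hk, hk2⟩ := hprim.eq_pow_of_pow_eq_one (hroot i)
    refine ⟨(k : ZMod r), ?_⟩
    rw [ZMod.val_natCast, Nat.mod_eq_of_lt hk, hk2]
  choose ex hexs using hex
  refine ⟨B.reindex e, ex, ?_⟩
  intro i
  rw [hexs i]
  simpa [Module.Basis.reindex_apply] using key i

/-- F-b -/
theorem exists_eigenbasis {n : ℕ} (r : ℕ) [Fact r.Prime] (ω : F) (hω : ω ^ r = 1) (hω1 : ω ≠ 1)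
    (y : Matrix (Fin n) (Fin n) F) (hy : y ^ r = 1) :
    ∃ (b : Module.Basis (Fin n) F (Fin n → F)) (e : Fin n → ZMod r),
      ∀ i, y *ᵥ b i = ω ^ (e i).val • b i := by
  have hf : (Matrix.toLin' y) ^ r = 1 := by
    rw [← Matrix.toLin'_pow, hy, Matrix.toLin'_one]; rfl
  obtain ⟨b, e, hbe⟩ := h42_exists_eigenbasis_end r ω hω hω1 (Matrix.toLin' y) hf
    (n := n) (by simp)
  refine ⟨b, e, fun i => ?_⟩
  have := hbe i
  rwa [Matrix.toLin'_apply] at this

end Cfsg.Agent.Lib.Helper44.Sfr
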