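import Mathlib
import Cfsg.Prelude.Def_GeometricClasses
import Cfsg.Agent.Lib.Helper13.Involution

/-! SFR-Fe (leaf of helper44's S5965): a rational basis from a symmetric eigenvalue pattern. -/

set_option autoImplicit false
open scoped MatrixGroups
open Matrix Polynomial

namespace Cfsg.Agent.Lib.Helper44.Sfr

universe v
variable {F : Type v} [Field F] [Fintype F]

theorem h42_frob_sub (F₀ : Subfield F) (a b : F) :
    (a - b) ^ Nat.card F₀ = a ^ Nat.card F₀ - b ^ Nat.card F₀ := by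
  obtain ⟨p, hp⟩ := CharP.exists F
  have : Fact p.Prime := ⟨CharP.char_is_prime F p⟩
  have : CharP ↥F₀ p := (RingHom.charP_iff F₀.subtype F₀.subtype_injective p).mpr hp
  have : Fintype F₀ := Fintype.ofFinite F₀
  obtain ⟨k, -, hk⟩ := FiniteField.card ↥F₀ p
  rw [Nat.card_eq_fintype_card, hk]
  exact sub_pow_char_pow a b (k : ℕ)

theorem h42_mem_of_pow (F₀ : Subfield F) {x : F} (h : x ^ Nat.card F₀ = x) : x ∈ F₀ := by
  have : Fintype F₀ := Fintype.ofFinite F₀
  apply Cfsg.Agent.Lib.Helper13.mem_subfield_of_pow_card_eq F₀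
  rw [← Nat.card_eq_fintype_card]
  exact h

theorem h42_pow_pow (F₀ : Subfield F) (hqk : Fintype.card F = Nat.card F₀ ^ 2) (x : F) :
    (x ^ Nat.card F₀) ^ Nat.card F₀ = x := by
  rw [← pow_mul, ← sq, ← hqk, FiniteField.pow_card]

theorem h42_two_le_card (F₀ : Subfield F) : 2 ≤ Nat.card F₀ := by
  have : Fintype F₀ := Fintype.ofFinite F₀
  rw [Nat.card_eq_fintype_card]
  exact Fintype.one_lt_card

theorem h42_exists_theta (F₀ : Subfield F) (hqk : Fintype.card F = Nat.card F₀ ^ 2) :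
    ∃ θ : F, θ ^ 2 ≠ (θ ^ Nat.card F₀) ^ 2 := by
  classical
  have h2 := h42_two_le_card F₀
  set q0 := Nat.card F₀ with hq0
  obtain ⟨g, hg⟩ := IsCyclic.exists_generator (α := Fˣ)
  have hord : orderOf g = q0 ^ 2 - 1 := by
    rw [orderOf_eq_card_of_forall_mem_zpowers hg, Nat.card_eq_fintype_card, Fintype.card_units,
      hqk]
  refine ⟨(g : F), fun h => ?_⟩
  have h1 : (g : F) ^ (2 * q0 - 2) = 1 := by
    have hne : (g : F) ^ 2 ≠ 0 := pow_ne_zero _ g.ne_zero
    have : (g : F) ^ 2 * (g : F) ^ (2 * q0 - 2) = (g : F) ^ 2 * 1 := by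
      rw [← pow_add, mul_one]
      have : 2 + (2 * q0 - 2) = q0 * 2 := by omega
      rw [this, pow_mul]
      exact h.symm
    exact mul_left_cancel₀ hne this
  have h3 : g ^ (2 * q0 - 2) = 1 := by
    apply Units.ext
    rw [Units.val_pow_eq_pow_val, h1, Units.val_one]
  have h4 := orderOf_dvd_of_pow_eq_one h3
  rw [hord] at h4
  have h5 := Nat.le_of_dvd (by omega) h4
  have h6 : q0 ^ 2 = q0 * q0 := sq q0
  have h7 : 2 * q0 ≤ q0 * q0 := Nat.mul_le_mul_right q0 h2
  have h8 : 1 ≤ q0 * q0 := by nlinarith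
  have : q0 * q0 + 1 ≤ 2 * q0 := by omega
  nlinarith

/-- F-e -/
theorem rational_basis_of_symm (F₀ : Subfield F) (hqk : Fintype.card F = Nat.card F₀ ^ 2)
    {n : ℕ} (r : ℕ) [Fact r.Prime] (hr : r ∣ Nat.card F₀ + 1) (ω : F) (hω : ω ^ r = 1)
    (y : Matrix (Fin n) (Fin n) F) (b : Module.Basis (Fin n) F (Fin n → F)) (e : Fin n → ZMod r)
    (hb : ∀ i, y *ᵥ b i = ω ^ (e i).val • b i)
    (t : ZMod r) (π : Equiv.Perm (Fin n)) (hπ : ∀ i, π (π i) = i)
    (he : ∀ i, e (π i) = t + t - e i) :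
    ∃ (b' : Module.Basis (Fin n) F (Fin n → F)),
      ∀ i j, ∃ m : F₀, b'.repr (y *ᵥ b' j) i = ω ^ t.val * (m : F) := by
  classical
  have hrp : r.Prime := Fact.out
  obtain ⟨θ, hθ⟩ := h42_exists_theta F₀ hqk
  set q0 := Nat.card F₀ with hq0
  set θ' := θ ^ q0 with hθ'
  have hσσ : ∀ x : F, (x ^ q0) ^ q0 = x := h42_pow_pow F₀ hqk
  have hsub : ∀ a c : F, (a - c) ^ q0 = a ^ q0 - c ^ q0 := h42_frob_sub F₀
  set D := θ ^ 2 - θ' ^ 2 with hDdef
  have hD : D ≠ 0 := sub_ne_zero.mpr hθ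
  have hθ'' : θ' ^ q0 = θ := hσσ θ
  have hDσ : D ^ q0 = -D := by
    rw [hDdef, hsub, ← pow_mul, ← pow_mul, mul_comm 2 q0, pow_mul, pow_mul, ← hθ', hθ'']
    ring
  have hdec : ∀ μ : F, ∃ α β : F₀, (α : F) * θ + (β : F) * θ' = μ ∧
      (α : F) * θ' + (β : F) * θ = μ ^ q0 := by
    intro μ
    set μ' := μ ^ q0 with hμ'
    have hμ'' : μ' ^ q0 = μ := hσσ μ
    have hα : ((μ * θ - μ' * θ') / D) ^ q0 = (μ * θ - μ' * θ') / D := by
      rw [div_pow, hDσ, hsub, mul_pow, mul_pow, ← hμ', ← hθ', hμ'', hθ'', div_neg, ← neg_div]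
      congr 1
      ring
    have hβ : ((μ' * θ - μ * θ') / D) ^ q0 = (μ' * θ - μ * θ') / D := by
      rw [div_pow, hDσ, hsub, mul_pow, mul_pow, ← hμ', ← hθ', hμ'', hθ'', div_neg, ← neg_div]
      congr 1
      ring
    refine ⟨⟨_, h42_mem_of_pow F₀ hα⟩, ⟨_, h42_mem_of_pow F₀ hβ⟩, ?_, ?_⟩
    · show (μ * θ - μ' * θ') / D * θ + (μ' * θ - μ * θ') / D * θ' = μ
      field_simp
      rw [hDdef]; ring
    · show (μ * θ - μ' * θ') / D * θ' + (μ' * θ - μ * θ') / D * θ = μ'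
      field_simp
      rw [hDdef]; ring
  -- the new basis
  let b' : Fin n → (Fin n → F) := fun i => θ • b i + θ' • b (π i)
  have hspan : ⊤ ≤ Submodule.span F (Set.range b') := by
    rw [← b.span_eq]
    apply Submodule.span_le.mpr
    rintro _ ⟨i, rfl⟩
    have h1 : D • b i = θ • b' i - θ' • b' (π i) := by
      simp only [b', hπ, hDdef]
      module
    have h2 : b i = D⁻¹ • (θ • b' i - θ' • b' (π i)) := by
      rw [← h1, smul_smul, inv_mul_cancel₀ hD, one_smul]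
    rw [h2]
    apply Submodule.smul_mem
    apply Submodule.sub_mem
    · exact Submodule.smul_mem _ _ (Submodule.subset_span ⟨i, rfl⟩)
    · exact Submodule.smul_mem _ _ (Submodule.subset_span ⟨π i, rfl⟩)
  let B' := basisOfTopLeSpanOfCardEqFinrank b' hspan (by simp)
  have hB' : ∀ i, B' i = b' i := fun i => by
    simp only [B', coe_basisOfTopLeSpanOfCardEqFinrank]
  refine ⟨B', fun i j => ?_⟩
  have hωadd : ∀ a c : ZMod r, ω ^ (a + c).val = ω ^ a.val * ω ^ c.val := by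
    intro a c
    rw [ZMod.val_add, ← pow_add, ← pow_eq_pow_mod _ hω]
  set lam := ω ^ (e j - t).val with hlam
  set lam' := ω ^ (t - e j).val with hlam'
  have h1 : ω ^ (e j).val = ω ^ t.val * lam := by
    rw [hlam, ← hωadd]; congr 2; ring
  have h2 : ω ^ (e (π j)).val = ω ^ t.val * lam' := by
    rw [he, hlam', ← hωadd]; congr 2; ring
  have h3 : lam * lam' = 1 := by
    rw [hlam, hlam', ← hωadd]
    have : e j - t + (t - e j) = 0 := by ring
    rw [this, ZMod.val_zero, pow_zero]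
  have hlam0 : lam ≠ 0 := fun h0 => by rw [h0, zero_mul] at h3; exact zero_ne_one h3
  have h4 : lam ^ q0 = lam' := by
    have hlr : lam ^ r = 1 := by
      rw [hlam, ← pow_mul, mul_comm, pow_mul, hω, one_pow]
    have hl1 : lam ^ (q0 + 1) = 1 := by
      obtain ⟨m, hm⟩ := hr
      rw [hm, pow_mul, hlr, one_pow]
    have : lam * lam ^ q0 = lam * lam' := by
      rw [h3, ← pow_succ', hl1]
    exact mul_left_cancel₀ hlam0 this
  obtain ⟨α, β, hαβ1, hαβ2⟩ := hdec (θ * lam)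
  have hαβ2' : (α : F) * θ' + (β : F) * θ = θ' * lam' := by
    rw [hαβ2, mul_pow, h4]
  have key : y *ᵥ B' j = (ω ^ t.val * (α : F)) • B' j + (ω ^ t.val * (β : F)) • B' (π j) := by
    rw [hB', hB']
    simp only [b', hπ]
    rw [Matrix.mulVec_add, Matrix.mulVec_smul, Matrix.mulVec_smul, hb, hb, h1, h2]
    have e1 : θ * (ω ^ t.val * lam) = ω ^ t.val * (α : F) * θ + ω ^ t.val * (β : F) * θ' := by
      have : θ * (ω ^ t.val * lam) = ω ^ t.val * (θ * lam) := by ring
      rw [this, ← hαβ1]; ring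
    have e2 : θ' * (ω ^ t.val * lam') = ω ^ t.val * (α : F) * θ' + ω ^ t.val * (β : F) * θ := by
      have : θ' * (ω ^ t.val * lam') = ω ^ t.val * (θ' * lam') := by ring
      rw [this, ← hαβ2']; ring
    rw [smul_smul, smul_smul, e1, e2]
    module
  rw [key, map_add, map_smul, map_smul, B'.repr_self, B'.repr_self]
  simp only [Finsupp.add_apply, Finsupp.smul_apply, Finsupp.single_apply, smul_eq_mul]
  refine ⟨α * (if j = i then 1 else 0) + β * (if π j = i then 1 else 0), ?_⟩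
  push_cast
  split_ifs <;> simp <;> ring

end Cfsg.Agent.Lib.Helper44.Sfr
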