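import Mathlib
import Cfsg.Agent.Lib.Helper99.SpPair1
import Cfsg.Agent.Lib.Helper42.SubfD

set_option autoImplicit false
set_option linter.unusedSectionVars false
set_option linter.unusedVariables false
set_option linter.style.haveILetI false
set_option linter.unusedSimpArgs false

/-!
Subfield subgroups of the symplectic group: basic vocabulary and identities.
-/

namespace Cfsg.Agent.Lib.Helper42.SpSub

open Matrix Cfsg.Agent.Lib.Helper99 Cfsg.Agent.Lib.Helper13 Cfsg.Agent.Lib.Helper42.Subf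

variable {F : Type*} [Field F] (m : ℕ)

local notation "ff" => Cfsg.sympForm m F

/-- the partner index -/
def bar (i : Fin m ⊕ Fin m) : Fin m ⊕ Fin m := Sum.swap i

/-- the sign of an index -/
def sg (F : Type*) [Field F] {m : ℕ} (i : Fin m ⊕ Fin m) : F :=
  Sum.elim (fun _ => (1 : F)) (fun _ => (-1 : F)) i

theorem bar_bar (i : Fin m ⊕ Fin m) : bar m (bar m i) = i := Sum.swap_swap i

theorem bar_ne (i : Fin m ⊕ Fin m) : bar m i ≠ i := by
  cases i <;> simp [bar]

theorem bar_inj {i j : Fin m ⊕ Fin m} (h : bar m i = bar m j) : i = j := by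
  rw [← bar_bar m i, h, bar_bar]

theorem bar_eq_iff {i j : Fin m ⊕ Fin m} : bar m i = j ↔ i = bar m j := by
  constructor
  · intro h; rw [← h, bar_bar]
  · intro h; rw [h, bar_bar]

theorem bar_inl (a : Fin m) : bar m (Sum.inl a) = Sum.inr a := rfl

theorem bar_inr (a : Fin m) : bar m (Sum.inr a) = Sum.inl a := rfl

theorem sg_inl (a : Fin m) : sg F (Sum.inl a : Fin m ⊕ Fin m) = 1 := rfl

theorem sg_inr (a : Fin m) : sg F (Sum.inr a : Fin m ⊕ Fin m) = -1 := rfl

theorem sg_mul_self (i : Fin m ⊕ Fin m) : sg F i * sg F i = 1 := by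
  cases i <;> simp [sg]

theorem sg_bar (i : Fin m ⊕ Fin m) : sg F (bar m i) = - sg F i := by
  cases i <;> simp [sg, bar]

theorem sg_ne_zero (i : Fin m ⊕ Fin m) : sg F i ≠ 0 := by
  intro h
  have := sg_mul_self (F := F) m i
  rw [h, zero_mul] at this
  exact zero_ne_one this

theorem sg_mem (F₀ : Subfield F) (i : Fin m ⊕ Fin m) : sg F i ∈ F₀ := by
  cases i
  · exact F₀.one_mem
  · exact F₀.neg_mem F₀.one_mem

/-- the form against a coordinate vector -/
theorem ff_E_right (x : Fin m ⊕ Fin m → F) (i : Fin m ⊕ Fin m) :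
    ff x (Pi.single i 1) = sg F i * x (bar m i) := by
  cases i with
  | inl a => rw [sympForm_single_inl_right, sg_inl, one_mul, bar_inl]
  | inr a => rw [sympForm_single_inr_right, sg_inr, bar_inr, neg_one_mul]

theorem ff_E_left (x : Fin m ⊕ Fin m → F) (i : Fin m ⊕ Fin m) :
    ff (Pi.single i 1) x = - (sg F i * x (bar m i)) := by
  rw [sympForm_swap, ff_E_right]

theorem ff_E_E (i j : Fin m ⊕ Fin m) :
    ff (Pi.single i 1) (Pi.single j 1) = if i = bar m j then sg F j else 0 := by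
  rw [ff_E_right]
  by_cases h : i = bar m j
  · rw [if_pos h, h, Pi.single_eq_same, mul_one]
  · rw [if_neg h, Pi.single_eq_of_ne (Ne.symm h), mul_zero]

theorem ff_E_E_of_ne {i j : Fin m ⊕ Fin m} (h : i ≠ bar m j) :
    ff (Pi.single i 1) (Pi.single j 1) = 0 := by
  rw [ff_E_E, if_neg h]

theorem ff_E_bar (j : Fin m ⊕ Fin m) :
    ff (Pi.single (bar m j) 1) (Pi.single j 1) = sg F j := by
  rw [ff_E_E, if_pos rfl]

/-- a coordinate read off from the form -/
theorem coord_eq (x : Fin m ⊕ Fin m → F) (j : Fin m ⊕ Fin m) :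
    x j = sg F (bar m j) * ff x (Pi.single (bar m j) 1) := by
  rw [ff_E_right, bar_bar, ← mul_assoc, sg_mul_self, one_mul]

section rat

variable (F₀ : Subfield F)

/-- rational vectors -/
def Rat (v : Fin m ⊕ Fin m → F) : Prop := ∀ i, v i ∈ F₀

variable {m F₀}

theorem Rat.add {u v : Fin m ⊕ Fin m → F} (hu : Rat m F₀ u) (hv : Rat m F₀ v) :
    Rat m F₀ (u + v) := fun i => F₀.add_mem (hu i) (hv i)

theorem Rat.sub {u v : Fin m ⊕ Fin m → F} (hu : Rat m F₀ u) (hv : Rat m F₀ v) :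
    Rat m F₀ (u - v) := fun i => F₀.sub_mem (hu i) (hv i)

theorem Rat.neg {u : Fin m ⊕ Fin m → F} (hu : Rat m F₀ u) : Rat m F₀ (-u) :=
  fun i => F₀.neg_mem (hu i)

theorem Rat.smul {u : Fin m ⊕ Fin m → F} (hu : Rat m F₀ u) {c : F} (hc : c ∈ F₀) :
    Rat m F₀ (c • u) := fun i => F₀.mul_mem hc (hu i)

theorem rat_zero : Rat m F₀ (0 : Fin m ⊕ Fin m → F) := fun _ => F₀.zero_mem

theorem rat_E (i : Fin m ⊕ Fin m) : Rat m F₀ (Pi.single i (1 : F)) :=
  fun j => single_mem F₀ i F₀.one_mem j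

theorem Rat.of_smul {u : Fin m ⊕ Fin m → F} {c : F} (hc : c ∈ F₀) (hc0 : c ≠ 0)
    (h : Rat m F₀ (c • u)) : Rat m F₀ u := by
  intro i
  have h1 := h i
  rw [Pi.smul_apply, smul_eq_mul] at h1
  have : u i = c⁻¹ * (c * u i) := by rw [← mul_assoc, inv_mul_cancel₀ hc0, one_mul]
  rw [this]
  exact F₀.mul_mem (F₀.inv_mem hc) h1

theorem ff_rat {u v : Fin m ⊕ Fin m → F} (hu : Rat m F₀ u) (hv : Rat m F₀ v) :
    ff u v ∈ F₀ := by
  rw [Helper13.sympForm_expand]
  exact F₀.sum_mem fun i _ => F₀.sub_mem (F₀.mul_mem (hu _) (hv _)) (F₀.mul_mem (hu _) (hv _))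

/-- independence of two vectors over the subfield -/
def IndepV (F₀ : Subfield F) (u w : Fin m ⊕ Fin m → F) : Prop :=
  ∀ s ∈ F₀, ∀ t ∈ F₀, s • u + t • w = 0 → s = 0 ∧ t = 0

theorem indepV_E_E {i j : Fin m ⊕ Fin m} (hij : i ≠ j) :
    IndepV F₀ (Pi.single i (1 : F)) (Pi.single j (1 : F)) := by
  intro s _ t _ h
  have h1 := congrFun h i
  have h2 := congrFun h j
  simp only [Pi.add_apply, Pi.smul_apply, Pi.single_eq_same, Pi.single_eq_of_ne hij,
    Pi.single_eq_of_ne hij.symm, smul_eq_mul, mul_one, mul_zero, add_zero, zero_add,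
    Pi.zero_apply] at h1 h2
  exact ⟨h1, h2⟩

end rat

section action

variable {m}

theorem mulVec_ne_zero (g : GL (Fin m ⊕ Fin m) F) {x : Fin m ⊕ Fin m → F} (hx : x ≠ 0) :
    (g : Matrix (Fin m ⊕ Fin m) (Fin m ⊕ Fin m) F) *ᵥ x ≠ 0 := by
  intro h0
  apply hx
  have h1 : (g : Matrix (Fin m ⊕ Fin m) (Fin m ⊕ Fin m) F) *ᵥ x =
      (g : Matrix (Fin m ⊕ Fin m) (Fin m ⊕ Fin m) F) *ᵥ 0 := by rw [h0, mulVec_zero]
  exact mulVec_injective_of_GL g h1

theorem single_ne_zero' (i : Fin m ⊕ Fin m) : (Pi.single i (1 : F) : Fin m ⊕ Fin m → F) ≠ 0 := by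
  intro h
  have := congrFun h i
  rw [Pi.single_eq_same, Pi.zero_apply] at this
  exact one_ne_zero this

/-- isometries preserve the form -/
theorem ff_act {g : GL (Fin m ⊕ Fin m) F} (hg : g ∈ Cfsg.spGL m F) (x y : Fin m ⊕ Fin m → F) :
    ff ((g : Matrix (Fin m ⊕ Fin m) (Fin m ⊕ Fin m) F) *ᵥ x)
      ((g : Matrix (Fin m ⊕ Fin m) (Fin m ⊕ Fin m) F) *ᵥ y) = ff x y :=
  (mem_spGL_iff m g).mp hg x y

end action

section ident

theorem stv_mul_same (u : Fin m ⊕ Fin m → F) (c d : F) :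
    stv m u c * stv m u d = stv m u (c + d) := by
  apply Units.ext
  rw [Matrix.ext_iff_mulVec]
  intro x
  rw [Units.val_mul, ← mulVec_mulVec, stv_mulVec, stv_mulVec, stv_mulVec]
  simp only [sympForm_add_left, sympForm_smul_left, sympForm_self]
  module

theorem stv_param_zero (u : Fin m ⊕ Fin m → F) : stv m u (0 : F) = 1 := by
  apply Units.ext
  rw [Matrix.ext_iff_mulVec]
  intro x
  rw [stv_mulVec, zero_mul, zero_smul, add_zero, Units.val_one, one_mulVec]

theorem stv_inv (u : Fin m ⊕ Fin m → F) (c : F) : (stv m u c)⁻¹ = stv m u (-c) := by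
  rw [inv_eq_iff_mul_eq_one, stv_mul_same, add_neg_cancel, stv_param_zero]

/-- the Heisenberg law -/
theorem heis_law (e b b' : Fin m ⊕ Fin m → F) (hb : ff e b = 0) (hb' : ff e b' = 0) :
    rootElt m e b * rootElt m e b' = rootElt m e (b + b') * stv m e (ff b' b) := by
  have hsum : ff e (b + b') = 0 := by rw [sympForm_add_right, hb, hb', add_zero]
  have hbe : ff b e = 0 := by rw [sympForm_swap, hb, neg_zero]
  have hb'e : ff b' e = 0 := by rw [sympForm_swap, hb', neg_zero]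
  apply Units.ext
  rw [Matrix.ext_iff_mulVec]
  intro x
  rw [Units.val_mul, Units.val_mul, ← mulVec_mulVec, ← mulVec_mulVec, rootElt_mulVec m _ _ hb',
    rootElt_mulVec m _ _ hb, stv_mulVec, rootElt_mulVec m _ _ hsum]
  simp only [sympForm_add_left, sympForm_add_right, sympForm_smul_left, sympForm_self, hb, hb',
    hbe, hb'e]
  module

theorem rootElt_stv_comm (e b : Fin m ⊕ Fin m → F) (hb : ff e b = 0) (c : F) :
    rootElt m e b * stv m e c = stv m e c * rootElt m e b := by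
  have hbe : ff b e = 0 := by rw [sympForm_swap, hb, neg_zero]
  apply Units.ext
  rw [Matrix.ext_iff_mulVec]
  intro x
  rw [Units.val_mul, Units.val_mul, ← mulVec_mulVec, ← mulVec_mulVec, stv_mulVec,
    rootElt_mulVec m _ _ hb, rootElt_mulVec m _ _ hb, stv_mulVec]
  simp only [sympForm_add_left, sympForm_add_right, sympForm_smul_left, sympForm_self, hb, hbe]
  module

/-- a transvection along a sum of perpendicular vectors -/
theorem stv_add_perp (u w : Fin m ⊕ Fin m → F) (h : ff u w = 0) (c : F) :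
    stv m (u + w) c = stv m u c * stv m w c * rootElt m u (c • w) := by
  have hwu : ff w u = 0 := by rw [sympForm_swap, h, neg_zero]
  have h' : ff u (c • w) = 0 := by rw [sympForm_smul_right, h, mul_zero]
  apply Units.ext
  rw [Matrix.ext_iff_mulVec]
  intro x
  rw [Units.val_mul, Units.val_mul, ← mulVec_mulVec, ← mulVec_mulVec, rootElt_mulVec m _ _ h',
    stv_mulVec, stv_mulVec, stv_mulVec]
  simp only [sympForm_add_left, sympForm_add_right, sympForm_smul_left, sympForm_smul_right,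
    sympForm_self, h, hwu]
  module

/-- elements of the Heisenberg group of a vector -/
noncomputable def qq (e w : Fin m ⊕ Fin m → F) (c : F) : GL (Fin m ⊕ Fin m) F :=
  rootElt m e w * stv m e c

theorem qq_mem_spGL (e w : Fin m ⊕ Fin m → F) (c : F) : qq m e w c ∈ Cfsg.spGL m F :=
  Subgroup.mul_mem _ (rootElt_mem_spGL m e w) (stv_mem_spGL m e c)

theorem qq_mulVec (e w : Fin m ⊕ Fin m → F) (h : ff e w = 0) (c : F) (x : Fin m ⊕ Fin m → F) :
    ((qq m e w c : GL (Fin m ⊕ Fin m) F) : Matrix (Fin m ⊕ Fin m) (Fin m ⊕ Fin m) F) *ᵥ x =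
      x + ff x w • e + ff x e • w + (c * ff x e) • e := by
  unfold qq
  rw [Units.val_mul, ← mulVec_mulVec, stv_mulVec, rootElt_mulVec m _ _ h]
  simp only [sympForm_add_left, sympForm_smul_left, sympForm_self, h]
  module

theorem qq_inv (e w : Fin m ⊕ Fin m → F) (h : ff e w = 0) (c : F) :
    (qq m e w c)⁻¹ = qq m e (-w) (-c) := by
  unfold qq
  rw [_root_.mul_inv_rev, stv_inv, rootElt_inv m e w h]
  have h' : ff e (-w) = 0 := by
    rw [← neg_one_smul F w, sympForm_smul_right, h, mul_zero]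
  exact (rootElt_stv_comm m e (-w) h' (-c)).symm

end ident

end Cfsg.Agent.Lib.Helper42.SpSub
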