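import Mathlib
import Cfsg.Agent.Lib.Helper42.SpSubA
import Cfsg.Agent.Lib.Helper42.SpSubW

set_option autoImplicit false
set_option linter.unusedSectionVars false
set_option linter.unusedVariables false
set_option linter.style.haveILetI false
set_option linter.unusedSimpArgs false

/-!
Subfield subgroups of the symplectic group: the rational group and its transitivity.
-/

namespace Cfsg.Agent.Lib.Helper42.SpSub

open Matrix Cfsg.Agent.Lib.Helper99 Cfsg.Agent.Lib.Helper13 Cfsg.Agent.Lib.Helper42.Subf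

variable {F : Type*} [Field F] (m : ℕ) (F₀ : Subfield F)

local notation "ff" => Cfsg.sympForm m F

/-- the rational symplectic group (times scalars) -/
def KS : Subgroup (GL (Fin m ⊕ Fin m) F) :=
  Cfsg.Geo.subfieldSubgroup F₀ (1 : GL (Fin m ⊕ Fin m) F) ⊓ Cfsg.spGL m F

variable {m F₀}

theorem KS_le_sp : KS m F₀ ≤ Cfsg.spGL m F := inf_le_right

theorem KS_le_sub : KS m F₀ ≤ Cfsg.Geo.subfieldSubgroup F₀ (1 : GL (Fin m ⊕ Fin m) F) :=
  inf_le_left

/-- membership in the subfield group from the columns -/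
theorem mem_sub1_of_cols (g : GL (Fin m ⊕ Fin m) F) (μ : F) (hμ : μ ≠ 0)
    (h : ∀ j, Rat m F₀ (μ • ((g : Matrix (Fin m ⊕ Fin m) (Fin m ⊕ Fin m) F) *ᵥ Pi.single j 1))) :
    g ∈ Cfsg.Geo.subfieldSubgroup F₀ (1 : GL (Fin m ⊕ Fin m) F) := by
  rw [mem_subfield_one_iff]
  refine ⟨μ, hμ, fun i j => ?_⟩
  have := h j i
  rwa [Pi.smul_apply, mulVec_single_apply, smul_eq_mul] at this

/-- elements of the subfield group map rational vectors to rational vectors, up to a scalar -/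
theorem rat_act_of_mem (g : GL (Fin m ⊕ Fin m) F)
    (hg : g ∈ Cfsg.Geo.subfieldSubgroup F₀ (1 : GL (Fin m ⊕ Fin m) F)) :
    ∃ μ : F, μ ≠ 0 ∧ ∀ x, Rat m F₀ x →
      Rat m F₀ (μ • ((g : Matrix (Fin m ⊕ Fin m) (Fin m ⊕ Fin m) F) *ᵥ x)) := by
  rw [mem_subfield_one_iff] at hg
  obtain ⟨μ, hμ, h⟩ := hg
  refine ⟨μ, hμ, fun x hx i => ?_⟩
  rw [Pi.smul_apply, smul_eq_mul, mulVec, dotProduct, Finset.mul_sum]
  refine F₀.sum_mem fun j _ => ?_
  rw [← mul_assoc]
  exact F₀.mul_mem (h i j) (hx j)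

theorem stv_mem_KS {u : Fin m ⊕ Fin m → F} (hu : Rat m F₀ u) {c : F} (hc : c ∈ F₀) :
    stv m u c ∈ KS m F₀ := by
  refine ⟨mem_sub1_of_cols _ 1 one_ne_zero fun j => ?_, stv_mem_spGL m u c⟩
  rw [one_smul, stv_mulVec]
  exact (rat_E j).add (hu.smul (F₀.mul_mem hc (ff_rat (rat_E j) hu)))

theorem rootElt_mem_KS {a b : Fin m ⊕ Fin m → F} (ha : Rat m F₀ a) (hb : Rat m F₀ b) :
    rootElt m a b ∈ KS m F₀ := by
  unfold rootElt
  exact (KS m F₀).mul_mem ((KS m F₀).mul_mem (stv_mem_KS (ha.add hb) F₀.one_mem)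
    (stv_mem_KS ha (F₀.neg_mem F₀.one_mem))) (stv_mem_KS hb (F₀.neg_mem F₀.one_mem))

/-- the embedding of rational vectors -/
def up (v : Fin m ⊕ Fin m → F₀) : Fin m ⊕ Fin m → F := fun i => (v i : F)

theorem up_add (u v : Fin m ⊕ Fin m → F₀) : up (u + v) = up u + up v := by
  ext i; simp [up]

theorem up_smul (s : F₀) (u : Fin m ⊕ Fin m → F₀) : up (s • u) = (s : F) • up u := by
  ext i; simp [up]

theorem up_zero : up (0 : Fin m ⊕ Fin m → F₀) = 0 := by
  ext i; simp [up]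

theorem up_rat (u : Fin m ⊕ Fin m → F₀) : Rat m F₀ (up u) := fun i => (u i).2

theorem up_injective : Function.Injective (up : (Fin m ⊕ Fin m → F₀) → (Fin m ⊕ Fin m → F)) := by
  intro u v h
  ext i
  have := congrFun h i
  simpa [up] using this

/-- rational vectors come from the subfield -/
def down (u : Fin m ⊕ Fin m → F) (hu : Rat m F₀ u) : Fin m ⊕ Fin m → F₀ := fun i => ⟨u i, hu i⟩

theorem up_down (u : Fin m ⊕ Fin m → F) (hu : Rat m F₀ u) : up (down u hu) = u := by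
  ext i; rfl

theorem ff_up (u v : Fin m ⊕ Fin m → F₀) :
    ff (up u) (up v) = ((Cfsg.sympForm m F₀ u v : F₀) : F) := by
  rw [Helper13.sympForm_expand, Helper13.sympForm_expand]
  simp [up]

/-- transitivity of the rational group on rational frames -/
theorem trans_frame (n : ℕ) (x y : Fin n → (Fin m ⊕ Fin m → F₀))
    (hx : LinearIndependent F₀ x) (hy : LinearIndependent F₀ y)
    (hG : ∀ i j, Cfsg.sympForm m F₀ (y i) (y j) = Cfsg.sympForm m F₀ (x i) (x j)) :
    ∃ k ∈ KS m F₀, ∀ i,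
      (k : Matrix (Fin m ⊕ Fin m) (Fin m ⊕ Fin m) F) *ᵥ up (x i) = up (y i) := by
  obtain ⟨T, hT⟩ : ∃ T : ((Fin m ⊕ Fin m → F₀) ≃ₗ[F₀] (Fin m ⊕ Fin m → F₀)) → Prop,
      T = fun g => ∃ k ∈ KS m F₀, ∀ v,
        (k : Matrix (Fin m ⊕ Fin m) (Fin m ⊕ Fin m) F) *ᵥ up v = up (g v) := ⟨_, rfl⟩
  have hT0 : T (LinearEquiv.refl F₀ _) := by
    rw [hT]
    exact ⟨1, (KS m F₀).one_mem, fun v => by rw [Units.val_one, one_mulVec]; rfl⟩
  have hT1 : ∀ a c, T (Helper8.altTransv (sympB (F := F₀) m) (sympB_isAlt m) a c) := by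
    intro a c
    rw [hT]
    refine ⟨stv m (up a) (c : F), stv_mem_KS (up_rat a) c.2, fun v => ?_⟩
    have h1 := Helper8.altTransv_apply (sympB (F := F₀) m) (sympB_isAlt m) a c v
    rw [stv_mulVec, h1, up_add, up_smul, sympB_apply, ff_up]
    simp
  have hTmul : ∀ g h, T g → T h → T (g.trans h) := by
    intro g h hg hh
    rw [hT] at hg hh ⊢
    obtain ⟨k₁, hk₁, h₁⟩ := hg
    obtain ⟨k₂, hk₂, h₂⟩ := hh
    refine ⟨k₂ * k₁, (KS m F₀).mul_mem hk₂ hk₁, fun v => ?_⟩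
    rw [Units.val_mul, ← mulVec_mulVec, h₁, h₂]
    rfl
  obtain ⟨g, hTg, -, hg⟩ := witt_family_pred (sympB (F := F₀) m) (sympB_nondegenerate m)
    (sympB_isAlt m) T hT0 hT1 hTmul n x y hx hy (fun i j => by
      rw [sympB_apply, sympB_apply]; exact hG i j)
  rw [hT] at hTg
  obtain ⟨k, hk, hkv⟩ := hTg
  exact ⟨k, hk, fun i => by rw [hkv, hg]⟩

/-- transitivity on nonzero rational vectors -/
theorem trans1 {u v : Fin m ⊕ Fin m → F} (hu : Rat m F₀ u) (hv : Rat m F₀ v) (hu0 : u ≠ 0)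
    (hv0 : v ≠ 0) :
    ∃ k ∈ KS m F₀, (k : Matrix (Fin m ⊕ Fin m) (Fin m ⊕ Fin m) F) *ᵥ u = v := by
  have hd : ∀ (w : Fin m ⊕ Fin m → F) (hw : Rat m F₀ w), w ≠ 0 →
      LinearIndependent F₀ (fun _ : Fin 1 => down w hw) := by
    intro w hw hw0
    apply LinearIndependent.of_subsingleton (0 : Fin 1)
    intro h0
    apply hw0
    rw [← up_down w hw, h0, up_zero]
  obtain ⟨k, hk, h⟩ := trans_frame 1 (fun _ => down u hu) (fun _ => down v hv) (hd u hu hu0)
    (hd v hv hv0) (fun i j => by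
      rw [Helper13.sympForm_self, Helper13.sympForm_self])
  refine ⟨k, hk, ?_⟩
  have := h 0
  rwa [up_down, up_down] at this

/-- transitivity on rational pairs -/
theorem trans2 {u w u' w' : Fin m ⊕ Fin m → F} (hu : Rat m F₀ u) (hw : Rat m F₀ w)
    (hu' : Rat m F₀ u') (hw' : Rat m F₀ w') (hi : IndepV F₀ u w) (hi' : IndepV F₀ u' w')
    (hf : ff u w = ff u' w') :
    ∃ k ∈ KS m F₀, (k : Matrix (Fin m ⊕ Fin m) (Fin m ⊕ Fin m) F) *ᵥ u = u' ∧
      (k : Matrix (Fin m ⊕ Fin m) (Fin m ⊕ Fin m) F) *ᵥ w = w' := by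
  have hd : ∀ (a b : Fin m ⊕ Fin m → F) (ha : Rat m F₀ a) (hb : Rat m F₀ b), IndepV F₀ a b →
      LinearIndependent F₀ ![down a ha, down b hb] := by
    intro a b ha hb hab
    rw [LinearIndependent.pair_iff]
    intro s t hst
    have h1 := congrArg up hst
    rw [up_add, up_smul, up_smul, up_down, up_down, up_zero] at h1
    obtain ⟨h2, h3⟩ := hab _ s.2 _ t.2 h1
    exact ⟨Subtype.ext h2, Subtype.ext h3⟩
  have hG : ∀ i j : Fin 2, Cfsg.sympForm m F₀ (![down u' hu', down w' hw'] i)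
      (![down u' hu', down w' hw'] j) =
      Cfsg.sympForm m F₀ (![down u hu, down w hw] i) (![down u hu, down w hw] j) := by
    have key : Cfsg.sympForm m F₀ (down u' hu') (down w' hw') =
        Cfsg.sympForm m F₀ (down u hu) (down w hw) := by
      apply Subtype.ext
      rw [← ff_up, ← ff_up, up_down, up_down, up_down, up_down, hf]
    intro i j
    fin_cases i <;> fin_cases j
    · simp only [Fin.zero_eta, Matrix.cons_val_zero, Helper13.sympForm_self]
    · simpa using key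
    · simp only [Fin.mk_one, Fin.zero_eta, Matrix.cons_val_one, Matrix.cons_val_zero]
      rw [Helper13.sympForm_swap, key, ← Helper13.sympForm_swap]
    · simp only [Fin.mk_one, Matrix.cons_val_one, Helper13.sympForm_self]
  obtain ⟨k, hk, h⟩ := trans_frame 2 _ _ (hd u w hu hw hi) (hd u' w' hu' hw' hi') hG
  refine ⟨k, hk, ?_, ?_⟩
  · have := h 0
    simpa [up_down] using this
  · have := h 1
    simpa [up_down] using this

end Cfsg.Agent.Lib.Helper42.SpSub
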