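import Mathlib
import Cfsg.Agent.Lib.Helper42.SpSubB

set_option autoImplicit false
set_option linter.unusedSectionVars false
set_option linter.unusedVariables false
set_option linter.style.haveILetI false
set_option linter.unusedSimpArgs false

/-!
Subfield subgroups of the symplectic group: the root parameters of an overgroup.
-/

namespace Cfsg.Agent.Lib.Helper42.SpSub

open Matrix Cfsg.Agent.Lib.Helper99 Cfsg.Agent.Lib.Helper13 Cfsg.Agent.Lib.Helper42.Subf

variable {F : Type*} [Field F] {m : ℕ} {F₀ : Subfield F}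
  {H : Subgroup (GL (Fin m ⊕ Fin m) F)}

local notation "ff" => Cfsg.sympForm m F

theorem perp_symm {u w : Fin m ⊕ Fin m → F} (h : ff u w = 0) : ff w u = 0 := by
  rw [sympForm_swap, h, neg_zero]

/-- long root parameters -/
def LongP (H : Subgroup (GL (Fin m ⊕ Fin m) F)) (F₀ : Subfield F) (c : F) : Prop :=
  ∀ u, Rat m F₀ u → stv m u c ∈ H

/-- short root parameters -/
def ShortP (H : Subgroup (GL (Fin m ⊕ Fin m) F)) (F₀ : Subfield F) (c : F) : Prop :=
  ∀ u w, Rat m F₀ u → Rat m F₀ w → IndepV F₀ u w → ff u w = 0 → rootElt m u (c • w) ∈ H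

theorem long_of_mem (hK : KS m F₀ ≤ H) {u₀ : Fin m ⊕ Fin m → F} (hu₀ : Rat m F₀ u₀)
    (h0 : u₀ ≠ 0) {c : F} (h : stv m u₀ c ∈ H) : LongP H F₀ c := by
  intro u hu
  by_cases hu0 : u = 0
  · rw [hu0, stv_zero]; exact H.one_mem
  obtain ⟨k, hk, hku⟩ := trans1 hu₀ hu h0 hu0
  rw [← hku, ← conj_stv m k (KS_le_sp hk)]
  exact H.mul_mem (H.mul_mem (hK hk) h) (H.inv_mem (hK hk))

theorem short_of_mem (hK : KS m F₀ ≤ H) {u₀ w₀ : Fin m ⊕ Fin m → F} (hu₀ : Rat m F₀ u₀)
    (hw₀ : Rat m F₀ w₀) (hi₀ : IndepV F₀ u₀ w₀) (hp₀ : ff u₀ w₀ = 0) {c : F}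
    (h : rootElt m u₀ (c • w₀) ∈ H) : ShortP H F₀ c := by
  intro u w hu hw hi hp
  obtain ⟨k, hk, hku, hkw⟩ := trans2 hu₀ hw₀ hu hw hi₀ hi (by rw [hp₀, hp])
  have := conj_rootElt m k (KS_le_sp hk) u₀ (c • w₀)
  rw [hku, mulVec_smul, hkw] at this
  rw [← this]
  exact H.mul_mem (H.mul_mem (hK hk) h) (H.inv_mem (hK hk))

theorem long_of_mem_F₀ (hK : KS m F₀ ≤ H) {c : F} (hc : c ∈ F₀) : LongP H F₀ c :=
  fun u hu => hK (stv_mem_KS hu hc)

theorem long_add {a b : F} (ha : LongP H F₀ a) (hb : LongP H F₀ b) : LongP H F₀ (a + b) := by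
  intro u hu
  rw [← stv_mul_same]
  exact H.mul_mem (ha u hu) (hb u hu)

theorem long_neg {a : F} (ha : LongP H F₀ a) : LongP H F₀ (-a) := by
  intro u hu
  rw [← stv_inv]
  exact H.inv_mem (ha u hu)

theorem long_sub {a b : F} (ha : LongP H F₀ a) (hb : LongP H F₀ b) : LongP H F₀ (a - b) := by
  rw [sub_eq_add_neg]
  exact long_add ha (long_neg hb)

theorem short_of_mem_F₀ (hK : KS m F₀ ≤ H) {c : F} (hc : c ∈ F₀) : ShortP H F₀ c :=
  fun u w hu hw _ _ => hK (rootElt_mem_KS hu (hw.smul hc))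

theorem short_zero : ShortP H F₀ (0 : F) := by
  intro u w _ _ _ _
  rw [zero_smul, rootElt_zero]
  exact H.one_mem

theorem short_add {a b : F} (ha : ShortP H F₀ a) (hb : ShortP H F₀ b) :
    ShortP H F₀ (a + b) := by
  intro u w hu hw hi hp
  have h1 : ff u (a • w) = 0 := by rw [sympForm_smul_right, hp, mul_zero]
  have h2 : ff u (b • w) = 0 := by rw [sympForm_smul_right, hp, mul_zero]
  have h3 : ff (a • w) (b • w) = 0 := by
    rw [sympForm_smul_right, sympForm_smul_left, sympForm_self, mul_zero, mul_zero]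
  rw [add_smul, ← rootElt_mul m u _ _ h1 h2 h3]
  exact H.mul_mem (ha u w hu hw hi hp) (hb u w hu hw hi hp)

theorem short_neg {a : F} (ha : ShortP H F₀ a) : ShortP H F₀ (-a) := by
  intro u w hu hw hi hp
  have h1 : ff u (a • w) = 0 := by rw [sympForm_smul_right, hp, mul_zero]
  rw [neg_smul, ← rootElt_inv m u _ h1]
  exact H.inv_mem (ha u w hu hw hi hp)

theorem exists_three_fin (hm : 3 ≤ m) : ∃ a b c : Fin m, a ≠ b ∧ a ≠ c ∧ b ≠ c := by
  refine ⟨⟨0, by omega⟩, ⟨1, by omega⟩, ⟨2, by omega⟩, ?_, ?_, ?_⟩ <;>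
  · intro h
    have := congrArg Fin.val h
    simp at this

/-- the Levi commutator of two short root elements -/
theorem levi_comm (u w x y : Fin m ⊕ Fin m → F) (huy : ff u y = 0) (hwx : ff w x = 0)
    (hwy : ff w y = 0) (hwu : ff w u = 0) (hxu : ff x u = 0) (a b : F) :
    rootElt m u (a • y) * rootElt m w (b • x) * (rootElt m u (a • y))⁻¹ =
      rootElt m w (b • x) * rootElt m w ((a * b * ff x y) • u) := by
  have h1 : ff u (a • y) = 0 := by rw [sympForm_smul_right, huy, mul_zero]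
  have h2 : ff w (b • x) = 0 := by rw [sympForm_smul_right, hwx, mul_zero]
  have h3 : ff w ((a * b * ff x y) • u) = 0 := by rw [sympForm_smul_right, hwu, mul_zero]
  have h4 : ff u (-(a • y)) = 0 := by
    rw [← neg_one_smul F (a • y), sympForm_smul_right, h1, mul_zero]
  have hyu := perp_symm huy
  have hxw := perp_symm hwx
  have hyw := perp_symm hwy
  have huw := perp_symm hwu
  have hux := perp_symm hxu
  have hyx : ff y x = - ff x y := sympForm_swap m y x
  rw [rootElt_inv m u _ h1]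
  apply Units.ext
  rw [Matrix.ext_iff_mulVec]
  intro v
  simp only [Units.val_mul, ← mulVec_mulVec]
  rw [rootElt_mulVec m _ _ h4, rootElt_mulVec m _ _ h2, rootElt_mulVec m _ _ h1,
    rootElt_mulVec m _ _ h3, rootElt_mulVec m _ _ h2]
  simp only [sympForm_add_left, sympForm_add_right, sympForm_smul_left, sympForm_smul_right,
    sympForm_self, huy, hwx, hwy, hwu, hxu, hyu, hxw, hyw, huw, hux, hyx,
    ← neg_one_smul F (a • y)]
  module

theorem short_mul (hK : KS m F₀ ≤ H) (hm : 3 ≤ m) {a b : F} (ha : ShortP H F₀ a)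
    (hb : ShortP H F₀ b) : ShortP H F₀ (a * b) := by
  obtain ⟨i₁, i₂, i₃, h12, h13, h23⟩ := exists_three_fin hm
  have huy : ff (Pi.single (Sum.inl i₁) 1) (Pi.single (Sum.inr i₃) 1) = 0 :=
    ff_E_E_of_ne m (by rw [bar_inr]; intro h; exact h13 (Sum.inl.inj h))
  have hwx : ff (Pi.single (Sum.inl i₂) 1) (Pi.single (Sum.inl i₃) 1) = 0 :=
    ff_E_E_of_ne m (by rw [bar_inl]; intro h; cases h)
  have hwy : ff (Pi.single (Sum.inl i₂) 1) (Pi.single (Sum.inr i₃) 1) = 0 :=
    ff_E_E_of_ne m (by rw [bar_inr]; intro h; exact h23 (Sum.inl.inj h))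
  have hwu : ff (Pi.single (Sum.inl i₂) 1) (Pi.single (Sum.inl i₁) 1) = 0 :=
    ff_E_E_of_ne m (by rw [bar_inl]; intro h; cases h)
  have hxu : ff (Pi.single (Sum.inl i₃) 1) (Pi.single (Sum.inl i₁) 1) = 0 :=
    ff_E_E_of_ne m (by rw [bar_inl]; intro h; cases h)
  have hxy : ff (Pi.single (Sum.inl i₃) 1) (Pi.single (Sum.inr i₃) 1) = -1 := by
    rw [ff_E_E, if_pos (by rw [bar_inr]), sg_inr]
  have h1 : rootElt m (Pi.single (Sum.inl i₁) 1) (a • Pi.single (Sum.inr i₃) 1) ∈ H :=
    ha _ _ (rat_E _) (rat_E _) (indepV_E_E (by intro h; cases h)) huy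
  have h2 : rootElt m (Pi.single (Sum.inl i₂) 1) (b • Pi.single (Sum.inl i₃) 1) ∈ H :=
    hb _ _ (rat_E _) (rat_E _) (indepV_E_E (by intro h; exact h23 (Sum.inl.inj h))) hwx
  have hc := levi_comm _ _ _ _ huy hwx hwy hwu hxu a b
  rw [hxy] at hc
  have h3 : rootElt m (Pi.single (Sum.inl i₂) 1) ((a * b * -1) • Pi.single (Sum.inl i₁) 1) ∈ H := by
    have : rootElt m (Pi.single (Sum.inl i₂) (1 : F)) ((a * b * -1) • Pi.single (Sum.inl i₁) 1) =
        (rootElt m (Pi.single (Sum.inl i₂) 1) (b • Pi.single (Sum.inl i₃) 1))⁻¹ *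
          (rootElt m (Pi.single (Sum.inl i₁) 1) (a • Pi.single (Sum.inr i₃) 1) *
            rootElt m (Pi.single (Sum.inl i₂) 1) (b • Pi.single (Sum.inl i₃) 1) *
            (rootElt m (Pi.single (Sum.inl i₁) 1) (a • Pi.single (Sum.inr i₃) 1))⁻¹) := by
      rw [hc, inv_mul_cancel_left]
    rw [this]
    exact H.mul_mem (H.inv_mem h2) (H.mul_mem (H.mul_mem h1 h2) (H.inv_mem h1))
  have h4 := short_neg (short_of_mem hK (rat_E _) (rat_E _)
    (indepV_E_E (by intro h; exact h12 (Sum.inl.inj h).symm)) hwu h3)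
  have : -(a * b * -1) = a * b := by ring
  rwa [this] at h4

theorem short_pow (hK : KS m F₀ ≤ H) (hm : 3 ≤ m) {a : F} (ha : ShortP H F₀ a) (k : ℕ) :
    ShortP H F₀ (a ^ k) := by
  induction k with
  | zero => rw [pow_zero]; exact short_of_mem_F₀ hK F₀.one_mem
  | succ k ih => rw [pow_succ]; exact short_mul hK hm ih ha

/-- the short root parameters form a subfield -/
def shortField [Fintype F] (hK : KS m F₀ ≤ H) (hm : 3 ≤ m) : Subfield F where
  carrier := {c | ShortP H F₀ c}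
  mul_mem' := fun ha hb => short_mul hK hm ha hb
  one_mem' := short_of_mem_F₀ hK F₀.one_mem
  add_mem' := fun ha hb => short_add ha hb
  zero_mem' := short_zero
  neg_mem' := fun ha => short_neg ha
  inv_mem' := by
    intro c hc
    by_cases h0 : c = 0
    · rw [h0, _root_.inv_zero]; exact short_zero
    · have h1 := FiniteField.pow_card_sub_one_eq_one c h0
      have h2 : 2 ≤ Fintype.card F := Fintype.one_lt_card
      have h4 : c⁻¹ = c ^ (Fintype.card F - 2) := by
        apply inv_eq_of_mul_eq_one_right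
        rw [← pow_succ', show Fintype.card F - 2 + 1 = Fintype.card F - 1 by omega]
        exact h1
      show ShortP H F₀ c⁻¹
      rw [h4]
      exact short_pow hK hm hc _

theorem mem_shortField [Fintype F] (hK : KS m F₀ ≤ H) (hm : 3 ≤ m) (c : F) :
    c ∈ shortField hK hm ↔ ShortP H F₀ c := Iff.rfl

theorem short_of_long (hK : KS m F₀ ≤ H) {c : F} (hc : LongP H F₀ c) : ShortP H F₀ c := by
  intro u w hu hw _ hp
  have h1 := stv_add_perp m u w hp c
  have h2 : rootElt m u (c • w) = (stv m u c * stv m w c)⁻¹ * stv m (u + w) c := by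
    rw [h1, inv_mul_cancel_left]
  rw [h2]
  exact H.mul_mem (H.inv_mem (H.mul_mem (hc u hu) (hc w hw))) (hc _ (hu.add hw))

theorem long_sq_of_short (hK : KS m F₀ ≤ H) (hS : H ≤ Cfsg.spGL m F) (hm : 3 ≤ m) {a : F}
    (ha : ShortP H F₀ a) : LongP H F₀ (a * a) := by
  obtain ⟨i₁, i₂, -, h12, -, -⟩ := exists_three_fin hm
  obtain ⟨u, hu⟩ : ∃ u : Fin m ⊕ Fin m → F, u = Pi.single (Sum.inl i₁) 1 := ⟨_, rfl⟩
  obtain ⟨w, hw⟩ : ∃ w : Fin m ⊕ Fin m → F, w = Pi.single (Sum.inl i₂) 1 := ⟨_, rfl⟩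
  obtain ⟨v, hv⟩ : ∃ v : Fin m ⊕ Fin m → F, v = Pi.single (Sum.inr i₂) 1 := ⟨_, rfl⟩
  have hur : Rat m F₀ u := by rw [hu]; exact rat_E _
  have hwr : Rat m F₀ w := by rw [hw]; exact rat_E _
  have hvr : Rat m F₀ v := by rw [hv]; exact rat_E _
  have huw : ff u w = 0 := by
    rw [hu, hw]; exact ff_E_E_of_ne m (by rw [bar_inl]; intro h; cases h)
  have hvu : ff v u = 0 := by
    rw [hu, hv]; exact ff_E_E_of_ne m (by rw [bar_inl]; intro h; exact h12 (Sum.inr.inj h).symm)
  have hvw : ff v w = 1 := by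
    rw [hv, hw, ff_E_E, if_pos (by rw [bar_inl]), sg_inl]
  have hiuw : IndepV F₀ u w := by
    rw [hu, hw]; exact indepV_E_E (by intro h; exact h12 (Sum.inl.inj h))
  have hivu : IndepV F₀ v u := by
    rw [hu, hv]; exact indepV_E_E (by intro h; cases h)
  have hg : rootElt m u (a • w) ∈ H := ha u w hur hwr hiuw huw
  have h1 : ff u (a • w) = 0 := by rw [sympForm_smul_right, huw, mul_zero]
  have hgv : ((rootElt m u (a • w) : GL (Fin m ⊕ Fin m) F) :
      Matrix (Fin m ⊕ Fin m) (Fin m ⊕ Fin m) F) *ᵥ v = v + a • u := by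
    rw [rootElt_mulVec m _ _ h1, sympForm_smul_right, hvw, hvu, zero_smul, add_zero, mul_one]
  have h2 : stv m (v + a • u) 1 ∈ H := by
    rw [← hgv, ← conj_stv m _ (hS hg)]
    exact H.mul_mem (H.mul_mem hg (hK (stv_mem_KS hvr F₀.one_mem))) (H.inv_mem hg)
  have h3 : ff v (a • u) = 0 := by rw [sympForm_smul_right, hvu, mul_zero]
  rw [stv_add_perp m v (a • u) h3 1, stv_smul, one_smul, mul_one] at h2
  have h4 : rootElt m v (a • u) ∈ H := ha v u hvr hur hivu hvu
  have h5 : stv m v 1 ∈ H := hK (stv_mem_KS hvr F₀.one_mem)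
  have h6 : stv m u (a * a) = (stv m v 1)⁻¹ * (stv m v 1 * stv m u (a * a) * rootElt m v (a • u)) *
      (rootElt m v (a • u))⁻¹ := by group
  apply long_of_mem hK hur (by rw [hu]; exact single_ne_zero' _)
  rw [h6]
  exact H.mul_mem (H.mul_mem (H.inv_mem h5) h2) (H.inv_mem h4)

theorem long_of_short [Fintype F] (hK : KS m F₀ ≤ H) (hS : H ≤ Cfsg.spGL m F) (hm : 3 ≤ m) {a : F}
    (ha : ShortP H F₀ a) : LongP H F₀ a := by
  by_cases h2 : (2 : F) = 0
  · -- characteristic two: `a` is a square in the short root field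
    have hinj : Function.Injective (fun x : shortField hK hm => x * x) := by
      intro x y hxy
      have h3 : ((x : F) - y) * ((x : F) - y) = 0 := by
        have h4 : (x : F) * x = y * y := congrArg Subtype.val hxy
        have : ((x : F) - y) * ((x : F) - y) = x * x - 2 * (x * y) + y * y := by ring
        rw [this, h2, zero_mul, sub_zero, h4]
        have : (y : F) * y + y * y = 2 * (y * y) := by ring
        rw [this, h2, zero_mul]
      have h5 : (x : F) - y = 0 := by
        rcases mul_eq_zero.mp h3 with h | h <;> exact h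
      exact Subtype.ext (sub_eq_zero.mp h5)
    have hsurj := Finite.injective_iff_surjective.mp hinj
    obtain ⟨b, hb⟩ := hsurj ⟨a, ha⟩
    have hb' : (b : F) * b = a := congrArg Subtype.val hb
    rw [← hb']
    exact long_sq_of_short hK hS hm b.2
  · have hs : ShortP H F₀ ((a + 1) / 2) := by
      have h1 : (1 : F) ∈ shortField hK hm := (shortField hK hm).one_mem
      exact (shortField hK hm).div_mem ((shortField hK hm).add_mem ha h1)
        ((shortField hK hm).add_mem h1 h1 |> fun h => by rwa [one_add_one_eq_two] at h)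
    have ht : ShortP H F₀ ((a - 1) / 2) := by
      have h1 : (1 : F) ∈ shortField hK hm := (shortField hK hm).one_mem
      exact (shortField hK hm).div_mem ((shortField hK hm).sub_mem ha h1)
        ((shortField hK hm).add_mem h1 h1 |> fun h => by rwa [one_add_one_eq_two] at h)
    have h3 := long_sub (long_sq_of_short hK hS hm hs) (long_sq_of_short hK hS hm ht)
    have h4 : (a + 1) / 2 * ((a + 1) / 2) - (a - 1) / 2 * ((a - 1) / 2) = a := by
      field_simp
      ring
    rwa [h4] at h3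

end Cfsg.Agent.Lib.Helper42.SpSub
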