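import Mathlib
import Cfsg.Agent.Lib.Helper42.SpSubC

set_option autoImplicit false
set_option linter.unusedSectionVars false
set_option linter.unusedVariables false
set_option linter.style.haveILetI false
set_option linter.unusedSimpArgs false

/-!
Subfield subgroups of the symplectic group: an overgroup with all root parameters is everything.
-/

namespace Cfsg.Agent.Lib.Helper42.SpSub

open Matrix Cfsg.Agent.Lib.Helper99 Cfsg.Agent.Lib.Helper13 Cfsg.Agent.Lib.Helper42.Subf

variable {F : Type*} [Field F] {m : ℕ} {F₀ : Subfield F}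
  {H : Subgroup (GL (Fin m ⊕ Fin m) F)}

local notation "ff" => Cfsg.sympForm m F

open Classical in
/-- the support of a vector -/
noncomputable def supp (v : Fin m ⊕ Fin m → F) : Finset (Fin m ⊕ Fin m) :=
  Finset.univ.filter fun i => v i ≠ 0

theorem mem_supp (v : Fin m ⊕ Fin m → F) (i : Fin m ⊕ Fin m) : i ∈ supp v ↔ v i ≠ 0 := by
  classical
  unfold supp
  rw [Finset.mem_filter]
  exact ⟨fun h => h.2, fun h => ⟨Finset.mem_univ _, h⟩⟩

/-- removing one coordinate shrinks the support -/
theorem supp_sub_lt (v : Fin m ⊕ Fin m → F) (c : Fin m ⊕ Fin m) (hc : v c ≠ 0) :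
    (supp (v - v c • (Pi.single c (1 : F) : Fin m ⊕ Fin m → F))).card < (supp v).card := by
  apply Finset.card_lt_card
  rw [Finset.ssubset_iff_of_subset]
  · refine ⟨c, (mem_supp v c).mpr hc, ?_⟩
    rw [mem_supp, not_not, Pi.sub_apply, Pi.smul_apply, Pi.single_eq_same, smul_eq_mul, mul_one,
      sub_self]
  · intro i hi
    rw [mem_supp] at hi ⊢
    intro h0
    apply hi
    by_cases hic : i = c
    · rw [hic, Pi.sub_apply, Pi.smul_apply, Pi.single_eq_same, smul_eq_mul, mul_one, sub_self]
    · rw [Pi.sub_apply, Pi.smul_apply, Pi.single_eq_of_ne hic, smul_zero, sub_zero, h0]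

/-- one elimination step -/
theorem elim_step (hK : KS m F₀ ≤ H) (hall : ∀ c, LongP H F₀ c) (v : Fin m ⊕ Fin m → F)
    (b c : Fin m ⊕ Fin m) (hbc : b ≠ c) (hb : v b ≠ 0) (hc : v c ≠ 0) :
    ∃ h ∈ H, ∃ d, v d ≠ 0 ∧
      (h : Matrix (Fin m ⊕ Fin m) (Fin m ⊕ Fin m) F) *ᵥ v =
        v - v d • (Pi.single d (1 : F) : Fin m ⊕ Fin m → F) := by
  -- a coordinate whose partner is nonzero can be removed by a transvection
  have keyA : ∀ d : Fin m ⊕ Fin m, v d ≠ 0 → v (bar m d) ≠ 0 → ∃ h ∈ H, ∃ d, v d ≠ 0 ∧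
      (h : Matrix (Fin m ⊕ Fin m) (Fin m ⊕ Fin m) F) *ᵥ v =
        v - v d • (Pi.single d (1 : F) : Fin m ⊕ Fin m → F) := by
    intro d hd hd'
    refine ⟨stv m (Pi.single d 1) (-(v d) / (sg F d * v (bar m d))), hall _ _ (rat_E d), d, hd, ?_⟩
    rw [stv_mulVec, ff_E_right]
    have hne : sg F d * v (bar m d) ≠ 0 := mul_ne_zero (sg_ne_zero m d) hd'
    have : -(v d) / (sg F d * v (bar m d)) * (sg F d * v (bar m d)) = -(v d) :=
      div_mul_cancel₀ _ hne
    rw [this, neg_smul, sub_eq_add_neg]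
  by_cases hb' : v (bar m b) ≠ 0
  · exact keyA b hb hb'
  by_cases hc' : v (bar m c) ≠ 0
  · exact keyA c hc hc'
  rw [not_not] at hb' hc'
  have hcb : c ≠ bar m b := by
    intro h
    rw [h] at hc
    exact hc hb'
  have hperp : ff (Pi.single (bar m b) 1) (Pi.single c 1) = 0 :=
    ff_E_E_of_ne m (fun h => hbc (bar_inj m h))
  obtain ⟨μ, hμ⟩ : ∃ μ : F, μ = -(v c) / (sg F (bar m b) * v b) := ⟨_, rfl⟩
  have hperp' : ff (Pi.single (bar m b) 1) (μ • Pi.single c 1) = 0 := by
    rw [sympForm_smul_right, hperp, mul_zero]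
  refine ⟨rootElt m (Pi.single (bar m b) 1) (μ • Pi.single c 1),
    short_of_long hK (hall μ) _ _ (rat_E _) (rat_E _) (indepV_E_E (Ne.symm hcb)) hperp, c, hc, ?_⟩
  rw [rootElt_mulVec m _ _ hperp', sympForm_smul_right, ff_E_right, ff_E_right, hc', bar_bar,
    mul_zero, mul_zero, zero_smul, add_zero, smul_smul]
  have hne : sg F (bar m b) * v b ≠ 0 := mul_ne_zero (sg_ne_zero m _) hb
  have : sg F (bar m b) * v b * μ = -(v c) := by
    rw [hμ]
    exact mul_div_cancel₀ _ hne
  rw [this, neg_smul, sub_eq_add_neg]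

/-- an overgroup of the rational group containing all long root elements is the symplectic
group -/
theorem eq_spGL_of_long_top (hK : KS m F₀ ≤ H) (hS : H ≤ Cfsg.spGL m F)
    (hall : ∀ c, LongP H F₀ c) : H = Cfsg.spGL m F := by
  apply eq_spGL_of_stv_mem m H hS
  have hE : ∀ i : Fin m ⊕ Fin m, (Pi.single i (1 : F) : Fin m ⊕ Fin m → F) ∈ tvSet m H :=
    fun i c => hall c _ (rat_E i)
  have main : ∀ n : ℕ, ∀ v : Fin m ⊕ Fin m → F, (supp v).card = n → v ∈ tvSet m H := by
    intro n
    induction n using Nat.strong_induction_on with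
    | _ n ih =>
      intro v hv
      by_cases hex : ∃ b c, b ≠ c ∧ v b ≠ 0 ∧ v c ≠ 0
      · obtain ⟨b, c, hbc, hb, hc⟩ := hex
        obtain ⟨h, hh, d, hd, hhv⟩ := elim_step hK hall v b c hbc hb hc
        have hlt := supp_sub_lt v d hd
        rw [hv] at hlt
        have h1 := ih _ hlt _ rfl
        rw [← hhv] at h1
        have h2 := tvSet_map m H hS h⁻¹ (H.inv_mem hh) _ h1
        rwa [inv_mulVec_mulVec] at h2
      · push Not at hex
        by_cases h0 : v = 0
        · rw [h0]; exact tvSet_zero m H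
        · obtain ⟨i, hi⟩ : ∃ i, v i ≠ 0 := by
            by_contra h
            push Not at h
            exact h0 (funext h)
          have hvi : v = v i • (Pi.single i (1 : F) : Fin m ⊕ Fin m → F) := by
            ext j
            rw [Pi.smul_apply, smul_eq_mul]
            by_cases hj : j = i
            · rw [hj, Pi.single_eq_same, mul_one]
            · rw [Pi.single_eq_of_ne hj, mul_zero]
              by_contra hvj
              exact hvj (hex i j (Ne.symm hj) hi)
          rw [hvi]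
          exact tvSet_smul m H _ _ (hE i)
  intro u c
  exact main _ u rfl c

end Cfsg.Agent.Lib.Helper42.SpSub
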