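import Mathlib
import Cfsg.Agent.Lib.Helper42.SpSubD

set_option autoImplicit false
set_option linter.unusedSectionVars false
set_option linter.unusedVariables false
set_option linter.style.haveILetI false
set_option linter.unusedSimpArgs false

/-!
Subfield subgroups of the symplectic group: if the root parameters of an overgroup are only the
rational ones, point stabilizers are rational.
-/

namespace Cfsg.Agent.Lib.Helper42.SpSub

open Matrix Cfsg.Agent.Lib.Helper99 Cfsg.Agent.Lib.Helper13 Cfsg.Agent.Lib.Helper42.Subf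

variable {F : Type*} [Field F] {m : ℕ} {F₀ : Subfield F}
  {H : Subgroup (GL (Fin m ⊕ Fin m) F)}

local notation "ff" => Cfsg.sympForm m F

/-- the standing hypotheses: `H` lies between the rational group and the symplectic group, and
its root parameters are rational -/
structure Hyp (H : Subgroup (GL (Fin m ⊕ Fin m) F)) (F₀ : Subfield F) : Prop where
  hK : KS m F₀ ≤ H
  hS : H ≤ Cfsg.spGL m F
  hm : 3 ≤ m
  hB : ∀ (u : Fin m ⊕ Fin m → F) (c : F), Rat m F₀ u → u ≠ 0 → stv m u c ∈ H → c ∈ F₀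
  hBs : ∀ (u w : Fin m ⊕ Fin m → F) (c : F), Rat m F₀ u → Rat m F₀ w → IndepV F₀ u w →
    ff u w = 0 → rootElt m u (c • w) ∈ H → c ∈ F₀

theorem inv_act_eq (g : GL (Fin m ⊕ Fin m) F) {x y : Fin m ⊕ Fin m → F}
    (h : (g : Matrix (Fin m ⊕ Fin m) (Fin m ⊕ Fin m) F) *ᵥ x = y) :
    ((g⁻¹ : GL (Fin m ⊕ Fin m) F) : Matrix (Fin m ⊕ Fin m) (Fin m ⊕ Fin m) F) *ᵥ y = x := by
  rw [← h, inv_mulVec_mulVec]

/-- commutator of a Heisenberg element with an element fixing the vector -/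
theorem comm_Q (hS : H ≤ Cfsg.spGL m F) {e w : Fin m ⊕ Fin m → F} (hew : ff e w = 0) {c : F}
    (hq : qq m e w c ∈ H) {k : GL (Fin m ⊕ Fin m) F} (hk : k ∈ H)
    (hke : (k : Matrix (Fin m ⊕ Fin m) (Fin m ⊕ Fin m) F) *ᵥ e = e) :
    qq m e (w - (k : Matrix (Fin m ⊕ Fin m) (Fin m ⊕ Fin m) F) *ᵥ w)
      (- ff ((k : Matrix (Fin m ⊕ Fin m) (Fin m ⊕ Fin m) F) *ᵥ w) w) ∈ H := by
  have hkS := hS hk
  obtain ⟨w', hw'⟩ : ∃ w' : Fin m ⊕ Fin m → F,
      w' = (k : Matrix (Fin m ⊕ Fin m) (Fin m ⊕ Fin m) F) *ᵥ w := ⟨_, rfl⟩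
  rw [← hw']
  have hconj : k * qq m e w c * k⁻¹ = qq m e w' c := by
    unfold qq
    have : k * (rootElt m e w * stv m e c) * k⁻¹ =
        (k * rootElt m e w * k⁻¹) * (k * stv m e c * k⁻¹) := by group
    rw [this, conj_rootElt m k hkS, conj_stv m k hkS, hke, ← hw']
  have hew' : ff e w' = 0 := by
    have := ff_act hkS e w
    rw [hke, ← hw'] at this
    rw [this, hew]
  have hew'' : ff e (-w') = 0 := by
    rw [← neg_one_smul F w', sympForm_smul_right, hew', mul_zero]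
  have h1 : qq m e w c * (qq m e w' c)⁻¹ ∈ H := by
    rw [← hconj]
    exact H.mul_mem hq (H.inv_mem (H.mul_mem (H.mul_mem hk hq) (H.inv_mem hk)))
  have h2 : qq m e w c * (qq m e w' c)⁻¹ = qq m e (w - w') (- ff w' w) := by
    unfold qq
    rw [_root_.mul_inv_rev, rootElt_inv m e w' hew']
    have : rootElt m e w * stv m e c * ((stv m e c)⁻¹ * rootElt m e (-w')) =
        rootElt m e w * rootElt m e (-w') := by group
    rw [this, heis_law m e w (-w') hew hew'', ← sub_eq_add_neg]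
    congr 2
    rw [← neg_one_smul F w', sympForm_smul_left, neg_one_mul]
  rwa [h2] at h1

theorem exists_other (hm : 3 ≤ m) (i j : Fin m ⊕ Fin m) :
    ∃ l : Fin m ⊕ Fin m, l ≠ i ∧ l ≠ bar m i ∧ l ≠ j ∧ l ≠ bar m j := by
  have : ∃ t : Fin m ⊕ Fin m, t ∉ ({i, bar m i, j, bar m j} : Finset (Fin m ⊕ Fin m)) := by
    by_contra hcon
    push Not at hcon
    have hsub : (Finset.univ : Finset (Fin m ⊕ Fin m)) ⊆ {i, bar m i, j, bar m j} :=
      fun t _ => hcon t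
    have h2 := Finset.card_le_card hsub
    rw [Finset.card_univ, Fintype.card_sum, Fintype.card_fin] at h2
    have h3 : ({i, bar m i, j, bar m j} : Finset (Fin m ⊕ Fin m)).card ≤ 4 :=
      Finset.card_le_four
    omega
  obtain ⟨t, ht⟩ := this
  simp only [Finset.mem_insert, Finset.mem_singleton, not_or] at ht
  exact ⟨t, ht.1, ht.2.1, ht.2.2.1, ht.2.2.2⟩

/-- a Heisenberg element of `H` at a coordinate vector is rational in the middle -/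
theorem Hyp.Q1 (hyp : Hyp H F₀) (i₀ : Fin m ⊕ Fin m) {w : Fin m ⊕ Fin m → F}
    (hew : ff (Pi.single i₀ 1) w = 0) {c : F} (hq : qq m (Pi.single i₀ 1) w c ∈ H)
    (j : Fin m ⊕ Fin m) (hj1 : j ≠ i₀) (hj2 : j ≠ bar m i₀) : w j ∈ F₀ := by
  obtain ⟨l, hl1, hl2, hl3, hl4⟩ := exists_other hyp.hm i₀ j
  obtain ⟨e, he⟩ : ∃ e : Fin m ⊕ Fin m → F, e = Pi.single i₀ 1 := ⟨_, rfl⟩
  obtain ⟨y, hy⟩ : ∃ y : Fin m ⊕ Fin m → F, y = Pi.single (bar m j) 1 := ⟨_, rfl⟩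
  obtain ⟨y₃, hy₃⟩ : ∃ y₃ : Fin m ⊕ Fin m → F, y₃ = Pi.single l 1 := ⟨_, rfl⟩
  obtain ⟨z, hz⟩ : ∃ z : Fin m ⊕ Fin m → F, z = sg F j • Pi.single j 1 := ⟨_, rfl⟩
  obtain ⟨δ, hδ⟩ : ∃ δ : F, δ = ff w y := ⟨_, rfl⟩
  rw [← he] at hew hq
  have her : Rat m F₀ e := by rw [he]; exact rat_E _
  have hyr : Rat m F₀ y := by rw [hy]; exact rat_E _
  have hy₃r : Rat m F₀ y₃ := by rw [hy₃]; exact rat_E _
  have hzr : Rat m F₀ z := by rw [hz]; exact (rat_E _).smul (sg_mem m F₀ j)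
  have hey : ff e y = 0 := by
    rw [he, hy]; exact ff_E_E_of_ne m (by rw [bar_bar]; exact hj1.symm)
  have hey₃ : ff e y₃ = 0 := by
    rw [he, hy₃]; exact ff_E_E_of_ne m (fun h => hl2 (by rw [h, bar_bar]))
  have hez : ff e z = 0 := by
    rw [he, hz, sympForm_smul_right, ff_E_E_of_ne m (fun h => hj2 (by rw [h, bar_bar])), mul_zero]
  have hyy₃ : ff y y₃ = 0 := by
    rw [hy, hy₃]; exact ff_E_E_of_ne m (fun h => hl3 (bar_inj m h).symm)
  have hy₃y : ff y₃ y = 0 := perp_symm hyy₃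
  have hyz : ff y z = 1 := by
    rw [hy, hz, sympForm_smul_right, ff_E_bar, sg_mul_self]
  have hzy₃ : ff z y₃ = 0 := by
    rw [hz, hy₃, sympForm_smul_left, ff_E_E_of_ne m (fun h => hl4 (by rw [h, bar_bar])), mul_zero]
  -- first commutator
  have hk1 : stv m y 1 ∈ H := hyp.hK (stv_mem_KS hyr F₀.one_mem)
  have hk1e : ((stv m y 1 : GL (Fin m ⊕ Fin m) F) :
      Matrix (Fin m ⊕ Fin m) (Fin m ⊕ Fin m) F) *ᵥ e = e := by
    rw [stv_mulVec, hey, mul_zero, zero_smul, add_zero]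
  have hk1w : ((stv m y 1 : GL (Fin m ⊕ Fin m) F) :
      Matrix (Fin m ⊕ Fin m) (Fin m ⊕ Fin m) F) *ᵥ w = w + δ • y := by
    rw [stv_mulVec, one_mul, hδ]
  have h1 := comm_Q hyp.hS hew hq hk1 hk1e
  rw [hk1w] at h1
  have hw1 : w - (w + δ • y) = (-δ) • y := by module
  rw [hw1] at h1
  have hew1 : ff e ((-δ) • y) = 0 := by rw [sympForm_smul_right, hey, mul_zero]
  -- second commutator
  have hk2 : rootElt m z y₃ ∈ H := hyp.hK (rootElt_mem_KS hzr hy₃r)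
  have hk2e : ((rootElt m z y₃ : GL (Fin m ⊕ Fin m) F) :
      Matrix (Fin m ⊕ Fin m) (Fin m ⊕ Fin m) F) *ᵥ e = e := by
    rw [rootElt_mulVec m _ _ hzy₃, hey₃, hez, zero_smul, zero_smul, add_zero, add_zero]
  have hk2y : ((rootElt m z y₃ : GL (Fin m ⊕ Fin m) F) :
      Matrix (Fin m ⊕ Fin m) (Fin m ⊕ Fin m) F) *ᵥ ((-δ) • y) = (-δ) • (y + y₃) := by
    rw [mulVec_smul, rootElt_mulVec m _ _ hzy₃, hyy₃, hyz, zero_smul, add_zero, one_smul]
  have h2 := comm_Q hyp.hS hew1 h1 hk2 hk2e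
  rw [hk2y] at h2
  have hw2 : (-δ) • y - (-δ) • (y + y₃) = δ • y₃ := by module
  have hc2 : - ff ((-δ) • (y + y₃)) ((-δ) • y) = 0 := by
    rw [sympForm_smul_left, sympForm_smul_right, sympForm_add_left, sympForm_self, hy₃y, add_zero,
      mul_zero, mul_zero, neg_zero]
  rw [hw2, hc2] at h2
  unfold qq at h2
  rw [stv_param_zero, mul_one] at h2
  have hδF : δ ∈ F₀ := hyp.hBs e y₃ δ her hy₃r (by
    rw [he, hy₃]; exact indepV_E_E (Ne.symm hl1)) hey₃ h2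
  rw [coord_eq m w j, ← hy, ← hδ]
  exact F₀.mul_mem (sg_mem m F₀ _) hδF

/-- the stabilizer in `H` of a coordinate point is rational -/
theorem Hyp.P_lemma (hyp : Hyp H F₀) (i₀ : Fin m ⊕ Fin m) (g : GL (Fin m ⊕ Fin m) F) (hg : g ∈ H)
    (κ : F)
    (hκ : (g : Matrix (Fin m ⊕ Fin m) (Fin m ⊕ Fin m) F) *ᵥ Pi.single i₀ 1 = κ • Pi.single i₀ 1) :
    g ∈ Cfsg.Geo.subfieldSubgroup F₀ (1 : GL (Fin m ⊕ Fin m) F) := by
  have hκ0 := eig_ne_zero g i₀ κ hκ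
  have hgS := hyp.hS hg
  obtain ⟨e, he⟩ : ∃ e : Fin m ⊕ Fin m → F, e = Pi.single i₀ 1 := ⟨_, rfl⟩
  obtain ⟨eb, heb⟩ : ∃ eb : Fin m ⊕ Fin m → F, eb = Pi.single (bar m i₀) 1 := ⟨_, rfl⟩
  obtain ⟨σ, hσ⟩ : ∃ σ : F, σ = sg F i₀ := ⟨_, rfl⟩
  have hσσ : σ * σ = 1 := by rw [hσ]; exact sg_mul_self m i₀
  have hσF : σ ∈ F₀ := by rw [hσ]; exact sg_mem m F₀ i₀
  rw [← he] at hκ
  have her : Rat m F₀ e := by rw [he]; exact rat_E _
  have he0 : e ≠ 0 := by rw [he]; exact single_ne_zero' _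
  have hebe : ff eb e = σ := by rw [heb, he, hσ]; exact ff_E_bar m i₀
  -- the row of the partner index
  have hrow : ∀ x : Fin m ⊕ Fin m → F,
      ((g : Matrix (Fin m ⊕ Fin m) (Fin m ⊕ Fin m) F) *ᵥ x) (bar m i₀) = κ⁻¹ * x (bar m i₀) := by
    intro x
    have h1 := ff_act hgS x e
    rw [hκ, sympForm_smul_right, he, ff_E_right, ff_E_right, ← hσ] at h1
    have h2 : ((g : Matrix (Fin m ⊕ Fin m) (Fin m ⊕ Fin m) F) *ᵥ x) (bar m i₀) =
        κ⁻¹ * σ * (κ * (σ * ((g : Matrix (Fin m ⊕ Fin m) (Fin m ⊕ Fin m) F) *ᵥ x) (bar m i₀))) := by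
      have : κ⁻¹ * σ * (κ * (σ * ((g : Matrix (Fin m ⊕ Fin m) (Fin m ⊕ Fin m) F) *ᵥ x)
          (bar m i₀))) = (κ⁻¹ * κ) * (σ * σ) *
          ((g : Matrix (Fin m ⊕ Fin m) (Fin m ⊕ Fin m) F) *ᵥ x) (bar m i₀) := by ring
      rw [this, inv_mul_cancel₀ hκ0, hσσ, one_mul, one_mul]
    rw [h2, h1]
    have : κ⁻¹ * σ * (σ * x (bar m i₀)) = κ⁻¹ * (σ * σ) * x (bar m i₀) := by ring
    rw [this, hσσ, mul_one]
  -- the eigenvalue is rational up to sign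
  have hκ2 : κ * κ ∈ F₀ := by
    have h1 : g * stv m e 1 * g⁻¹ ∈ H :=
      H.mul_mem (H.mul_mem hg (hyp.hK (stv_mem_KS her F₀.one_mem))) (H.inv_mem hg)
    rw [conj_stv m g hgS, hκ, stv_smul, mul_one] at h1
    exact hyp.hB e _ her he0 h1
  -- the middle rows
  have hF1 : ∀ i, i ≠ bar m i₀ → ∀ j, j ≠ i₀ → j ≠ bar m i₀ →
      κ * (g : Matrix (Fin m ⊕ Fin m) (Fin m ⊕ Fin m) F) j i ∈ F₀ := by
    intro i hi j hj1 hj2
    have hperp : ff e (Pi.single i 1) = 0 := by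
      rw [he]; exact ff_E_E_of_ne m (fun h => hi (by rw [h, bar_bar]))
    have hperp2 : ff e ((g : Matrix (Fin m ⊕ Fin m) (Fin m ⊕ Fin m) F) *ᵥ Pi.single i 1) = 0 := by
      have h1 := ff_act hgS e (Pi.single i 1)
      rw [hκ, sympForm_smul_left, hperp] at h1
      rcases mul_eq_zero.mp h1 with h | h
      · exact absurd h hκ0
      · exact h
    have h1 : g * rootElt m e (Pi.single i 1) * g⁻¹ ∈ H :=
      H.mul_mem (H.mul_mem hg (hyp.hK (rootElt_mem_KS her (rat_E i)))) (H.inv_mem hg)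
    rw [conj_rootElt m g hgS, hκ, rootElt_smul_swap m _ _ hperp2] at h1
    have h2 : qq m e (κ • ((g : Matrix (Fin m ⊕ Fin m) (Fin m ⊕ Fin m) F) *ᵥ Pi.single i 1)) 0 ∈
        H := by
      unfold qq
      rw [stv_param_zero, mul_one]
      exact h1
    have hperp3 : ff e (κ • ((g : Matrix (Fin m ⊕ Fin m) (Fin m ⊕ Fin m) F) *ᵥ
        Pi.single i 1)) = 0 := by
      rw [sympForm_smul_right, hperp2, mul_zero]
    rw [he] at h2 hperp3
    have h3 := hyp.Q1 i₀ hperp3 h2 j hj1 hj2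
    rwa [Pi.smul_apply, mulVec_single_apply, smul_eq_mul] at h3
  -- the Heisenberg part of `g`
  obtain ⟨w₁, hw₁⟩ : ∃ w₁ : Fin m ⊕ Fin m → F, w₁ = fun j =>
      if j = i₀ ∨ j = bar m i₀ then 0
      else σ * κ * (g : Matrix (Fin m ⊕ Fin m) (Fin m ⊕ Fin m) F) j (bar m i₀) := ⟨_, rfl⟩
  obtain ⟨c₁, hc₁⟩ : ∃ c₁ : F,
      c₁ = σ * κ * (g : Matrix (Fin m ⊕ Fin m) (Fin m ⊕ Fin m) F) i₀ (bar m i₀) := ⟨_, rfl⟩
  have hw₁0 : w₁ i₀ = 0 := by rw [hw₁]; simp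
  have hw₁b : w₁ (bar m i₀) = 0 := by rw [hw₁]; simp
  have hw₁m : ∀ j, j ≠ i₀ → j ≠ bar m i₀ →
      w₁ j = σ * κ * (g : Matrix (Fin m ⊕ Fin m) (Fin m ⊕ Fin m) F) j (bar m i₀) := by
    intro j hj1 hj2
    rw [hw₁]
    simp [hj1, hj2]
  have hew₁ : ff e w₁ = 0 := by
    rw [he, ff_E_left, hw₁b, mul_zero, neg_zero]
  have hebw₁ : ff eb w₁ = 0 := by
    rw [heb, ff_E_left, bar_bar, hw₁0, mul_zero, neg_zero]
  have hew₁' : ff e (-w₁) = 0 := by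
    rw [← neg_one_smul F w₁, sympForm_smul_right, hew₁, mul_zero]
  obtain ⟨q, hq⟩ : ∃ q : GL (Fin m ⊕ Fin m) F, q = qq m e w₁ c₁ := ⟨_, rfl⟩
  have hqS : q ∈ Cfsg.spGL m F := by rw [hq]; exact qq_mem_spGL m _ _ _
  have hqe : (q : Matrix (Fin m ⊕ Fin m) (Fin m ⊕ Fin m) F) *ᵥ e = e := by
    rw [hq, qq_mulVec m _ _ hew₁, hew₁, sympForm_self, zero_smul, zero_smul, mul_zero, zero_smul,
      add_zero, add_zero, add_zero]
  have hqeb : (q : Matrix (Fin m ⊕ Fin m) (Fin m ⊕ Fin m) F) *ᵥ (κ⁻¹ • eb) =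
      (g : Matrix (Fin m ⊕ Fin m) (Fin m ⊕ Fin m) F) *ᵥ eb := by
    rw [hq, qq_mulVec m _ _ hew₁, sympForm_smul_left, sympForm_smul_left, hebw₁, hebe, mul_zero,
      zero_smul, add_zero]
    ext j
    simp only [Pi.add_apply, Pi.smul_apply, smul_eq_mul]
    by_cases hj1 : j = i₀
    · rw [hj1, hw₁0, he, heb, Pi.single_eq_same, Pi.single_eq_of_ne (bar_ne m i₀).symm,
        mulVec_single_apply, hc₁]
      have : κ⁻¹ * 0 + κ⁻¹ * σ * 0 + σ * κ *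
          (g : Matrix (Fin m ⊕ Fin m) (Fin m ⊕ Fin m) F) i₀ (bar m i₀) * (κ⁻¹ * σ) * 1 =
          (κ⁻¹ * κ) * (σ * σ) * (g : Matrix (Fin m ⊕ Fin m) (Fin m ⊕ Fin m) F) i₀ (bar m i₀) := by
        ring
      rw [this, inv_mul_cancel₀ hκ0, hσσ, one_mul, one_mul]
    · by_cases hj2 : j = bar m i₀
      · rw [hj2, hw₁b, hrow, he, heb, Pi.single_eq_same, Pi.single_eq_of_ne (bar_ne m i₀)]
        ring
      · rw [hw₁m j hj1 hj2, he, heb, Pi.single_eq_of_ne hj1, Pi.single_eq_of_ne hj2,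
          mulVec_single_apply]
        have : κ⁻¹ * 0 + κ⁻¹ * σ * (σ * κ *
            (g : Matrix (Fin m ⊕ Fin m) (Fin m ⊕ Fin m) F) j (bar m i₀)) + c₁ * (κ⁻¹ * σ) * 0 =
            (κ⁻¹ * κ) * (σ * σ) * (g : Matrix (Fin m ⊕ Fin m) (Fin m ⊕ Fin m) F) j (bar m i₀) := by
          ring
        rw [this, inv_mul_cancel₀ hκ0, hσσ, one_mul, one_mul]
  -- the Levi part of `g`
  obtain ⟨l, hl⟩ : ∃ l : GL (Fin m ⊕ Fin m) F, l = q⁻¹ * g := ⟨_, rfl⟩
  have hlS : l ∈ Cfsg.spGL m F := by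
    rw [hl]; exact Subgroup.mul_mem _ (Subgroup.inv_mem _ hqS) hgS
  have hle : (l : Matrix (Fin m ⊕ Fin m) (Fin m ⊕ Fin m) F) *ᵥ e = κ • e := by
    rw [hl, Units.val_mul, ← mulVec_mulVec, hκ, mulVec_smul, inv_act_eq q hqe]
  have hleb : (l : Matrix (Fin m ⊕ Fin m) (Fin m ⊕ Fin m) F) *ᵥ eb = κ⁻¹ • eb := by
    rw [hl, Units.val_mul, ← mulVec_mulVec, ← hqeb, inv_mulVec_mulVec]
  have hlmid : ∀ j, j ≠ i₀ → j ≠ bar m i₀ →
      Rat m F₀ (κ • ((l : Matrix (Fin m ⊕ Fin m) (Fin m ⊕ Fin m) F) *ᵥ Pi.single j 1)) := by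
    intro j hj1 hj2
    obtain ⟨x, hx⟩ : ∃ x : Fin m ⊕ Fin m → F,
        x = (g : Matrix (Fin m ⊕ Fin m) (Fin m ⊕ Fin m) F) *ᵥ Pi.single j 1 := ⟨_, rfl⟩
    have hxe : ff x e = 0 := by
      have h1 := ff_act hgS (Pi.single j 1) e
      rw [hκ, sympForm_smul_right, ← hx, he,
        ff_E_E_of_ne m (fun h => hj2 h)] at h1
      rw [he]
      rcases mul_eq_zero.mp h1 with h | h
      · exact absurd h hκ0
      · exact h
    have hlj : (l : Matrix (Fin m ⊕ Fin m) (Fin m ⊕ Fin m) F) *ᵥ Pi.single j 1 =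
        x + ff x (-w₁) • e := by
      rw [hl, Units.val_mul, ← mulVec_mulVec, ← hx, hq, qq_inv m _ _ hew₁, qq_mulVec m _ _ hew₁',
        hxe, zero_smul, mul_zero, zero_smul, add_zero, add_zero]
    -- the coordinate `i₀` vanishes
    have hli₀ : ((l : Matrix (Fin m ⊕ Fin m) (Fin m ⊕ Fin m) F) *ᵥ Pi.single j 1) i₀ = 0 := by
      have h1 := ff_act hlS (Pi.single j 1) eb
      rw [hleb, sympForm_smul_right, heb,
        ff_E_E_of_ne m (by rw [bar_bar]; exact hj1), ff_E_right, bar_bar] at h1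
      rcases mul_eq_zero.mp h1 with h | h
      · exact absurd h (inv_ne_zero hκ0)
      · rcases mul_eq_zero.mp h with h' | h'
        · exact absurd h' (sg_ne_zero m _)
        · exact h'
    intro i
    rw [Pi.smul_apply, smul_eq_mul]
    by_cases hi1 : i = i₀
    · rw [hi1, hli₀, mul_zero]; exact F₀.zero_mem
    · by_cases hi2 : i = bar m i₀
      · rw [hlj, hi2, Pi.add_apply, Pi.smul_apply, hx, hrow, he,
          Pi.single_eq_of_ne (bar_ne m i₀), Pi.single_eq_of_ne hj2.symm, smul_zero, mul_zero,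
          add_zero, mul_zero]
        exact F₀.zero_mem
      · rw [hlj, Pi.add_apply, Pi.smul_apply, he, Pi.single_eq_of_ne hi1, smul_zero, add_zero, hx,
          mulVec_single_apply]
        exact hF1 j hj2 i hi1 hi2
  have hlsub : l ∈ Cfsg.Geo.subfieldSubgroup F₀ (1 : GL (Fin m ⊕ Fin m) F) := by
    apply mem_sub1_of_cols l κ hκ0
    intro j
    by_cases hj1 : j = i₀
    · rw [hj1, ← he, hle, smul_smul]
      exact her.smul hκ2
    · by_cases hj2 : j = bar m i₀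
      · rw [hj2, ← heb, hleb, smul_smul, mul_inv_cancel₀ hκ0, one_smul, heb]
        exact rat_E _
      · exact hlmid j hj1 hj2
  have hlK : l ∈ KS m F₀ := ⟨hlsub, hlS⟩
  have hlH : l ∈ H := hyp.hK hlK
  have hqH : q ∈ H := by
    have : q = g * l⁻¹ := by rw [hl]; group
    rw [this]
    exact H.mul_mem hg (H.inv_mem hlH)
  -- the Heisenberg part is rational
  have hw₁r : Rat m F₀ w₁ := by
    intro j
    by_cases hj1 : j = i₀
    · rw [hj1, hw₁0]; exact F₀.zero_mem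
    · by_cases hj2 : j = bar m i₀
      · rw [hj2, hw₁b]; exact F₀.zero_mem
      · rw [hq, he] at hqH
        rw [he] at hew₁
        exact hyp.Q1 i₀ hew₁ hqH j hj1 hj2
  have hrK : rootElt m e w₁ ∈ KS m F₀ := rootElt_mem_KS her hw₁r
  have hsH : stv m e c₁ ∈ H := by
    have : stv m e c₁ = (rootElt m e w₁)⁻¹ * q := by
      rw [hq]; unfold qq; group
    rw [this]
    exact H.mul_mem (H.inv_mem (hyp.hK hrK)) hqH
  have hc₁F : c₁ ∈ F₀ := hyp.hB e c₁ her he0 hsH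
  have hqK : q ∈ KS m F₀ := by
    rw [hq]
    exact (KS m F₀).mul_mem hrK (stv_mem_KS her hc₁F)
  have hgq : g = q * l := by rw [hl]; group
  rw [hgq]
  exact KS_le_sub ((KS m F₀).mul_mem hqK hlK)

/-- an element of `H` mapping some rational vector to a multiple of a rational vector is in the
subfield group -/
theorem Hyp.mem_of_prop (hyp : Hyp H F₀) (g : GL (Fin m ⊕ Fin m) F) (hg : g ∈ H)
    {v r : Fin m ⊕ Fin m → F} (hv : Rat m F₀ v) (hv0 : v ≠ 0) (hr : Rat m F₀ r) {lam : F}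
    (h : (g : Matrix (Fin m ⊕ Fin m) (Fin m ⊕ Fin m) F) *ᵥ v = lam • r) :
    g ∈ Cfsg.Geo.subfieldSubgroup F₀ (1 : GL (Fin m ⊕ Fin m) F) := by
  have hm := hyp.hm
  obtain ⟨i₀, -⟩ : ∃ i₀ : Fin m ⊕ Fin m, i₀ = Sum.inl ⟨0, by omega⟩ := ⟨_, rfl⟩
  have hgv := mulVec_ne_zero g hv0
  have hr0 : r ≠ 0 := by
    rintro rfl
    rw [smul_zero] at h
    exact hgv h
  obtain ⟨k₁, hk₁, hk₁v⟩ := trans1 (rat_E i₀) hv (single_ne_zero' i₀) hv0
  obtain ⟨k₂, hk₂, hk₂r⟩ := trans1 hr (rat_E i₀) hr0 (single_ne_zero' i₀)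
  have h1 : ((k₂ * g * k₁ : GL (Fin m ⊕ Fin m) F) :
      Matrix (Fin m ⊕ Fin m) (Fin m ⊕ Fin m) F) *ᵥ Pi.single i₀ 1 = lam • Pi.single i₀ 1 := by
    rw [Units.val_mul, Units.val_mul, ← mulVec_mulVec, ← mulVec_mulVec, hk₁v, h, mulVec_smul,
      hk₂r]
  have h2 := hyp.P_lemma i₀ (k₂ * g * k₁)
    (H.mul_mem (H.mul_mem (hyp.hK hk₂) hg) (hyp.hK hk₁)) lam h1
  have h3 : g = k₂⁻¹ * (k₂ * g * k₁) * k₁⁻¹ := by group
  rw [h3]
  exact Subgroup.mul_mem _ (Subgroup.mul_mem _ (Subgroup.inv_mem _ (KS_le_sub hk₂)) h2)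
    (Subgroup.inv_mem _ (KS_le_sub hk₁))

end Cfsg.Agent.Lib.Helper42.SpSub
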