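import Mathlib
import Cfsg.Agent.Lib.Helper42.SpSubE

set_option autoImplicit false
set_option linter.unusedSectionVars false
set_option linter.unusedVariables false
set_option linter.style.haveILetI false
set_option linter.unusedSimpArgs false

/-!
Subfield subgroups of the symplectic group: the configuration and the action on a line.
-/

namespace Cfsg.Agent.Lib.Helper42.SpSub

open Matrix Cfsg.Agent.Lib.Helper99 Cfsg.Agent.Lib.Helper13 Cfsg.Agent.Lib.Helper42.Subf
  Cfsg.Agent.Lib.Helper2.SL2 Cfsg.Agent.Lib.Helper14.Dk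
open scoped MatrixGroups

variable {F : Type*} [Field F] {m : ℕ} {F₀ : Subfield F}
  {H : Subgroup (GL (Fin m ⊕ Fin m) F)}

local notation "ff" => Cfsg.sympForm m F
local notation "SL2" => Matrix.SpecialLinearGroup (Fin 2) F

theorem indep_mul_both {x y s t : F} (h : Indep F₀ x y) (hs : s ∈ F₀) (ht : t ∈ F₀)
    (hs0 : s ≠ 0) (ht0 : t ≠ 0) : Indep F₀ (s * x) (t * y) := by
  refine ⟨mul_ne_zero hs0 h.1, fun c hc hcon => ?_⟩
  apply h.2 (t⁻¹ * c * s) (F₀.mul_mem (F₀.mul_mem (F₀.inv_mem ht) hc) hs)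
  have : y = t⁻¹ * (t * y) := by rw [← mul_assoc, inv_mul_cancel₀ ht0, one_mul]
  rw [this, hcon]
  ring

theorem indepV_of_indep {a e e' : Fin m ⊕ Fin m → F} (h : Indep F₀ (ff a e) (ff a e')) :
    IndepV F₀ e e' := by
  intro s hs t ht hst
  have h1 : ff a (s • e + t • e') = 0 := by rw [hst, sympForm_zero_right]
  rw [sympForm_add_right, sympForm_smul_right, sympForm_smul_right] at h1
  exact h.eq_zero hs ht h1

/-- a vector not proportional to a rational vector pairs independently with two perpendicular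
rational vectors -/
theorem exists_config (hm : 3 ≤ m) (a : Fin m ⊕ Fin m → F)
    (ha : ¬ ∃ (lam : F) (r : Fin m ⊕ Fin m → F), Rat m F₀ r ∧ a = lam • r) :
    ∃ e e' : Fin m ⊕ Fin m → F, Rat m F₀ e ∧ Rat m F₀ e' ∧ e ≠ 0 ∧ IndepV F₀ e e' ∧
      ff e e' = 0 ∧ Indep F₀ (ff a e) (ff a e') := by
  obtain ⟨p, p', hpp', hind⟩ := exists_indep_pair F₀ a ha
  -- a pair of non-partner indices
  have key : ∀ p p' : Fin m ⊕ Fin m, p' ≠ p → p' ≠ bar m p → Indep F₀ (a p) (a p') →
      ∃ e e' : Fin m ⊕ Fin m → F, Rat m F₀ e ∧ Rat m F₀ e' ∧ e ≠ 0 ∧ IndepV F₀ e e' ∧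
        ff e e' = 0 ∧ Indep F₀ (ff a e) (ff a e') := by
    intro p p' h1 h2 hi
    have hi' : Indep F₀ (ff a (Pi.single (bar m p) 1)) (ff a (Pi.single (bar m p') 1)) := by
      rw [ff_E_right, ff_E_right, bar_bar, bar_bar]
      exact indep_mul_both hi (sg_mem m F₀ _) (sg_mem m F₀ _) (sg_ne_zero m _) (sg_ne_zero m _)
    refine ⟨Pi.single (bar m p) 1, Pi.single (bar m p') 1, rat_E _, rat_E _, single_ne_zero' _,
      indepV_of_indep hi', ?_, hi'⟩
    exact ff_E_E_of_ne m (by rw [bar_bar]; exact fun h => h2 h.symm)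
  by_cases hp' : p' = bar m p
  · subst hp'
    -- a third index with nonzero coordinate
    have key2 : ∀ t : Fin m ⊕ Fin m, t ≠ p → t ≠ bar m p → a t ≠ 0 →
        ∃ e e' : Fin m ⊕ Fin m → F, Rat m F₀ e ∧ Rat m F₀ e' ∧ e ≠ 0 ∧ IndepV F₀ e e' ∧
          ff e e' = 0 ∧ Indep F₀ (ff a e) (ff a e') := by
      intro t ht1 ht2 hat
      by_cases h1 : Indep F₀ (a t) (a p)
      · exact key t p ht1.symm (fun h => ht2 (by rw [h, bar_bar])) h1
      by_cases h2 : Indep F₀ (a t) (a (bar m p))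
      · exact key t (bar m p) ht2.symm (fun h => ht1 (bar_inj m h).symm) h2
      exfalso
      unfold Indep at h1 h2
      push Not at h1 h2
      obtain ⟨c, hc, hcp⟩ := h1 hat
      obtain ⟨d, hd, hdp⟩ := h2 hat
      have hc0 : c ≠ 0 := by
        rintro rfl
        rw [zero_mul] at hcp
        exact hind.1 hcp
      apply hind.2 (d * c⁻¹) (F₀.mul_mem hd (F₀.inv_mem hc))
      rw [hdp, hcp]
      field_simp
    obtain ⟨t, ht1, ht2, -, -⟩ := exists_other hm p p
    by_cases hat : a t ≠ 0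
    · exact key2 t ht1 ht2 hat
    by_cases hat' : a (bar m t) ≠ 0
    · exact key2 (bar m t) (fun h => ht2 (by rw [← h, bar_bar]))
        (fun h => ht1 (bar_inj m h)) hat'
    rw [not_not] at hat hat'
    obtain ⟨τ, hτ⟩ : ∃ τ : F, τ = sg F p * sg F t := ⟨_, rfl⟩
    have hτF : τ ∈ F₀ := by rw [hτ]; exact F₀.mul_mem (sg_mem m F₀ _) (sg_mem m F₀ _)
    have hi' : Indep F₀ (ff a (Pi.single (bar m p) 1 + Pi.single t 1))
        (ff a (Pi.single p 1 + τ • Pi.single (bar m t) 1)) := by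
      rw [sympForm_add_right, sympForm_add_right, sympForm_smul_right, ff_E_right, ff_E_right,
        ff_E_right, ff_E_right, bar_bar, bar_bar, hat, hat']
      simp only [mul_zero, add_zero]
      exact indep_mul_both hind (sg_mem m F₀ _) (sg_mem m F₀ _) (sg_ne_zero m _) (sg_ne_zero m _)
    refine ⟨Pi.single (bar m p) 1 + Pi.single t 1, Pi.single p 1 + τ • Pi.single (bar m t) 1,
      (rat_E _).add (rat_E _), (rat_E _).add ((rat_E _).smul hτF), ?_, indepV_of_indep hi', ?_,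
      hi'⟩
    · intro h0
      have := congrFun h0 t
      rw [Pi.add_apply, Pi.single_eq_of_ne ht2, Pi.single_eq_same, zero_add, Pi.zero_apply] at this
      exact one_ne_zero this
    · rw [sympForm_add_left, sympForm_add_right, sympForm_add_right, sympForm_smul_right,
        sympForm_smul_right, ff_E_bar, ff_E_E_of_ne m (by rw [bar_bar]; exact ht2.symm),
        ff_E_E_of_ne m ht2, ff_E_E, if_pos (by rw [bar_bar]), sg_bar, hτ]
      have := sg_mul_self (F := F) m t
      linear_combination (- sg F p) * this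
  · exact key p p' (Ne.symm hpp') hp' hind

/-- the lifting relation between elements of `GL` acting on a line and elements of `SL₂` -/
def LiftS (e a e'' : Fin m ⊕ Fin m → F) (g : GL (Fin m ⊕ Fin m) F) (gb : SL2) : Prop :=
  (g : Matrix (Fin m ⊕ Fin m) (Fin m ⊕ Fin m) F) *ᵥ e'' = e'' ∧ ∃ ρ₁ ρ₂ : F,
    (g : Matrix (Fin m ⊕ Fin m) (Fin m ⊕ Fin m) F) *ᵥ e = gb 0 0 • e + gb 1 0 • a + ρ₁ • e'' ∧
    (g : Matrix (Fin m ⊕ Fin m) (Fin m ⊕ Fin m) F) *ᵥ a = gb 0 1 • e + gb 1 1 • a + ρ₂ • e''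

theorem LiftS.one (e a e'' : Fin m ⊕ Fin m → F) :
    LiftS e a e'' (1 : GL (Fin m ⊕ Fin m) F) (1 : SL2) := by
  refine ⟨by rw [Units.val_one, one_mulVec], 0, 0, ?_, ?_⟩
  · rw [Units.val_one, one_mulVec, one00, one10]; module
  · rw [Units.val_one, one_mulVec, one01, one11]; module

theorem LiftS.mul {e a e'' : Fin m ⊕ Fin m → F} {g g' : GL (Fin m ⊕ Fin m) F} {gb gb' : SL2}
    (h : LiftS e a e'' g gb) (h' : LiftS e a e'' g' gb') :
    LiftS e a e'' (g * g') (gb * gb') := by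
  obtain ⟨h0, ρ₁, ρ₂, h1, h2⟩ := h
  obtain ⟨h0', ρ₁', ρ₂', h1', h2'⟩ := h'
  refine ⟨by rw [Units.val_mul, ← mulVec_mulVec, h0', h0],
    ρ₁ * gb' 0 0 + ρ₂ * gb' 1 0 + ρ₁', ρ₁ * gb' 0 1 + ρ₂ * gb' 1 1 + ρ₂', ?_, ?_⟩
  · rw [Units.val_mul, ← mulVec_mulVec, h1', mulVec_add, mulVec_add, mulVec_smul, mulVec_smul,
      mulVec_smul, h0, h1, h2, mul00, mul10]
    module
  · rw [Units.val_mul, ← mulVec_mulVec, h2', mulVec_add, mulVec_add, mulVec_smul, mulVec_smul,
      mulVec_smul, h0, h1, h2, mul01, mul11]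
    module

theorem lift_stv_e (e e' a : Fin m ⊕ Fin m → F) (hee' : ff e e' = 0) (c : F) :
    LiftS e a (ff a e' • e - ff a e • e') (stv m e c) (uu (c * ff a e)) := by
  have he'e : ff e' e = 0 := perp_symm hee'
  refine ⟨?_, 0, 0, ?_, ?_⟩
  · rw [stv_mulVec, sympForm_sub_left, sympForm_smul_left, sympForm_smul_left, sympForm_self,
      he'e, mul_zero, mul_zero, sub_zero, mul_zero, zero_smul, add_zero]
  · rw [stv_mulVec, sympForm_self, uu_00, uu_10]; module
  · rw [stv_mulVec, uu_01, uu_11]; module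

theorem lift_stv_e' (e e' a : Fin m ⊕ Fin m → F) (hee' : ff e e' = 0) (hα : ff a e ≠ 0) (d : F) :
    LiftS e a (ff a e' • e - ff a e • e') (stv m e' d)
      (uu (d * (ff a e' * ff a e' / ff a e))) := by
  have he'e : ff e' e = 0 := perp_symm hee'
  refine ⟨?_, 0, -(d * ff a e' / ff a e), ?_, ?_⟩
  · rw [stv_mulVec, sympForm_sub_left, sympForm_smul_left, sympForm_smul_left, sympForm_self,
      hee', mul_zero, mul_zero, sub_zero, mul_zero, zero_smul, add_zero]
  · rw [stv_mulVec, hee', uu_00, uu_10]; module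
  · rw [stv_mulVec, uu_01, uu_11]
    have h1 : d * (ff a e' * ff a e' / ff a e) + -(d * ff a e' / ff a e) * ff a e' = 0 := by
      field_simp
      ring
    have h2 : -(d * ff a e' / ff a e) * ff a e = -(d * ff a e') := by
      field_simp
    have : (d * (ff a e' * ff a e' / ff a e)) • e + (1 : F) • a +
        -(d * ff a e' / ff a e) • (ff a e' • e - ff a e • e') =
        (d * (ff a e' * ff a e' / ff a e) + -(d * ff a e' / ff a e) * ff a e') • e + a -
          (-(d * ff a e' / ff a e) * ff a e) • e' := by module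
    rw [this, h1, h2]
    module

theorem lift_rootElt (e e' a : Fin m ⊕ Fin m → F) (hee' : ff e e' = 0) (d : F) :
    LiftS e a (ff a e' • e - ff a e • e') (rootElt m e (d • e'))
      (uu (2 * d * ff a e')) := by
  have he'e : ff e' e = 0 := perp_symm hee'
  have hp : ff e (d • e') = 0 := by rw [sympForm_smul_right, hee', mul_zero]
  refine ⟨?_, 0, -d, ?_, ?_⟩
  · rw [rootElt_mulVec m _ _ hp, sympForm_smul_right, sympForm_sub_left, sympForm_sub_left,
      sympForm_smul_left, sympForm_smul_left, sympForm_smul_left, sympForm_smul_left,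
      sympForm_self, sympForm_self, hee', he'e]
    module
  · rw [rootElt_mulVec m _ _ hp, sympForm_smul_right, sympForm_self, hee', uu_00, uu_10]; module
  · rw [rootElt_mulVec m _ _ hp, sympForm_smul_right, uu_01, uu_11]; module

theorem lift_stv_a (e e' a : Fin m ⊕ Fin m → F) (hee' : ff e e' = 0) (c : F) :
    LiftS e a (ff a e' • e - ff a e • e') (stv m a c) (ll (-(c * ff a e))) := by
  have hea : ff e a = - ff a e := sympForm_swap m e a
  have he'a : ff e' a = - ff a e' := sympForm_swap m e' a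
  refine ⟨?_, 0, 0, ?_, ?_⟩
  · rw [stv_mulVec, sympForm_sub_left, sympForm_smul_left, sympForm_smul_left, hea, he'a]
    have : c * (ff a e' * -ff a e - ff a e * -ff a e') = 0 := by ring
    rw [this, zero_smul, add_zero]
  · rw [stv_mulVec, hea, ll_00, ll_10]; module
  · rw [stv_mulVec, sympForm_self, ll_01, ll_11]; module

/-- the configuration is contradictory -/
theorem Hyp.false_of_config [Fintype F] (p : ℕ) [Fact p.Prime] [CharP F p] (hyp : Hyp H F₀)
    (h : GL (Fin m ⊕ Fin m) F) (hh : h ∈ H) (v₀ : Fin m ⊕ Fin m → F) (hv₀ : Rat m F₀ v₀)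
    (hv₀0 : v₀ ≠ 0) (s t : Fin m ⊕ Fin m) (hts : t ≠ s) (hts' : t ≠ bar m s)
    (hind : Indep F₀
      (ff ((h : Matrix (Fin m ⊕ Fin m) (Fin m ⊕ Fin m) F) *ᵥ v₀) (Pi.single s 1))
      (ff ((h : Matrix (Fin m ⊕ Fin m) (Fin m ⊕ Fin m) F) *ᵥ v₀) (Pi.single t 1))) :
    False := by
  obtain ⟨a, ha⟩ : ∃ a : Fin m ⊕ Fin m → F,
      a = (h : Matrix (Fin m ⊕ Fin m) (Fin m ⊕ Fin m) F) *ᵥ v₀ := ⟨_, rfl⟩
  obtain ⟨e, he⟩ : ∃ e : Fin m ⊕ Fin m → F, e = Pi.single s 1 := ⟨_, rfl⟩
  obtain ⟨e', he'⟩ : ∃ e' : Fin m ⊕ Fin m → F, e' = Pi.single t 1 := ⟨_, rfl⟩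
  rw [← ha, ← he, ← he'] at hind
  obtain ⟨α, hα⟩ : ∃ α : F, α = ff a e := ⟨_, rfl⟩
  obtain ⟨α', hα'⟩ : ∃ α' : F, α' = ff a e' := ⟨_, rfl⟩
  obtain ⟨e'', he''⟩ : ∃ e'' : Fin m ⊕ Fin m → F, e'' = α' • e - α • e' := ⟨_, rfl⟩
  have hα0 : α ≠ 0 := by rw [hα]; exact hind.1
  have her : Rat m F₀ e := by rw [he]; exact rat_E _
  have he'r : Rat m F₀ e' := by rw [he']; exact rat_E _
  have he0 : e ≠ 0 := by rw [he]; exact single_ne_zero' _
  have hee' : ff e e' = 0 := by
    rw [he, he']; exact ff_E_E_of_ne m (fun h => hts' (by rw [h, bar_bar]))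
  have hS := hyp.hS
  have hhS := hS hh
  -- the transvection along `a`
  have hya : ∀ c ∈ F₀, stv m a c ∈ H := by
    intro c hc
    rw [ha, ← conj_stv m h hhS]
    exact H.mul_mem (H.mul_mem hh (hyp.hK (stv_mem_KS hv₀ hc))) (H.inv_mem hh)
  -- the second independent parameter
  have hsecond : ∃ c₂ : F, Indep F₀ α c₂ ∧
      ∀ d ∈ F₀, ∃ g ∈ H, LiftS e a e'' g (uu (d * c₂)) := by
    by_cases h2 : (2 : F) = 0
    · refine ⟨α' * α' / α, ⟨hα0, fun c hc hcon => ?_⟩, fun d hd => ?_⟩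
      · -- `c` is a square in `F₀`
        have hinj : Function.Injective (fun x : F₀ => x * x) := by
          intro x y hxy
          have h3 : ((x : F) - y) * ((x : F) - y) = 0 := by
            have h4 : (x : F) * x = y * y := congrArg Subtype.val hxy
            have : ((x : F) - y) * ((x : F) - y) = x * x - 2 * (x * y) + y * y := by ring
            rw [this, h2, zero_mul, sub_zero, h4]
            have : (y : F) * y + y * y = 2 * (y * y) := by ring
            rw [this, h2, zero_mul]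
          have h5 : (x : F) - y = 0 := by
            rcases mul_eq_zero.mp h3 with h | h <;> exact h
          exact Subtype.ext (sub_eq_zero.mp h5)
        haveI : Finite F₀ := Finite.of_injective (fun x : F₀ => (x : F)) Subtype.val_injective
        obtain ⟨c₀, hc₀⟩ := (Finite.injective_iff_surjective.mp hinj) ⟨c, hc⟩
        have hc₀' : (c₀ : F) * c₀ = c := congrArg Subtype.val hc₀
        have h3 : (α' - c₀ * α) * (α' - c₀ * α) = 0 := by
          have h4 : α' * α' = c * α * α := by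
            field_simp at hcon
            linear_combination hcon
          have : (α' - c₀ * α) * (α' - c₀ * α) =
              α' * α' - 2 * (c₀ * α * α') + (c₀ * c₀) * α * α := by ring
          rw [this, h2, zero_mul, sub_zero, hc₀', h4]
          have : c * α * α + c * α * α = 2 * (c * α * α) := by ring
          rw [this, h2, zero_mul]
        have h5 : α' = c₀ * α := by
          rcases mul_eq_zero.mp h3 with h | h <;> exact sub_eq_zero.mp h
        rw [hα, hα'] at h5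
        exact hind.2 c₀ c₀.2 h5
      · refine ⟨stv m e' d, hyp.hK (stv_mem_KS he'r hd), ?_⟩
        rw [he'', hα, hα']
        exact lift_stv_e' e e' a hee' (by rw [← hα]; exact hα0) d
    · refine ⟨α', by rw [hα, hα']; exact hind, fun d hd => ?_⟩
      have h2F : (2 : F) ∈ F₀ := by
        rw [← one_add_one_eq_two]; exact F₀.add_mem F₀.one_mem F₀.one_mem
      refine ⟨rootElt m e ((d / 2) • e'),
        hyp.hK (rootElt_mem_KS her (he'r.smul (F₀.div_mem hd h2F))), ?_⟩
      have := lift_rootElt e e' a hee' (d / 2)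
      rw [← hα, ← hα', ← he''] at this
      have h3 : 2 * (d / 2) * α' = d * α' := by
        field_simp
      rwa [h3] at this
  obtain ⟨c₂, hindc, hc₂⟩ := hsecond
  -- the group on the line
  obtain ⟨S, hS'⟩ : ∃ S : Set SL2, S = {gb | ∃ c ∈ F₀, ∃ d ∈ F₀, gb = uu (c * α + d * c₂)} ∪
      {ll (-α), ll α} := ⟨_, rfl⟩
  have hSlift : ∀ gb ∈ S, ∃ g ∈ H, LiftS e a e'' g gb := by
    intro gb hgb
    rw [hS'] at hgb
    rcases hgb with ⟨c, hc, d, hd, rfl⟩ | hgb
    · obtain ⟨g₂, hg₂, hl₂⟩ := hc₂ d hd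
      refine ⟨stv m e c * g₂, H.mul_mem (hyp.hK (stv_mem_KS her hc)) hg₂, ?_⟩
      rw [← uu_mul]
      have := lift_stv_e e e' a hee' c
      rw [← hα, ← hα', ← he''] at this
      exact this.mul hl₂
    · rcases hgb with rfl | hgb
      · refine ⟨stv m a 1, hya 1 F₀.one_mem, ?_⟩
        have := lift_stv_a e e' a hee' 1
        rwa [← hα, ← hα', ← he'', one_mul] at this
      · rw [Set.mem_singleton_iff] at hgb
        subst hgb
        refine ⟨stv m a (-1), hya (-1) (F₀.neg_mem F₀.one_mem), ?_⟩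
        have := lift_stv_a e e' a hee' (-1)
        rwa [← hα, ← hα', ← he'', neg_one_mul, neg_neg] at this
  have hSinv : ∀ gb ∈ S, gb⁻¹ ∈ S := by
    intro gb hgb
    rw [hS'] at hgb ⊢
    rcases hgb with ⟨c, hc, d, hd, rfl⟩ | hgb
    · left
      refine ⟨-c, F₀.neg_mem hc, -d, F₀.neg_mem hd, ?_⟩
      rw [uu_inv]
      congr 1
      ring
    · right
      rcases hgb with rfl | hgb
      · rw [ll_inv, neg_neg]
        exact Set.mem_insert_of_mem _ rfl
      · rw [Set.mem_singleton_iff] at hgb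
        subst hgb
        rw [ll_inv]
        exact Set.mem_insert _ _
  have hlift : ∀ gb ∈ Subgroup.closure S, ∃ g ∈ H, LiftS e a e'' g gb := by
    intro gb hgb
    induction hgb using Subgroup.closure_induction'' with
    | mem x hx => exact hSlift x hx
    | inv_mem x hx => exact hSlift _ (hSinv x hx)
    | one => exact ⟨1, H.one_mem, LiftS.one e a e''⟩
    | mul x y _ _ hx hy =>
      obtain ⟨g, hg, hl⟩ := hx
      obtain ⟨g', hg', hl'⟩ := hy
      exact ⟨g * g', H.mul_mem hg hg', hl.mul hl'⟩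
  -- Dickson
  obtain ⟨gb, hgbL, hgb10, hgb00⟩ := dickson_line p F₀ (Subgroup.closure S) α c₂ (-α)
    hindc (fun c hc d hd => Subgroup.subset_closure (by
      rw [hS']; left; exact ⟨c, hc, d, hd, rfl⟩)) (neg_ne_zero.mpr hα0)
    (Subgroup.subset_closure (by rw [hS']; right; exact Set.mem_insert _ _))
  obtain ⟨g, hgH, hge'', ρ₁, ρ₂, hge, hga⟩ := hlift gb hgbL
  have hgS := hS hgH
  rw [hgb10, zero_smul, add_zero] at hge
  obtain ⟨κ₁, hκ₁⟩ : ∃ κ₁ : F, κ₁ = gb 0 0 + ρ₁ * α' := ⟨_, rfl⟩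
  obtain ⟨κ₂, hκ₂⟩ : ∃ κ₂ : F, κ₂ = -(ρ₁ * α) := ⟨_, rfl⟩
  obtain ⟨u, hu⟩ : ∃ u : Fin m ⊕ Fin m → F,
      u = (g : Matrix (Fin m ⊕ Fin m) (Fin m ⊕ Fin m) F) *ᵥ e := ⟨_, rfl⟩
  have hu' : u = κ₁ • e + κ₂ • e' := by
    rw [hu, hge, he'', hκ₁, hκ₂]; module
  have hu0 : u ≠ 0 := by rw [hu]; exact mulVec_ne_zero g he0
  have hus : u s = κ₁ := by
    rw [hu', he, he', Pi.add_apply, Pi.smul_apply, Pi.smul_apply, Pi.single_eq_same,
      Pi.single_eq_of_ne hts.symm, smul_eq_mul, smul_eq_mul, mul_one, mul_zero, add_zero]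
  have hut : u t = κ₂ := by
    rw [hu', he, he', Pi.add_apply, Pi.smul_apply, Pi.smul_apply, Pi.single_eq_same,
      Pi.single_eq_of_ne hts, smul_eq_mul, smul_eq_mul, mul_one, mul_zero, zero_add]
  have heu : ff e u = 0 := by
    rw [hu', sympForm_add_right, sympForm_smul_right, sympForm_smul_right, sympForm_self, hee',
      mul_zero, mul_zero, add_zero]
  -- the transvection along `u` fixes `e`, hence is rational
  have hyH : stv m u 1 ∈ H := by
    rw [hu, ← conj_stv m g hgS]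
    exact H.mul_mem (H.mul_mem hgH (hyp.hK (stv_mem_KS her F₀.one_mem))) (H.inv_mem hgH)
  have hye : ((stv m u 1 : GL (Fin m ⊕ Fin m) F) :
      Matrix (Fin m ⊕ Fin m) (Fin m ⊕ Fin m) F) *ᵥ e = (1 : F) • e := by
    rw [stv_mulVec, heu, mul_zero, zero_smul, add_zero, one_smul]
  have hysub := hyp.mem_of_prop _ hyH her he0 her hye
  obtain ⟨μ, hμ0, hμ⟩ := rat_act_of_mem _ hysub
  have hμF : μ ∈ F₀ := by
    have h1 := hμ e her s
    rw [hye, one_smul, Pi.smul_apply, he, Pi.single_eq_same, smul_eq_mul, mul_one] at h1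
    exact h1
  have hrat : ∀ i : Fin m ⊕ Fin m, Rat m F₀ (ff (Pi.single i 1) u • u) := by
    intro i
    have h1 := Rat.of_smul hμF hμ0 (hμ _ (rat_E i))
    rw [stv_mulVec, one_mul] at h1
    have h2 := h1.sub (rat_E i)
    rwa [add_sub_cancel_left] at h2
  have hκ₁u : Rat m F₀ (κ₁ • u) := by
    have h1 := hrat (bar m s)
    rw [hu', sympForm_add_right, sympForm_smul_right, sympForm_smul_right, he, he', ff_E_bar,
      ff_E_E_of_ne m (fun h => hts (bar_inj m h).symm), mul_zero, add_zero, ← he, ← he',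
      ← hu'] at h1
    have h2 := h1.smul (sg_mem m F₀ s)
    rwa [smul_smul, mul_comm κ₁, ← mul_assoc, sg_mul_self, one_mul] at h2
  have hκ₂u : Rat m F₀ (κ₂ • u) := by
    have h1 := hrat (bar m t)
    rw [hu', sympForm_add_right, sympForm_smul_right, sympForm_smul_right, he, he', ff_E_bar,
      ff_E_E_of_ne m (fun h => hts (bar_inj m h)), mul_zero, zero_add, ← he, ← he',
      ← hu'] at h1
    have h2 := h1.smul (sg_mem m F₀ t)
    rwa [smul_smul, mul_comm κ₂, ← mul_assoc, sg_mul_self, one_mul] at h2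
  -- hence `g` is in the subfield group
  have hgsub : g ∈ Cfsg.Geo.subfieldSubgroup F₀ (1 : GL (Fin m ⊕ Fin m) F) := by
    by_cases h1 : κ₁ = 0
    · have h2 : κ₂ ≠ 0 := by
        intro h2
        apply hu0
        rw [hu', h1, h2, zero_smul, zero_smul, add_zero]
      apply hyp.mem_of_prop g hgH her he0 hκ₂u (lam := κ₂⁻¹)
      rw [← hu, smul_smul, inv_mul_cancel₀ h2, one_smul]
    · apply hyp.mem_of_prop g hgH her he0 hκ₁u (lam := κ₁⁻¹)
      rw [← hu, smul_smul, inv_mul_cancel₀ h1, one_smul]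
  obtain ⟨ν, hν0, hν⟩ := rat_act_of_mem _ hgsub
  -- the multiplier
  have hνν : ν * ν ∈ F₀ := by
    have h1 := ff_rat (hν _ (rat_E (bar m s))) (hν _ (rat_E s))
    rw [sympForm_smul_left, sympForm_smul_right, ff_act hgS, ff_E_bar] at h1
    have h2 := F₀.mul_mem h1 (sg_mem m F₀ s)
    have h3 : ν * (ν * sg F s) * sg F s = ν * ν * (sg F s * sg F s) := by ring
    rwa [h3, sg_mul_self, mul_one] at h2
  have hA : ν * κ₁ ∈ F₀ := by
    have h1 := hν e her s
    rwa [← hu, Pi.smul_apply, hus, smul_eq_mul] at h1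
  have hB : ν * κ₂ ∈ F₀ := by
    have h1 := hν e her t
    rwa [← hu, Pi.smul_apply, hut, smul_eq_mul] at h1
  obtain ⟨P, hP⟩ : ∃ P : F,
      P = ((g : Matrix (Fin m ⊕ Fin m) (Fin m ⊕ Fin m) F) *ᵥ e') s := ⟨_, rfl⟩
  obtain ⟨Q, hQ⟩ : ∃ Q : F,
      Q = ((g : Matrix (Fin m ⊕ Fin m) (Fin m ⊕ Fin m) F) *ᵥ e') t := ⟨_, rfl⟩
  have hC : ν * P ∈ F₀ := by
    have h1 := hν e' he'r s
    rwa [Pi.smul_apply, ← hP, smul_eq_mul] at h1
  have hD : ν * Q ∈ F₀ := by
    have h1 := hν e' he'r t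
    rwa [Pi.smul_apply, ← hQ, smul_eq_mul] at h1
  have hfix : α' • u - α • ((g : Matrix (Fin m ⊕ Fin m) (Fin m ⊕ Fin m) F) *ᵥ e') = e'' := by
    rw [hu, ← mulVec_smul, ← mulVec_smul, ← mulVec_sub, ← he'', hge'']
  have hPs : α' * κ₁ - α * P = α' := by
    have h1 := congrFun hfix s
    rw [Pi.sub_apply, Pi.smul_apply, Pi.smul_apply, hus, ← hP, he'', Pi.sub_apply, Pi.smul_apply,
      Pi.smul_apply, he, he', Pi.single_eq_same, Pi.single_eq_of_ne hts.symm, smul_eq_mul,
      smul_eq_mul, smul_eq_mul, smul_eq_mul, mul_one, mul_zero, sub_zero] at h1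
    exact h1
  have hQt : α' * κ₂ - α * Q = -α := by
    have h1 := congrFun hfix t
    rw [Pi.sub_apply, Pi.smul_apply, Pi.smul_apply, hut, ← hQ, he'', Pi.sub_apply, Pi.smul_apply,
      Pi.smul_apply, he, he', Pi.single_eq_same, Pi.single_eq_of_ne hts, smul_eq_mul,
      smul_eq_mul, smul_eq_mul, smul_eq_mul, mul_one, mul_zero, zero_sub] at h1
    exact h1
  have hdet : gb 0 0 = κ₁ * Q - κ₂ * P := by
    have h1 : α * gb 0 0 = α * (κ₁ * Q - κ₂ * P) := by
      rw [hκ₁] at hPs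
      rw [hκ₂] at hQt
      rw [hκ₁, hκ₂]
      linear_combination (gb 0 0 + ρ₁ * α') * hQt + (ρ₁ * α) * hPs
    exact mul_left_cancel₀ hα0 h1
  apply hgb00
  have hννinv : (ν * ν)⁻¹ ∈ F₀ := F₀.inv_mem hνν
  have hfin : gb 0 0 = ((ν * κ₁) * (ν * Q) - (ν * κ₂) * (ν * P)) * (ν * ν)⁻¹ := by
    rw [hdet]
    field_simp
  have hmem : gb 0 0 ∈ F₀ := by
    rw [hfin]
    exact F₀.mul_mem (F₀.sub_mem (F₀.mul_mem hA hD) (F₀.mul_mem hB hC)) hννinv
  rw [sq]
  exact F₀.mul_mem hmem hmem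

end Cfsg.Agent.Lib.Helper42.SpSub
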