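import Mathlib
import Cfsg.Agent.Lib.Helper42.SpSubF

set_option autoImplicit false
set_option linter.unusedSectionVars false
set_option linter.unusedVariables false
set_option linter.style.haveILetI false
set_option linter.unusedSimpArgs false

/-!
Subfield subgroups of the symplectic group: the rational group is maximal.
-/

namespace Cfsg.Agent.Lib.Helper42.SpSub

open Matrix Cfsg.Agent.Lib.Helper99 Cfsg.Agent.Lib.Helper13 Cfsg.Agent.Lib.Helper42.Subf

variable {F : Type*} [Field F] {m : ℕ}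

local notation "ff" => Cfsg.sympForm m F

/-- the rational symplectic group (times scalars) is maximal in the symplectic group -/
theorem KS_isMaximalIn [Fintype F] (hm : 3 ≤ m) (F₀ : Subfield F) (r : ℕ) (hr : r.Prime)
    (hcard : Fintype.card F = Nat.card F₀ ^ r) :
    Cfsg.Geo.IsMaximalIn (Cfsg.spGL m F) (KS m F₀) := by
  haveI : Fintype F₀ := Fintype.ofFinite F₀
  have hq₀ : 2 ≤ Nat.card F₀ := by
    rw [Nat.card_eq_fintype_card]
    exact Fintype.one_lt_card
  obtain ⟨i₀, hi₀⟩ : ∃ i₀ : Fin m ⊕ Fin m, i₀ = Sum.inl ⟨0, by omega⟩ := ⟨_, rfl⟩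
  obtain ⟨i₁, hi₁⟩ : ∃ i₁ : Fin m ⊕ Fin m, i₁ = Sum.inl ⟨1, by omega⟩ := ⟨_, rfl⟩
  have h01 : i₀ ≠ i₁ := by
    rw [hi₀, hi₁]; intro h
    have := congrArg Fin.val (Sum.inl.inj h)
    simp at this
  have h01' : i₁ ≠ bar m i₀ := by
    rw [hi₀, hi₁, bar_inl]; intro h; cases h
  have hperp : ff (Pi.single i₀ 1) (Pi.single i₁ 1) = 0 :=
    ff_E_E_of_ne m (by rw [hi₀, hi₁, bar_inl]; intro h; cases h)
  refine ⟨lt_of_le_of_ne KS_le_sp ?_, ?_⟩
  · -- proper
    intro heq
    have hex : ∃ c : F, c ∉ F₀ := by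
      by_contra hcon
      push Not at hcon
      have htop : F₀ = ⊤ := by
        rw [eq_top_iff]; exact fun x _ => hcon x
      have h1 : Nat.card F₀ = Fintype.card F := by
        rw [htop, ← Nat.card_eq_fintype_card]
        exact Nat.card_congr Subfield.topEquiv.toEquiv
      rw [hcard] at h1
      have h2 : Nat.card F₀ ^ 1 < Nat.card F₀ ^ r := Nat.pow_lt_pow_right hq₀ hr.one_lt
      rw [pow_one] at h2
      omega
    obtain ⟨c, hc⟩ := hex
    have hmem : stv m (Pi.single i₀ 1) c ∈ KS m F₀ := by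
      rw [heq]; exact stv_mem_spGL m _ _
    obtain ⟨μ, hμ0, hμ⟩ := rat_act_of_mem _ (KS_le_sub hmem)
    have hμF : μ ∈ F₀ := by
      have h1 := hμ _ (rat_E i₁) i₁
      rw [stv_mulVec, ff_E_E_of_ne m (fun h => h01' h), mul_zero, zero_smul, add_zero,
        Pi.smul_apply, Pi.single_eq_same, smul_eq_mul, mul_one] at h1
      exact h1
    have h2 := hμ _ (rat_E (bar m i₀)) i₀
    rw [stv_mulVec, ff_E_bar, Pi.smul_apply, Pi.add_apply, Pi.smul_apply,
      Pi.single_eq_of_ne (bar_ne m i₀).symm, Pi.single_eq_same, zero_add, smul_eq_mul, smul_eq_mul,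
      mul_one, hi₀, sg_inl, mul_one] at h2
    apply hc
    have : c = μ⁻¹ * (μ * c) := by rw [← mul_assoc, inv_mul_cancel₀ hμ0, one_mul]
    rw [this]
    exact F₀.mul_mem (F₀.inv_mem hμF) h2
  · intro H hKH hHS
    have hle : F₀ ≤ shortField hKH hm := fun c hc => short_of_mem_F₀ hKH hc
    rcases subfield_dichotomy F₀ r hr hcard (shortField hKH hm) hle with hB | hB
    · left
      have hyp : Hyp H F₀ := by
        refine ⟨hKH, hHS, hm, ?_, ?_⟩
        · intro u c hu hu0 hmem
          have h1 : c ∈ shortField hKH hm := short_of_long hKH (long_of_mem hKH hu hu0 hmem)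
          rwa [hB] at h1
        · intro u w c hu hw hi hp hmem
          have h1 : c ∈ shortField hKH hm := short_of_mem hKH hu hw hi hp hmem
          rwa [hB] at h1
      apply le_antisymm _ hKH
      intro h hh
      by_contra hnot
      have hnot' : h ∉ Cfsg.Geo.subfieldSubgroup F₀ (1 : GL (Fin m ⊕ Fin m) F) :=
        fun hsub => hnot ⟨hsub, hHS hh⟩
      obtain ⟨p, hp⟩ := CharP.exists F
      haveI : Fact p.Prime := ⟨CharP.char_is_prime F p⟩
      obtain ⟨a, ha⟩ : ∃ a : Fin m ⊕ Fin m → F,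
          a = (h : Matrix (Fin m ⊕ Fin m) (Fin m ⊕ Fin m) F) *ᵥ Pi.single i₀ 1 := ⟨_, rfl⟩
      have hnp : ¬ ∃ (lam : F) (r : Fin m ⊕ Fin m → F), Rat m F₀ r ∧ a = lam • r := by
        rintro ⟨lam, r, hr, har⟩
        apply hnot'
        exact hyp.mem_of_prop h hh (rat_E i₀) (single_ne_zero' i₀) hr (by rw [← ha, har])
      obtain ⟨e, e', her, he'r, he0, hiV, hee', hind⟩ := exists_config hm a hnp
      obtain ⟨k, hk, hke, hke'⟩ := trans2 her he'r (rat_E i₀) (rat_E i₁) hiV (indepV_E_E h01)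
        (by rw [hee', hperp])
      have hkS := KS_le_sp hk
      have h1 : ff ((k : Matrix (Fin m ⊕ Fin m) (Fin m ⊕ Fin m) F) *ᵥ a) (Pi.single i₀ 1) =
          ff a e := by rw [← hke, ff_act hkS]
      have h2 : ff ((k : Matrix (Fin m ⊕ Fin m) (Fin m ⊕ Fin m) F) *ᵥ a) (Pi.single i₁ 1) =
          ff a e' := by rw [← hke', ff_act hkS]
      apply hyp.false_of_config p (k * h) (H.mul_mem (hKH hk) hh) (Pi.single i₀ 1) (rat_E i₀)
        (single_ne_zero' i₀) i₀ i₁ h01.symm h01'
      rw [Units.val_mul, ← mulVec_mulVec, ← ha, h1, h2]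
      exact hind
    · right
      apply eq_spGL_of_long_top hKH hHS
      intro c
      apply long_of_short hKH hHS hm
      have : c ∈ shortField hKH hm := by rw [hB]; exact Subfield.mem_top c
      exact this

end Cfsg.Agent.Lib.Helper42.SpSub
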