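import Mathlib
import Cfsg.Agent.Lib.Helper42.SpSubG

set_option autoImplicit false
set_option linter.unusedSectionVars false
set_option linter.unusedVariables false
set_option linter.style.haveILetI false
set_option linter.unusedSimpArgs false

/-!
Subfield subgroups of the symplectic group: reduction of a general rational structure to the
standard one.
-/

namespace Cfsg.Agent.Lib.Helper42.SpSub

open Matrix Cfsg.Agent.Lib.Helper99 Cfsg.Agent.Lib.Helper13 Cfsg.Agent.Lib.Helper42.Subf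

variable {F : Type*} [Field F] {m : ℕ} {F₀ : Subfield F}

local notation "ff" => Cfsg.sympForm m F

/-- conjugation by a similitude preserves the symplectic group -/
theorem conj_mem_spGL (Q : GL (Fin m ⊕ Fin m) F) (c : F) (hc : c ≠ 0)
    (hQ : ∀ x y, ff ((Q : Matrix (Fin m ⊕ Fin m) (Fin m ⊕ Fin m) F) *ᵥ x)
      ((Q : Matrix (Fin m ⊕ Fin m) (Fin m ⊕ Fin m) F) *ᵥ y) = c * ff x y)
    (g : GL (Fin m ⊕ Fin m) F) (hg : g ∈ Cfsg.spGL m F) : Q * g * Q⁻¹ ∈ Cfsg.spGL m F := by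
  rw [mem_spGL_iff]
  intro x y
  have hQinv : ∀ x y, ff (((Q⁻¹ : GL (Fin m ⊕ Fin m) F) :
      Matrix (Fin m ⊕ Fin m) (Fin m ⊕ Fin m) F) *ᵥ x)
      (((Q⁻¹ : GL (Fin m ⊕ Fin m) F) : Matrix (Fin m ⊕ Fin m) (Fin m ⊕ Fin m) F) *ᵥ y) =
      c⁻¹ * ff x y := by
    intro x y
    have := hQ (((Q⁻¹ : GL (Fin m ⊕ Fin m) F) : Matrix (Fin m ⊕ Fin m) (Fin m ⊕ Fin m) F) *ᵥ x)
      (((Q⁻¹ : GL (Fin m ⊕ Fin m) F) : Matrix (Fin m ⊕ Fin m) (Fin m ⊕ Fin m) F) *ᵥ y)
    rw [mulVec_inv_mulVec, mulVec_inv_mulVec] at this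
    rw [this, ← mul_assoc, inv_mul_cancel₀ hc, one_mul]
  rw [Units.val_mul, Units.val_mul, ← mulVec_mulVec, ← mulVec_mulVec, ← mulVec_mulVec,
    ← mulVec_mulVec, hQ, ff_act hg, hQinv, ← mul_assoc, mul_inv_cancel₀ hc, one_mul]

theorem map_conj_spGL (Q : GL (Fin m ⊕ Fin m) F) (c : F) (hc : c ≠ 0)
    (hQ : ∀ x y, ff ((Q : Matrix (Fin m ⊕ Fin m) (Fin m ⊕ Fin m) F) *ᵥ x)
      ((Q : Matrix (Fin m ⊕ Fin m) (Fin m ⊕ Fin m) F) *ᵥ y) = c * ff x y) :
    (Cfsg.spGL m F).map (MulAut.conj Q).toMonoidHom = Cfsg.spGL m F := by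
  have hQinv : ∀ x y, ff (((Q⁻¹ : GL (Fin m ⊕ Fin m) F) :
      Matrix (Fin m ⊕ Fin m) (Fin m ⊕ Fin m) F) *ᵥ x)
      (((Q⁻¹ : GL (Fin m ⊕ Fin m) F) : Matrix (Fin m ⊕ Fin m) (Fin m ⊕ Fin m) F) *ᵥ y) =
      c⁻¹ * ff x y := by
    intro x y
    have := hQ (((Q⁻¹ : GL (Fin m ⊕ Fin m) F) : Matrix (Fin m ⊕ Fin m) (Fin m ⊕ Fin m) F) *ᵥ x)
      (((Q⁻¹ : GL (Fin m ⊕ Fin m) F) : Matrix (Fin m ⊕ Fin m) (Fin m ⊕ Fin m) F) *ᵥ y)
    rw [mulVec_inv_mulVec, mulVec_inv_mulVec] at this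
    rw [this, ← mul_assoc, inv_mul_cancel₀ hc, one_mul]
  ext x
  constructor
  · rintro ⟨y, hy, rfl⟩
    exact conj_mem_spGL Q c hc hQ y hy
  · intro hx
    refine ⟨Q⁻¹ * x * Q, ?_, ?_⟩
    · have := conj_mem_spGL Q⁻¹ c⁻¹ (inv_ne_zero hc) hQinv x hx
      rwa [inv_inv] at this
    · show Q * (Q⁻¹ * x * Q) * Q⁻¹ = x
      group

/-- changing the basis matrix by a rational matrix does not change the subfield group -/
theorem subfieldSubgroup_mul_rat (P : GL (Fin m ⊕ Fin m) F) (G₀ : GL (Fin m ⊕ Fin m) F₀) :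
    Cfsg.Geo.subfieldSubgroup F₀
      (P * Matrix.GeneralLinearGroup.map (F₀.subtype : F₀ →+* F) G₀) =
      Cfsg.Geo.subfieldSubgroup F₀ P := by
  obtain ⟨G, hG⟩ : ∃ G : GL (Fin m ⊕ Fin m) F,
      G = Matrix.GeneralLinearGroup.map (F₀.subtype : F₀ →+* F) G₀ := ⟨_, rfl⟩
  rw [← hG]
  unfold Cfsg.Geo.subfieldSubgroup
  obtain ⟨S, hS⟩ : ∃ S : Subgroup (GL (Fin m ⊕ Fin m) F),
      S = (Matrix.GeneralLinearGroup.map (F₀.subtype : F₀ →+* F)).range ⊔
        Cfsg.Geo.scalars (Fin m ⊕ Fin m) F := ⟨_, rfl⟩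
  rw [← hS]
  have hGS : G ∈ S := by
    rw [hS, hG]
    exact Subgroup.mem_sup_left ⟨G₀, rfl⟩
  ext x
  constructor
  · rintro ⟨y, hy, rfl⟩
    refine ⟨G * y * G⁻¹, S.mul_mem (S.mul_mem hGS hy) (S.inv_mem hGS), ?_⟩
    show P * (G * y * G⁻¹) * P⁻¹ = P * G * y * (P * G)⁻¹
    group
  · rintro ⟨y, hy, rfl⟩
    refine ⟨G⁻¹ * y * G, S.mul_mem (S.mul_mem (S.inv_mem hGS) hy) hGS, ?_⟩
    show P * G * (G⁻¹ * y * G) * (P * G)⁻¹ = P * y * P⁻¹
    group

theorem gramJ_cast (i j : Fin m ⊕ Fin m) :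
    ((Cfsg.Agent.Lib.Helper44.gramJ m F₀ i j : F₀) : F) =
      - ff (Pi.single i 1) (Pi.single j 1) := by
  rw [ff_E_E]
  rcases i with a | a <;> rcases j with b | b
  · simp [Cfsg.Agent.Lib.Helper44.gramJ, bar]
  · by_cases hab : a = b
    · subst hab
      simp [Cfsg.Agent.Lib.Helper44.gramJ, bar, sg]
    · have : (Sum.inl a : Fin m ⊕ Fin m) ≠ bar m (Sum.inr b) := by
        rw [bar_inr]; intro h; exact hab (Sum.inl.inj h)
      simp [Cfsg.Agent.Lib.Helper44.gramJ, this, hab]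
  · by_cases hab : a = b
    · subst hab
      simp [Cfsg.Agent.Lib.Helper44.gramJ, bar, sg]
    · have : (Sum.inr a : Fin m ⊕ Fin m) ≠ bar m (Sum.inl b) := by
        rw [bar_inl]; intro h; exact hab (Sum.inr.inj h)
      simp [Cfsg.Agent.Lib.Helper44.gramJ, this, hab]
  · simp [Cfsg.Agent.Lib.Helper44.gramJ, bar]

/-- the rational form attached to a rational structure -/
noncomputable def omega (P : GL (Fin m ⊕ Fin m) F) (ζ : F)
    (hP : Cfsg.Geo.IsFormRationalStructure (Cfsg.sympForm m F) F₀ ζ P) :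
    LinearMap.BilinForm F₀ (Fin m ⊕ Fin m → F₀) :=
  LinearMap.mk₂ F₀
    (fun u v => (⟨(-ζ) * ff ((P : Matrix (Fin m ⊕ Fin m) (Fin m ⊕ Fin m) F) *ᵥ up u)
      ((P : Matrix (Fin m ⊕ Fin m) (Fin m ⊕ Fin m) F) *ᵥ up v), by
        rw [neg_mul]
        exact F₀.neg_mem (hP (up u) (up v) (up_rat u) (up_rat v))⟩ : F₀))
    (by
      intro u u' v
      apply Subtype.ext
      rw [Subfield.coe_add]
      simp only [up_add, mulVec_add, sympForm_add_left, mul_add])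
    (by
      intro c u v
      apply Subtype.ext
      rw [smul_eq_mul, Subfield.coe_mul]
      simp only [up_smul, mulVec_smul, sympForm_smul_left]
      ring)
    (by
      intro u v v'
      apply Subtype.ext
      rw [Subfield.coe_add]
      simp only [up_add, mulVec_add, sympForm_add_right, mul_add])
    (by
      intro c u v
      apply Subtype.ext
      rw [smul_eq_mul, Subfield.coe_mul]
      simp only [up_smul, mulVec_smul, sympForm_smul_right]
      ring)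

theorem omega_apply (P : GL (Fin m ⊕ Fin m) F) (ζ : F)
    (hP : Cfsg.Geo.IsFormRationalStructure (Cfsg.sympForm m F) F₀ ζ P)
    (u v : Fin m ⊕ Fin m → F₀) :
    ((omega P ζ hP u v : F₀) : F) =
      (-ζ) * ff ((P : Matrix (Fin m ⊕ Fin m) (Fin m ⊕ Fin m) F) *ᵥ up u)
        ((P : Matrix (Fin m ⊕ Fin m) (Fin m ⊕ Fin m) F) *ᵥ up v) := rfl

/-- a vector perpendicular to the images of all coordinate vectors vanishes -/
theorem eq_zero_of_perp_cols (P : GL (Fin m ⊕ Fin m) F) (x : Fin m ⊕ Fin m → F)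
    (h : ∀ j, ff x ((P : Matrix (Fin m ⊕ Fin m) (Fin m ⊕ Fin m) F) *ᵥ Pi.single j 1) = 0) :
    x = 0 := by
  have h1 : (sympB m x).comp (Matrix.toLin' (P : Matrix (Fin m ⊕ Fin m) (Fin m ⊕ Fin m) F)) = 0 := by
    apply LinearMap.pi_ext'
    intro j
    apply LinearMap.ext_ring
    rw [LinearMap.comp_apply, LinearMap.comp_apply, LinearMap.coe_single, Matrix.toLin'_apply,
      sympB_apply, h j]
    rfl
  have h2 : ∀ y, sympB m x y = 0 := by
    intro y
    have := LinearMap.congr_fun h1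
      (((P⁻¹ : GL (Fin m ⊕ Fin m) F) : Matrix (Fin m ⊕ Fin m) (Fin m ⊕ Fin m) F) *ᵥ y)
    rw [LinearMap.comp_apply, Matrix.toLin'_apply, mulVec_inv_mulVec] at this
    exact this
  exact (sympB_nondegenerate (F := F) m).1 x h2

/-- the subfield subgroup of a rational structure for the symplectic form is maximal in the
symplectic group -/
theorem sp_subfield_isMaximalIn [Fintype F] (hm : 3 ≤ m) (F₀ : Subfield F) (r : ℕ) (hr : r.Prime)
    (hcard : Fintype.card F = Nat.card F₀ ^ r) (P : GL (Fin m ⊕ Fin m) F) (ζ : F) (hζ : ζ ≠ 0)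
    (hP : Cfsg.Geo.IsFormRationalStructure (Cfsg.sympForm m F) F₀ ζ P) :
    Cfsg.Geo.IsMaximalIn (Cfsg.spGL m F) (Cfsg.Geo.subfieldSubgroup F₀ P ⊓ Cfsg.spGL m F) := by
  -- the rational form is alternating and nondegenerate
  have halt : (omega P ζ hP).IsAlt := by
    intro u
    apply Subtype.ext
    rw [omega_apply, sympForm_self, mul_zero]
    rfl
  have hsep : ∀ u, (∀ v, omega P ζ hP u v = 0) → u = 0 := by
    intro u hu
    have h1 : (P : Matrix (Fin m ⊕ Fin m) (Fin m ⊕ Fin m) F) *ᵥ up u = 0 := by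
      apply eq_zero_of_perp_cols P
      intro j
      have h2 := congrArg Subtype.val (hu (Pi.single j 1))
      rw [omega_apply] at h2
      have h3 : up (Pi.single j (1 : F₀) : Fin m ⊕ Fin m → F₀) =
          (Pi.single j (1 : F) : Fin m ⊕ Fin m → F) := by
        ext i
        unfold up
        by_cases hij : i = j
        · rw [hij, Pi.single_eq_same, Pi.single_eq_same]; rfl
        · rw [Pi.single_eq_of_ne hij, Pi.single_eq_of_ne hij]; rfl
      rw [h3] at h2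
      rcases mul_eq_zero.mp h2 with h | h
      · exact absurd (neg_eq_zero.mp h) hζ
      · exact h
    have h4 : up u = 0 := by
      by_contra h0
      exact mulVec_ne_zero P h0 h1
    apply up_injective
    rw [h4, up_zero]
  have hnd : (omega P ζ hP).Nondegenerate := by
    refine ⟨hsep, ?_⟩
    intro v hv
    apply hsep
    intro u
    have := LinearMap.IsAlt.neg halt u v
    rw [← this, hv u, neg_zero]
  have hfr : Module.finrank F₀ (Fin m ⊕ Fin m → F₀) = 2 * m := by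
    rw [Module.finrank_fintype_fun_eq_card, Fintype.card_sum, Fintype.card_fin]
    ring
  obtain ⟨b, hb⟩ := Cfsg.Agent.Lib.Helper44.darboux_basis m (Fin m ⊕ Fin m → F₀) (omega P ζ hP)
    halt hnd hfr
  -- the change of basis
  obtain ⟨B₀, hB₀⟩ : ∃ B₀ : Matrix (Fin m ⊕ Fin m) (Fin m ⊕ Fin m) F₀,
      B₀ = (Pi.basisFun F₀ (Fin m ⊕ Fin m)).toMatrix b := ⟨_, rfl⟩
  have hB₀app : ∀ i j, B₀ i j = b j i := by
    intro i j
    rw [hB₀, Module.Basis.toMatrix_apply, Pi.basisFun_repr]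
  have hdet : B₀.det ≠ 0 := by
    have h1 : B₀ * b.toMatrix (Pi.basisFun F₀ (Fin m ⊕ Fin m)) = 1 := by
      rw [hB₀]; exact Module.Basis.toMatrix_mul_toMatrix_flip _ _
    exact Matrix.det_ne_zero_of_right_inverse h1
  obtain ⟨G₀, hG₀⟩ : ∃ G₀ : GL (Fin m ⊕ Fin m) F₀,
      G₀ = Matrix.GeneralLinearGroup.mkOfDetNeZero B₀ hdet := ⟨_, rfl⟩
  obtain ⟨G, hG⟩ : ∃ G : GL (Fin m ⊕ Fin m) F,
      G = Matrix.GeneralLinearGroup.map (F₀.subtype : F₀ →+* F) G₀ := ⟨_, rfl⟩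
  have hGcol : ∀ j, (G : Matrix (Fin m ⊕ Fin m) (Fin m ⊕ Fin m) F) *ᵥ Pi.single j 1 =
      up (b j) := by
    intro j
    ext i
    rw [mulVec_single_apply, hG, Matrix.GeneralLinearGroup.map_apply, hG₀]
    show ((B₀ i j : F₀) : F) = _
    rw [hB₀app]
    rfl
  obtain ⟨P', hP'⟩ : ∃ P' : GL (Fin m ⊕ Fin m) F, P' = P * G := ⟨_, rfl⟩
  have hP'col : ∀ i j, ζ * ff ((P' : Matrix (Fin m ⊕ Fin m) (Fin m ⊕ Fin m) F) *ᵥ Pi.single i 1)
      ((P' : Matrix (Fin m ⊕ Fin m) (Fin m ⊕ Fin m) F) *ᵥ Pi.single j 1) =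
      ff (Pi.single i 1) (Pi.single j 1) := by
    intro i j
    rw [hP', Units.val_mul, ← mulVec_mulVec, ← mulVec_mulVec, hGcol, hGcol]
    have h1 := congrFun (congrFun hb i) j
    rw [LinearMap.BilinForm.toMatrix_apply] at h1
    have h2 := congrArg Subtype.val h1
    rw [omega_apply, gramJ_cast] at h2
    linear_combination (-1 : F) * h2
  have hsim : ∀ x y, ff ((P' : Matrix (Fin m ⊕ Fin m) (Fin m ⊕ Fin m) F) *ᵥ x)
      ((P' : Matrix (Fin m ⊕ Fin m) (Fin m ⊕ Fin m) F) *ᵥ y) = ζ⁻¹ * ff x y := by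
    have key : ζ • ((sympB (F := F) m).compl₁₂
        (Matrix.toLin' (P' : Matrix (Fin m ⊕ Fin m) (Fin m ⊕ Fin m) F))
        (Matrix.toLin' (P' : Matrix (Fin m ⊕ Fin m) (Fin m ⊕ Fin m) F))) = sympB (F := F) m := by
      apply LinearMap.ext_basis (Pi.basisFun F (Fin m ⊕ Fin m)) (Pi.basisFun F (Fin m ⊕ Fin m))
      intro i j
      rw [LinearMap.smul_apply, LinearMap.smul_apply, LinearMap.compl₁₂_apply, Pi.basisFun_apply,
        Pi.basisFun_apply, Matrix.toLin'_apply, Matrix.toLin'_apply, sympB_apply, sympB_apply,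
        smul_eq_mul]
      exact hP'col i j
    intro x y
    have h1 := LinearMap.congr_fun (LinearMap.congr_fun key x) y
    rw [LinearMap.smul_apply, LinearMap.smul_apply, LinearMap.compl₁₂_apply, Matrix.toLin'_apply,
      Matrix.toLin'_apply, sympB_apply, sympB_apply, smul_eq_mul] at h1
    rw [← h1, ← mul_assoc, inv_mul_cancel₀ hζ, one_mul]
  have hmap := map_conj_spGL P' ζ⁻¹ (inv_ne_zero hζ) hsim
  have e0 : Cfsg.Geo.subfieldSubgroup F₀ P = Cfsg.Geo.subfieldSubgroup F₀ P' := by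
    rw [hP', hG, subfieldSubgroup_mul_rat]
  have e1 : Cfsg.Geo.subfieldSubgroup F₀ P' =
      (Cfsg.Geo.subfieldSubgroup F₀ (1 : GL (Fin m ⊕ Fin m) F)).map
        (MulAut.conj P').toMonoidHom := by
    have hid : (MulAut.conj (1 : GL (Fin m ⊕ Fin m) F)).toMonoidHom =
        MonoidHom.id (GL (Fin m ⊕ Fin m) F) := by
      ext x; simp
    unfold Cfsg.Geo.subfieldSubgroup
    rw [hid, Subgroup.map_id]
  have e2 : Cfsg.Geo.subfieldSubgroup F₀ P ⊓ Cfsg.spGL m F =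
      (KS m F₀).map (MulAut.conj P').toMonoidHom := by
    unfold KS
    rw [Subgroup.map_inf _ _ _ (MulAut.conj P').injective, hmap, ← e1, e0]
  rw [e2]
  exact isMaximalIn_map_equiv (MulAut.conj P') _ _ hmap (KS_isMaximalIn hm F₀ r hr hcard)

end Cfsg.Agent.Lib.Helper42.SpSub
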