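import Mathlib
import Cfsg.Agent.Lib.Helper38.FlagA
import Cfsg.Agent.Lib.Helper38.FlagB
import Cfsg.Agent.Lib.Helper38.FlagE

/-!
# Restriction of flag permutation characters from `GL_n` to `SL_n`

The average number of common fixed points of two parabolic permutation characters is the same
over `SL_n` and over `GL_n`: the stabiliser of a pair of flags contains a conjugate of the
diagonal torus, hence elements of every determinant.
-/

set_option autoImplicit false
open scoped MatrixGroups

namespace Cfsg.Agent.Lib.Helper42.St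

open MulAction Cfsg.Agent.Lib.Helper38.Flag

/-- pulling back an action along a homomorphism with the same orbits keeps the average number
of fixed points -/
theorem avg_fixed_comp {S G X : Type*} [Group S] [Group G] [Fintype S] [Fintype G]
    [MulAction G X] [Finite X] (f : S →* G)
    (h : ∀ (x : X) (g : G), ∃ s : S, f s • x = g • x) :
    (Nat.card S : ℂ)⁻¹ * ∑ s : S, (Nat.card (fixedBy X (f s)) : ℂ) =
      (Nat.card G : ℂ)⁻¹ * ∑ g : G, (Nat.card (fixedBy X g) : ℂ) := by
  classical
  have : Fintype X := Fintype.ofFinite X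
  letI act : MulAction S X := MulAction.compHom X f
  have hfix : ∀ s : S, fixedBy X s = fixedBy X (f s) := by
    intro s
    ext x
    rfl
  have keyS : ∑ s : S, Nat.card (fixedBy X s) =
      Nat.card (Quotient (MulAction.orbitRel S X)) * Nat.card S := by
    have := MulAction.sum_card_fixedBy_eq_card_orbits_mul_card_group S X
    simp only [← Nat.card_eq_fintype_card] at this
    exact this
  have keyG : ∑ g : G, Nat.card (fixedBy X g) =
      Nat.card (Quotient (MulAction.orbitRel G X)) * Nat.card G := by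
    have := MulAction.sum_card_fixedBy_eq_card_orbits_mul_card_group G X
    simp only [← Nat.card_eq_fintype_card] at this
    exact this
  have horb : Nat.card (Quotient (MulAction.orbitRel S X)) =
      Nat.card (Quotient (MulAction.orbitRel G X)) := by
    apply Nat.card_congr
    apply Quotient.congrRight
    intro x y
    change x ∈ MulAction.orbit S y ↔ x ∈ MulAction.orbit G y
    constructor
    · rintro ⟨s, rfl⟩
      exact ⟨f s, rfl⟩
    · rintro ⟨g, rfl⟩
      obtain ⟨s, hs⟩ := h y g
      exact ⟨s, hs⟩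
  have e1 : ∑ s : S, (Nat.card (fixedBy X (f s)) : ℂ) =
      ((∑ s : S, Nat.card (fixedBy X s) : ℕ) : ℂ) := by
    rw [Nat.cast_sum]
    apply Finset.sum_congr rfl
    intro s _
    rw [hfix]
  have e2 : ∑ g : G, (Nat.card (fixedBy X g) : ℂ) =
      ((∑ g : G, Nat.card (fixedBy X g) : ℕ) : ℂ) := by
    rw [Nat.cast_sum]
  rw [e1, e2, keyS, keyG, horb, Nat.cast_mul, Nat.cast_mul]
  have hS : (Nat.card S : ℂ) ≠ 0 := by
    have : Nat.card S ≠ 0 := Nat.card_pos.ne'
    exact_mod_cast this
  have hG : (Nat.card G : ℂ) ≠ 0 := by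
    have : Nat.card G ≠ 0 := Nat.card_pos.ne'
    exact_mod_cast this
  field_simp

variable {F : Type*} [Field F] {n : ℕ}

/-- diagonal matrices as elements of `GL_n` -/
def dg (v : Fin n → Fˣ) : GL (Fin n) F where
  val := Matrix.diagonal fun i => (v i : F)
  inv := Matrix.diagonal fun i => ((v i)⁻¹ : Fˣ)
  val_inv := by
    rw [Matrix.diagonal_mul_diagonal]
    simp
  inv_val := by
    rw [Matrix.diagonal_mul_diagonal]
    simp

theorem dg_val (v : Fin n → Fˣ) :
    ((dg v : GL (Fin n) F) : Matrix (Fin n) (Fin n) F) = Matrix.diagonal fun i => (v i : F) := rfl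

theorem dg_mem (v : Fin n → Fˣ) : dg v ∈ Cfsg.upperTriangularGL n F := by
  change ((dg v : GL (Fin n) F) : Matrix (Fin n) (Fin n) F).BlockTriangular id
  rw [dg_val]
  exact Matrix.blockTriangular_diagonal _

theorem dg_mul_W (v : Fin n → Fˣ) (σ : Equiv.Perm (Fin n)) :
    dg v * (W σ : GL (Fin n) F) = W σ * dg (fun j => v (σ j)) := by
  apply Units.ext
  rw [Units.val_mul, Units.val_mul, W_val, dg_val, dg_val]
  ext i j
  rw [Matrix.diagonal_mul, Matrix.mul_diagonal, Wm_apply]
  by_cases h : i = σ j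
  · rw [if_pos h, h]; ring
  · rw [if_neg h]; ring

theorem W_conj_dg_mem (v : Fin n → Fˣ) (σ : Equiv.Perm (Fin n)) :
    (W σ : GL (Fin n) F)⁻¹ * dg v * W σ ∈ Cfsg.upperTriangularGL n F := by
  rw [mul_assoc, dg_mul_W, ← mul_assoc, inv_mul_cancel, one_mul]
  exact dg_mem _

theorem det_dg (v : Fin n → Fˣ) :
    Matrix.GeneralLinearGroup.det (dg v : GL (Fin n) F) = ∏ i, v i := by
  apply Units.ext
  rw [Matrix.GeneralLinearGroup.val_det_apply, dg_val, Matrix.det_diagonal]
  push_cast
  rfl

/-- the stabiliser of a pair of flags contains elements of every determinant -/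
theorem exists_stab_det (H K : Subgroup (GL (Fin n) F))
    (hH : Cfsg.upperTriangularGL n F ≤ H) (hK : Cfsg.upperTriangularGL n F ≤ K)
    (x : (GL (Fin n) F ⧸ H) × (GL (Fin n) F ⧸ K)) (c : Fˣ) (hn : Nonempty (Fin n)) :
    ∃ t : GL (Fin n) F, t • x = x ∧ Matrix.GeneralLinearGroup.det t = c := by
  classical
  obtain ⟨i₀⟩ := hn
  obtain ⟨xa, xb⟩ := x
  induction xa using QuotientGroup.induction_on with
  | H a =>
  induction xb using QuotientGroup.induction_on with
  | H b =>
  obtain ⟨L, hL, R, hR, σ, hb⟩ := bruhat (a⁻¹ * b)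
  have hb' : b = a * (L * W σ * R) := by rw [← hb]; group
  set v : Fin n → Fˣ := fun i => if i = i₀ then c else 1 with hv
  refine ⟨(a * L) * dg v * (a * L)⁻¹, ?_, ?_⟩
  · rw [Prod.smul_mk]
    apply Prod.ext
    · change (((a * L) * dg v * (a * L)⁻¹ * a : GL (Fin n) F) : GL (Fin n) F ⧸ H) = (a : _ ⧸ H)
      rw [QuotientGroup.eq]
      have : ((a * L) * dg v * (a * L)⁻¹ * a)⁻¹ * a = L * (dg v)⁻¹ * L⁻¹ := by group
      rw [this]
      exact H.mul_mem (H.mul_mem (hH hL) (H.inv_mem (hH (dg_mem v)))) (H.inv_mem (hH hL))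
    · change (((a * L) * dg v * (a * L)⁻¹ * b : GL (Fin n) F) : GL (Fin n) F ⧸ K) = (b : _ ⧸ K)
      rw [QuotientGroup.eq]
      have : ((a * L) * dg v * (a * L)⁻¹ * b)⁻¹ * b =
          R⁻¹ * ((W σ : GL (Fin n) F)⁻¹ * dg v * W σ)⁻¹ * R := by
        rw [hb']; group
      rw [this]
      exact K.mul_mem (K.mul_mem (K.inv_mem (hK hR)) (K.inv_mem (hK (W_conj_dg_mem v σ))))
        (hK hR)
  · rw [map_mul, map_mul, map_inv, mul_comm, ← mul_assoc, inv_mul_cancel, one_mul, det_dg, hv]
    rw [Finset.prod_ite_eq' Finset.univ i₀ (fun _ => c)]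
    simp

/-- `SL_n` and `GL_n` have the same orbits on pairs of cosets of subgroups containing the
upper triangular group -/
theorem exists_sl_smul (H K : Subgroup (GL (Fin n) F))
    (hH : Cfsg.upperTriangularGL n F ≤ H) (hK : Cfsg.upperTriangularGL n F ≤ K)
    (x : (GL (Fin n) F ⧸ H) × (GL (Fin n) F ⧸ K)) (g : GL (Fin n) F) :
    ∃ s : Matrix.SpecialLinearGroup (Fin n) F,
      (Matrix.SpecialLinearGroup.toGL s : GL (Fin n) F) • x = g • x := by
  rcases isEmpty_or_nonempty (Fin n) with hn | hn
  · refine ⟨1, ?_⟩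
    have : g = 1 := by
      apply Units.ext
      exact Subsingleton.elim _ _
    rw [this, map_one]
  · obtain ⟨t, ht, hdet⟩ := exists_stab_det H K hH hK x (Matrix.GeneralLinearGroup.det g)⁻¹ hn
    have hd : ((g * t : GL (Fin n) F) : Matrix (Fin n) (Fin n) F).det = 1 := by
      have h1 : Matrix.GeneralLinearGroup.det (g * t) = 1 := by
        rw [map_mul, hdet, mul_inv_cancel]
      have h2 := congrArg (fun u : Fˣ => (u : F)) h1
      simpa [Matrix.GeneralLinearGroup.val_det_apply] using h2
    refine ⟨⟨((g * t : GL (Fin n) F) : Matrix (Fin n) (Fin n) F), hd⟩, ?_⟩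
    have : (Matrix.SpecialLinearGroup.toGL
        (⟨((g * t : GL (Fin n) F) : Matrix (Fin n) (Fin n) F), hd⟩ :
          Matrix.SpecialLinearGroup (Fin n) F) : GL (Fin n) F) = g * t := by
      apply Units.ext
      rfl
    rw [this, mul_smul, ht]

/-- the inner product of two parabolic permutation characters restricted to `SL_n` -/
theorem inner_SL_eq [Fintype F] [DecidableEq F] (H K : Subgroup (GL (Fin n) F))
    (hH : Cfsg.upperTriangularGL n F ≤ H) (hK : Cfsg.upperTriangularGL n F ≤ K) :
    (Nat.card (Matrix.SpecialLinearGroup (Fin n) F) : ℂ)⁻¹ *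
        ∑ s : Matrix.SpecialLinearGroup (Fin n) F,
          Cfsg.fixedPointCharacter H (Matrix.SpecialLinearGroup.toGL s) *
            Cfsg.fixedPointCharacter K (Matrix.SpecialLinearGroup.toGL s) =
      (Nat.card (GL (Fin n) F) : ℂ)⁻¹ *
        ∑ g : GL (Fin n) F, Cfsg.fixedPointCharacter H g * Cfsg.fixedPointCharacter K g := by
  have h := avg_fixed_comp (X := (GL (Fin n) F ⧸ H) × (GL (Fin n) F ⧸ K))
    (Matrix.SpecialLinearGroup.toGL : Matrix.SpecialLinearGroup (Fin n) F →* GL (Fin n) F)
    (exists_sl_smul H K hH hK)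
  have e : ∀ g : GL (Fin n) F,
      Cfsg.fixedPointCharacter H g * Cfsg.fixedPointCharacter K g =
        (Nat.card (fixedBy ((GL (Fin n) F ⧸ H) × (GL (Fin n) F ⧸ K)) g) : ℂ) := by
    intro g
    rw [card_fixedBy_prod, Nat.cast_mul]
    rfl
  simp only [e]
  exact h

end Cfsg.Agent.Lib.Helper42.St
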