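import Mathlib
import Cfsg.Agent.Lib.Helper42.StA
import Cfsg.Agent.Lib.Helper38.FlagL
import Cfsg.Agent.Lib.Helper79.Basic
import Cfsg.Agent.Lib.Helper3.CharOps

/-!
# The Steinberg character of `SL_n(q)` and of `PSL_n(q)`

The Steinberg character of `GL_n(q)` (helper38) restricts irreducibly to `SL_n(q)`, is trivial
on the centre and so descends to `PSL_n(q)`.
-/

set_option autoImplicit false
open scoped MatrixGroups

namespace Cfsg.Agent.Lib.Helper42.St

open Cfsg Cfsg.Agent.Lib.Helper38.Flag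
open scoped ComplexConjugate

variable {F : Type*} [Field F] [Fintype F] [DecidableEq F] {n : ℕ}

/-- the restriction of the unipotent character to `SL_n` -/
noncomputable def resSL (n : ℕ) (F : Type*) [Field F] (ν : Fin n → ℕ) :
    Matrix.SpecialLinearGroup (Fin n) F → ℂ :=
  fun s => Cfsg.unipotentCharacterGL n F ν (Matrix.SpecialLinearGroup.toGL s)

theorem resSL_apply (ν : Fin n → ℕ) (s : Matrix.SpecialLinearGroup (Fin n) F) :
    resSL n F ν s = Cfsg.unipotentCharacterGL n F ν (Matrix.SpecialLinearGroup.toGL s) := rfl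

theorem isCharacter_resSL (ν : Fin n → ℕ) (hmono : Monotone ν) (hν : ∑ i, ν i = n) :
    IsCharacter (Matrix.SpecialLinearGroup (Fin n) F) (resSL n F ν) := by
  obtain ⟨m, ρ, _, hρ⟩ := isIrr_unipotent (F := F) ν hmono hν
  exact Cfsg.Agent.Lib.Helper79.isCharacter_comp ⟨m, ρ, hρ⟩ Matrix.SpecialLinearGroup.toGL

/-- the term of the alternating sum -/
noncomputable def trm (ν : Fin n → ℕ) (κ : Equiv.Perm (Fin n)) : GL (Fin n) F → ℂ :=
  fun g => if ∀ i : Fin n, (κ i).val ≤ ν i + i.val then
      ((Equiv.Perm.sign κ : ℤ) : ℂ) *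
        Cfsg.fixedPointCharacter (Cfsg.parabolicGL n F (compOf ν κ)) g
    else 0

theorem unipotent_eq_sum_trm (ν : Fin n → ℕ) (g : GL (Fin n) F) :
    Cfsg.unipotentCharacterGL n F ν g = ∑ κ : Equiv.Perm (Fin n), trm ν κ g := rfl

theorem trm_inner (ν : Fin n → ℕ) (κ κ' : Equiv.Perm (Fin n)) :
    (Nat.card (Matrix.SpecialLinearGroup (Fin n) F) : ℂ)⁻¹ *
        ∑ s : Matrix.SpecialLinearGroup (Fin n) F,
          trm ν κ (Matrix.SpecialLinearGroup.toGL s) * trm ν κ' (Matrix.SpecialLinearGroup.toGL s) =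
      (Nat.card (GL (Fin n) F) : ℂ)⁻¹ * ∑ g : GL (Fin n) F, trm ν κ g * trm ν κ' g := by
  unfold trm
  by_cases h1 : ∀ i : Fin n, (κ i).val ≤ ν i + i.val
  · by_cases h2 : ∀ i : Fin n, (κ' i).val ≤ ν i + i.val
    · simp only [if_pos h1, if_pos h2]
      have hS : ∀ (α : Type _) [Fintype α] (a b : ℂ) (f g : α → ℂ),
          ∑ x, a * f x * (b * g x) = a * b * ∑ x, f x * g x := by
        intro α _ a b f g
        rw [Finset.mul_sum]
        apply Finset.sum_congr rfl
        intro x _
        ring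
      rw [hS, hS, mul_left_comm, mul_left_comm ((Nat.card (GL (Fin n) F) : ℂ)⁻¹)]
      congr 1
      exact inner_SL_eq _ _ (upper_le_parabolic _) (upper_le_parabolic _)
    · simp only [if_neg h2, mul_zero, Finset.sum_const_zero]
  · simp only [if_neg h1, zero_mul, mul_zero, Finset.sum_const_zero]

theorem classInner_resSL (ν : Fin n → ℕ) (hmono : Monotone ν) (hν : ∑ i, ν i = n) :
    classInner (resSL n F ν) (resSL n F ν) = 1 := by
  rw [← classInner_unipotent (F := F) ν hmono hν]
  unfold classInner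
  have e1 : ∀ s : Matrix.SpecialLinearGroup (Fin n) F,
      resSL n F ν s * conj (resSL n F ν s) =
        (∑ κ : Equiv.Perm (Fin n), trm ν κ (Matrix.SpecialLinearGroup.toGL s)) *
          (∑ κ : Equiv.Perm (Fin n), trm ν κ (Matrix.SpecialLinearGroup.toGL s)) := by
    intro s
    rw [resSL_apply, conj_unipotent, unipotent_eq_sum_trm]
  have e2 : ∀ g : GL (Fin n) F,
      Cfsg.unipotentCharacterGL n F ν g * conj (Cfsg.unipotentCharacterGL n F ν g) =
        (∑ κ : Equiv.Perm (Fin n), trm ν κ g) * (∑ κ : Equiv.Perm (Fin n), trm ν κ g) := by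
    intro g
    rw [conj_unipotent, unipotent_eq_sum_trm]
  simp only [e1, e2]
  rw [ip_sum_sum _ (fun κ s => trm ν κ (Matrix.SpecialLinearGroup.toGL s))
    (fun κ s => trm ν κ (Matrix.SpecialLinearGroup.toGL s)), ip_sum_sum]
  apply Finset.sum_congr rfl
  intro κ' _
  apply Finset.sum_congr rfl
  intro κ _
  exact trm_inner ν κ κ'

theorem isIrr_resSL (ν : Fin n → ℕ) (hmono : Monotone ν) (hν : ∑ i, ν i = n) :
    IsIrrCharacter (Matrix.SpecialLinearGroup (Fin n) F) (resSL n F ν) :=
  Cfsg.Agent.Lib.Helper3.isIrrCharacter_of_classInner_self_eq_one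
    (isCharacter_resSL ν hmono hν) (classInner_resSL ν hmono hν)

/-- a central element of `GL_n` lying in `H` fixes every coset of `H` -/
theorem fpc_central {G : Type*} [Group G] (H : Subgroup G) {z : G} (hz : z ∈ Subgroup.center G)
    (hzH : z ∈ H) : Cfsg.fixedPointCharacter H z = Cfsg.fixedPointCharacter H 1 := by
  unfold Cfsg.fixedPointCharacter
  have hset : MulAction.fixedBy (G ⧸ H) z = MulAction.fixedBy (G ⧸ H) (1 : G) := by
    ext x
    simp only [MulAction.mem_fixedBy, one_smul, iff_true]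
    induction x using QuotientGroup.induction_on with
    | H a =>
      change ((z * a : G) : G ⧸ H) = (a : G ⧸ H)
      rw [QuotientGroup.eq]
      have h1 : z * a = a * z := (Subgroup.mem_center_iff.mp hz a).symm
      rw [h1]
      have : (a * z)⁻¹ * a = z⁻¹ := by group
      rw [this]
      exact H.inv_mem hzH
  rw [hset]

/-- scalar matrices in `SL_n` map to central upper triangular elements of `GL_n` -/
theorem toGL_center_mem {s : Matrix.SpecialLinearGroup (Fin n) F}
    (hs : s ∈ Subgroup.center (Matrix.SpecialLinearGroup (Fin n) F)) :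
    (Matrix.SpecialLinearGroup.toGL s : GL (Fin n) F) ∈ Subgroup.center (GL (Fin n) F) ∧
      (Matrix.SpecialLinearGroup.toGL s : GL (Fin n) F) ∈ Cfsg.upperTriangularGL n F := by
  obtain ⟨r, _, hr⟩ := Matrix.SpecialLinearGroup.mem_center_iff.mp hs
  have hval : ((Matrix.SpecialLinearGroup.toGL s : GL (Fin n) F) : Matrix (Fin n) (Fin n) F) =
      Matrix.scalar (Fin n) r := by
    rw [hr]; rfl
  constructor
  · rw [Subgroup.mem_center_iff]
    intro g
    apply Units.ext
    rw [Units.val_mul, Units.val_mul, hval]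
    exact (Matrix.scalar_commute r (fun _ => Commute.all _ _) _).symm
  · change ((Matrix.SpecialLinearGroup.toGL s : GL (Fin n) F) :
      Matrix (Fin n) (Fin n) F).BlockTriangular id
    rw [hval]
    exact Matrix.blockTriangular_diagonal _

theorem resSL_center (ν : Fin n → ℕ) {s : Matrix.SpecialLinearGroup (Fin n) F}
    (hs : s ∈ Subgroup.center (Matrix.SpecialLinearGroup (Fin n) F)) :
    resSL n F ν s = resSL n F ν 1 := by
  obtain ⟨h1, h2⟩ := toGL_center_mem hs
  rw [resSL_apply, resSL_apply, map_one, unipotent_apply, unipotent_apply]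
  apply Finset.sum_congr rfl
  intro κ _
  split_ifs
  · rw [fpc_central _ h1 (upper_le_parabolic _ h2)]
  · rfl

/-- the Steinberg-type character of `PSL_n` attached to a partition -/
theorem exists_psl_char (ν : Fin n → ℕ) (hmono : Monotone ν) (hν : ∑ i, ν i = n) :
    ∃ ψ : Matrix.ProjectiveSpecialLinearGroup (Fin n) F → ℂ,
      IsIrrCharacter (Matrix.ProjectiveSpecialLinearGroup (Fin n) F) ψ ∧
        ψ 1 = Cfsg.unipotentCharacterGL n F ν 1 := by
  obtain ⟨ψ, hψ, hval⟩ := Cfsg.Agent.Lib.Helper79.isIrrCharacter_deflate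
    (isIrr_resSL (F := F) ν hmono hν)
    (Subgroup.center (Matrix.SpecialLinearGroup (Fin n) F))
    (fun x hx => resSL_center ν hx)
  refine ⟨ψ, hψ, ?_⟩
  have := hval 1
  rw [resSL_apply, map_one] at this
  exact this

end Cfsg.Agent.Lib.Helper42.St
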