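import Mathlib
import Cfsg.Agent.Lib.Helper38.FlagL
import Cfsg.Agent.Lib.Helper3.OddOrder
import Cfsg.Agent.S2424

/-!
# The degree of the Steinberg character of `GL_n(q)` is `q ^ (0 + 1 + ⋯ + (n-1))`
-/

set_option autoImplicit false
open scoped MatrixGroups

namespace Cfsg.Agent.Lib.Helper42.St

open Cfsg Finset Cfsg.Agent.S2424

/-- swapping a triangular double product -/
theorem prod_tri_swap {M : Type*} [CommMonoid M] {n : ℕ} (f : Fin n → Fin n → M) :
    ∏ i : Fin n, ∏ j ∈ univ.filter (fun j : Fin n => i < j), f i j =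
      ∏ j : Fin n, ∏ i ∈ univ.filter (fun i : Fin n => i < j), f i j := by
  simp only [Finset.prod_filter]
  exact Finset.prod_comm

/-- a product over the elements of `Fin n` below `j` -/
theorem prod_fin_lt {M : Type*} [CommMonoid M] {n : ℕ} (j : Fin n) (g : ℕ → M) :
    ∏ i ∈ univ.filter (fun i : Fin n => i < j), g i.val = ∏ k ∈ range j.val, g k := by
  rw [Finset.prod_filter]
  have h1 : ∀ i : Fin n, (if i < j then g i.val else 1) =
      (fun k : ℕ => if k < j.val then g k else 1) i.val := by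
    intro i
    simp only [Fin.lt_def]
  simp only [h1]
  rw [Fin.prod_univ_eq_prod_range (fun k : ℕ => if k < j.val then g k else 1) n,
    ← Finset.prod_filter]
  congr 1
  ext k
  simp only [mem_filter, mem_range]
  have := j.isLt
  omega

theorem Qf_zero (q : ℕ) : Qf q 0 = 1 := by
  unfold Qf
  simp

theorem Qf_pos {q : ℕ} (r : ℕ) : 0 < Qf q r := by
  unfold Qf
  apply Finset.prod_pos
  intro j _
  unfold Qn
  rw [Finset.sum_range_succ']
  simp

/-- the inner product for fixed `j` -/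
theorem inner_prod (q j : ℕ) :
    ∏ k ∈ range j, (q ^ (1 + k) * Qn q (j - k)) = q ^ (∑ k ∈ range j, (1 + k)) * Qf q j := by
  rw [Finset.prod_mul_distrib, Finset.prod_pow_eq_pow_sum]
  congr 1
  have := falling_mul q j j le_rfl
  rw [Nat.sub_self, Qf_zero, mul_one] at this
  exact this

theorem shift_prod (q n : ℕ) :
    ∏ i ∈ range n, Qf q (1 + i) = Qf q n * ∏ i ∈ range n, Qf q i := by
  have h1 := Finset.prod_range_succ' (fun i => Qf q i) n
  have h2 := Finset.prod_range_succ (fun i => Qf q i) n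
  rw [h2, Qf_zero, mul_one] at h1
  have h3 : ∏ i ∈ range n, Qf q (1 + i) = ∏ k ∈ range n, Qf q (k + 1) := by
    apply Finset.prod_congr rfl
    intro i _
    rw [add_comm]
  rw [h3, ← h1, mul_comm]

theorem expo_eq (n : ℕ) :
    ∑ j ∈ range n, ∑ k ∈ range j, (1 + k) =
      n * (n - 1) * (n - 2) / 6 + ∑ i ∈ range n, i := by
  have h6 := six_mul_sum n
  have h1 : n * (n - 1) * (n - 2) / 6 = ∑ j ∈ range n, ∑ t ∈ range j, t := by
    rw [← h6, Nat.mul_div_cancel_left _ (by norm_num : 0 < 6)]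
  rw [h1, ← Finset.sum_add_distrib]
  apply Finset.sum_congr rfl
  intro j _
  rw [Finset.sum_add_distrib, Finset.sum_const, Finset.card_range, smul_eq_mul, mul_one, add_comm]

variable {F : Type*} [Field F] [Fintype F] [DecidableEq F] {n : ℕ}

/-- the degree of the Steinberg character -/
theorem steinberg_degree {q : ℕ} (hq : Fintype.card F = q) :
    Cfsg.unipotentCharacterGL n F (fun _ => 1) 1 = ((q ^ (∑ i ∈ range n, i) : ℕ) : ℂ) := by
  have hq0 : 0 < q := by rw [← hq]; exact Fintype.card_pos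
  have hirr := Cfsg.Agent.Lib.Helper38.Flag.isIrr_unipotent (F := F) (n := n) (fun _ => 1)
    monotone_const (by simp)
  obtain ⟨d, hd, -, -⟩ := Cfsg.Agent.Lib.Helper3.IsIrrCharacter.apply_one_dvd_card hirr
  have h := Cfsg.Agent.S2424.result hq (n := n) (fun _ => 1) monotone_const (by simp)
  beta_reduce at h
  rw [hd] at h ⊢
  -- left product
  have hL : ∏ i : Fin n, ∏ j ∈ range (1 + i.val), ((∑ l ∈ range (j + 1), q ^ l : ℕ) : ℂ) =
      ((Qf q n * ∏ i ∈ range n, Qf q i : ℕ) : ℂ) := by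
    rw [← shift_prod, ← Fin.prod_univ_eq_prod_range (fun i => Qf q (1 + i)) n]
    push_cast
    apply Finset.prod_congr rfl
    intro i _
    unfold Qf Qn
    push_cast
    rfl
  have hR1 : ∏ j ∈ range n, ((∑ l ∈ range (j + 1), q ^ l : ℕ) : ℂ) = ((Qf q n : ℕ) : ℂ) := by
    unfold Qf Qn
    push_cast
    rfl
  have hR2 : ∏ i : Fin n, ∏ j ∈ univ.filter (fun j : Fin n => i < j),
      (((∑ l ∈ range (1 + j.val), q ^ l : ℕ) : ℂ) - ((∑ l ∈ range (1 + i.val), q ^ l : ℕ) : ℂ)) =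
      ((q ^ (∑ j ∈ range n, ∑ k ∈ range j, (1 + k)) * ∏ j ∈ range n, Qf q j : ℕ) : ℂ) := by
    have e1 : ∀ i : Fin n, ∀ j ∈ univ.filter (fun j : Fin n => i < j),
        (((∑ l ∈ range (1 + j.val), q ^ l : ℕ) : ℂ) - ((∑ l ∈ range (1 + i.val), q ^ l : ℕ) : ℂ)) =
          ((q ^ (1 + i.val) * Qn q (j.val - i.val) : ℕ) : ℂ) := by
      intro i j hj
      have hij : i.val < j.val := by
        have := (Finset.mem_filter.mp hj).2
        exact Fin.lt_def.mp this
      have h2 := Qn_add q (1 + i.val) (j.val - i.val)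
      have h3 : 1 + i.val + (j.val - i.val) = 1 + j.val := by omega
      rw [h3] at h2
      change ((Qn q (1 + j.val) : ℕ) : ℂ) - ((Qn q (1 + i.val) : ℕ) : ℂ) = _
      rw [h2]
      push_cast
      ring
    rw [Finset.prod_congr rfl (fun i _ => Finset.prod_congr rfl (e1 i))]
    rw [prod_tri_swap (fun i j : Fin n => ((q ^ (1 + i.val) * Qn q (j.val - i.val) : ℕ) : ℂ))]
    have e2 : ∀ j : Fin n, ∏ i ∈ univ.filter (fun i : Fin n => i < j),
        ((q ^ (1 + i.val) * Qn q (j.val - i.val) : ℕ) : ℂ) =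
          ((q ^ (∑ k ∈ range j.val, (1 + k)) * Qf q j.val : ℕ) : ℂ) := by
      intro j
      rw [prod_fin_lt j (fun k => ((q ^ (1 + k) * Qn q (j.val - k) : ℕ) : ℂ)), ← inner_prod]
      push_cast
      rfl
    rw [Finset.prod_congr rfl (fun j _ => e2 j)]
    rw [Fin.prod_univ_eq_prod_range
      (fun j => ((q ^ (∑ k ∈ range j, (1 + k)) * Qf q j : ℕ) : ℂ)) n]
    rw [← Nat.cast_prod, Finset.prod_mul_distrib, Finset.prod_pow_eq_pow_sum]
  rw [hL, hR1, hR2] at h
  have hN : d * q ^ (n * (n - 1) * (n - 2) / 6) * (Qf q n * ∏ i ∈ range n, Qf q i) =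
      Qf q n * (q ^ (∑ j ∈ range n, ∑ k ∈ range j, (1 + k)) * ∏ j ∈ range n, Qf q j) := by
    exact_mod_cast h
  have hpos : 0 < Qf q n * ∏ i ∈ range n, Qf q i :=
    Nat.mul_pos (Qf_pos n) (Finset.prod_pos fun i _ => Qf_pos i)
  have h5 : d * q ^ (n * (n - 1) * (n - 2) / 6) * (Qf q n * ∏ i ∈ range n, Qf q i) =
      q ^ (∑ j ∈ range n, ∑ k ∈ range j, (1 + k)) * (Qf q n * ∏ i ∈ range n, Qf q i) := by
    rw [hN]; ring
  have h6 := Nat.eq_of_mul_eq_mul_right hpos h5
  rw [expo_eq, pow_add, mul_comm] at h6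
  have h7 := Nat.eq_of_mul_eq_mul_left (Nat.pow_pos hq0) h6
  rw [h7]

end Cfsg.Agent.Lib.Helper42.St
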