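import Mathlib
import Cfsg.Agent.Lib.Helper42.StB
import Cfsg.Agent.Lib.Helper42.StC
import Cfsg.Agent.Lib.Helper38.SLCard
import Cfsg.Agent.Lib.Helper74.Osima5
import Cfsg.Agent.Lib.Helper3.FTBRep
import Cfsg.Agent.S2420

/-!
# The `p`-part of `|PSL_n(q)|` and the Steinberg character of `PSL_n(q)`
-/

set_option autoImplicit false
open scoped MatrixGroups

namespace Cfsg.Agent.Lib.Helper42.St

open Cfsg Finset

theorem not_dvd_Phi {p q : ℕ} (hp : p.Prime) (hpq : p ∣ q) (k : ℕ) :
    ¬ p ∣ Cfsg.Agent.S2420.Phi q k := by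
  unfold Cfsg.Agent.S2420.Phi
  rw [Prime.dvd_finsetProd_iff hp.prime]
  rintro ⟨j, _, hj⟩
  rw [Finset.sum_range_succ'] at hj
  have h1 : p ∣ ∑ l ∈ range j, q ^ (l + 1) := by
    apply Finset.dvd_sum
    intro l _
    exact dvd_trans hpq (dvd_pow_self q (Nat.succ_ne_zero l))
  rw [pow_zero] at hj
  have := (Nat.dvd_add_right h1).mp hj
  exact hp.one_lt.ne' (Nat.dvd_one.mp this)

variable {F : Type*} [Field F] [Fintype F]

theorem card_GL_split (n : ℕ) :
    Nat.card (GL (Fin n) F) = Fintype.card F ^ (∑ i ∈ range n, i) *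
      ((Fintype.card F - 1) ^ n * Cfsg.Agent.S2420.Phi (Fintype.card F) n) := by
  rw [Matrix.card_GL_field]
  have hq : Fintype.card F = (Fintype.card F - 1) + 1 := by
    have : 0 < Fintype.card F := Fintype.card_pos
    omega
  have := Cfsg.Agent.S2420.glcard_eq (Fintype.card F - 1) n
  rw [← hq, Fin.sum_univ_eq_sum_range (fun i => i) n] at this
  exact this

/-- the order of `PSL_n(q)` is `q ^ (0 + ⋯ + (n-1))` times a number prime to `p` -/
theorem card_PSL_split (p : ℕ) [Fact p.Prime] [CharP F p] (n : ℕ) (hn : 1 ≤ n)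
    (hdvd : Fintype.card F ^ (∑ i ∈ range n, i) ∣
      Nat.card (Matrix.ProjectiveSpecialLinearGroup (Fin n) F)) :
    ∃ k : ℕ, Nat.card (Matrix.ProjectiveSpecialLinearGroup (Fin n) F) =
      Fintype.card F ^ (∑ i ∈ range n, i) * k ∧ ¬ p ∣ k := by
  classical
  have hp : p.Prime := Fact.out
  obtain ⟨k, hk⟩ := hdvd
  refine ⟨k, hk, ?_⟩
  have hpq : p ∣ Fintype.card F := by
    obtain ⟨f, _, hf⟩ := FiniteField.card F p
    rw [hf]
    exact dvd_pow_self p f.ne_zero
  have h1 := Cfsg.Agent.Lib.Helper38.card_SL_mul (F := F) n hn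
  have h2 := Subgroup.card_eq_card_quotient_mul_card_subgroup
    (Subgroup.center (Matrix.SpecialLinearGroup (Fin n) F))
  have h3 := card_GL_split (F := F) n
  have hq0 : 0 < Fintype.card F ^ (∑ i ∈ range n, i) := Nat.pow_pos Fintype.card_pos
  -- `k` divides the `p'`-part
  have h4 : Fintype.card F ^ (∑ i ∈ range n, i) *
      (k * (Nat.card (Subgroup.center (Matrix.SpecialLinearGroup (Fin n) F)) *
        (Fintype.card F - 1))) =
      Fintype.card F ^ (∑ i ∈ range n, i) *
        ((Fintype.card F - 1) ^ n * Cfsg.Agent.S2420.Phi (Fintype.card F) n) := by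
    have hk' : Nat.card (Matrix.SpecialLinearGroup (Fin n) F ⧸
        Subgroup.center (Matrix.SpecialLinearGroup (Fin n) F)) =
        Fintype.card F ^ (∑ i ∈ range n, i) * k := hk
    rw [← h3, ← h1, h2, hk']
    ring
  have h5 := Nat.eq_of_mul_eq_mul_left hq0 h4
  intro hpk
  have h6 : p ∣ (Fintype.card F - 1) ^ n * Cfsg.Agent.S2420.Phi (Fintype.card F) n := by
    rw [← h5]
    exact dvd_mul_of_dvd_left hpk _
  rcases (Nat.Prime.dvd_mul hp).mp h6 with h7 | h7
  · have h8 := hp.dvd_of_dvd_pow h7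
    have hq1 : 0 < Fintype.card F := Fintype.card_pos
    have h9 : p ∣ Fintype.card F - (Fintype.card F - 1) := Nat.dvd_sub hpq h8
    have h10 : Fintype.card F - (Fintype.card F - 1) = 1 := by omega
    rw [h10] at h9
    exact hp.one_lt.ne' (Nat.dvd_one.mp h9)
  · exact not_dvd_Phi hp hpq n h7

/-- the order of a Sylow `p`-subgroup -/
theorem card_sylow_of_split {G : Type*} [Group G] [Finite G] (p : ℕ) [Fact p.Prime]
    {f M k : ℕ} (hk : Nat.card G = (p ^ f) ^ M * k) (hpk : ¬ p ∣ k) (P : Sylow p G) :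
    Nat.card P = (p ^ f) ^ M := by
  have hp : p.Prime := Fact.out
  rw [Sylow.card_eq_multiplicity, hk]
  have hk0 : k ≠ 0 := by
    rintro rfl
    rw [mul_zero] at hk
    exact Nat.card_pos.ne' hk
  have h1 : ((p ^ f) ^ M) ≠ 0 := pow_ne_zero _ (pow_ne_zero _ hp.ne_zero)
  rw [Nat.factorization_mul h1 hk0, Finsupp.add_apply,
    Nat.factorization_eq_zero_of_not_dvd hpk, add_zero, ← pow_mul,
    hp.factorization_pow, Finsupp.single_eq_same]

end Cfsg.Agent.Lib.Helper42.St
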