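import Cfsg.Agent.Lib.Helper42.St_SW4

/-! ST-SC3 (leaf of helper6's Steinberg hive): double cosets of parabolic subgroups of `W` are
counted by the two-sided reduced elements. -/

set_option autoImplicit false

namespace Cfsg.Agent.Lib.Helper6.St

open Cfsg Cfsg.Agent.Lib.Helper6 Cfsg.Agent.Lib.Helper6.Exch

section W
variable {W : Type*} [Group W] {ι : Type*} {σ : ι → W}

/-- SC3: the double cosets of parabolic subgroups are counted by the reduced elements -/
theorem card_doubleCoset_WJ [Finite W] (h : ExSys σ) (J K : Set ι) :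
    Nat.card (DoubleCoset.Quotient (WJ σ J : Set W) (WJ σ K : Set W)) =
      Nat.card {d : W // LRed σ J d ∧ RRed σ K d} := by
  symm
  apply Nat.card_congr
  refine Equiv.ofBijective (fun d => DoubleCoset.mk (WJ σ J) (WJ σ K) d.1) ⟨?_, ?_⟩
  · rintro ⟨d, hd1, hd2⟩ ⟨d', hd1', hd2'⟩ heq
    have heq' : DoubleCoset.mk (WJ σ J) (WJ σ K) d = DoubleCoset.mk (WJ σ J) (WJ σ K) d' := heq
    rw [DoubleCoset.eq] at heq'
    obtain ⟨u, hu, v, hv, he⟩ := heq'
    exact Subtype.ext (lrred_unique h J K hd1 hd2 hd1' hd2' hu hv he).symm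
  · intro q
    obtain ⟨w, rfl⟩ : ∃ w, DoubleCoset.mk (WJ σ J) (WJ σ K) w = q :=
      ⟨q.out, DoubleCoset.out_eq' _ _ q⟩
    obtain ⟨d, u, v, hd1, hd2, hu, hv, hw⟩ := exists_lrred h J K w
    refine ⟨⟨d, hd1, hd2⟩, ?_⟩
    show DoubleCoset.mk (WJ σ J) (WJ σ K) d = DoubleCoset.mk (WJ σ J) (WJ σ K) w
    rw [DoubleCoset.eq]
    exact ⟨u, hu, v, hv, hw⟩

end W

end Cfsg.Agent.Lib.Helper6.St
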