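import Cfsg.Agent.Lib.Helper80.St_SW2
import Cfsg.Agent.Lib.Helper31.St_SW3

/-! ST-SW4 (leaf of helper6's Steinberg hive): two-sided parabolic reduced elements.
`lrred_unique` is proved through Deodhar's lemma `sw4_deodhar`. -/

set_option autoImplicit false

namespace Cfsg.Agent.Lib.Helper6.St

open Cfsg Cfsg.Agent.Lib.Helper6 Cfsg.Agent.Lib.Helper6.Exch

section W
variable {W : Type*} [Group W] {ι : Type*} {σ : ι → W}

lemma sw4_inv_gen (h : ExSys σ) (i : ι) : (σ i)⁻¹ = σ i :=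
  inv_eq_of_mul_eq_one_right (h.sq i)

lemma sw4_gen_mem (J : Set ι) {j : ι} (hj : j ∈ J) : σ j ∈ WJ σ J :=
  Subgroup.subset_closure ⟨j, hj, rfl⟩

/-- left reduced = inverse is right reduced -/
lemma sw4_lred_iff (h : ExSys σ) (J : Set ι) (d : W) : LRed σ J d ↔ RRed σ J d⁻¹ := by
  unfold LRed RRed
  refine forall₂_congr (fun j _ => ?_)
  rw [ell_inv h d, ← ell_inv h (d⁻¹ * σ j), mul_inv_rev, inv_inv, sw4_inv_gen h]

/-- left additivity -/
lemma sw4_lred_add (h : ExSys σ) (J : Set ι) {d v : W} (hd : LRed σ J d) (hv : v ∈ WJ σ J) :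
    ell σ (v * d) = ell σ v + ell σ d := by
  have := rred_add h J ((sw4_lred_iff h J d).mp hd) (inv_mem hv)
  rw [← mul_inv_rev, ell_inv h, ell_inv h, ell_inv h] at this
  omega

/-- Deodhar's lemma: for `d` right `K`-reduced and a generator `s`, either `s d` is right
`K`-reduced or `s d = d σ_k` with `k ∈ K`. -/
lemma sw4_deodhar (h : ExSys σ) (K : Set ι) {d : W} (hd : RRed σ K d) (i : ι) :
    RRed σ K (σ i * d) ∨ ∃ k ∈ K, σ i * d = d * σ k := by
  by_contra hcon
  push Not at hcon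
  obtain ⟨hnr, hne⟩ := hcon
  unfold RRed at hnr
  push Not at hnr
  obtain ⟨k, hk, hle⟩ := hnr
  have h1 : ell σ (σ i * d * σ k) + 1 = ell σ (σ i * d) := by
    rcases ell_mul_gen h (σ i * d) k with h' | h'
    · omega
    · exact h'
  have h2 : ell σ d < ell σ (d * σ k) := hd k hk
  have h2' : ell σ (d * σ k) = ell σ d + 1 := by
    rcases ell_mul_gen h d k with h' | h'
    · exact h'
    · omega
  have h3 := ell_gen_mul h i (d * σ k)
  have h4 := ell_gen_mul h i d
  rw [← mul_assoc] at h3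
  have h5 : ell σ (σ i * d * σ k) = ell σ d := by omega
  have h6 : ell σ (σ i * d) = ell σ d + 1 := by omega
  obtain ⟨L, hLred, hLw, hLlen⟩ := exists_isRed_eq h d
  have hL' : IsRed σ (L ++ [k]) := by
    rw [isRed_iff_ell, wp_append, wp_singleton, hLw, h2', List.length_append, hLlen]
    rfl
  have hlt : ell σ (σ i * wp σ (L ++ [k])) < ell σ (wp σ (L ++ [k])) := by
    rw [wp_append, wp_singleton, hLw, ← mul_assoc, h5, h2']
    omega
  obtain ⟨j, hj, hjw⟩ := exchange_left h hL' hlt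
  rw [List.length_append, List.length_singleton] at hj
  rw [wp_append, wp_singleton, hLw, ← mul_assoc] at hjw
  by_cases hjL : j < L.length
  · rw [List.eraseIdx_append_of_lt_length hjL, wp_append, wp_singleton] at hjw
    have hsd : σ i * d = wp σ (L.eraseIdx j) := mul_right_cancel hjw
    have hlen := ell_wp_le σ (L.eraseIdx j)
    rw [← hsd, List.length_eraseIdx_of_lt hjL] at hlen
    omega
  · have hjeq : j = L.length := by omega
    subst hjeq
    rw [List.eraseIdx_append_of_length_le (le_refl _), Nat.sub_self] at hjw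
    simp only [List.eraseIdx_cons_zero, List.append_nil] at hjw
    rw [hLw] at hjw
    apply hne k hk
    calc σ i * d = σ i * d * σ k * σ k := by rw [mul_assoc (σ i * d), h.sq, mul_one]
      _ = d * σ k := by rw [hjw]

/-- rewriting `u d` (with `u ∈ W_J`, `d` right `K`-reduced) as `u'' d v'` with `u'' d` right
`K`-reduced. -/
lemma sw4_claim (h : ExSys σ) (J K : Set ι) {d : W} (hd : RRed σ K d) (L : List ι)
    (hL : ∀ x ∈ L, x ∈ J) :
    ∃ u'' v', u'' ∈ WJ σ J ∧ v' ∈ WJ σ K ∧ wp σ L * d = u'' * d * v' ∧ RRed σ K (u'' * d) := by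
  induction L with
  | nil => exact ⟨1, 1, one_mem _, one_mem _, by simp, by simpa using hd⟩
  | cons j L ih =>
    obtain ⟨u1, v1, hu1, hv1, heq, hred⟩ := ih (fun x hx => hL x (List.mem_cons_of_mem _ hx))
    have hj : j ∈ J := hL j List.mem_cons_self
    rcases sw4_deodhar h K hred j with h1 | ⟨k, hk, h1⟩
    · refine ⟨σ j * u1, v1, mul_mem (sw4_gen_mem J hj) hu1, hv1, ?_, ?_⟩
      · rw [wp_cons, mul_assoc, heq]
        group
      · rwa [mul_assoc]
    · refine ⟨u1, σ k * v1, hu1, mul_mem (sw4_gen_mem K hk) hv1, ?_, hred⟩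
      rw [wp_cons, mul_assoc, heq]
      calc σ j * (u1 * d * v1) = σ j * (u1 * d) * v1 := by group
        _ = u1 * d * σ k * v1 := by rw [h1]
        _ = u1 * d * (σ k * v1) := by group

/-! ### SW4 (PARABOLIC, two-sided) -/
theorem exists_lrred (h : ExSys σ) (J K : Set ι) (w : W) :
    ∃ d u v, LRed σ J d ∧ RRed σ K d ∧ u ∈ WJ σ J ∧ v ∈ WJ σ K ∧ w = u * d * v := by
  classical
  let S : Set ℕ := {n | ∃ u ∈ WJ σ J, ∃ v ∈ WJ σ K, ell σ (u * w * v) = n}
  have hne : S.Nonempty := ⟨ell σ (1 * w * 1), 1, one_mem _, 1, one_mem _, rfl⟩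
  obtain ⟨u, hu, v, hv, huv⟩ := Nat.sInf_mem hne
  have hmin : ∀ u' ∈ WJ σ J, ∀ v' ∈ WJ σ K, ell σ (u * w * v) ≤ ell σ (u' * w * v') := by
    intro u' hu' v' hv'
    rw [huv]
    exact Nat.sInf_le ⟨u', hu', v', hv', rfl⟩
  refine ⟨u * w * v, u⁻¹, v⁻¹, ?_, ?_, inv_mem hu, inv_mem hv, by group⟩
  · intro j hj
    have h1 := hmin (σ j * u) (mul_mem (sw4_gen_mem J hj) hu) v hv
    have h2 : σ j * u * w * v = σ j * (u * w * v) := by group
    rw [h2] at h1
    rcases ell_gen_mul h j (u * w * v) with h' | h' <;> omega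
  · intro k hk
    have h1 := hmin u hu (v * σ k) (mul_mem hv (sw4_gen_mem K hk))
    have h2 : u * w * (v * σ k) = u * w * v * σ k := by group
    rw [h2] at h1
    rcases ell_mul_gen h (u * w * v) k with h' | h' <;> omega

theorem lrred_unique (h : ExSys σ) (J K : Set ι) {d d' u v : W} (hd : LRed σ J d) (hd2 : RRed σ K d)
    (hd' : LRed σ J d') (hd2' : RRed σ K d') (hu : u ∈ WJ σ J) (hv : v ∈ WJ σ K)
    (he : d' = u * d * v) : d' = d := by
  obtain ⟨L, hLJ, hLw⟩ := (mem_WJ_iff h J).mp hu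
  obtain ⟨u2, v2, hu2, hv2, heq, hred⟩ := sw4_claim h J K hd2 L hLJ
  rw [hLw] at heq
  have h1 : d' = u2 * d * (v2 * v) := by
    rw [he, heq]
    group
  have h2 : u2 * d = d' := by
    apply rred_unique h K hred hd2'
    rw [h1]
    have : (u2 * d)⁻¹ * (u2 * d * (v2 * v)) = v2 * v := by group
    rw [this]
    exact mul_mem hv2 hv
  have h3 : ell σ (u2 * d) = ell σ u2 + ell σ d := sw4_lred_add h J hd hu2
  have h4 : ell σ (u2⁻¹ * d') = ell σ u2⁻¹ + ell σ d' := sw4_lred_add h J hd' (inv_mem hu2)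
  have h5 : u2⁻¹ * d' = d := by
    rw [← h2]
    group
  rw [h5, ell_inv h, ← h2, h3] at h4
  have h6 : ell σ u2 = 0 := by omega
  have hu21 : u2 = 1 := (ell_eq_zero_iff h).mp h6
  rw [← h2, hu21, one_mul]

end W

end Cfsg.Agent.Lib.Helper6.St
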