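import Mathlib
import Cfsg.Agent.Lib.Helper20.SuClosedDefs

/-! SU-G3 (leaf of helper20's S5172 hive): long root elements from the commutator of two
short root elements. -/

set_option autoImplicit false

namespace Cfsg.Agent.Lib.Helper20.SuF

open Matrix Subgroup Cfsg.Agent.Lib.Helper20.PslF

variable {n : ℕ} {K : Type*} [Field K] [Fintype K] {F : Inv K} {T : Subgroup (SLn n K)}
  (hn : 4 ≤ n)

theorem g3_y1_ne_y0 : y1 hn ≠ y0 hn := by
  intro h
  have := congrArg Fin.val h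
  rw [y1_val, y0_val] at this
  omega

/-- SU-G3 -/
theorem long_root_mem (h : SC F T)
    (hW : ∀ w : Fin n → K, (∀ x, w x ≠ 0 → y0 hn < x ∧ x < Fin.rev (y0 hn)) → WT F hn T w)
    (γ : K) (hγ : γ + F.sg γ = 0) : SgT F (eb (y0 hn)) 0 γ ∈ T := by
  have h1 := hf_y0 F hn
  obtain ⟨l, hl⟩ := F.tr_surj 1 (map_one _)
  set a : K := -(l * γ) with ha
  have hsγ : F.sg γ = -γ := by
    have : F.sg γ = (γ + F.sg γ) - γ := by ring
    rw [this, hγ, zero_sub]
  have haγ : F.sg a - a = γ := by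
    rw [ha, map_neg, map_mul, hsγ]
    have : -(F.sg l * -γ) - -(l * γ) = (l + F.sg l) * γ := by ring
    rw [this, hl, one_mul]
  -- the two vectors
  set w1 : Fin n → K := eb (y1 hn) with hw1
  set w2 : Fin n → K := a • (eb (Fin.rev (y1 hn)) : Fin n → K) with hw2
  have hy1lt : y0 hn < y1 hn := by
    rw [Fin.lt_def, y0_val, y1_val]; omega
  have hy1lt' : y1 hn < Fin.rev (y0 hn) := by
    rw [Fin.lt_def, rev_y0_val, y1_val]; omega
  have hr1lt : y0 hn < Fin.rev (y1 hn) := by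
    rw [Fin.lt_def, rev_y1_val, y0_val]; omega
  have hr1lt' : Fin.rev (y1 hn) < Fin.rev (y0 hn) := by
    rw [Fin.lt_def, rev_y1_val, rev_y0_val]; omega
  have hs1 : ∀ x, w1 x ≠ 0 → y0 hn < x ∧ x < Fin.rev (y0 hn) := by
    intro x hx
    by_cases hxe : x = y1 hn
    · rw [hxe]; exact ⟨hy1lt, hy1lt'⟩
    · exact absurd (eb_ne hxe) hx
  have hs2 : ∀ x, w2 x ≠ 0 → y0 hn < x ∧ x < Fin.rev (y0 hn) := by
    intro x hx
    by_cases hxe : x = Fin.rev (y1 hn)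
    · rw [hxe]; exact ⟨hr1lt, hr1lt'⟩
    · exfalso
      apply hx
      rw [hw2, Pi.smul_apply, eb_ne hxe, smul_zero]
  obtain ⟨h01, c1, hc1⟩ := hW w1 hs1
  obtain ⟨h02, c2, hc2⟩ := hW w2 hs2
  have h21 : hf F w1 (eb (y0 hn)) = 0 := hf_of_last hn h01
  have h22 : hf F w2 (eb (y0 hn)) = 0 := hf_of_last hn h02
  have hxy := SgT_mul F c1 c2 h1 h21 h22
  have hyx := SgT_mul F c2 c1 h1 h22 h21
  -- the values of the form
  have e12 : hf F w1 w2 = F.sg a := by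
    rw [hw2, hf_smul_right, hw1, hf_eb_eb, if_pos (Fin.rev_rev _).symm, mul_one]
  have e21 : hf F w2 w1 = a := by
    rw [hw2, hf_smul_left, hw1, hf_eb_eb, if_pos rfl, mul_one]
  have h2z : hf F (0 : Fin n → K) (eb (y0 hn)) = 0 := hf_zero_left F _
  have h2s : hf F (w2 + w1) (eb (y0 hn)) = 0 := by
    rw [hf_add_left, h21, h22, add_zero]
  have hmul := SgT_mul F γ (c2 + c1 - hf F w1 w2) h1 h2z h2s
  rw [zero_add, hf_zero_right, sub_zero] at hmul
  have hkey : SgT F (eb (y0 hn)) 0 γ * (SgT F (eb (y0 hn)) w2 c2 * SgT F (eb (y0 hn)) w1 c1) =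
      SgT F (eb (y0 hn)) w1 c1 * SgT F (eb (y0 hn)) w2 c2 := by
    rw [hyx, hmul, hxy, add_comm w2 w1, e12, e21]
    congr 1
    rw [← haγ]
    ring
  have hmem : SgT F (eb (y0 hn)) 0 γ =
      (SgT F (eb (y0 hn)) w1 c1 * SgT F (eb (y0 hn)) w2 c2) *
        (SgT F (eb (y0 hn)) w2 c2 * SgT F (eb (y0 hn)) w1 c1)⁻¹ := by
    rw [← hkey, mul_inv_cancel_right]
  rw [hmem]
  exact mul_mem (mul_mem hc1 hc2) (inv_mem (mul_mem hc2 hc1))

end Cfsg.Agent.Lib.Helper20.SuF
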